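import Mathlib.RingTheory.Valuation.ValuationSubring
import Mathlib.RingTheory.Valuation.LocalSubring
import Mathlib.RingTheory.TensorProduct.Nontrivial
import Mathlib.RingTheory.LocalRing.ResidueField.Basic

/-!
# Composite valuation subrings

Given a valuation subring `V` of a field `F`, a local ring homomorphism `α : V →+* K` into a
field `K` (i.e. a hom with kernel the maximal ideal of `V`) and a valuation subring `B` of `K`,
the set of `v ∈ V` with `α v ∈ B` is a valuation subring of `F` (the "composite" of `V` and `B`).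
We also build a common field extension of two field extensions (via a residue field of the tensor
product).
-/

set_option autoImplicit false

namespace Groth.Agent.Lib.Helper20.CompVal

open IsLocalRing

section comp

variable {F : Type*} [Field F] (V : ValuationSubring F) {K : Type*} [Field K]
  (α : V →+* K) (B : ValuationSubring K)

/-- non-units are killed by a local homomorphism to a field -/
lemma map_eq_zero_of_not_isUnit [IsLocalHom α] {v : V} (hv : ¬ IsUnit v) : α v = 0 := by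
  by_contra h
  exact hv (isUnit_of_map_unit α v (isUnit_iff_ne_zero.mpr h))

lemma inv_mem_of_map_ne_zero [IsLocalHom α] {v : F} (h : v ∈ V) (hα : α ⟨v, h⟩ ≠ 0) :
    ∃ h' : v⁻¹ ∈ V, α ⟨v⁻¹, h'⟩ = (α ⟨v, h⟩)⁻¹ := by
  have hu : IsUnit (⟨v, h⟩ : V) := isUnit_of_map_unit α _ (isUnit_iff_ne_zero.mpr hα)
  obtain ⟨u, hu'⟩ := hu
  have h1 : ((u⁻¹ : Vˣ) : V) * ⟨v, h⟩ = 1 := by rw [← hu']; exact u.inv_mul
  have h2 : (((u⁻¹ : Vˣ) : V) : F) * v = 1 := congrArg Subtype.val h1
  have hv0 : v ≠ 0 := by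
    rintro rfl
    simp at h2
  have h3 : v⁻¹ = (((u⁻¹ : Vˣ) : V) : F) := by
    field_simp
    rw [mul_comm]; exact h2.symm
  have h' : v⁻¹ ∈ V := by rw [h3]; exact ((u⁻¹ : Vˣ) : V).2
  refine ⟨h', ?_⟩
  have h4 : (⟨v⁻¹, h'⟩ : V) = ((u⁻¹ : Vˣ) : V) := Subtype.ext h3
  rw [h4]
  have h5 : α ((u⁻¹ : Vˣ) : V) * α ⟨v, h⟩ = 1 := by rw [← map_mul, h1, map_one]
  exact eq_inv_of_mul_eq_one_left h5

/-- The composite of the valuation subring `V` with a valuation subring `B` of (an extension of)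
its residue field. -/
def comp [IsLocalHom α] : ValuationSubring F where
  carrier := {v | ∃ h : v ∈ V, α ⟨v, h⟩ ∈ B}
  mul_mem' := by
    rintro a b ⟨ha, ha'⟩ ⟨hb, hb'⟩
    refine ⟨V.mul_mem _ _ ha hb, ?_⟩
    have : (⟨a * b, V.mul_mem _ _ ha hb⟩ : V) = ⟨a, ha⟩ * ⟨b, hb⟩ := rfl
    rw [this, map_mul]
    exact B.mul_mem _ _ ha' hb'
  one_mem' := by
    refine ⟨V.one_mem, ?_⟩
    have : (⟨1, V.one_mem⟩ : V) = 1 := rfl
    rw [this, map_one]
    exact B.one_mem
  add_mem' := by
    rintro a b ⟨ha, ha'⟩ ⟨hb, hb'⟩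
    refine ⟨V.add_mem _ _ ha hb, ?_⟩
    have : (⟨a + b, V.add_mem _ _ ha hb⟩ : V) = ⟨a, ha⟩ + ⟨b, hb⟩ := rfl
    rw [this, map_add]
    exact B.add_mem _ _ ha' hb'
  zero_mem' := by
    refine ⟨V.zero_mem, ?_⟩
    have : (⟨0, V.zero_mem⟩ : V) = 0 := rfl
    rw [this, map_zero]
    exact B.zero_mem
  neg_mem' := by
    rintro a ⟨ha, ha'⟩
    refine ⟨V.neg_mem _ ha, ?_⟩
    have : (⟨-a, V.neg_mem _ ha⟩ : V) = -⟨a, ha⟩ := rfl
    rw [this, map_neg]
    exact B.neg_mem _ ha'
  mem_or_inv_mem' := by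
    intro x
    by_cases hx : x ∈ V
    · by_cases hB : α ⟨x, hx⟩ ∈ B
      · exact Or.inl ⟨hx, hB⟩
      · right
        have h0 : α ⟨x, hx⟩ ≠ 0 := fun h => hB (h ▸ B.zero_mem)
        obtain ⟨h', e⟩ := inv_mem_of_map_ne_zero V α hx h0
        refine ⟨h', ?_⟩
        rw [e]
        exact (B.mem_or_inv_mem _).resolve_left hB
    · right
      have hx' : x⁻¹ ∈ V := (V.mem_or_inv_mem x).resolve_left hx
      refine ⟨hx', ?_⟩
      have hnu : ¬ IsUnit (⟨x⁻¹, hx'⟩ : V) := by
        rintro ⟨u, hu⟩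
        apply hx
        have h1 : (⟨x⁻¹, hx'⟩ : V) * ((u⁻¹ : Vˣ) : V) = 1 := by rw [← hu]; exact u.mul_inv
        have h2 : x⁻¹ * (((u⁻¹ : Vˣ) : V) : F) = 1 := congrArg Subtype.val h1
        have hx0 : x ≠ 0 := by
          rintro rfl
          simp at h2
        have : x = (((u⁻¹ : Vˣ) : V) : F) := by
          field_simp at h2
          exact h2.symm
        rw [this]
        exact ((u⁻¹ : Vˣ) : V).2
      rw [map_eq_zero_of_not_isUnit V α hnu]
      exact B.zero_mem

variable [IsLocalHom α]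

lemma mem_comp {v : F} : v ∈ comp V α B ↔ ∃ h : v ∈ V, α ⟨v, h⟩ ∈ B := Iff.rfl

lemma comp_le : comp V α B ≤ V := fun _ h => h.1

/-- Elements of the composite whose image lies in the maximal ideal of `B` lie in the maximal
ideal of the composite. -/
lemma comp_valuation_lt_one {v : F} (h : v ∈ V) (hα : B.valuation (α ⟨v, h⟩) < 1) :
    (comp V α B).valuation v < 1 := by
  have hmem : v ∈ comp V α B := ⟨h, (B.valuation_le_one_iff _).mp hα.le⟩
  have hle : (comp V α B).valuation v ≤ 1 := ((comp V α B).valuation_le_one_iff _).mpr hmem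
  rcases hle.lt_or_eq with hlt | heq
  · exact hlt
  exfalso
  have hinv : (comp V α B).valuation v⁻¹ ≤ 1 := by rw [map_inv₀, heq, inv_one]
  obtain ⟨h', hB'⟩ := ((comp V α B).valuation_le_one_iff _).mp hinv
  have hv0 : v ≠ 0 := by
    rintro rfl
    rw [map_zero] at heq
    exact zero_ne_one heq
  have h1 : (⟨v, h⟩ : V) * ⟨v⁻¹, h'⟩ = 1 := Subtype.ext (mul_inv_cancel₀ hv0)
  have h2 : α ⟨v, h⟩ * α ⟨v⁻¹, h'⟩ = 1 := by rw [← map_mul, h1, map_one]
  have h3 : B.valuation (α ⟨v, h⟩) * B.valuation (α ⟨v⁻¹, h'⟩) = 1 := by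
    rw [← map_mul, h2, map_one]
  have h4 : B.valuation (α ⟨v⁻¹, h'⟩) ≤ 1 := (B.valuation_le_one_iff _).mpr hB'
  have h5 : B.valuation (α ⟨v, h⟩) * B.valuation (α ⟨v⁻¹, h'⟩) < 1 :=
    mul_lt_one_of_lt_of_le hα h4
  rw [h3] at h5
  exact lt_irrefl _ h5

/-- Elements of the maximal ideal of the composite map into the maximal ideal of `B`. -/
lemma valuation_lt_one_of_comp {v : F} (h : v ∈ V) (hv : (comp V α B).valuation v < 1) :
    B.valuation (α ⟨v, h⟩) < 1 := by
  obtain ⟨h', hB⟩ := ((comp V α B).valuation_le_one_iff _).mp hv.le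
  have hle : B.valuation (α ⟨v, h⟩) ≤ 1 := (B.valuation_le_one_iff _).mpr hB
  rcases hle.lt_or_eq with hlt | heq
  · exact hlt
  exfalso
  have h0 : α ⟨v, h⟩ ≠ 0 := by
    intro h0
    rw [h0, map_zero] at heq
    exact zero_ne_one heq
  obtain ⟨hi, e⟩ := inv_mem_of_map_ne_zero V α h h0
  have hiB : α ⟨v⁻¹, hi⟩ ∈ B := by
    rw [e, ← B.valuation_le_one_iff, map_inv₀, heq, inv_one]
  have hmem : v⁻¹ ∈ comp V α B := ⟨hi, hiB⟩
  have h1 : (comp V α B).valuation v⁻¹ ≤ 1 := ((comp V α B).valuation_le_one_iff _).mpr hmem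
  rw [map_inv₀] at h1
  have hv0 : (comp V α B).valuation v ≠ 0 := by
    intro hz
    rw [map_eq_zero] at hz
    apply h0
    have : (⟨v, h⟩ : V) = 0 := Subtype.ext hz
    rw [this, map_zero]
  have h2 : 1 < ((comp V α B).valuation v)⁻¹ := (one_lt_inv₀ (zero_lt_iff.mpr hv0)).mpr hv
  exact lt_irrefl _ (h2.trans_le h1)

end comp

section compositum

universe u

/-- Two field extensions of a field `k` embed into a common field. -/
lemma exists_compositum (k : Type u) [Field k] (K₁ K₂ : Type u) [Field K₁] [Field K₂]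
    (f₁ : k →+* K₁) (f₂ : k →+* K₂) :
    ∃ (L : Type u) (_ : Field L) (g₁ : K₁ →+* L) (g₂ : K₂ →+* L), g₁.comp f₁ = g₂.comp f₂ := by
  let := f₁.toAlgebra
  let := f₂.toAlgebra
  open TensorProduct in
  have : Nontrivial (K₁ ⊗[k] K₂) :=
    Algebra.TensorProduct.nontrivial_of_algebraMap_injective_of_isDomain k K₁ K₂
      (algebraMap k K₁).injective (algebraMap k K₂).injective
  open TensorProduct in
  obtain ⟨M, hM⟩ := Ideal.exists_maximal (K₁ ⊗[k] K₂)
  open TensorProduct in
  let : Field ((K₁ ⊗[k] K₂) ⧸ M) := Ideal.Quotient.field M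
  open TensorProduct in
  refine ⟨(K₁ ⊗[k] K₂) ⧸ M, inferInstance,
    (Ideal.Quotient.mk M).comp (Algebra.TensorProduct.includeLeft (R := k) (S := k)
      (A := K₁) (B := K₂)).toRingHom,
    (Ideal.Quotient.mk M).comp (Algebra.TensorProduct.includeRight (R := k)
      (A := K₁) (B := K₂)).toRingHom, ?_⟩
  ext c
  simp only [RingHom.comp_apply]
  congr 1
  show (f₁ c) ⊗ₜ[k] (1 : K₂) = (1 : K₁) ⊗ₜ[k] (f₂ c)
  have e1 : f₁ c = c • (1 : K₁) := by rw [Algebra.smul_def, mul_one]; rfl
  have e2 : f₂ c = c • (1 : K₂) := by rw [Algebra.smul_def, mul_one]; rfl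
  rw [e1, e2, TensorProduct.smul_tmul]

end compositum

end Groth.Agent.Lib.Helper20.CompVal

namespace Groth.Agent.Lib.Helper20.CompVal

open IsLocalRing

section key

universe u

/-- If a valuation subring `B` of `L` dominates (the image of) the valuation ring `A` with fraction
field `K` under a field hom `g : K →+* L`, then `g ⁻¹' B` is exactly (the image of) `A`. -/
lemma mem_range_of_dominates {A K L : Type*} [CommRing A] [IsDomain A] [ValuationRing A]
    [Field K] [Algebra A K] [IsFractionRing A K] [Field L] (g : K →+* L) (B : ValuationSubring L)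
    (hB : ∀ a : A, g (algebraMap A K a) ∈ B)
    (hloc : ∀ a : A, ¬ IsUnit a → B.valuation (g (algebraMap A K a)) < 1)
    (z : K) (hz : g z ∈ B) : ∃ a : A, algebraMap A K a = z := by
  rcases ValuationRing.isInteger_or_isInteger A z with ⟨a, ha⟩ | ⟨a, ha⟩
  · exact ⟨a, ha⟩
  · by_cases hz0 : z = 0
    · exact ⟨0, by rw [map_zero, hz0]⟩
    by_cases hu : IsUnit a
    · obtain ⟨u, rfl⟩ := hu
      refine ⟨((u⁻¹ : Aˣ) : A), ?_⟩
      have h1 : algebraMap A K ((u⁻¹ : Aˣ) : A) * algebraMap A K (u : A) = 1 := by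
        rw [← map_mul, Units.inv_mul, map_one]
      rw [ha] at h1
      have : algebraMap A K ((u⁻¹ : Aˣ) : A) = z := by
        field_simp at h1
        exact h1
      exact this
    · exfalso
      have h1 := hloc a hu
      have h2 : B.valuation (g z) ≤ 1 := (B.valuation_le_one_iff _).mpr hz
      have h3 : B.valuation (g (algebraMap A K a)) * B.valuation (g z) < 1 :=
        mul_lt_one_of_lt_of_le h1 h2
      rw [← map_mul, ← map_mul, ha, inv_mul_cancel₀ hz0, map_one, map_one] at h3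
      exact lt_irrefl _ h3

/-- The key algebraic construction for the valuative criterion on integral schemes:
given a local ring `O` mapping to a field `F` (think `O_{X,x'} → K(X)`), a local hom
`φ : O → K'` to a field (think `O_{X,x'} → κ(x') → K'`) and a valuation ring `A` of `K'`, there is
a valuation subring `R` of `F`, contained in a valuation subring `V` dominating `O`, that induces
`A` on `K'`. -/
lemma exists_comp_valuationSubring (O : Type u) [CommRing O] [IsLocalRing O] (F : Type u) [Field F]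
    (ι : O →+* F) (K' : Type u) [Field K'] (φ : O →+* K') [IsLocalHom φ]
    (A : Type u) [CommRing A] [IsDomain A] [ValuationRing A] [Algebra A K'] [IsFractionRing A K'] :
    ∃ (V R : ValuationSubring F), R ≤ V ∧ (∀ o : O, ι o ∈ V) ∧
      (∀ o : O, ¬ IsUnit o → V.valuation (ι o) < 1) ∧
      (∀ (o : O) (a : A), φ o = algebraMap A K' a →
        ι o ∈ R ∧ (¬ IsUnit a → R.valuation (ι o) < 1)) ∧
      (∀ o : O, ι o ∈ R → ∃ a : A, algebraMap A K' a = φ o ∧
        (R.valuation (ι o) < 1 → ¬ IsUnit a)) := by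
  obtain ⟨V, hV, hVloc⟩ := IsLocalRing.exists_factor_valuationRing ι
  let ρ : O →+* V := ι.codRestrict V.toSubring hV
  have : IsLocalHom ρ := hVloc
  let f₁ : ResidueField O →+* ResidueField V := ResidueField.map ρ
  let f₂ : ResidueField O →+* K' := ResidueField.lift φ
  obtain ⟨L, _, g₁, g₂, hg⟩ := exists_compositum (ResidueField O) (ResidueField V) K' f₁ f₂
  let α : V →+* L := g₁.comp (residue V)
  have hαloc : IsLocalHom α := by
    constructor
    intro v hv
    have h0 : g₁ (residue V v) ≠ 0 := hv.ne_zero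
    have h1 : residue V v ≠ 0 := fun h => h0 (by rw [h, map_zero])
    by_contra hnu
    exact h1 ((residue_eq_zero_iff v).mpr ((mem_maximalIdeal v).mpr hnu))
  have hαρ : ∀ o : O, α (ρ o) = g₂ (φ o) := by
    intro o
    show g₁ (residue V (ρ o)) = g₂ (φ o)
    have h1 : residue V (ρ o) = f₁ (residue O o) := (ResidueField.map_residue ρ o).symm
    have h2 : φ o = f₂ (residue O o) := (ResidueField.lift_residue_apply φ o).symm
    rw [h1, h2]
    exact congrArg (fun h => h (residue O o)) hg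
  obtain ⟨B, hB, hBloc⟩ :=
    IsLocalRing.exists_factor_valuationRing (g₂.comp (algebraMap A K'))
  have hBlt : ∀ a : A, ¬ IsUnit a → B.valuation (g₂ (algebraMap A K' a)) < 1 := by
    intro a ha
    have hnu : ¬ IsUnit ((g₂.comp (algebraMap A K')).codRestrict B.toSubring hB a) :=
      fun hu => ha (hBloc.map_nonunit a hu)
    have := (B.valuation_lt_one_iff _).mp ((mem_maximalIdeal _).mpr hnu)
    exact this
  refine ⟨V, comp V α B, comp_le V α B, hV, ?_, ?_, ?_⟩
  · intro o ho
    have hnu : ¬ IsUnit (ρ o) := fun hu => ho (hVloc.map_nonunit o hu)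
    exact (V.valuation_lt_one_iff _).mp ((mem_maximalIdeal _).mpr hnu)
  · intro o a hoa
    have e : α ⟨ι o, hV o⟩ = g₂ (algebraMap A K' a) := by
      rw [← hoa]; exact hαρ o
    refine ⟨⟨hV o, ?_⟩, fun ha => ?_⟩
    · rw [e]; exact hB a
    · apply comp_valuation_lt_one V α B (hV o)
      rw [e]
      exact hBlt a ha
  · intro o ho
    obtain ⟨h, hαB⟩ := ho
    have e : α ⟨ι o, h⟩ = g₂ (φ o) := hαρ o
    rw [e] at hαB
    obtain ⟨a, ha⟩ := mem_range_of_dominates g₂ B hB hBlt (φ o) hαB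
    refine ⟨a, ha, fun hlt hu => ?_⟩
    have h1 := valuation_lt_one_of_comp V α B h hlt
    rw [e, ← ha] at h1
    have hu' : IsUnit ((g₂.comp (algebraMap A K')).codRestrict B.toSubring hB a) := hu.map _
    have h2 := (B.valuation_eq_one_iff _).mp hu'
    have h3 : B.valuation (g₂ (algebraMap A K' a)) = 1 := h2
    rw [h3] at h1
    exact lt_irrefl _ h1

end key

end Groth.Agent.Lib.Helper20.CompVal
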