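import Mathlib
import Groth.Prelude.Def_Pic
import Groth.Agent.Lib.Helper49.QcqsModules
import Groth.Agent.Lib.Helper45.InvBasis
import Groth.Agent.Lib.Helper11.TensorBasis

/-!
# The `O_X`-module defined by a cocycle on an open cover (helper20)

For a family of opens `U i` of a scheme `X` and functions `η i j ∈ Γ(X, U i ⊓ U j)`, the module
`cocycleMod U η` has sections over `W` the families `c i ∈ Γ(X, W ⊓ U i)` with
`c j = c i * η i j` on `W ⊓ (U i ⊓ U j)`.
-/

set_option autoImplicit false
universe u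
open CategoryTheory CategoryTheory.Limits AlgebraicGeometry TopologicalSpace Opposite

namespace Groth.Agent.Lib.Helper20.CocycleMod

open Groth.Agent.Lib.Helper45 Groth.Agent.Lib.Helper49

variable {X : Scheme.{u}} {ι : Type u} (U : ι → X.Opens) (η : ∀ i j, Γ(X, U i ⊓ U j))

@[simp] theorem fres_self' {V : X.Opens} (h : V ≤ V) (r : Γ(X, V)) : fres h r = r := by
  rw [fres_apply]
  have : (homOfLE h).op = 𝟙 (op V) := rfl
  rw [this, X.presheaf.map_id]
  rfl

/-- The condition defining the sections. -/
def IsSec (W : X.Opens) (c : ∀ i, Γ(X, W ⊓ U i)) : Prop :=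
  ∀ i j, fres (inf_le_inf_left W inf_le_right : W ⊓ (U i ⊓ U j) ≤ W ⊓ U j) (c j) =
    fres (inf_le_inf_left W inf_le_left : W ⊓ (U i ⊓ U j) ≤ W ⊓ U i) (c i) *
      fres (inf_le_right : W ⊓ (U i ⊓ U j) ≤ U i ⊓ U j) (η i j)

/-- The additive group of sections. -/
def secSubgroup (W : X.Opens) : AddSubgroup (∀ i, Γ(X, W ⊓ U i)) where
  carrier := {c | IsSec U η W c}
  zero_mem' := by
    intro i j
    simp
  add_mem' := by
    intro a b ha hb i j
    simp only [Pi.add_apply, map_add, add_mul]
    rw [ha i j, hb i j]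
  neg_mem' := by
    intro a ha i j
    simp only [Pi.neg_apply, map_neg, neg_mul]
    rw [ha i j]

theorem mem_secSubgroup (W : X.Opens) (c : ∀ i, Γ(X, W ⊓ U i)) :
    c ∈ secSubgroup U η W ↔ IsSec U η W c := Iff.rfl

noncomputable instance instSMulSec (W : X.Opens) : SMul Γ(X, W) (secSubgroup U η W) where
  smul r c := ⟨fun i => fres (inf_le_left : W ⊓ U i ≤ W) r * c.1 i, by
    intro i j
    simp only [map_mul, fres_fres]
    rw [c.2 i j, mul_assoc]⟩

theorem smul_val (W : X.Opens) (r : Γ(X, W)) (c : secSubgroup U η W) (i : ι) :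
    (r • c).1 i = fres (inf_le_left : W ⊓ U i ≤ W) r * c.1 i := rfl

noncomputable instance instModuleSec (W : X.Opens) : Module Γ(X, W) (secSubgroup U η W) where
  one_smul c := by
    apply Subtype.ext; funext i
    rw [smul_val, map_one, one_mul]
  mul_smul r r' c := by
    apply Subtype.ext; funext i
    rw [smul_val, smul_val, smul_val, map_mul, mul_assoc]
  smul_zero r := by
    apply Subtype.ext; funext i
    rw [smul_val]
    simp
  smul_add r c c' := by
    apply Subtype.ext; funext i
    change fres _ r * (c.1 i + c'.1 i) = fres _ r * c.1 i + fres _ r * c'.1 i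
    rw [mul_add]
  add_smul r r' c := by
    apply Subtype.ext; funext i
    change fres _ (r + r') * c.1 i = fres _ r * c.1 i + fres _ r' * c.1 i
    rw [map_add, add_mul]
  zero_smul c := by
    apply Subtype.ext; funext i
    rw [smul_val, map_zero, zero_mul]
    rfl

/-- Restriction of sections. -/
noncomputable def resHom {W W' : X.Opens} (h : W' ≤ W) :
    secSubgroup U η W →+ secSubgroup U η W' where
  toFun c := ⟨fun i => fres (inf_le_inf_right (U i) h) (c.1 i), by
    intro i j
    simp only [fres_fres]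
    have := congrArg (fres (inf_le_inf_right (U i ⊓ U j) h : W' ⊓ (U i ⊓ U j) ≤ W ⊓ (U i ⊓ U j)))
      (c.2 i j)
    simp only [map_mul, fres_fres] at this
    exact this⟩
  map_zero' := by
    apply Subtype.ext; funext i
    change fres _ 0 = 0
    rw [map_zero]
  map_add' a b := by
    apply Subtype.ext; funext i
    change fres _ (a.1 i + b.1 i) = fres _ (a.1 i) + fres _ (b.1 i)
    rw [map_add]

theorem resHom_val {W W' : X.Opens} (h : W' ≤ W) (c : secSubgroup U η W) (i : ι) :
    (resHom U η h c).1 i = fres (inf_le_inf_right (U i) h) (c.1 i) := rfl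

theorem resHom_smul {W W' : X.Opens} (h : W' ≤ W) (r : Γ(X, W)) (c : secSubgroup U η W) :
    resHom U η h (r • c) = fres h r • resHom U η h c := by
  apply Subtype.ext; funext i
  rw [resHom_val, smul_val, smul_val, resHom_val, map_mul, fres_fres, fres_fres]

/-- The underlying presheaf of abelian groups. -/
noncomputable def abPresheaf : (Opens X)ᵒᵖ ⥤ Ab.{u} where
  obj W := AddCommGrpCat.of (secSubgroup U η W.unop)
  map f := AddCommGrpCat.ofHom (resHom U η (leOfHom f.unop))
  map_id W := by
    ext c i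
    change fres _ (c.1 i) = c.1 i
    rw [fres_self']
  map_comp f g := by
    ext c i
    change fres _ (c.1 i) = fres _ (fres _ (c.1 i))
    rw [fres_fres]

theorem abPresheaf_map_val {W W' : (Opens X)ᵒᵖ} (f : W ⟶ W')
    (c : secSubgroup U η W.unop) (i : ι) :
    (((abPresheaf U η).map f).hom c).1 i =
      fres (inf_le_inf_right (U i) (leOfHom f.unop)) (c.1 i) := rfl

theorem isSheaf_abPresheaf : TopCat.Presheaf.IsSheaf (abPresheaf U η) := by
  rw [TopCat.Presheaf.isSheaf_iff_isSheafUniqueGluing]
  intro ι' V sf hsf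
  -- componentwise gluing
  have hcov : ∀ i, iSup V ⊓ U i ≤ ⨆ a, V a ⊓ U i := by
    intro i x hx
    obtain ⟨a, ha⟩ := Opens.mem_iSup.mp hx.1
    exact Opens.mem_iSup.mpr ⟨a, ⟨ha, hx.2⟩⟩
  have hle : ∀ i a, V a ⊓ U i ≤ iSup V ⊓ U i := fun i a =>
    inf_le_inf_right (U i) (le_iSup V a)
  have hcompat : ∀ i a b,
      fres (inf_le_left : (V a ⊓ U i) ⊓ (V b ⊓ U i) ≤ V a ⊓ U i) ((sf a).1 i) =
      fres (inf_le_right : (V a ⊓ U i) ⊓ (V b ⊓ U i) ≤ V b ⊓ U i) ((sf b).1 i) := by
    intro i a b
    have h1 := congrArg (fun c : secSubgroup U η (V a ⊓ V b) => c.1 i) (hsf a b)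
    have h2 : fres (inf_le_inf_right (U i) (inf_le_left : V a ⊓ V b ≤ V a)) ((sf a).1 i) =
        fres (inf_le_inf_right (U i) (inf_le_right : V a ⊓ V b ≤ V b)) ((sf b).1 i) := h1
    have hl : (V a ⊓ U i) ⊓ (V b ⊓ U i) ≤ (V a ⊓ V b) ⊓ U i :=
      le_inf (le_inf (inf_le_left.trans inf_le_left) (inf_le_right.trans inf_le_left))
        (inf_le_left.trans inf_le_right)
    have h3 := congrArg (fres hl) h2
    simp only [fres_fres] at h3
    exact h3
  have hex : ∀ i, ∃! c : Γ(X, iSup V ⊓ U i), ∀ a, fres (hle i a) c = (sf a).1 i := by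
    intro i
    exact TopCat.Sheaf.existsUnique_gluing' X.sheaf (fun a => V a ⊓ U i) (iSup V ⊓ U i)
      (fun a => homOfLE (hle i a)) (hcov i) (fun a => (sf a).1 i) (fun a b => hcompat i a b)
  choose c hc hcu using hex
  have hsec : IsSec U η (iSup V) c := by
    intro i j
    apply TopCat.Sheaf.eq_of_locally_eq' X.sheaf (fun a => V a ⊓ (U i ⊓ U j)) (iSup V ⊓ (U i ⊓ U j))
      (fun a => homOfLE (inf_le_inf_right _ (le_iSup V a))) (by
        intro x hx
        obtain ⟨a, ha⟩ := Opens.mem_iSup.mp hx.1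
        exact Opens.mem_iSup.mpr ⟨a, ⟨ha, hx.2⟩⟩)
    intro a
    change fres (inf_le_inf_right (U i ⊓ U j) (le_iSup V a)) _ =
      fres (inf_le_inf_right (U i ⊓ U j) (le_iSup V a)) _
    simp only [map_mul, fres_fres]
    have e1 := congrArg (fres (inf_le_inf_left (V a) inf_le_right : V a ⊓ (U i ⊓ U j) ≤ V a ⊓ U j))
      (hc j a)
    have e2 := congrArg (fres (inf_le_inf_left (V a) inf_le_left : V a ⊓ (U i ⊓ U j) ≤ V a ⊓ U i))
      (hc i a)
    simp only [fres_fres] at e1 e2
    rw [e1, e2]
    exact (sf a).2 i j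
  refine ⟨⟨c, hsec⟩, ?_, ?_⟩
  · intro a
    apply Subtype.ext
    funext i
    exact hc i a
  · intro s' hs'
    apply Subtype.ext
    funext i
    apply hcu i
    intro a
    have := congrArg (fun c : secSubgroup U η (V a) => c.1 i) (hs' a)
    exact this

/-- The presheaf of modules. -/
noncomputable def preMod : X.PresheafOfModules :=
  letI : ∀ W : (Opens X)ᵒᵖ, Module (X.ringCatSheaf.obj.obj W) ((abPresheaf U η).obj W) :=
    fun W => instModuleSec U η W.unop
  PresheafOfModules.ofPresheaf (abPresheaf U η)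
    (fun _ _ f r m => resHom_smul U η (leOfHom f.unop) r m)

/-- The `O_X`-module defined by the family `η`. -/
noncomputable def cocycleMod : X.Modules :=
  (⟨preMod U η, isSheaf_abPresheaf U η⟩ : SheafOfModules X.ringCatSheaf)

/-! ### Sections of `cocycleMod` -/

/-- View a section of `cocycleMod` as a family. -/
def toSec (W : X.Opens) (m : Γ(cocycleMod U η, W)) : secSubgroup U η W := m

/-- View a family as a section of `cocycleMod`. -/
def ofSec (W : X.Opens) (c : secSubgroup U η W) : Γ(cocycleMod U η, W) := c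

@[simp] theorem toSec_ofSec (W : X.Opens) (c : secSubgroup U η W) :
    toSec U η W (ofSec U η W c) = c := rfl

@[simp] theorem ofSec_toSec (W : X.Opens) (m : Γ(cocycleMod U η, W)) :
    ofSec U η W (toSec U η W m) = m := rfl

theorem toSec_mres {W W' : X.Opens} (h : W' ≤ W) (m : Γ(cocycleMod U η, W)) (i : ι) :
    (toSec U η W' (mres (cocycleMod U η) h m)).1 i =
      fres (inf_le_inf_right (U i) h) ((toSec U η W m).1 i) := rfl

theorem toSec_smul (W : X.Opens) (r : Γ(X, W)) (m : Γ(cocycleMod U η, W)) (i : ι) :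
    (toSec U η W (r • m)).1 i = fres (inf_le_left : W ⊓ U i ≤ W) r * (toSec U η W m).1 i := rfl

theorem sec_ext {W : X.Opens} {m m' : Γ(cocycleMod U η, W)}
    (h : ∀ i, (toSec U η W m).1 i = (toSec U η W m').1 i) : m = m' := by
  have : toSec U η W m = toSec U η W m' := Subtype.ext (funext h)
  exact this

/-! ### The canonical local bases, for a cocycle of units -/

section Cocycle

variable (hη : ∀ i j k,
  fres (inf_le_inf_right (U k) inf_le_left : U i ⊓ U j ⊓ U k ≤ U i ⊓ U k) (η i k) =
    fres (inf_le_left : U i ⊓ U j ⊓ U k ≤ U i ⊓ U j) (η i j) *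
      fres (inf_le_inf_right (U k) inf_le_right : U i ⊓ U j ⊓ U k ≤ U j ⊓ U k) (η j k))
  (hu : ∀ i j, IsUnit (η i j))

include hη in
theorem cocycle' (i j k : ι) :
    fres (inf_le_inf_left (U i) inf_le_right : U i ⊓ (U j ⊓ U k) ≤ U i ⊓ U k) (η i k) =
      fres (inf_le_inf_left (U i) inf_le_left : U i ⊓ (U j ⊓ U k) ≤ U i ⊓ U j) (η i j) *
        fres (inf_le_right : U i ⊓ (U j ⊓ U k) ≤ U j ⊓ U k) (η j k) := by
  have hl : U i ⊓ (U j ⊓ U k) ≤ U i ⊓ U j ⊓ U k :=
    le_inf (le_inf inf_le_left (inf_le_right.trans inf_le_left)) (inf_le_right.trans inf_le_right)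
  have := congrArg (fres hl) (hη i j k)
  simp only [map_mul, fres_fres] at this
  exact this

include hη hu in
theorem eta_self (i : ι) : η i i = 1 := by
  have h1 := hη i i i
  have hl : U i ⊓ U i ≤ U i ⊓ U i ⊓ U i := le_inf le_rfl inf_le_left
  have h2 := congrArg (fres hl) h1
  simp only [map_mul, fres_fres, fres_self'] at h2
  -- h2 : η i i = η i i * η i i
  have h3 : η i i * 1 = η i i * η i i := by rw [mul_one]; exact h2
  exact ((hu i i).mul_left_cancel h3).symm

/-- The canonical section over `U i`. -/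
noncomputable def basisSec (i : ι) : Γ(cocycleMod U η, U i) :=
  ofSec U η (U i) ⟨fun k => η i k, by
    intro k l
    exact cocycle' U η hη i k l⟩

theorem toSec_basisSec (i k : ι) : (toSec U η (U i) (basisSec U η hη i)).1 k = η i k := rfl

include hu in
/-- The canonical sections are local bases. -/
theorem isBasisOn_basisSec (i : ι) : IsBasisOn (cocycleMod U η) (U i) (basisSec U η hη i) := by
  intro V hV
  have hVi : V ≤ V ⊓ U i := le_inf le_rfl hV
  constructor
  · intro r r' hrr
    have h1 := congrArg (fun m => (toSec U η V m).1 i) hrr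
    simp only [toSec_smul, toSec_mres, toSec_basisSec] at h1
    rw [eta_self U η hη hu i, map_one, mul_one, mul_one] at h1
    have h2 := congrArg (fres hVi) h1
    simpa only [fres_fres, fres_self'] using h2
  · intro m
    refine ⟨fres hVi ((toSec U η V m).1 i), ?_⟩
    apply sec_ext
    intro k
    simp only [toSec_smul, toSec_mres, toSec_basisSec, fres_fres]
    have h1 := (toSec U η V m).2 i k
    have hl : V ⊓ U k ≤ V ⊓ (U i ⊓ U k) := le_inf inf_le_left (le_inf (inf_le_left.trans hV) inf_le_right)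
    have h2 := congrArg (fres hl) h1
    simp only [map_mul, fres_fres, fres_self'] at h2
    exact h2.symm

include hη in
/-- The transition relations between the canonical sections. -/
theorem basisSec_transition (i j : ι) :
    mres (cocycleMod U η) (inf_le_left : U i ⊓ U j ≤ U i) (basisSec U η hη i) =
      η i j • mres (cocycleMod U η) (inf_le_right : U i ⊓ U j ≤ U j) (basisSec U η hη j) := by
  apply sec_ext
  intro k
  simp only [toSec_smul, toSec_mres, toSec_basisSec]
  exact hη i j k

include hη hu in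
theorem isInvertible_cocycleMod (hU : iSup U = ⊤) : PicF.IsInvertible (cocycleMod U η) := by
  intro x
  have : x ∈ iSup U := by rw [hU]; trivial
  obtain ⟨i, hi⟩ := Opens.mem_iSup.mp this
  exact ⟨U i, hi, Groth.Agent.Lib.Helper11.GenLocus.nonempty_iso_of_isBasisOn (isBasisOn_basisSec U η hη hu i)⟩

end Cocycle

end Groth.Agent.Lib.Helper20.CocycleMod
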