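import Mathlib

/-!
# Units of `R[1/g]` inside the fraction field of a UFD (helper20)

For a UFD `R` with fraction field `K`:
* `IsAwayUnit g c`: `c ∈ K` is a unit of `R[1/g] ⊆ K` (as a ratio `x / y` with `x, y ∣ g ^ N`);
* `Rel q a b`: `a` and `b` have the same `q`-adic valuation (valuation-free formulation);
* `exists_common_multiplier`: the "`H¹` of units vanishes" statement: if `f i ∈ Kˣ` with
  `f i / f j ∈ R[1/(g i g j)]ˣ` and `f i0 = 1`, there is `h ∈ Kˣ` with `h f i ∈ R[1/g i]ˣ`.
-/

set_option autoImplicit false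

namespace Groth.Agent.Lib.Helper20.UFDUnits

variable {R : Type*} [CommRing R] [IsDomain R]
variable {K : Type*} [Field K] [Algebra R K] [IsFractionRing R K]

/-- `c ∈ K` is a unit of `R[1/g]`. -/
def IsAwayUnit (g : R) (c : K) : Prop :=
  ∃ (x y : R) (N : ℕ), x ∣ g ^ N ∧ y ∣ g ^ N ∧ c * algebraMap R K y = algebraMap R K x

/-- `a` and `b` have the same `q`-adic valuation. -/
def Rel (q : R) (a b : K) : Prop :=
  ∃ A B : R, ¬ q ∣ A ∧ ¬ q ∣ B ∧ algebraMap R K A * a = algebraMap R K B * b

omit [IsDomain R] [IsFractionRing R K] in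
theorem Rel.refl {q : R} (hq : Prime q) (a : K) : Rel q a a :=
  ⟨1, 1, hq.not_dvd_one, hq.not_dvd_one, rfl⟩

omit [IsDomain R] [IsFractionRing R K] in
theorem Rel.symm {q : R} {a b : K} (h : Rel q a b) : Rel q b a := by
  obtain ⟨A, B, hA, hB, e⟩ := h
  exact ⟨B, A, hB, hA, e.symm⟩

omit [IsDomain R] [IsFractionRing R K] in
theorem Rel.trans {q : R} (hq : Prime q) {a b c : K} (h : Rel q a b) (h' : Rel q b c) :
    Rel q a c := by
  obtain ⟨A, B, hA, hB, e⟩ := h
  obtain ⟨C, D, hC, hD, e'⟩ := h'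
  refine ⟨C * A, B * D, fun hd => (hq.dvd_or_dvd hd).elim hC hA,
    fun hd => (hq.dvd_or_dvd hd).elim hB hD, ?_⟩
  rw [map_mul, map_mul, mul_assoc, e, mul_left_comm, e']
  ring

omit [IsDomain R] [IsFractionRing R K] in
theorem Rel.mul {q : R} (hq : Prime q) {a b a' b' : K} (h : Rel q a b) (h' : Rel q a' b') :
    Rel q (a * a') (b * b') := by
  obtain ⟨A, B, hA, hB, e⟩ := h
  obtain ⟨C, D, hC, hD, e'⟩ := h'
  refine ⟨A * C, B * D, fun hd => (hq.dvd_or_dvd hd).elim hA hC,
    fun hd => (hq.dvd_or_dvd hd).elim hB hD, ?_⟩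
  rw [map_mul, map_mul]
  calc algebraMap R K A * algebraMap R K C * (a * a')
      = (algebraMap R K A * a) * (algebraMap R K C * a') := by ring
    _ = (algebraMap R K B * b) * (algebraMap R K D * b') := by rw [e, e']
    _ = _ := by ring

omit [IsDomain R] in
theorem Rel.inv {q : R} {a b : K} (h : Rel q a b) : Rel q a⁻¹ b⁻¹ := by
  obtain ⟨A, B, hA, hB, e⟩ := h
  have hA0 : algebraMap R K A ≠ 0 := by
    intro h0
    rw [map_eq_zero_iff _ (IsFractionRing.injective R K)] at h0
    exact hA (h0 ▸ dvd_zero q)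
  have hB0 : algebraMap R K B ≠ 0 := by
    intro h0
    rw [map_eq_zero_iff _ (IsFractionRing.injective R K)] at h0
    exact hB (h0 ▸ dvd_zero q)
  refine ⟨B, A, hB, hA, ?_⟩
  have e2 := congrArg (fun z => z⁻¹) e
  simp only [mul_inv] at e2
  calc algebraMap R K B * a⁻¹
      = algebraMap R K A * algebraMap R K B * ((algebraMap R K A)⁻¹ * a⁻¹) := by
        field_simp
    _ = algebraMap R K A * algebraMap R K B * ((algebraMap R K B)⁻¹ * b⁻¹) := by rw [e2]
    _ = algebraMap R K A * b⁻¹ := by field_simp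

omit [IsDomain R] [IsFractionRing R K] in
theorem Rel.pow {q : R} (hq : Prime q) {a b : K} (h : Rel q a b) (n : ℕ) :
    Rel q (a ^ n) (b ^ n) := by
  induction n with
  | zero => simpa using Rel.refl hq (1 : K)
  | succ n ih => simpa [pow_succ] using ih.mul hq h

omit [IsDomain R] in
theorem Rel.zpow {q : R} (hq : Prime q) {a b : K} (h : Rel q a b) (n : ℤ) :
    Rel q (a ^ n) (b ^ n) := by
  cases n with
  | ofNat n => simpa using h.pow hq n
  | negSucc n => simpa [zpow_negSucc] using (h.pow hq (n + 1)).inv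

omit [IsDomain R] [IsFractionRing R K] in
theorem Rel.of_associated {q p : R} (hqp : Associated q p) {a b : K} (h : Rel q a b) :
    Rel p a b := by
  obtain ⟨A, B, hA, hB, e⟩ := h
  exact ⟨A, B, fun hd => hA (hqp.dvd.trans hd), fun hd => hB (hqp.dvd.trans hd), e⟩

omit [IsDomain R] [IsFractionRing R K] in
theorem rel_one_of_isAwayUnit {q g : R} (hq : Prime q) (hg : ¬ q ∣ g) {c : K}
    (hc : IsAwayUnit g c) : Rel q c 1 := by
  obtain ⟨x, y, N, hx, hy, e⟩ := hc
  refine ⟨y, x, fun hd => hg (hq.dvd_of_dvd_pow (hd.trans hy)),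
    fun hd => hg (hq.dvd_of_dvd_pow (hd.trans hx)), ?_⟩
  rw [mul_comm, e, mul_one]

omit [IsFractionRing R K] in
theorem rel_prime_one {q p : R} (hq : Prime q) (hp : Prime p) (h : ¬ Associated q p) :
    Rel q (algebraMap R K p) 1 := by
  refine ⟨1, p, hq.not_dvd_one, fun hd => h ((hq.dvd_prime_iff_associated hp).1 hd), ?_⟩
  rw [map_one, one_mul, mul_one]

theorem rel_prime_zpow_one {q p : R} (hq : Prime q) (hp : Prime p) (h : ¬ Associated q p)
    (n : ℤ) : Rel q ((algebraMap R K p) ^ n) 1 := by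
  simpa using (rel_prime_one (K := K) hq hp h).zpow hq n

variable [UniqueFactorizationMonoid R]

theorem exists_rel_zpow {q : R} (hq : Prime q) {a : K} (ha : a ≠ 0) :
    ∃ n : ℤ, Rel q a ((algebraMap R K q) ^ n) := by
  obtain ⟨x, y, hy, rfl⟩ := IsFractionRing.div_surjective (A := R) a
  have hy0 : y ≠ 0 := nonZeroDivisors.ne_zero hy
  have hx0 : x ≠ 0 := by
    rintro rfl
    simp at ha
  obtain ⟨m, x', hx', rfl⟩ := WfDvdMonoid.max_power_factor hx0 hq.irreducible
  obtain ⟨k, y', hy', rfl⟩ := WfDvdMonoid.max_power_factor hy0 hq.irreducible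
  have hq0 : algebraMap R K q ≠ 0 := by
    rw [Ne, map_eq_zero_iff _ (IsFractionRing.injective R K)]
    exact hq.ne_zero
  have hy'0 : algebraMap R K y' ≠ 0 := by
    rw [Ne, map_eq_zero_iff _ (IsFractionRing.injective R K)]
    rintro rfl
    exact hy' (dvd_zero q)
  refine ⟨(m : ℤ) - k, y', x', hy', hx', ?_⟩
  rw [zpow_sub₀ hq0, zpow_natCast, zpow_natCast]
  simp only [map_mul, map_pow]
  field_simp

omit [IsDomain R] in
theorem exists_dvd_pow_of_forall_prime_dvd (g : R) (x : R) :
    x ≠ 0 → (∀ q, Prime q → q ∣ x → q ∣ g) → ∃ N : ℕ, x ∣ g ^ N := by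
  induction x using UniqueFactorizationMonoid.induction_on_prime with
  | h₁ => intro h; exact absurd rfl h
  | h₂ x hx => intro _ _; exact ⟨0, hx.dvd⟩
  | h₃ a p ha hp ih =>
    intro _ h
    obtain ⟨N, hN⟩ := ih ha (fun q hq hqa => h q hq (hqa.mul_left p))
    refine ⟨N + 1, ?_⟩
    rw [pow_succ']
    exact mul_dvd_mul (h p hp (dvd_mul_right p a)) hN

theorem isAwayUnit_of_forall_rel {g : R} {c : K} (hc : c ≠ 0)
    (h : ∀ q, Prime q → ¬ q ∣ g → Rel q c 1) : IsAwayUnit g c := by
  obtain ⟨a, ⟨b, hb⟩, hab, rfl⟩ := IsFractionRing.exists_reduced_fraction (A := R) (K := K) c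
  have hb0 : b ≠ 0 := nonZeroDivisors.ne_zero hb
  have hspec : IsLocalization.mk' K a ⟨b, hb⟩ * algebraMap R K b = algebraMap R K a :=
    IsLocalization.mk'_spec K a ⟨b, hb⟩
  -- key: a relation `A * a = B * b` in `R`
  have key : ∀ q, Prime q → ¬ q ∣ g → ∃ A B : R, ¬ q ∣ A ∧ ¬ q ∣ B ∧ A * a = B * b := by
    intro q hq hqg
    obtain ⟨A, B, hA, hB, e⟩ := h q hq hqg
    refine ⟨A, B, hA, hB, ?_⟩
    apply IsFractionRing.injective R K
    rw [map_mul, map_mul, ← hspec, ← mul_assoc, e, mul_one]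
  have hrp : ∀ q, Prime q → q ∣ a → q ∣ b → False := by
    intro q hq hqa hqb
    exact hq.not_isUnit (hab hqa hqb)
  have ha' : ∀ q, Prime q → q ∣ a → q ∣ g := by
    intro q hq hqa
    by_contra hqg
    obtain ⟨A, B, hA, hB, e⟩ := key q hq hqg
    have : q ∣ B * b := e ▸ hqa.mul_left A
    exact hrp q hq hqa ((hq.dvd_or_dvd this).resolve_left hB)
  have hb' : ∀ q, Prime q → q ∣ b → q ∣ g := by
    intro q hq hqb
    by_contra hqg
    obtain ⟨A, B, hA, hB, e⟩ := key q hq hqg
    have : q ∣ A * a := e.symm ▸ hqb.mul_left B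
    exact hrp q hq ((hq.dvd_or_dvd this).resolve_left hA) hqb
  have ha0 : a ≠ 0 := by
    rintro rfl
    exact hc (by simp)
  obtain ⟨N₁, h₁⟩ := exists_dvd_pow_of_forall_prime_dvd g a ha0 ha'
  obtain ⟨N₂, h₂⟩ := exists_dvd_pow_of_forall_prime_dvd g b hb0 hb'
  exact ⟨a, b, N₁ + N₂, h₁.trans (pow_dvd_pow g (Nat.le_add_right _ _)),
    h₂.trans (pow_dvd_pow g (Nat.le_add_left _ _)), hspec⟩

/-- **Vanishing of `H¹` of units for opens of `Spec` of a UFD**, algebraic core. -/
theorem exists_common_multiplier {ι : Type*} (g : ι → R) (hg : ∀ i, g i ≠ 0) (f : ι → K)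
    (hf : ∀ i, f i ≠ 0) (i0 : ι) (hf0 : f i0 = 1)
    (hrel : ∀ i j, IsAwayUnit (g i * g j) (f i / f j)) :
    ∃ h : K, h ≠ 0 ∧ ∀ i, IsAwayUnit (g i) (h * f i) := by
  classical
  -- (F1)
  have F1 : ∀ q, Prime q → ¬ q ∣ g i0 → ∀ i, ¬ q ∣ g i → Rel q (f i) 1 := by
    intro q hq hq0 i hqi
    have := rel_one_of_isAwayUnit hq (g := g i * g i0)
      (fun hd => (hq.dvd_or_dvd hd).elim hqi hq0) (hrel i i0)
    rwa [hf0, div_one] at this
  have Fij : ∀ q, Prime q → ∀ i j, ¬ q ∣ g i → ¬ q ∣ g j → Rel q (f i / f j) 1 := by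
    intro q hq i j hqi hqj
    exact rel_one_of_isAwayUnit hq (g := g i * g j)
      (fun hd => (hq.dvd_or_dvd hd).elim hqi hqj) (hrel i j)
  -- induction over a multiset of primes
  have main : ∀ s : Multiset R, (∀ p ∈ s, Prime p) → ∃ h : K, h ≠ 0 ∧
      (∀ q, Prime q → (∀ p ∈ s, ¬ Associated q p) → Rel q h 1) ∧
      (∀ p ∈ s, ∀ i, ¬ p ∣ g i → Rel p (h * f i) 1) := by
    intro s
    induction s using Multiset.induction_on with
    | empty =>
      intro _
      exact ⟨1, one_ne_zero, fun q hq _ => Rel.refl hq 1, fun p hp => absurd hp (by simp)⟩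
    | cons q s ih =>
      intro hs
      have hqp : Prime q := hs q (Multiset.mem_cons_self q s)
      obtain ⟨h', hh'0, hh'1, hh'2⟩ := ih (fun p hp => hs p (Multiset.mem_cons_of_mem hp))
      by_cases hG : ∀ i, ¬ q ∣ g i → Rel q (h' * f i) 1
      · refine ⟨h', hh'0, fun q' hq' hn => hh'1 q' hq' (fun p hp =>
          hn p (Multiset.mem_cons_of_mem hp)), fun p hp => ?_⟩
        rcases Multiset.mem_cons.1 hp with rfl | hp
        · exact hG
        · exact hh'2 p hp
      · -- `q` is not associated to any `p ∈ s`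
        have hna : ∀ p ∈ s, ¬ Associated q p := by
          intro p hp hqp'
          apply hG
          intro i hqi
          have hpi : ¬ p ∣ g i := fun hd => hqi (hqp'.dvd.trans hd)
          exact (hh'2 p hp i hpi).of_associated hqp'.symm
        push Not at hG
        obtain ⟨j, hqj, -⟩ := hG
        obtain ⟨m, hm⟩ := exists_rel_zpow (K := K) hqp (mul_ne_zero hh'0 (hf j))
        have hq0 : algebraMap R K q ≠ 0 := by
          rw [Ne, map_eq_zero_iff _ (IsFractionRing.injective R K)]
          exact hqp.ne_zero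
        refine ⟨h' * (algebraMap R K q) ^ (-m), mul_ne_zero hh'0 (zpow_ne_zero _ hq0), ?_, ?_⟩
        · intro q' hq' hn
          have h1 := hh'1 q' hq' (fun p hp => hn p (Multiset.mem_cons_of_mem hp))
          have h2 := rel_prime_zpow_one (K := K) hq' hqp (hn q (Multiset.mem_cons_self q s)) (-m)
          simpa using h1.mul hq' h2
        · intro p hp i hpi
          rcases Multiset.mem_cons.1 hp with rfl | hp
          · have h1 := (hm.mul hqp (Rel.refl hqp ((algebraMap R K p) ^ (-m)))).mul hqp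
              (Fij p hqp i j hpi hqj)
            have e1 : h' * f j * (algebraMap R K p) ^ (-m) * (f i / f j) =
                h' * (algebraMap R K p) ^ (-m) * f i := by
              have := hf j
              field_simp
            have e2 : (algebraMap R K p) ^ m * (algebraMap R K p) ^ (-m) * 1 = 1 := by
              rw [mul_one, ← zpow_add₀ hq0, add_neg_cancel, zpow_zero]
            rwa [e1, e2] at h1
          · have hpp : Prime p := hs p (Multiset.mem_cons_of_mem hp)
            have h1 := hh'2 p hp i hpi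
            have h2 := rel_prime_zpow_one (K := K) hpp hqp
              (fun hpq => hna p hp hpq.symm) (-m)
            have h3 := h1.mul hpp h2
            have e1 : h' * f i * (algebraMap R K q) ^ (-m) =
                h' * (algebraMap R K q) ^ (-m) * f i := by ring
            rwa [e1, mul_one] at h3
  obtain ⟨h, hh0, hh1, hh2⟩ := main (UniqueFactorizationMonoid.factors (g i0))
    (fun p hp => UniqueFactorizationMonoid.prime_of_factor p hp)
  refine ⟨h, hh0, fun i => isAwayUnit_of_forall_rel (mul_ne_zero hh0 (hf i)) (fun q hq hqi => ?_)⟩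
  by_cases hq0 : q ∣ g i0
  · obtain ⟨p, hp, hqp⟩ := UniqueFactorizationMonoid.exists_mem_factors_of_dvd (hg i0)
      hq.irreducible hq0
    have hpi : ¬ p ∣ g i := fun hd => hqi (hqp.dvd.trans hd)
    exact (hh2 p hp i hpi).of_associated hqp.symm
  · have hn : ∀ p ∈ UniqueFactorizationMonoid.factors (g i0), ¬ Associated q p := by
      intro p hp hqp
      exact hq0 (hqp.dvd.trans (UniqueFactorizationMonoid.dvd_of_mem_factors hp))
    simpa using (hh1 q hq hn).mul hq (F1 q hq hq0 i hqi)

/-! ### Change of ring for `IsAwayUnit` (appended) -/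

section ChangeOfRing

omit [IsDomain R] [IsFractionRing R K] [UniqueFactorizationMonoid R] in
theorem IsAwayUnit.mono {g g' : R} {c : K} (h : IsAwayUnit g c) (hgg : g ∣ g') :
    IsAwayUnit g' c := by
  obtain ⟨x, y, N, hx, hy, e⟩ := h
  exact ⟨x, y, N, hx.trans (pow_dvd_pow_of_dvd hgg N), hy.trans (pow_dvd_pow_of_dvd hgg N), e⟩

variable {A : Type*} [CommRing A] [Algebra A R] [Algebra A K] [IsScalarTower A R K]

omit [IsDomain R] [IsFractionRing R K] [UniqueFactorizationMonoid R] in
theorem IsAwayUnit.map {g : A} {c : K} (h : IsAwayUnit (R := A) g c) :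
    IsAwayUnit (R := R) (algebraMap A R g) c := by
  obtain ⟨x, y, N, hx, hy, e⟩ := h
  refine ⟨algebraMap A R x, algebraMap A R y, N, ?_, ?_, ?_⟩
  · rw [← map_pow]; exact map_dvd _ hx
  · rw [← map_pow]; exact map_dvd _ hy
  · rw [← IsScalarTower.algebraMap_apply, ← IsScalarTower.algebraMap_apply]
    exact e

omit [IsDomain R] [IsFractionRing R K] [UniqueFactorizationMonoid R] in
/-- If `R` is the localization of the domain `A` at the prime `p`, a unit of `R[1/g]` is a unit of
`A[1/(f g)]` for some `f ∉ p`. -/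
theorem IsAwayUnit.descend [IsDomain A] (p : Ideal A) [p.IsPrime] [IsLocalization.AtPrime R p]
    {g : A} {c : K} (h : IsAwayUnit (R := R) (algebraMap A R g) c) :
    ∃ f : A, f ∉ p ∧ IsAwayUnit (R := A) (f * g) c := by
  obtain ⟨x, y, N, ⟨x', hx⟩, ⟨y', hy⟩, e⟩ := h
  have hinj : Function.Injective (algebraMap A R) :=
    IsLocalization.injective R (Ideal.primeCompl_le_nonZeroDivisors p)
  obtain ⟨a, s, rfl⟩ := IsLocalization.exists_mk'_eq p.primeCompl x
  obtain ⟨a', s', rfl⟩ := IsLocalization.exists_mk'_eq p.primeCompl x'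
  obtain ⟨b, t, rfl⟩ := IsLocalization.exists_mk'_eq p.primeCompl y
  obtain ⟨b', t', rfl⟩ := IsLocalization.exists_mk'_eq p.primeCompl y'
  -- relations in `A`
  have h1 : a * a' = s * s' * g ^ N := by
    apply hinj
    have := hx
    rw [← IsLocalization.mk'_mul, eq_comm, IsLocalization.mk'_eq_iff_eq_mul] at this
    rw [map_mul (algebraMap A R) (s * s' : A), map_pow, this]
    simp only [Submonoid.coe_mul, map_mul]
    ring
  have h2 : b * b' = t * t' * g ^ N := by
    apply hinj
    have := hy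
    rw [← IsLocalization.mk'_mul, eq_comm, IsLocalization.mk'_eq_iff_eq_mul] at this
    rw [map_mul (algebraMap A R) (t * t' : A), map_pow, this]
    simp only [Submonoid.coe_mul, map_mul]
    ring
  refine ⟨s * s' * (t * t'), ?_, a * t, b * s, N + 1, ?_, ?_, ?_⟩
  · exact (p.primeCompl.mul_mem (p.primeCompl.mul_mem s.2 s'.2) (p.primeCompl.mul_mem t.2 t'.2))
  · -- `a t ∣ (f g)^(N+1)`
    have ha : a ∣ s * s' * g ^ N := ⟨a', h1.symm⟩
    have : a * t ∣ (s * s' * g ^ N) * t := mul_dvd_mul_right ha _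
    refine this.trans ?_
    refine ⟨(s * s' * (t * t')) ^ N * t' * g, ?_⟩
    rw [mul_pow, pow_succ, pow_succ]
    ring
  · have hb : b ∣ t * t' * g ^ N := ⟨b', h2.symm⟩
    have : b * s ∣ (t * t' * g ^ N) * s := mul_dvd_mul_right hb _
    refine this.trans ?_
    refine ⟨(s * s' * (t * t')) ^ N * s' * g, ?_⟩
    rw [mul_pow, pow_succ, pow_succ]
    ring
  · -- the equation in `K`
    have hs0 : algebraMap R K (algebraMap A R s) ≠ 0 := by
      have := IsLocalization.map_units R s
      intro h0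
      have hu : IsUnit (algebraMap R K (algebraMap A R s)) := this.map _
      exact hu.ne_zero h0
    have ht0 : algebraMap R K (algebraMap A R t) ≠ 0 := by
      have := IsLocalization.map_units R t
      intro h0
      have hu : IsUnit (algebraMap R K (algebraMap A R t)) := this.map _
      exact hu.ne_zero h0
    have ex : algebraMap R K (IsLocalization.mk' R a s) * algebraMap R K (algebraMap A R s) =
        algebraMap R K (algebraMap A R a) := by
      rw [← map_mul, IsLocalization.mk'_spec]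
    have ey : algebraMap R K (IsLocalization.mk' R b t) * algebraMap R K (algebraMap A R t) =
        algebraMap R K (algebraMap A R b) := by
      rw [← map_mul, IsLocalization.mk'_spec]
    rw [IsScalarTower.algebraMap_apply A R K, IsScalarTower.algebraMap_apply A R K, map_mul,
      map_mul, map_mul, map_mul, ← ex, ← ey]
    linear_combination (algebraMap R K (algebraMap A R t)) * (algebraMap R K (algebraMap A R s)) * e

end ChangeOfRing

end Groth.Agent.Lib.Helper20.UFDUnits
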