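import Mathlib
import Groth.Prelude.Def_Pic
import Groth.Agent.Lib.Helper45.InvBasis
import Groth.Agent.Lib.Helper11.GenLocus
import Groth.Agent.Lib.Helper20.UFDUnits

/-!
# Invertible modules on opens of the spectrum of a UFD are trivial (helper20)

* `nonempty_iso_of_isBasisOn_top`: a global basis of `L` trivialises `L` (any scheme);
* `exists_unit_smul`: two local bases differ by a unit on the overlap;
* `nonempty_iso_structureModule_of_ufd`: for `X` affine integral with `Γ(X, ⊤)` a UFD and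
  `U ⊆ X` open, every invertible module on `U` is trivial.
-/

set_option autoImplicit false
universe u
open CategoryTheory CategoryTheory.Limits AlgebraicGeometry TopologicalSpace

namespace Groth.Agent.Lib.Helper20.InvUFD

open Groth.Agent.Lib.Helper45 Groth.Agent.Lib.Helper49 Groth.Agent.Lib.Helper11.GenLocus
open Groth.Agent.Lib.Helper20.UFDUnits

section General

variable {Y : Scheme.{u}} {L : Y.Modules}

/-- The section of `L` (as a compatible family) determined by a global section. -/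
noncomputable def sectionsOfTop (t : Γ(L, ⊤)) : L.sections :=
  PresheafOfModules.sectionsMk (fun V => mres L (le_top : V.unop ≤ ⊤) t) (fun V W f => by
    change mres L (leOfHom f.unop) (mres L le_top t) = mres L le_top t
    rw [mres_mres])

/-- The morphism `O_Y ⟶ L` determined by a global section. -/
noncomputable def homOfTop (t : Γ(L, ⊤)) : Coh.structureModule Y ⟶ L :=
  L.unitHomEquiv.symm (sectionsOfTop t)

theorem sec_homOfTop (t : Γ(L, ⊤)) (V : Y.Opens) : sec (homOfTop t) V = mres L le_top t := by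
  have h1 : sec (homOfTop t) V = (L.unitHomEquiv (homOfTop t)).val (Opposite.op V) := rfl
  rw [h1, homOfTop, Equiv.apply_symm_apply]
  rfl

/-- A global basis trivialises the module. -/
theorem nonempty_iso_of_isBasisOn_top {t : Γ(L, ⊤)} (ht : IsBasisOn L ⊤ t) :
    Nonempty (L ≅ Coh.structureModule Y) := by
  have : IsIso (homOfTop t) := by
    rw [Scheme.Modules.Hom.isIso_iff_isIso_app]
    intro V
    rw [Groth.Agent.Lib.Helper11.GenLocus.isIso_iff_bijective]
    have hb := ht V le_top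
    have : (⇑((homOfTop t).app V).hom : Γ(Coh.structureModule Y, V) → Γ(L, V)) =
        fun r => (ofO V r) • mres L (le_top : V ≤ ⊤) t := by
      funext r
      have := app_eq_smul_sec (homOfTop t) V (ofO V r)
      rw [sec_homOfTop, toO_ofO] at this
      exact this
    rw [this]
    exact hb
  exact ⟨(asIso (homOfTop t)).symm⟩

/-- Two local bases differ by a unit on the overlap. -/
theorem exists_unit_smul {V₁ V₂ : Y.Opens} {t₁ : Γ(L, V₁)} {t₂ : Γ(L, V₂)}
    (h₁ : IsBasisOn L V₁ t₁) (h₂ : IsBasisOn L V₂ t₂) :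
    ∃ c : Γ(Y, V₁ ⊓ V₂), IsUnit c ∧
      mres L (inf_le_left : V₁ ⊓ V₂ ≤ V₁) t₁ = c • mres L (inf_le_right : V₁ ⊓ V₂ ≤ V₂) t₂ := by
  have b₁ := h₁.mono (inf_le_left : V₁ ⊓ V₂ ≤ V₁)
  have b₂ := h₂.mono (inf_le_right : V₁ ⊓ V₂ ≤ V₂)
  obtain ⟨c, hc⟩ := b₂.exists_eq_smul (mres L inf_le_left t₁)
  obtain ⟨c', hc'⟩ := b₁.exists_eq_smul (mres L inf_le_right t₂)
  refine ⟨c, ?_, hc.symm⟩
  have : c * c' = 1 := by
    apply b₁.eq_of_smul_eq
    rw [mul_smul, hc', hc, one_smul]
  exact IsUnit.of_mul_eq_one _ this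

end General

section UFD

variable {X : Scheme.{u}} [IsIntegral X]

/-- The generic point lies in every nonempty open. -/
theorem gen_mem (W : X.Opens) (hW : (W : Set X).Nonempty) : genericPoint X ∈ W :=
  ((genericPoint_spec X).mem_open_set_iff W.isOpen).mpr (by simpa using hW)

/-- Germ at the generic point. -/
noncomputable def γ (W : X.Opens) (hη : genericPoint X ∈ W) : Γ(X, W) →+* X.functionField :=
  (X.presheaf.germ W (genericPoint X) hη).hom

theorem γ_injective (W : X.Opens) (hη : genericPoint X ∈ W) : Function.Injective (γ W hη) :=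
  germ_injective_of_isIntegral X _ hη

theorem γ_fres {W' W : X.Opens} (h : W' ≤ W) (hη' : genericPoint X ∈ W') (r : Γ(X, W)) :
    γ W' hη' (fres h r) = γ W (h hη') r :=
  X.presheaf.germ_res_apply (homOfLE h) _ hη' r

instance instNonemptyTop : Nonempty (⊤ : X.Opens) :=
  ⟨⟨(inferInstance : Nonempty X).some, trivial⟩⟩

theorem algebraMap_top_eq (r : Γ(X, ⊤)) :
    algebraMap Γ(X, ⊤) X.functionField r = γ ⊤ (gen_mem ⊤ ⟨(inferInstance : Nonempty X).some, trivial⟩) r :=
  rfl

theorem γ_fres_top (W : X.Opens) (hη : genericPoint X ∈ W) (r : Γ(X, ⊤)) :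
    γ W hη (fres (le_top : W ≤ ⊤) r) = algebraMap Γ(X, ⊤) X.functionField r :=
  γ_fres le_top hη r

variable [IsAffine X]

theorem isAwayUnit_γ_of_isUnit (f : Γ(X, ⊤)) (W : X.Opens) (hW : W = X.basicOpen f)
    (hη : genericPoint X ∈ W) (u : Γ(X, W)) (hu : IsUnit u) :
    IsAwayUnit f (γ W hη u) := by
  haveI := functionField_isFractionRing_of_isAffineOpen X ⊤ (isAffineOpen_top X)
  letI : Algebra Γ(X, ⊤) Γ(X, W) := (fres (le_top : W ≤ ⊤)).toAlgebra
  haveI : IsLocalization.Away f Γ(X, W) :=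
    (isAffineOpen_top X).isLocalization_of_eq_basicOpen f (homOfLE le_top) hW
  obtain ⟨u', hu'⟩ := hu.exists_right_inv
  obtain ⟨n, x, hx⟩ := IsLocalization.Away.surj f u
  obtain ⟨m, x', hx'⟩ := IsLocalization.Away.surj f u'
  have hρ : ∀ r : Γ(X, ⊤), γ W hη (algebraMap Γ(X, ⊤) Γ(X, W) r) =
      algebraMap Γ(X, ⊤) X.functionField r := fun r => γ_fres_top W hη r
  have hinj : Function.Injective (algebraMap Γ(X, ⊤) Γ(X, W)) := by
    intro a b hab
    apply IsFractionRing.injective Γ(X, ⊤) X.functionField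
    rw [← hρ, ← hρ, hab]
  have hxx : x * x' = f ^ (n + m) := by
    apply hinj
    rw [map_mul, ← hx, ← hx', map_pow, pow_add]
    calc u * algebraMap Γ(X, ⊤) Γ(X, W) f ^ n * (u' * algebraMap Γ(X, ⊤) Γ(X, W) f ^ m)
        = (u * u') * (algebraMap Γ(X, ⊤) Γ(X, W) f ^ n * algebraMap Γ(X, ⊤) Γ(X, W) f ^ m) := by
          ring
      _ = _ := by rw [hu', one_mul]
  refine ⟨x, f ^ n, n + m, ⟨x', hxx.symm⟩, pow_dvd_pow f (Nat.le_add_right n m), ?_⟩
  rw [← hρ, ← hρ, ← map_mul, map_pow, hx]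

theorem exists_isUnit_γ_eq (f : Γ(X, ⊤)) (hf : f ≠ 0) (W : X.Opens) (hW : W = X.basicOpen f)
    (hη : genericPoint X ∈ W) (c : X.functionField) (hc : IsAwayUnit f c) :
    ∃ u : Γ(X, W), IsUnit u ∧ γ W hη u = c := by
  haveI := functionField_isFractionRing_of_isAffineOpen X ⊤ (isAffineOpen_top X)
  subst hW
  obtain ⟨x, y, N, hx, hy, e⟩ := hc
  have hfu : IsUnit (fres (le_top : X.basicOpen f ≤ ⊤) f) := RingedSpace.isUnit_res_basicOpen _ f
  have hxu : IsUnit (fres (le_top : X.basicOpen f ≤ ⊤) x) :=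
    isUnit_of_dvd_unit (map_dvd _ hx) (by rw [map_pow]; exact hfu.pow N)
  have hyu : IsUnit (fres (le_top : X.basicOpen f ≤ ⊤) y) :=
    isUnit_of_dvd_unit (map_dvd _ hy) (by rw [map_pow]; exact hfu.pow N)
  obtain ⟨vy, hvy⟩ := hyu
  refine ⟨fres le_top x * ↑vy⁻¹, hxu.mul (Units.isUnit _), ?_⟩
  have hy0 : algebraMap Γ(X, ⊤) X.functionField y ≠ 0 := by
    rw [Ne, map_eq_zero_iff _ (IsFractionRing.injective Γ(X, ⊤) X.functionField)]
    rintro rfl
    exact pow_ne_zero N hf (zero_dvd_iff.1 hy)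
  apply mul_right_cancel₀ hy0
  rw [e, ← γ_fres_top (X.basicOpen f) hη y, ← map_mul, ← hvy, mul_assoc, Units.inv_mul, mul_one,
    γ_fres_top]

end UFD

section Main

variable {X : Scheme.{u}} [IsIntegral X] [IsAffine X]

omit [IsIntegral X] [IsAffine X] in
theorem image_inf (U : X.Opens) (A B : (U : Scheme.{u}).Opens) :
    U.ι ''ᵁ (A ⊓ B) = U.ι ''ᵁ A ⊓ U.ι ''ᵁ B := by
  apply Opens.ext
  change U.ι '' ((A : Set _) ∩ B) = U.ι '' A ∩ U.ι '' B
  exact Set.image_inter U.ι.isOpenEmbedding.injective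

omit [IsIntegral X] in
/-- Local bases on (preimages of) basic opens. -/
theorem exists_local_basis (U : X.Opens) {L : (U : Scheme.{u}).Modules}
    (hL : PicF.IsInvertible L) (y : (U : Scheme.{u})) :
    ∃ (f : Γ(X, ⊤)) (V : (U : Scheme.{u}).Opens), y ∈ V ∧ U.ι ''ᵁ V = X.basicOpen f ∧
      ∃ t : Γ(L, V), IsBasisOn L V t := by
  obtain ⟨V₁, hy₁, t₁, ht₁⟩ := exists_isBasisOn_of_isInvertible hL y
  have hmem : U.ι y ∈ U.ι ''ᵁ V₁ := ⟨y, hy₁, rfl⟩
  obtain ⟨f, hf, hyf⟩ := (isAffineOpen_top X).exists_basicOpen_le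
    (V := U.ι ''ᵁ V₁) ⟨U.ι y, hmem⟩ trivial
  have himg : U.ι ''ᵁ (U.ι ⁻¹ᵁ X.basicOpen f) = X.basicOpen f := by
    rw [Scheme.Hom.image_preimage_eq_opensRange_inf]
    exact inf_eq_right.2 (hf.trans (U.ι.image_le_opensRange V₁))
  have hle : U.ι ⁻¹ᵁ X.basicOpen f ≤ V₁ := by
    rw [← U.ι.image_le_image_iff, himg]
    exact hf
  exact ⟨f, U.ι ⁻¹ᵁ X.basicOpen f, hyf, himg, mres L hle t₁, ht₁.mono hle⟩

/-- On an affine integral scheme whose ring of global functions is a UFD, every invertible module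
on an open subscheme is trivial. -/
theorem nonempty_iso_structureModule_of_ufd [UniqueFactorizationMonoid Γ(X, ⊤)] (U : X.Opens)
    (L : (U : Scheme.{u}).Modules) (hL : PicF.IsInvertible L) :
    Nonempty (L ≅ Coh.structureModule (U : Scheme.{u})) := by
  classical
  haveI := functionField_isFractionRing_of_isAffineOpen X ⊤ (isAffineOpen_top X)
  by_cases hne : Nonempty (U : Scheme.{u})
  swap
  · have : IsBasisOn L ⊤ 0 :=
      IsBasisOn.of_cover (ι := PEmpty.{1}) (fun i => i.elim) ⊤ (fun i => i.elim)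
        (fun x _ => (hne ⟨x⟩).elim) 0 (fun i => i.elim)
    exact nonempty_iso_of_isBasisOn_top this
  obtain ⟨y₀⟩ := hne
  choose f V hyV hV t ht using exists_local_basis U hL
  have hη : ∀ y, genericPoint X ∈ U.ι ''ᵁ V y := fun y => gen_mem _ ⟨U.ι y, y, hyV y, rfl⟩
  have hf0 : ∀ y, f y ≠ 0 := by
    intro y h0
    have := hη y
    rw [hV, h0, Scheme.basicOpen_zero] at this
    exact this
  have hVV : ∀ y z, U.ι ''ᵁ (V y ⊓ V z) = X.basicOpen (f y * f z) := by
    intro y z
    rw [image_inf, hV, hV, Scheme.basicOpen_mul]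
  have hηη : ∀ y z, genericPoint X ∈ U.ι ''ᵁ (V y ⊓ V z) := by
    intro y z
    rw [image_inf]
    exact ⟨hη y, hη z⟩
  -- transition units
  choose c hcu hc using fun y z => exists_unit_smul (ht y) (ht z)
  -- germs of sections over opens of `U`
  let γY : ∀ (A : (U : Scheme.{u}).Opens) (_ : genericPoint X ∈ U.ι ''ᵁ A),
      Γ((U : Scheme.{u}), A) →+* X.functionField := fun A hA => γ (U.ι ''ᵁ A) hA
  have γY_fres : ∀ {A T : (U : Scheme.{u}).Opens} (h : T ≤ A) (hT : genericPoint X ∈ U.ι ''ᵁ T)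
      (r : Γ((U : Scheme.{u}), A)),
      γY T hT (fres h r) = γY A (U.ι.image_mono h hT) r := by
    intro A T h hT r
    exact γ_fres (U.ι.image_mono h) hT r
  have γY_inj : ∀ (A : (U : Scheme.{u}).Opens) (hA : genericPoint X ∈ U.ι ''ᵁ A),
      Function.Injective (γY A hA) := fun A hA => γ_injective _ hA
  let F : ↥(U : Scheme.{u}) → ↑X.functionField := fun y => γY _ (hηη y y₀) (c y y₀)
  have hFu : ∀ y, IsUnit (F y) := fun y => (hcu y y₀).map _
  have hF0 : ∀ y, F y ≠ 0 := fun y => (hFu y).ne_zero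
  -- cocycle identity
  have hcoc : ∀ y z, γY _ (hηη y z) (c y z) * F z = F y := by
    intro y z
    let T : (U : Scheme.{u}).Opens := V y ⊓ V z ⊓ V y₀
    have hT : genericPoint X ∈ U.ι ''ᵁ T := by
      rw [image_inf, image_inf]
      exact ⟨⟨hη y, hη z⟩, hη y₀⟩
    have l1 : T ≤ V y ⊓ V y₀ := le_inf (inf_le_left.trans inf_le_left) inf_le_right
    have l2 : T ≤ V z ⊓ V y₀ := le_inf (inf_le_left.trans inf_le_right) inf_le_right
    have l3 : T ≤ V y ⊓ V z := inf_le_left
    have e1 := congrArg (mres L l1) (hc y y₀)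
    have e2 := congrArg (mres L l2) (hc z y₀)
    have e3 := congrArg (mres L l3) (hc y z)
    simp only [mres_smul, mres_mres] at e1 e2 e3
    have hb := (ht y₀).mono (inf_le_right : T ≤ V y₀)
    have key : fres l3 (c y z) * fres l2 (c z y₀) = fres l1 (c y y₀) := by
      apply hb.eq_of_smul_eq
      rw [mul_smul, ← e2, ← e3, e1]
    have := congrArg (γY T hT) key
    rw [map_mul, γY_fres, γY_fres, γY_fres] at this
    exact this
  have hF1 : F y₀ = 1 := by
    have hb := (ht y₀).mono (inf_le_left : V y₀ ⊓ V y₀ ≤ V y₀)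
    have : c y₀ y₀ = 1 := by
      apply hb.eq_of_smul_eq
      rw [one_smul]
      exact (hc y₀ y₀).symm
    change γY _ _ (c y₀ y₀) = 1
    rw [this, map_one]
  have hrel : ∀ y z, IsAwayUnit (f y * f z) (F y / F z) := by
    intro y z
    have h1 : F y / F z = γY _ (hηη y z) (c y z) := by
      rw [div_eq_iff (hF0 z)]
      exact (hcoc y z).symm
    rw [h1]
    exact isAwayUnit_γ_of_isUnit (f y * f z) _ (hVV y z) (hηη y z) (c y z) (hcu y z)
  obtain ⟨h, hh0, hh⟩ := exists_common_multiplier f hf0 F hF0 y₀ hF1 hrel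
  have hex : ∀ y, ∃ u : Γ((U : Scheme.{u}), V y), IsUnit u ∧ γY (V y) (hη y) u = h * F y :=
    fun y => exists_isUnit_γ_eq (f y) (hf0 y) _ (hV y) (hη y) _ (hh y)
  choose u hu hγu using hex
  -- the corrected local bases
  let v : ∀ y, Γ((U : Scheme.{u}), V y) := fun y => (↑((hu y).unit⁻¹) : Γ((U : Scheme.{u}), V y))
  have hvu : ∀ y, IsUnit (v y) := fun y => Units.isUnit _
  have hγv : ∀ y, γY (V y) (hη y) (v y) = (h * F y)⁻¹ := by
    intro y
    have h1 : v y * u y = 1 := by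
      exact IsUnit.val_inv_mul (hu y)
    have h2 := congrArg (γY (V y) (hη y)) h1
    rw [map_mul, map_one] at h2
    have h3 : γY (V y) (hη y) (u y) = h * F y := hγu y
    rw [h3] at h2
    exact eq_inv_of_mul_eq_one_left h2
  let s : ∀ y, Γ(L, V y) := fun y => v y • t y
  have hs : ∀ y, IsBasisOn L (V y) (s y) := fun y => (ht y).smul_unit _ (hvu y)
  have hcompat : ∀ y z, mres L (inf_le_left : V y ⊓ V z ≤ V y) (s y) =
      mres L (inf_le_right : V y ⊓ V z ≤ V z) (s z) := by
    intro y z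
    change mres L _ (v y • t y) = mres L _ (v z • t z)
    rw [mres_smul, mres_smul, hc y z, ← mul_smul]
    congr 1
    apply γY_inj _ (hηη y z)
    rw [map_mul, γY_fres, γY_fres, hγv, hγv, ← hcoc y z]
    have := hF0 z
    have hcz : γY _ (hηη y z) (c y z) ≠ 0 := ((hcu y z).map _).ne_zero
    field_simp
  -- glue
  have hcover : (⊤ : (U : Scheme.{u}).Opens) ≤ ⨆ y, V y := fun y _ =>
    Opens.mem_iSup.mpr ⟨y, hyV y⟩
  obtain ⟨g, hg, -⟩ := TopCat.Sheaf.existsUnique_gluing' ⟨L.presheaf, L.isSheaf⟩ V ⊤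
    (fun y => homOfLE le_top) hcover s (by
      intro y z
      exact hcompat y z)
  have hgb : IsBasisOn L ⊤ g := by
    refine IsBasisOn.of_cover V ⊤ (fun _ => le_top) hcover g (fun y => ?_)
    have : mres L (le_top : V y ≤ ⊤) g = s y := hg y
    rw [this]
    exact hs y
  exact nonempty_iso_of_isBasisOn_top hgb

end Main

end Groth.Agent.Lib.Helper20.InvUFD
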