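import Mathlib
import Groth.Prelude.Def_Pic
import Groth.Prelude.Def_FlatMod2
import Groth.Agent.Lib.Helper45.InvBasis
import Groth.Agent.Lib.Helper20.InvUFD

/-!
# The unit `L ⟶ f_* f^* L` on sections (helper20)

`unitApp f L V : Γ(L, V) ⟶ Γ(f^* L, f⁻¹ V)` is the unit of the pullback–pushforward adjunction on
sections over `V`.

* `unitApp_comp`: compatibility with composition of morphisms (via `pullbackComp`);
* `isIso_unitApp_of_isOpenImmersion`: for an open immersion `j` and `V ≤ j.opensRange` it is an iso;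
* `unitApp_naturality`;
* `unitApp_structureModule`: for `L = O_Y`, it is `f.app V` up to `f^* O_Y ≅ O_X`;
* `isIso_unitApp_of_trivial`: if `O_Y(V) → O_X(f⁻¹ V)` is bijective for all `V` and `L|_U ≅ O_U`,
  then `unitApp f L V` is an iso for all `V ≤ U`.
-/

set_option autoImplicit false
universe u
open CategoryTheory CategoryTheory.Limits AlgebraicGeometry TopologicalSpace

namespace Groth.Agent.Lib.Helper20.PullbackUnit

variable {X Y Z : Scheme.{u}}

/-- The unit of the pullback–pushforward adjunction on sections over `V`. -/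
noncomputable abbrev unitApp (f : X ⟶ Y) (L : Y.Modules) (V : Y.Opens) :
    Γ(L, V) ⟶ Γ((Scheme.Modules.pullback f).obj L, f ⁻¹ᵁ V) :=
  ((Scheme.Modules.pullbackPushforwardAdjunction f).unit.app L).app V

theorem unitApp_comp (f : X ⟶ Y) (g : Y ⟶ Z) (L : Z.Modules) (V : Z.Opens) :
    unitApp g L V ≫ unitApp f ((Scheme.Modules.pullback g).obj L) (g ⁻¹ᵁ V) =
      unitApp (f ≫ g) L V ≫
        ((Scheme.Modules.pullbackComp f g).inv.app L).app ((f ≫ g) ⁻¹ᵁ V) := by
  have h := unit_conjugateEquiv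
    ((Scheme.Modules.pullbackPushforwardAdjunction g).comp
      (Scheme.Modules.pullbackPushforwardAdjunction f))
    (Scheme.Modules.pullbackPushforwardAdjunction (f ≫ g))
    (Scheme.Modules.pullbackComp f g).inv L
  rw [Scheme.Modules.conjugateEquiv_pullbackComp_inv] at h
  have h2 := congrArg (fun φ => Scheme.Modules.Hom.app φ V) h
  simp only [Scheme.Modules.Hom.comp_app, Scheme.Modules.pushforwardComp_hom_app_app,
    Adjunction.comp_unit_app] at h2
  erw [Category.comp_id] at h2
  exact h2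

theorem unitApp_naturality (f : X ⟶ Y) {L L' : Y.Modules} (e : L ⟶ L') (V : Y.Opens) :
    unitApp f L V ≫ ((Scheme.Modules.pullback f).map e).app (f ⁻¹ᵁ V) =
      e.app V ≫ unitApp f L' V := by
  have h := (Scheme.Modules.pullbackPushforwardAdjunction f).unit.naturality e
  have h2 := congrArg (fun φ => Scheme.Modules.Hom.app φ V) h
  simp only [Scheme.Modules.Hom.comp_app] at h2
  exact h2.symm

theorem isIso_unitApp_iff_of_iso (f : X ⟶ Y) {L L' : Y.Modules} (e : L ≅ L') (V : Y.Opens) :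
    IsIso (unitApp f L V) ↔ IsIso (unitApp f L' V) := by
  have h := unitApp_naturality f e.hom V
  have i1 : IsIso (((Scheme.Modules.pullback f).map e.hom).app (f ⁻¹ᵁ V)) := inferInstance
  have i2 : IsIso (e.hom.app V) := inferInstance
  constructor
  · intro hi
    have : IsIso (e.hom.app V ≫ unitApp f L' V) := by rw [← h]; infer_instance
    exact IsIso.of_isIso_comp_left (e.hom.app V) _
  · intro hi
    have : IsIso (unitApp f L V ≫ ((Scheme.Modules.pullback f).map e.hom).app (f ⁻¹ᵁ V)) := by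
      rw [h]; infer_instance
    exact IsIso.of_isIso_comp_right _ (((Scheme.Modules.pullback f).map e.hom).app (f ⁻¹ᵁ V))

theorem isIso_unitApp_of_isOpenImmersion (j : X ⟶ Y) [IsOpenImmersion j] (L : Y.Modules)
    (V : Y.Opens) (hV : V ≤ j.opensRange) : IsIso (unitApp j L V) := by
  have h := Adjunction.unit_leftAdjointUniq_hom_app (Scheme.Modules.restrictAdjunction j)
    (Scheme.Modules.pullbackPushforwardAdjunction j) L
  have h2 := congrArg (fun φ => Scheme.Modules.Hom.app φ V) h
  simp only [Scheme.Modules.Hom.comp_app, Scheme.Modules.restrictAdjunction_unit_app_app] at h2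
  have e : j ''ᵁ (j ⁻¹ᵁ V) = V := by
    rw [Scheme.Hom.image_preimage_eq_opensRange_inf]
    exact inf_eq_right.mpr hV
  have i1 : IsIso (L.presheaf.map (homOfLE (j.image_preimage_le V)).op) := by
    have : IsIso (homOfLE (j.image_preimage_le V)) :=
      ⟨⟨homOfLE e.symm.le, rfl, rfl⟩⟩
    infer_instance
  change _ = unitApp j L V at h2
  rw [← h2]
  have i2 : IsIso (Scheme.Modules.Hom.app ((Scheme.Modules.pushforward j).map
      (((Scheme.Modules.restrictAdjunction j).leftAdjointUniq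
        (Scheme.Modules.pullbackPushforwardAdjunction j)).hom.app L)) V) := inferInstance
  exact @IsIso.comp_isIso _ _ _ _ _ _ _ i1 i2

/-- `f^* O_Y ⟶ O_X`. -/
noncomputable def pbu (f : X ⟶ Y) :
    (Scheme.Modules.pullback f).obj (Coh.structureModule Y) ⟶ Coh.structureModule X :=
  SheafOfModules.pullbackObjUnitToUnit f.toRingCatSheafHom

instance isIso_pbu (f : X ⟶ Y) : IsIso (pbu f) := by
  have : (Opens.map f.base).Final := by
    apply Functor.final_of_exists_of_isFiltered
    · intro d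
      exact ⟨⊤, ⟨homOfLE le_top⟩⟩
    · intro d c s s'
      exact ⟨c, 𝟙 c, Subsingleton.elim _ _⟩
  have h : IsIso (SheafOfModules.pullbackObjUnitToUnit f.toRingCatSheafHom) := inferInstance
  exact h

open Groth.Agent.Lib.Helper11.GenLocus in
theorem unitApp_structureModule (f : X ⟶ Y) (V : Y.Opens) (a : Γ(Y, V)) :
    ofO (f ⁻¹ᵁ V) (((pbu f).app (f ⁻¹ᵁ V)).hom
      ((unitApp f (Coh.structureModule Y) V).hom (toO V a))) = (f.app V).hom a := by
  have h := SheafOfModules.pullbackPushforwardAdjunction_homEquiv_pullbackObjUnitToUnit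
    f.toRingCatSheafHom
  rw [Adjunction.homEquiv_unit] at h
  have h2 := congrArg (fun φ => (SheafOfModules.Hom.val φ).app (Opposite.op V)) h
  have h3 := congrArg (fun ψ => ψ.hom a) h2
  exact h3

open Groth.Agent.Lib.Helper11.GenLocus in
theorem isIso_unitApp_structureModule (f : X ⟶ Y) (V : Y.Opens)
    (hV : Function.Bijective (f.app V)) : IsIso (unitApp f (Coh.structureModule Y) V) := by
  have i1 : IsIso ((pbu f).app (f ⁻¹ᵁ V)) := inferInstance
  have hb : Function.Bijective ((unitApp f (Coh.structureModule Y) V ≫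
      (pbu f).app (f ⁻¹ᵁ V)).hom) := by
    have : ⇑((unitApp f (Coh.structureModule Y) V ≫ (pbu f).app (f ⁻¹ᵁ V)).hom) =
        fun a => toO (f ⁻¹ᵁ V) ((f.app V).hom (ofO V a)) := by
      funext a
      exact unitApp_structureModule f V (ofO V a)
    rw [this]
    exact hV
  have i2 : IsIso (unitApp f (Coh.structureModule Y) V ≫ (pbu f).app (f ⁻¹ᵁ V)) :=
    (Groth.Agent.Lib.Helper11.GenLocus.isIso_iff_bijective _).mpr hb
  exact IsIso.of_isIso_comp_right _ ((pbu f).app (f ⁻¹ᵁ V))

theorem isIso_unitApp_congr {g g' : X ⟶ Y} (h : g = g') (L : Y.Modules) (V : Y.Opens) :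
    IsIso (unitApp g L V) ↔ IsIso (unitApp g' L V) := by
  subst h
  rfl

theorem bijective_app_morphismRestrict (f : X ⟶ Y)
    (hf : ∀ U : Y.Opens, Function.Bijective (f.app U)) (U : Y.Opens)
    (W : (↑U : Scheme.{u}).Opens) : Function.Bijective ((f ∣_ U).app W) := by
  rw [morphismRestrict_app]
  have i1 : IsIso (X.presheaf.map (eqToHom (image_morphismRestrict_preimage f U W)).op) :=
    inferInstance
  have h2 : Function.Bijective (X.presheaf.map
      (eqToHom (image_morphismRestrict_preimage f U W)).op) :=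
    ConcreteCategory.bijective_of_isIso _
  have h3 := h2.comp (hf (U.ι ''ᵁ W))
  exact h3

/-- If `O_Y(V) → O_X(f⁻¹ V)` is bijective for every open `V` and `L` is trivial on `U`, then the unit
`Γ(L, V) → Γ(f^* L, f⁻¹ V)` is an isomorphism for every `V ≤ U`. -/
theorem isIso_unitApp_of_trivial (f : X ⟶ Y)
    (hf : ∀ U : Y.Opens, Function.Bijective (f.app U)) (L : Y.Modules) (U : Y.Opens)
    (e : L.restrict U.ι ≅ Coh.structureModule (↑U : Scheme.{u})) (V : Y.Opens) (hV : V ≤ U) :
    IsIso (unitApp f L V) := by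
  -- step 1
  have c1 := unitApp_comp (f ⁻¹ᵁ U).ι f L V
  have i1 : IsIso (unitApp (f ⁻¹ᵁ U).ι ((Scheme.Modules.pullback f).obj L) (f ⁻¹ᵁ V)) := by
    apply isIso_unitApp_of_isOpenImmersion
    rw [Scheme.Opens.opensRange_ι]
    exact fun x hx => hV hx
  suffices h : IsIso (unitApp ((f ⁻¹ᵁ U).ι ≫ f) L V) by
    have i2' : IsIso (((Scheme.Modules.pullbackComp (f ⁻¹ᵁ U).ι f).inv.app L).app
        (((f ⁻¹ᵁ U).ι ≫ f) ⁻¹ᵁ V)) := inferInstance
    have i2 : IsIso (unitApp f L V ≫
        unitApp (f ⁻¹ᵁ U).ι ((Scheme.Modules.pullback f).obj L) (f ⁻¹ᵁ V)) := by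
      rw [c1]; exact @IsIso.comp_isIso _ _ _ _ _ _ _ h i2'
    exact IsIso.of_isIso_comp_right _
      (unitApp (f ⁻¹ᵁ U).ι ((Scheme.Modules.pullback f).obj L) (f ⁻¹ᵁ V))
  -- step 2
  rw [← isIso_unitApp_congr (morphismRestrict_ι f U) L V]
  -- step 3
  have c2 := unitApp_comp (f ∣_ U) U.ι L V
  have i3 : IsIso (unitApp U.ι L V) := by
    apply isIso_unitApp_of_isOpenImmersion
    rw [Scheme.Opens.opensRange_ι]
    exact hV
  suffices h : IsIso (unitApp (f ∣_ U) ((Scheme.Modules.pullback U.ι).obj L) (U.ι ⁻¹ᵁ V)) by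
    have i4 : IsIso (unitApp ((f ∣_ U) ≫ U.ι) L V ≫
        ((Scheme.Modules.pullbackComp (f ∣_ U) U.ι).inv.app L).app (((f ∣_ U) ≫ U.ι) ⁻¹ᵁ V)) := by
      rw [← c2]; exact @IsIso.comp_isIso _ _ _ _ _ _ _ i3 h
    exact IsIso.of_isIso_comp_right _
      (((Scheme.Modules.pullbackComp (f ∣_ U) U.ι).inv.app L).app (((f ∣_ U) ≫ U.ι) ⁻¹ᵁ V))
  -- step 4
  rw [isIso_unitApp_iff_of_iso (f ∣_ U)
    (((Scheme.Modules.restrictFunctorIsoPullback U.ι).symm.app L) ≪≫ e) (U.ι ⁻¹ᵁ V)]
  -- step 5
  exact isIso_unitApp_structureModule _ _ (bijective_app_morphismRestrict f hf U _)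

/-! ### Finite locally free modules (appended) -/

/-- A natural transformation between additive functors which is an isomorphism on each summand is
an isomorphism on a finite biproduct. -/
theorem isIso_app_biproduct {C D : Type*} [Category C] [Category D] [Preadditive C] [Preadditive D]
    {F G : C ⥤ D} [F.Additive] [G.Additive] (α : F ⟶ G) {ι : Type} [Fintype ι] (A : ι → C)
    [HasBiproduct A] (h : ∀ i, IsIso (α.app (A i))) : IsIso (α.app (⨁ A)) := by
  classical
  refine ⟨⟨∑ i, G.map (biproduct.π A i) ≫ inv (α.app (A i)) ≫ F.map (biproduct.ι A i), ?_, ?_⟩⟩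
  · rw [Preadditive.comp_sum]
    have : ∀ i, α.app (⨁ A) ≫ G.map (biproduct.π A i) ≫ inv (α.app (A i)) ≫
        F.map (biproduct.ι A i) = F.map (biproduct.π A i ≫ biproduct.ι A i) := by
      intro i
      rw [← Category.assoc, ← α.naturality, Category.assoc, IsIso.hom_inv_id_assoc, F.map_comp]
    simp only [this]
    rw [← Functor.map_sum, biproduct.total, F.map_id]
  · rw [Preadditive.sum_comp]
    have : ∀ i, (G.map (biproduct.π A i) ≫ inv (α.app (A i)) ≫ F.map (biproduct.ι A i)) ≫
        α.app (⨁ A) = G.map (biproduct.π A i ≫ biproduct.ι A i) := by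
      intro i
      rw [Category.assoc, Category.assoc, α.naturality, IsIso.inv_hom_id_assoc, G.map_comp]
    simp only [this]
    rw [← Functor.map_sum, biproduct.total, G.map_id]

/-- If `O_Y(V) → O_X(f⁻¹ V)` is bijective for every `V`, the unit `O_Y → f_* f^* O_Y` is an iso. -/
theorem isIso_unit_structureModule (f : X ⟶ Y)
    (hf : ∀ U : Y.Opens, Function.Bijective (f.app U)) :
    IsIso ((Scheme.Modules.pullbackPushforwardAdjunction f).unit.app (Coh.structureModule Y)) := by
  rw [Scheme.Modules.Hom.isIso_iff_isIso_app]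
  intro V
  exact isIso_unitApp_structureModule f V (hf V)

theorem isIso_unit_freeMod (f : X ⟶ Y)
    (hf : ∀ U : Y.Opens, Function.Bijective (f.app U)) (n : ℕ) :
    IsIso ((Scheme.Modules.pullbackPushforwardAdjunction f).unit.app (FlatMod.freeMod Y n)) := by
  haveI : HasFiniteBiproducts Y.Modules := Abelian.hasFiniteBiproducts
  have h1 : IsIso ((Scheme.Modules.pullbackPushforwardAdjunction f).unit.app
      (⨁ fun _ : Fin n => Coh.structureModule Y)) :=
    isIso_app_biproduct (Scheme.Modules.pullbackPushforwardAdjunction f).unit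
      (fun _ : Fin n => Coh.structureModule Y) (fun _ => isIso_unit_structureModule f hf)
  let e : (⨁ fun _ : Fin n => Coh.structureModule Y) ≅ FlatMod.freeMod Y n :=
    biproduct.isoCoproduct _
  have h2 := (Scheme.Modules.pullbackPushforwardAdjunction f).unit.naturality e.hom
  have h3 : IsIso ((𝟭 Y.Modules).map e.hom ≫
      (Scheme.Modules.pullbackPushforwardAdjunction f).unit.app (FlatMod.freeMod Y n)) := by
    rw [h2]; infer_instance
  exact IsIso.of_isIso_comp_left ((𝟭 Y.Modules).map e.hom) _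

/-- Variant of `isIso_unitApp_of_trivial` for modules free of finite rank on `U`. -/
theorem isIso_unitApp_of_free (f : X ⟶ Y)
    (hf : ∀ U : Y.Opens, Function.Bijective (f.app U)) (L : Y.Modules) (U : Y.Opens) (n : ℕ)
    (e : L.restrict U.ι ≅ FlatMod.freeMod (↑U : Scheme.{u}) n) (V : Y.Opens) (hV : V ≤ U) :
    IsIso (unitApp f L V) := by
  have c1 := unitApp_comp (f ⁻¹ᵁ U).ι f L V
  have i1 : IsIso (unitApp (f ⁻¹ᵁ U).ι ((Scheme.Modules.pullback f).obj L) (f ⁻¹ᵁ V)) := by
    apply isIso_unitApp_of_isOpenImmersion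
    rw [Scheme.Opens.opensRange_ι]
    exact fun x hx => hV hx
  suffices h : IsIso (unitApp ((f ⁻¹ᵁ U).ι ≫ f) L V) by
    have i2' : IsIso (((Scheme.Modules.pullbackComp (f ⁻¹ᵁ U).ι f).inv.app L).app
        (((f ⁻¹ᵁ U).ι ≫ f) ⁻¹ᵁ V)) := inferInstance
    have i2 : IsIso (unitApp f L V ≫
        unitApp (f ⁻¹ᵁ U).ι ((Scheme.Modules.pullback f).obj L) (f ⁻¹ᵁ V)) := by
      rw [c1]; exact @IsIso.comp_isIso _ _ _ _ _ _ _ h i2'
    exact IsIso.of_isIso_comp_right _
      (unitApp (f ⁻¹ᵁ U).ι ((Scheme.Modules.pullback f).obj L) (f ⁻¹ᵁ V))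
  rw [← isIso_unitApp_congr (morphismRestrict_ι f U) L V]
  have c2 := unitApp_comp (f ∣_ U) U.ι L V
  have i3 : IsIso (unitApp U.ι L V) := by
    apply isIso_unitApp_of_isOpenImmersion
    rw [Scheme.Opens.opensRange_ι]
    exact hV
  suffices h : IsIso (unitApp (f ∣_ U) ((Scheme.Modules.pullback U.ι).obj L) (U.ι ⁻¹ᵁ V)) by
    have i4 : IsIso (unitApp ((f ∣_ U) ≫ U.ι) L V ≫
        ((Scheme.Modules.pullbackComp (f ∣_ U) U.ι).inv.app L).app (((f ∣_ U) ≫ U.ι) ⁻¹ᵁ V)) := by
      rw [← c2]; exact @IsIso.comp_isIso _ _ _ _ _ _ _ i3 h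
    exact IsIso.of_isIso_comp_right _
      (((Scheme.Modules.pullbackComp (f ∣_ U) U.ι).inv.app L).app (((f ∣_ U) ≫ U.ι) ⁻¹ᵁ V))
  rw [isIso_unitApp_iff_of_iso (f ∣_ U)
    (((Scheme.Modules.restrictFunctorIsoPullback U.ι).symm.app L) ≪≫ e) (U.ι ⁻¹ᵁ V)]
  have := isIso_unit_freeMod (f ∣_ U) (bijective_app_morphismRestrict f hf U) n
  exact (Scheme.Modules.Hom.isIso_iff_isIso_app.mp this) _

open Groth.Agent.Lib.Helper11.GenLocus in
/-- If `O_Y(V) → O_X(f⁻¹ V)` is bijective for every `V`, then the unit `L → f_* f^* L` is an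
isomorphism for every finite locally free `L`. -/
theorem isIso_unit_of_isFinLocFree (f : X ⟶ Y)
    (hf : ∀ U : Y.Opens, Function.Bijective (f.app U)) (L : Y.Modules)
    (hL : FlatMod.IsFinLocFree L) :
    IsIso ((Scheme.Modules.pullbackPushforwardAdjunction f).unit.app L) := by
  rw [Scheme.Modules.Hom.isIso_iff_isIso_app]
  intro W
  apply app_isIso_of_stalkIso
  intro x _
  obtain ⟨U, n, hxU, ⟨e⟩⟩ := hL x
  have : IsIso ((Scheme.Modules.restrictFunctor U.ι).map
      ((Scheme.Modules.pullbackPushforwardAdjunction f).unit.app L)) := by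
    rw [isIso_restrict_iff]
    intro V hV
    exact isIso_unitApp_of_free f hf L U n e V hV
  exact stalkIso_of_isIso_restrict _ U x hxU

end Groth.Agent.Lib.Helper20.PullbackUnit
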