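import Groth.Agent.Lib.Helper12.FlatCx

/-!
# Helper library (helper20): linearity of the functors `T_p(M) = H_p(P ⊗_A M)`.
-/

set_option autoImplicit false

namespace Groth.Agent.Lib.Helper20

open CategoryTheory MonoidalCategory Groth.Agent.Lib.Helper12.FlatCx

universe u

variable {A : Type u} [CommRing A] {ι : Type} {c : ComplexShape ι}

theorem homologyMap_smul' {K L : HomologicalComplex (ModuleCat.{u} A) c} (φ : K ⟶ L) (a : A)
    (i : ι) :
    HomologicalComplex.homologyMap (a • φ) i = a • HomologicalComplex.homologyMap φ i := by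
  exact ShortComplex.homologyMap_smul
    ((HomologicalComplex.shortComplexFunctor (ModuleCat.{u} A) c i).map φ) a

theorem tensorMap_smul (P : HomologicalComplex (ModuleCat.{u} A) c) {M N : ModuleCat.{u} A}
    (g : M ⟶ N) (a : A) : CohIII.tensorMap P (a • g) = a • CohIII.tensorMap P g := by
  ext i : 1
  rw [tensorMap_f, MonoidalLinear.whiskerLeft_smul]
  rfl

theorem tensorMap_add (P : HomologicalComplex (ModuleCat.{u} A) c) {M N : ModuleCat.{u} A}
    (g h : M ⟶ N) : CohIII.tensorMap P (g + h) = CohIII.tensorMap P g + CohIII.tensorMap P h := by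
  ext i : 1
  rw [tensorMap_f, MonoidalPreadditive.whiskerLeft_add]
  rfl

theorem tensorMap_id (P : HomologicalComplex (ModuleCat.{u} A) c) (M : ModuleCat.{u} A) :
    CohIII.tensorMap P (𝟙 M) = 𝟙 (CohIII.tensorObj P M) := by
  ext i : 1
  rw [tensorMap_f, MonoidalCategory.whiskerLeft_id]
  rfl

theorem tensorMap_smul_id (P : HomologicalComplex (ModuleCat.{u} A) c) (M : ModuleCat.{u} A)
    (a : A) : CohIII.tensorMap P (a • 𝟙 M) = a • 𝟙 (CohIII.tensorObj P M) := by
  rw [tensorMap_smul, tensorMap_id]

instance TFun_additive (P : HomologicalComplex (ModuleCat.{u} A) c) (p : ι) :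
    (CohIII.TFun P p).Additive where
  map_add {M N g h} := by
    rw [TFun_map, TFun_map, TFun_map, tensorMap_add, HomologicalComplex.homologyMap_add]
    rfl

instance TFun_linear (P : HomologicalComplex (ModuleCat.{u} A) c) (p : ι) :
    (CohIII.TFun P p).Linear A where
  map_smul {M N} g a := by
    rw [TFun_map, TFun_map, tensorMap_smul, homologyMap_smul']
    rfl

theorem TFun_map_smul_id (P : HomologicalComplex (ModuleCat.{u} A) c) (p : ι)
    (M : ModuleCat.{u} A) (a : A) :
    (CohIII.TFun P p).map (a • 𝟙 M) = a • 𝟙 ((CohIII.TFun P p).obj M) := by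
  rw [Functor.map_smul, CategoryTheory.Functor.map_id]

/-- If `T_q` preserves monomorphisms and `f` is `M`-regular, then `f` is `T_q(M)`-regular. -/
theorem injective_smul_T (P : HomologicalComplex (ModuleCat.{u} A) c) (q : ι)
    (hq : (CohIII.TFun P q).PreservesMonomorphisms)
    (M : ModuleCat.{u} A) (f : A) (hf : Function.Injective (fun x : M => f • x)) :
    Function.Injective (fun y : CohIII.T P q M => f • y) := by
  have hmono : Mono (f • 𝟙 M) := by
    rw [ModuleCat.mono_iff_injective]
    exact hf
  have h2 : Mono ((CohIII.TFun P q).map (f • 𝟙 M)) := hq.preserves _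
  rw [TFun_map_smul_id, ModuleCat.mono_iff_injective] at h2
  exact h2

end Groth.Agent.Lib.Helper20
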