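import Mathlib

/-!
# Gluing morphisms defined on a family of open subschemes
-/

set_option autoImplicit false
universe u v
open CategoryTheory CategoryTheory.Limits AlgebraicGeometry

namespace Groth.Agent.Lib.Helper20.GlueOpens

variable {X Y : Scheme.{u}}

/-- morphisms out of a union of opens are determined by their restrictions -/
theorem hom_ext_iSup {J : Type v} (U : J → X.Opens)
    (k k' : ((⨆ i, U i : X.Opens) : Scheme.{u}) ⟶ Y)
    (h : ∀ i, X.homOfLE (le_iSup U i) ≫ k = X.homOfLE (le_iSup U i) ≫ k') : k = k' :=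
  (Scheme.Opens.iSupOpenCover U).hom_ext _ _ h

/-- Morphisms `f i : U i ⟶ Y` which agree on the pairwise intersections glue to a morphism on the
union. -/
theorem exists_glue {J : Type v} (U : J → X.Opens) (f : ∀ i, ((U i : X.Opens) : Scheme.{u}) ⟶ Y)
    (hf : ∀ i j, X.homOfLE (inf_le_left : U i ⊓ U j ≤ U i) ≫ f i =
      X.homOfLE (inf_le_right : U i ⊓ U j ≤ U j) ≫ f j) :
    ∃ g : ((⨆ i, U i : X.Opens) : Scheme.{u}) ⟶ Y, ∀ i, X.homOfLE (le_iSup U i) ≫ g = f i := by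
  refine ⟨(Scheme.Opens.iSupOpenCover U).glueMorphisms f ?_, fun i =>
    (Scheme.Opens.iSupOpenCover U).ι_glueMorphisms f _ i⟩
  intro i j
  change pullback.fst (X.homOfLE (le_iSup U i)) (X.homOfLE (le_iSup U j)) ≫ f i =
    pullback.snd (X.homOfLE (le_iSup U i)) (X.homOfLE (le_iSup U j)) ≫ f j
  set a := pullback.fst (X.homOfLE (le_iSup U i)) (X.homOfLE (le_iSup U j)) with ha
  set b := pullback.snd (X.homOfLE (le_iSup U i)) (X.homOfLE (le_iSup U j)) with hb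
  have hab : a ≫ (U i).ι = b ≫ (U j).ι := by
    have := pullback.condition (f := X.homOfLE (le_iSup U i)) (g := X.homOfLE (le_iSup U j))
    have h2 := congrArg (· ≫ (⨆ i, U i : X.Opens).ι) this
    simpa only [Category.assoc, Scheme.homOfLE_ι] using h2
  have hrange : Set.range (a ≫ (U i).ι) ⊆ Set.range (U i ⊓ U j).ι := by
    rw [Scheme.Opens.range_ι]
    rintro _ ⟨z, rfl⟩
    refine ⟨?_, ?_⟩
    · rw [Scheme.Hom.comp_apply]; exact (a z).2
    · rw [hab, Scheme.Hom.comp_apply]; exact (b z).2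
  let l := IsOpenImmersion.lift (U i ⊓ U j).ι (a ≫ (U i).ι) hrange
  have hl : l ≫ (U i ⊓ U j).ι = a ≫ (U i).ι := IsOpenImmersion.lift_fac _ _ _
  have h1 : l ≫ X.homOfLE (inf_le_left : U i ⊓ U j ≤ U i) = a := by
    rw [← cancel_mono (U i).ι, Category.assoc, Scheme.homOfLE_ι, hl]
  have h2 : l ≫ X.homOfLE (inf_le_right : U i ⊓ U j ≤ U j) = b := by
    rw [← cancel_mono (U j).ι, Category.assoc, Scheme.homOfLE_ι, hl, hab]
  rw [← h1, ← h2, Category.assoc, Category.assoc, hf i j]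

/-- gluing two morphisms -/
theorem exists_glue₂ (U V : X.Opens) (f : (U : Scheme.{u}) ⟶ Y) (g : (V : Scheme.{u}) ⟶ Y)
    (hfg : X.homOfLE (inf_le_left : U ⊓ V ≤ U) ≫ f = X.homOfLE (inf_le_right : U ⊓ V ≤ V) ≫ g) :
    ∃ (W : X.Opens) (hU : U ≤ W) (hV : V ≤ W) (k : (W : Scheme.{u}) ⟶ Y),
      X.homOfLE hU ≫ k = f ∧ X.homOfLE hV ≫ k = g ∧
      ∀ (Z : Scheme.{u}) (k₁ k₂ : (W : Scheme.{u}) ⟶ Z), X.homOfLE hU ≫ k₁ = X.homOfLE hU ≫ k₂ →
        X.homOfLE hV ≫ k₁ = X.homOfLE hV ≫ k₂ → k₁ = k₂ := by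
  let T : Bool → X.Opens := fun b => bif b then U else V
  let F : ∀ b, ((T b : X.Opens) : Scheme.{u}) ⟶ Y := fun b =>
    match b with
    | true => f
    | false => g
  have hself : ∀ (A : X.Opens) (r : (A : Scheme.{u}) ⟶ Y),
      X.homOfLE (inf_le_left : A ⊓ A ≤ A) ≫ r = X.homOfLE (inf_le_right : A ⊓ A ≤ A) ≫ r :=
    fun A r => rfl
  have hswap : X.homOfLE (inf_le_left : V ⊓ U ≤ V) ≫ g = X.homOfLE (inf_le_right : V ⊓ U ≤ U) ≫ f := by
    have e : V ⊓ U = U ⊓ V := inf_comm _ _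
    have h1 : X.homOfLE (inf_le_left : V ⊓ U ≤ V) =
        X.homOfLE (e.le) ≫ X.homOfLE (inf_le_right : U ⊓ V ≤ V) := by
      rw [Scheme.homOfLE_homOfLE]
    have h2 : X.homOfLE (inf_le_right : V ⊓ U ≤ U) =
        X.homOfLE (e.le) ≫ X.homOfLE (inf_le_left : U ⊓ V ≤ U) := by
      rw [Scheme.homOfLE_homOfLE]
    rw [h1, h2, Category.assoc, Category.assoc, hfg]
  obtain ⟨k, hk⟩ := exists_glue T F (by
    rintro (_ | _) (_ | _)
    · exact hself V g
    · exact hswap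
    · exact hfg
    · exact hself U f)
  refine ⟨⨆ b, T b, le_iSup T true, le_iSup T false, k, hk true, hk false, ?_⟩
  intro Z k₁ k₂ h1 h2
  apply hom_ext_iSup T
  rintro (_ | _)
  · exact h2
  · exact h1

end Groth.Agent.Lib.Helper20.GlueOpens
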