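/-
Helper20 library: membership in a Noetherian domain is detected at the primes of depth one.

* `depth_eq_one_of_mem_associatedPrimes_quotSMulTop` : `p ∈ Ass(A/sA)`, `s` a nonzero element of a
  Noetherian domain, implies `depth A_p = 1`.
* `exists_mul_eq_of_forall_depth_one` : for `f ∈ Frac A` and a prime `q`, if `f ∈ A_p` for all primes
  `p ≤ q` with `depth A_p = 1` then `f ∈ A_q`.
* `exists_algebraMap_eq_of_forall_depth_one` : the same for the local rings of an integral locally
  Noetherian scheme inside its function field.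
-/
import Groth.Agent.Lib.Helper29.DepthLoc2
import Groth.Agent.Lib.Helper29.DepthSelf
import Groth.Agent.Lib.Helper29.DepthQuot
import Mathlib.RingTheory.Ideal.AssociatedPrime.Localization
import Mathlib.AlgebraicGeometry.FunctionField
import Mathlib.AlgebraicGeometry.Noetherian

set_option autoImplicit false
universe u

namespace Groth.Agent.Lib.Helper20.DepthOne

open Groth.Agent.Lib.Helper29
open scoped Pointwise

section Algebra

variable {A : Type u} [CommRing A] [IsDomain A] [IsNoetherianRing A]

theorem depth_eq_one_of_mem_associatedPrimes_quotSMulTop {s : A} (hs : s ≠ 0) (p : Ideal A)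
    [p.IsPrime] (hp : p ∈ associatedPrimes A (QuotSMulTop s A)) (hsp : s ∈ p) :
    LocCoh.depth (Localization.AtPrime p) (Localization.AtPrime p) = 1 := by
  have hreg : IsSMulRegular A s := (IsRegular.of_ne_zero hs).left.isSMulRegular
  have h0 := depth_localizedModule_eq_zero_of_mem_associatedPrimes A (QuotSMulTop s A) p hp
  have h1 := depth_localizedModule_quotSMulTop_add_one A p A hsp hreg
  rw [h0, zero_add, depth_localizedModule_self] at h1
  exact h1.symm

variable {K : Type u} [Field K] [Algebra A K] [IsFractionRing A K]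

theorem exists_mul_eq_of_forall_depth_one (f : K) (q : Ideal A) [q.IsPrime]
    (h : ∀ (p : Ideal A) [p.IsPrime], p ≤ q →
      LocCoh.depth (Localization.AtPrime p) (Localization.AtPrime p) = 1 →
      ∃ t ∉ p, ∃ a : A, f * algebraMap A K t = algebraMap A K a) :
    ∃ t ∉ q, ∃ a : A, f * algebraMap A K t = algebraMap A K a := by
  obtain ⟨c, s, hs0, hfs⟩ : ∃ c s : A, s ≠ 0 ∧ f * algebraMap A K s = algebraMap A K c := by
    obtain ⟨c, s, rfl⟩ := IsLocalization.exists_mk'_eq (nonZeroDivisors A) f
    exact ⟨c, s, nonZeroDivisors.ne_zero s.2, IsLocalization.mk'_spec K c s⟩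
  have hsK : algebraMap A K s ≠ 0 := by
    rwa [Ne, map_eq_zero_iff _ (IsFractionRing.injective A K)]
  let x : QuotSMulTop s A := Submodule.Quotient.mk c
  let N : Submodule A (QuotSMulTop s A) := Submodule.span A {x}
  let I : Ideal A := Module.annihilator A N
  have hI : ∀ a : A, a ∈ I ↔ ∃ e : A, f * algebraMap A K a = algebraMap A K e := by
    intro a
    have h1 : a ∈ I ↔ a • x = 0 := Submodule.mem_annihilator_span_singleton x a
    rw [h1]
    have h2 : a • x = 0 ↔ a * c ∈ s • (⊤ : Submodule A A) := by
      change Submodule.Quotient.mk (a • c) = 0 ↔ _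
      rw [Submodule.Quotient.mk_eq_zero, smul_eq_mul]
    rw [h2, Submodule.mem_smul_pointwise_iff_exists]
    constructor
    · rintro ⟨e, -, he⟩
      refine ⟨e, ?_⟩
      have : algebraMap A K s * (f * algebraMap A K a) = algebraMap A K s * algebraMap A K e := by
        rw [← map_mul, ← smul_eq_mul (a := s), he, map_mul]
        rw [← hfs]; ring
      exact mul_left_cancel₀ hsK this
    · rintro ⟨e, he⟩
      refine ⟨e, trivial, ?_⟩
      apply IsFractionRing.injective A K
      rw [smul_eq_mul, map_mul, map_mul, ← he, ← hfs]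
      ring
  by_cases hIq : I ≤ q
  · exfalso
    obtain ⟨p, hp, hpq⟩ := Ideal.exists_minimalPrimes_le hIq
    have hpprime : p.IsPrime := hp.1.1
    have hIp : I ≤ p := hp.1.2
    have hfin : Module.Finite A N := Module.Finite.span_singleton A x
    have hpN : p ∈ associatedPrimes A N :=
      Module.associatedPrimes.minimalPrimes_annihilator_subset_associatedPrimes A N hp
    have hpM : p ∈ associatedPrimes A (QuotSMulTop s A) :=
      associatedPrimes.subset_of_injective (f := N.subtype) N.injective_subtype hpN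
    have hsI : s ∈ I := by
      rw [hI]
      exact ⟨c, hfs⟩
    have hd := depth_eq_one_of_mem_associatedPrimes_quotSMulTop hs0 p hpM (hIp hsI)
    obtain ⟨t, htp, a, hta⟩ := h p hpq hd
    exact htp (hIp ((hI t).mpr ⟨a, hta⟩))
  · obtain ⟨t, htI, htq⟩ := Set.not_subset.mp hIq
    obtain ⟨a, hta⟩ := (hI t).mp htI
    exact ⟨t, htq, a, hta⟩

end Algebra

section Scheme

open AlgebraicGeometry CategoryTheory

variable {X : Scheme.{u}} [IsIntegral X] [IsLocallyNoetherian X]

/-- A rational function lying in the local rings at all generizations of depth one of `x`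
lies in the local ring at `x`. -/
theorem exists_algebraMap_eq_of_forall_depth_one (x : X) (f : X.functionField)
    (h : ∀ y : X, y ⤳ x → LocCoh.depth (X.presheaf.stalk y) (X.presheaf.stalk y) = 1 →
      ∃ a : X.presheaf.stalk y, algebraMap (X.presheaf.stalk y) X.functionField a = f) :
    ∃ a : X.presheaf.stalk x, algebraMap (X.presheaf.stalk x) X.functionField a = f := by
  obtain ⟨U, hU, hxU⟩ : ∃ U : X.Opens, IsAffineOpen U ∧ x ∈ U := by
    obtain ⟨_, ⟨U, hU, rfl⟩, hxU, -⟩ :=
      X.isBasis_affineOpens.exists_subset_of_mem_open (Set.mem_univ x) isOpen_univ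
    exact ⟨U, hU, hxU⟩
  have hne : Nonempty U := ⟨⟨x, hxU⟩⟩
  have hN : IsNoetherianRing Γ(X, U) := IsLocallyNoetherian.component_noetherian ⟨U, hU⟩
  have hfr : IsFractionRing Γ(X, U) X.functionField :=
    functionField_isFractionRing_of_isAffineOpen X U hU
  let q := hU.primeIdealOf ⟨x, hxU⟩
  obtain ⟨t, htq, a, hta⟩ := exists_mul_eq_of_forall_depth_one (A := Γ(X, U))
    (K := X.functionField) f q.asIdeal (by
    intro p _ hpq hd
    let y' : PrimeSpectrum Γ(X, U) := ⟨p, inferInstance⟩
    have hyU : hU.fromSpec y' ∈ U := by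
      have h0 : hU.fromSpec y' ∈ hU.fromSpec.opensRange := ⟨y', rfl⟩
      rwa [hU.opensRange_fromSpec] at h0
    letI : Algebra Γ(X, U) (X.presheaf.stalk (hU.fromSpec y')) :=
      TopCat.Presheaf.algebra_section_stalk X.presheaf ⟨hU.fromSpec y', hyU⟩
    have hloc : IsLocalization.AtPrime (X.presheaf.stalk (hU.fromSpec y')) p :=
      hU.isLocalization_stalk' y' hyU
    have hyx : hU.fromSpec y' ⤳ x := by
      have h1 : y' ⤳ q := (PrimeSpectrum.le_iff_specializes y' q).mp hpq
      have h2 := h1.map hU.fromSpec.continuous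
      rwa [hU.fromSpec_primeIdealOf] at h2
    have hdy : LocCoh.depth (X.presheaf.stalk (hU.fromSpec y'))
        (X.presheaf.stalk (hU.fromSpec y')) = 1 := by
      rw [← hd]
      symm
      exact depth_self_eq_of_ringEquiv (IsLocalization.algEquiv p.primeCompl
        (Localization.AtPrime p) (X.presheaf.stalk (hU.fromSpec y'))).toRingEquiv
    obtain ⟨b, hb⟩ := h _ hyx hdy
    obtain ⟨⟨a, t⟩, hat⟩ := IsLocalization.surj p.primeCompl b
    refine ⟨t.1, t.2, a, ?_⟩
    have hst : IsScalarTower Γ(X, U) (X.presheaf.stalk (hU.fromSpec y')) X.functionField :=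
      functionField_isScalarTower X U ⟨hU.fromSpec y', hyU⟩
    rw [← hb, IsScalarTower.algebraMap_apply Γ(X, U) (X.presheaf.stalk (hU.fromSpec y'))
      X.functionField, IsScalarTower.algebraMap_apply Γ(X, U)
      (X.presheaf.stalk (hU.fromSpec y')) X.functionField, ← map_mul]
    exact congrArg _ hat)
  letI : Algebra Γ(X, U) (X.presheaf.stalk x) :=
    TopCat.Presheaf.algebra_section_stalk X.presheaf ⟨x, hxU⟩
  have hloc : IsLocalization.AtPrime (X.presheaf.stalk x) q.asIdeal :=
    hU.isLocalization_stalk ⟨x, hxU⟩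
  have hu : IsUnit (algebraMap Γ(X, U) (X.presheaf.stalk x) t) :=
    IsLocalization.map_units (M := q.asIdeal.primeCompl) (X.presheaf.stalk x) ⟨t, htq⟩
  refine ⟨algebraMap Γ(X, U) (X.presheaf.stalk x) a * hu.unit⁻¹.1, ?_⟩
  have hst : IsScalarTower Γ(X, U) (X.presheaf.stalk x) X.functionField :=
    functionField_isScalarTower X U ⟨x, hxU⟩
  have htK : algebraMap Γ(X, U) X.functionField t ≠ 0 := by
    rw [Ne, map_eq_zero_iff _ (IsFractionRing.injective Γ(X, U) X.functionField)]
    rintro rfl
    exact htq (zero_mem _)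
  rw [map_mul, ← IsScalarTower.algebraMap_apply, ← hta]
  have h3 : algebraMap (X.presheaf.stalk x) X.functionField (hu.unit⁻¹.1) *
      algebraMap Γ(X, U) X.functionField t = 1 := by
    rw [IsScalarTower.algebraMap_apply Γ(X, U) (X.presheaf.stalk x) X.functionField, ← map_mul]
    have h4 : (hu.unit⁻¹.1) * algebraMap Γ(X, U) (X.presheaf.stalk x) t = 1 :=
      hu.val_inv_mul
    rw [h4, map_one]
  rw [mul_assoc, mul_comm (algebraMap Γ(X, U) X.functionField t), h3, mul_one]

end Scheme

end Groth.Agent.Lib.Helper20.DepthOne
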