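import Groth.Agent.Lib.Helper20.TFun

/-!
# Helper library (helper20): `T_p ≅ H_p(P) ⊗ -` when the next opcycles are flat.

Let `P` be a complex of flat `A`-modules, `c.Rel p n`, and suppose `P.opcycles n` is flat
(equivalently `T_p` preserves epimorphisms).  Then `T_p(M) = H_p(P ⊗ M) ≅ H_p(P) ⊗ M`,
naturally in `M`.
-/

set_option autoImplicit false

namespace Groth.Agent.Lib.Helper20

open CategoryTheory CategoryTheory.Limits MonoidalCategory Groth.Agent.Lib.Helper12.FlatCx
open TensorProduct

universe u

section LinAlg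

variable {R : Type u} [CommRing R]

/-- The kernel of a surjection between flat modules is flat. -/
theorem flat_ker_of_surjective {F C : Type u} [AddCommGroup F] [Module R F] [AddCommGroup C]
    [Module R C] [Module.Flat R F] [Module.Flat R C] (π : F →ₗ[R] C)
    (hπ : Function.Surjective π) : Module.Flat R (LinearMap.ker π) := by
  rw [Module.Flat.iff_lTensor_preserves_injective_linearMap'.{u}]
  intro N N' _ _ _ _ j hj
  have h1 : Function.Injective ((LinearMap.ker π).subtype.rTensor N) := by
    rw [← LinearMap.lTensor_inj_iff_rTensor_inj]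
    exact LinearMap.lTensor_injective_of_exact_of_flat π hπ _ (LinearMap.ker π).injective_subtype
      (LinearMap.exact_subtype_ker_map π) N
  have h2 : Function.Injective (j.lTensor F) :=
    Module.Flat.lTensor_preserves_injective_linearMap j hj
  have h3 : (LinearMap.ker π).subtype.rTensor N' ∘ₗ j.lTensor (LinearMap.ker π) =
      j.lTensor F ∘ₗ (LinearMap.ker π).subtype.rTensor N := by
    rw [LinearMap.rTensor_comp_lTensor, LinearMap.lTensor_comp_rTensor]
  have h4 : Function.Injective
      ((LinearMap.ker π).subtype.rTensor N' ∘ₗ j.lTensor (LinearMap.ker π)) := by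
    rw [h3]
    exact h2.comp h1
  exact Function.Injective.of_comp h4

/-- Let `H --ι--> C --f--> F --π--> D → 0` be exact with `ι` injective, `π` surjective and `F`, `D`
flat.  Then for every `M`, the sequence `0 → H ⊗ M → C ⊗ M → F ⊗ M` is exact. -/
theorem rTensor_exact_of_flat_coker {H C F D : Type u} [AddCommGroup H] [Module R H]
    [AddCommGroup C] [Module R C] [AddCommGroup F] [Module R F] [AddCommGroup D] [Module R D]
    [Module.Flat R F] [Module.Flat R D]
    (ι : H →ₗ[R] C) (f : C →ₗ[R] F) (π : F →ₗ[R] D)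
    (hι : Function.Injective ι) (hιf : Function.Exact ι f) (hfπ : Function.Exact f π)
    (hπ : Function.Surjective π) (M : Type u) [AddCommGroup M] [Module R M] :
    Function.Injective (ι.rTensor M) ∧ Function.Exact (ι.rTensor M) (f.rTensor M) := by
  -- `B = ker π = range f`
  have hB : Module.Flat R (LinearMap.ker π) := flat_ker_of_surjective π hπ
  let f' : C →ₗ[R] LinearMap.ker π :=
    LinearMap.codRestrict (LinearMap.ker π) f (fun c => by
      rw [LinearMap.mem_ker]
      exact hfπ.apply_apply_eq_zero c)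
  have hf' : (LinearMap.ker π).subtype ∘ₗ f' = f := LinearMap.subtype_comp_codRestrict _ _ _
  have hf'surj : Function.Surjective f' := by
    rintro ⟨y, hy⟩
    rw [LinearMap.mem_ker] at hy
    obtain ⟨c, hc⟩ := (hfπ y).mp hy
    exact ⟨c, Subtype.ext hc⟩
  have hιf' : Function.Exact ι f' := by
    intro c
    rw [← hιf c]
    constructor
    · intro h
      have := congrArg (LinearMap.ker π).subtype h
      simpa [f'] using this
    · intro h
      exact Subtype.ext h
  have h1 : Function.Injective ((LinearMap.ker π).subtype.rTensor M) := by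
    rw [← LinearMap.lTensor_inj_iff_rTensor_inj]
    exact LinearMap.lTensor_injective_of_exact_of_flat π hπ _ (LinearMap.ker π).injective_subtype
      (LinearMap.exact_subtype_ker_map π) M
  constructor
  · rw [← LinearMap.lTensor_inj_iff_rTensor_inj]
    exact LinearMap.lTensor_injective_of_exact_of_flat f' hf'surj ι hι hιf' M
  · have hex : Function.Exact (ι.rTensor M) (f'.rTensor M) := rTensor_exact M hιf' hf'surj
    intro z
    rw [← hex z, ← hf', LinearMap.rTensor_comp, LinearMap.comp_apply]
    constructor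
    · intro h
      apply h1
      rw [h, map_zero]
    · intro h
      rw [h, map_zero]

end LinAlg

section Iso

variable {A : Type u} [CommRing A] {ι : Type} {c : ComplexShape ι}
variable (P : HomologicalComplex (ModuleCat.{u} A) c) (p n : ι)

lemma fromOpcycles_tensorObj (M : ModuleCat.{u} A) :
    (CohIII.tensorObj P M).fromOpcycles p n =
      (opcyclesTensorIso P p M).hom ≫ (P.fromOpcycles p n ▷ M) := by
  apply (cancel_epi ((CohIII.tensorObj P M).pOpcycles p)).mp
  have h1 := (CohIII.tensorObj P M).p_fromOpcycles p n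
  have h2 := pOpcycles_opcyclesTensorIso_hom_assoc P p M (P.fromOpcycles p n ▷ M)
  have h3 : P.pOpcycles p ▷ M ≫ P.fromOpcycles p n ▷ M = P.d p n ▷ M := by
    rw [← MonoidalCategory.comp_whiskerRight, HomologicalComplex.p_fromOpcycles]
  exact h1.trans ((tensorObj_d P M p n).trans (h3.symm.trans h2.symm))

variable {p n}

/-- Exactness data for `0 → H_p ⊗ M → Z'_p ⊗ M → P_n ⊗ M`. -/
theorem tensor_homologyι_exact (hP : ∀ i, Module.Flat A (P.X i)) (hpn : c.Rel p n)
    (hflat : Module.Flat A (P.opcycles n)) (M : ModuleCat.{u} A) :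
    Mono (P.homologyι p ▷ M) ∧
      (ShortComplex.mk (P.homologyι p ▷ M) (P.fromOpcycles p n ▷ M) (by
        rw [← MonoidalCategory.comp_whiskerRight, P.homologyι_comp_fromOpcycles,
          MonoidalPreadditive.zero_whiskerRight])).Exact := by
  have hιinj : Function.Injective (P.homologyι p).hom :=
    (ModuleCat.mono_iff_injective _).mp inferInstance
  have hιf : Function.Exact (P.homologyι p).hom (P.fromOpcycles p n).hom := by
    have hex : (ShortComplex.mk (P.homologyι p) (P.fromOpcycles p n)
        (P.homologyι_comp_fromOpcycles p n)).Exact :=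
      ShortComplex.exact_of_f_is_kernel _ (P.homologyIsKernel p n (c.next_eq' hpn))
    exact (ShortComplex.ShortExact.moduleCat_exact_iff_function_exact _).mp hex
  have hπsurj : Function.Surjective (P.pOpcycles n).hom :=
    (ModuleCat.epi_iff_surjective _).mp inferInstance
  have hfπ : Function.Exact (P.fromOpcycles p n).hom (P.pOpcycles n).hom := by
    have hex : (ShortComplex.mk (P.d p n) (P.pOpcycles n) (P.d_pOpcycles p n)).Exact :=
      ShortComplex.exact_of_g_is_cokernel _ (P.opcyclesIsCokernel p n (c.prev_eq' hpn))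
    have hex' := (ShortComplex.ShortExact.moduleCat_exact_iff_function_exact _).mp hex
    have hsurj : Function.Surjective (P.pOpcycles p).hom :=
      (ModuleCat.epi_iff_surjective _).mp inferInstance
    intro y
    rw [hex' y]
    constructor
    · rintro ⟨x, hx⟩
      refine ⟨(P.pOpcycles p).hom x, ?_⟩
      rw [← hx]
      exact congrArg (fun φ : P.X p ⟶ P.X n => φ.hom x) (P.p_fromOpcycles p n)
    · rintro ⟨z, hz⟩
      obtain ⟨x, rfl⟩ := hsurj z
      refine ⟨x, ?_⟩
      rw [← hz]
      exact (congrArg (fun φ : P.X p ⟶ P.X n => φ.hom x) (P.p_fromOpcycles p n)).symm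
  have := hP n
  obtain ⟨h1, h2⟩ := rTensor_exact_of_flat_coker (P.homologyι p).hom (P.fromOpcycles p n).hom
    (P.pOpcycles n).hom hιinj hιf hfπ hπsurj M
  constructor
  · rw [ModuleCat.mono_iff_injective]
    exact h1
  · rw [ShortComplex.ShortExact.moduleCat_exact_iff_function_exact]
    exact h2

section Construction

variable (hP : ∀ i, Module.Flat A (P.X i)) (hpn : c.Rel p n)
  (hflat : Module.Flat A (P.opcycles n))

lemma whisker_homologyι_comp_fromOpcycles (M : ModuleCat.{u} A) :
    P.homologyι p ▷ M ≫ P.fromOpcycles p n ▷ M = 0 := by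
  rw [← MonoidalCategory.comp_whiskerRight, P.homologyι_comp_fromOpcycles,
    MonoidalPreadditive.zero_whiskerRight]

include hP hpn hflat in
lemma mono_whisker_homologyι (M : ModuleCat.{u} A) : Mono (P.homologyι p ▷ M) :=
  (tensor_homologyι_exact P hP hpn hflat M).1

/-- `H_p(P) ⊗ M` is the kernel of `Z'_p(P) ⊗ M → P_n ⊗ M`. -/
noncomputable def tensorKernelIsLimit (M : ModuleCat.{u} A) :
    IsLimit (KernelFork.ofι (P.homologyι p ▷ M)
      (whisker_homologyι_comp_fromOpcycles P (n := n) M)) := by
  have h := tensor_homologyι_exact P hP hpn hflat M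
  haveI : Mono (ShortComplex.mk (P.homologyι p ▷ M) (P.fromOpcycles p n ▷ M)
    (whisker_homologyι_comp_fromOpcycles P M)).f := h.1
  exact h.2.fIsKernel

lemma homologyι_iso_comp (M : ModuleCat.{u} A) :
    ((CohIII.tensorObj P M).homologyι p ≫ (opcyclesTensorIso P p M).hom) ≫
      P.fromOpcycles p n ▷ M = 0 := by
  have h := (CohIII.tensorObj P M).homologyι_comp_fromOpcycles p n
  rw [fromOpcycles_tensorObj] at h
  rw [Category.assoc]
  exact h

lemma whisker_inv_comp (M : ModuleCat.{u} A) :
    (P.homologyι p ▷ M ≫ (opcyclesTensorIso P p M).inv) ≫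
      (CohIII.tensorObj P M).fromOpcycles p n = 0 := by
  rw [fromOpcycles_tensorObj, Category.assoc]
  have h : (opcyclesTensorIso P p M).inv ≫ (opcyclesTensorIso P p M).hom ≫
      P.fromOpcycles p n ▷ M = P.fromOpcycles p n ▷ M := Iso.inv_hom_id_assoc _ _
  exact (congrArg (fun k => P.homologyι p ▷ M ≫ k) h).trans
    (whisker_homologyι_comp_fromOpcycles P M)

/-- The comparison map `H_p(P ⊗ M) ⟶ H_p(P) ⊗ M`. -/
noncomputable def tensorIsoHom (M : ModuleCat.{u} A) :
    (CohIII.tensorObj P M).homology p ⟶ P.homology p ⊗ M :=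
  (KernelFork.IsLimit.lift' (tensorKernelIsLimit P hP hpn hflat M)
    ((CohIII.tensorObj P M).homologyι p ≫ (opcyclesTensorIso P p M).hom)
    (homologyι_iso_comp P M)).1

lemma tensorIsoHom_comp (M : ModuleCat.{u} A) :
    tensorIsoHom P hP hpn hflat M ≫ P.homologyι p ▷ M =
      (CohIII.tensorObj P M).homologyι p ≫ (opcyclesTensorIso P p M).hom :=
  (KernelFork.IsLimit.lift' (tensorKernelIsLimit P hP hpn hflat M)
    ((CohIII.tensorObj P M).homologyι p ≫ (opcyclesTensorIso P p M).hom)
    (homologyι_iso_comp P M)).2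

/-- The comparison map `H_p(P) ⊗ M ⟶ H_p(P ⊗ M)`. -/
noncomputable def tensorIsoInv (M : ModuleCat.{u} A) :
    P.homology p ⊗ M ⟶ (CohIII.tensorObj P M).homology p :=
  (KernelFork.IsLimit.lift' ((CohIII.tensorObj P M).homologyIsKernel p n (c.next_eq' hpn))
    (P.homologyι p ▷ M ≫ (opcyclesTensorIso P p M).inv) (whisker_inv_comp P M)).1

lemma tensorIsoInv_comp (M : ModuleCat.{u} A) :
    tensorIsoInv P hpn M ≫ (CohIII.tensorObj P M).homologyι p =
      P.homologyι p ▷ M ≫ (opcyclesTensorIso P p M).inv :=
  (KernelFork.IsLimit.lift' ((CohIII.tensorObj P M).homologyIsKernel p n (c.next_eq' hpn))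
    (P.homologyι p ▷ M ≫ (opcyclesTensorIso P p M).inv) (whisker_inv_comp P M)).2

/-- `H_p(P ⊗ M) ≅ H_p(P) ⊗ M`. -/
noncomputable def tensorIsoApp (M : ModuleCat.{u} A) :
    (CohIII.tensorObj P M).homology p ≅ P.homology p ⊗ M where
  hom := tensorIsoHom P hP hpn hflat M
  inv := tensorIsoInv P hpn M
  hom_inv_id := by
    have : Mono ((CohIII.tensorObj P M).homologyι p) := inferInstance
    apply (cancel_mono ((CohIII.tensorObj P M).homologyι p)).mp
    have h1 := tensorIsoInv_comp P hpn M
    have h2 := tensorIsoHom_comp P hP hpn hflat M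
    calc (tensorIsoHom P hP hpn hflat M ≫ tensorIsoInv P hpn M) ≫
          (CohIII.tensorObj P M).homologyι p
        = tensorIsoHom P hP hpn hflat M ≫ (tensorIsoInv P hpn M ≫
          (CohIII.tensorObj P M).homologyι p) := Category.assoc _ _ _
      _ = tensorIsoHom P hP hpn hflat M ≫ (P.homologyι p ▷ M ≫
          (opcyclesTensorIso P p M).inv) := by rw [h1]
      _ = (tensorIsoHom P hP hpn hflat M ≫ P.homologyι p ▷ M) ≫
          (opcyclesTensorIso P p M).inv := (Category.assoc _ _ _).symm
      _ = ((CohIII.tensorObj P M).homologyι p ≫ (opcyclesTensorIso P p M).hom) ≫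
          (opcyclesTensorIso P p M).inv := by rw [h2]
      _ = (CohIII.tensorObj P M).homologyι p := by
          rw [Category.assoc, Iso.hom_inv_id, Category.comp_id]
      _ = 𝟙 _ ≫ (CohIII.tensorObj P M).homologyι p := (Category.id_comp _).symm
  inv_hom_id := by
    have := mono_whisker_homologyι P hP hpn hflat M
    apply (cancel_mono (P.homologyι p ▷ M)).mp
    have h1 := tensorIsoInv_comp P hpn M
    have h2 := tensorIsoHom_comp P hP hpn hflat M
    calc (tensorIsoInv P hpn M ≫ tensorIsoHom P hP hpn hflat M) ≫ P.homologyι p ▷ M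
        = tensorIsoInv P hpn M ≫ (tensorIsoHom P hP hpn hflat M ≫ P.homologyι p ▷ M) :=
          Category.assoc _ _ _
      _ = tensorIsoInv P hpn M ≫ ((CohIII.tensorObj P M).homologyι p ≫
          (opcyclesTensorIso P p M).hom) := by rw [h2]
      _ = (tensorIsoInv P hpn M ≫ (CohIII.tensorObj P M).homologyι p) ≫
          (opcyclesTensorIso P p M).hom := (Category.assoc _ _ _).symm
      _ = (P.homologyι p ▷ M ≫ (opcyclesTensorIso P p M).inv) ≫
          (opcyclesTensorIso P p M).hom := by rw [h1]
      _ = P.homologyι p ▷ M := by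
          rw [Category.assoc, Iso.inv_hom_id, Category.comp_id]
      _ = 𝟙 _ ≫ P.homologyι p ▷ M := (Category.id_comp _).symm

lemma tensorIsoHom_naturality {M N : ModuleCat.{u} A} (g : M ⟶ N) :
    HomologicalComplex.homologyMap (CohIII.tensorMap P g) p ≫ tensorIsoHom P hP hpn hflat N =
      tensorIsoHom P hP hpn hflat M ≫ P.homology p ◁ g := by
  have := mono_whisker_homologyι P hP hpn hflat N
  apply (cancel_mono (P.homologyι p ▷ N)).mp
  have h1 := tensorIsoHom_comp P hP hpn hflat M
  have h2 := tensorIsoHom_comp P hP hpn hflat N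
  have h3 := opcyclesTensorIso_hom_naturality P p g
  have h4 := HomologicalComplex.homologyι_naturality (CohIII.tensorMap P g) p
  have h5 : P.homology p ◁ g ≫ P.homologyι p ▷ N = P.homologyι p ▷ M ≫ P.opcycles p ◁ g :=
    whisker_exchange _ _
  calc (HomologicalComplex.homologyMap (CohIII.tensorMap P g) p ≫
        tensorIsoHom P hP hpn hflat N) ≫ P.homologyι p ▷ N
      = HomologicalComplex.homologyMap (CohIII.tensorMap P g) p ≫
          (tensorIsoHom P hP hpn hflat N ≫ P.homologyι p ▷ N) := Category.assoc _ _ _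
    _ = HomologicalComplex.homologyMap (CohIII.tensorMap P g) p ≫
          ((CohIII.tensorObj P N).homologyι p ≫ (opcyclesTensorIso P p N).hom) := by rw [h2]
    _ = (HomologicalComplex.homologyMap (CohIII.tensorMap P g) p ≫
          (CohIII.tensorObj P N).homologyι p) ≫ (opcyclesTensorIso P p N).hom :=
        (Category.assoc _ _ _).symm
    _ = ((CohIII.tensorObj P M).homologyι p ≫
          HomologicalComplex.opcyclesMap (CohIII.tensorMap P g) p) ≫
          (opcyclesTensorIso P p N).hom := by rw [h4]
    _ = (CohIII.tensorObj P M).homologyι p ≫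
          (HomologicalComplex.opcyclesMap (CohIII.tensorMap P g) p ≫
          (opcyclesTensorIso P p N).hom) := Category.assoc _ _ _
    _ = (CohIII.tensorObj P M).homologyι p ≫
          ((opcyclesTensorIso P p M).hom ≫ P.opcycles p ◁ g) := by rw [h3]
    _ = ((CohIII.tensorObj P M).homologyι p ≫ (opcyclesTensorIso P p M).hom) ≫
          P.opcycles p ◁ g := (Category.assoc _ _ _).symm
    _ = (tensorIsoHom P hP hpn hflat M ≫ P.homologyι p ▷ M) ≫ P.opcycles p ◁ g := by rw [h1]
    _ = tensorIsoHom P hP hpn hflat M ≫ (P.homologyι p ▷ M ≫ P.opcycles p ◁ g) :=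
        Category.assoc _ _ _
    _ = tensorIsoHom P hP hpn hflat M ≫ (P.homology p ◁ g ≫ P.homologyι p ▷ N) := by rw [h5]
    _ = (tensorIsoHom P hP hpn hflat M ≫ P.homology p ◁ g) ≫ P.homologyι p ▷ N :=
        (Category.assoc _ _ _).symm

/-- **Main result.** If `c.Rel p n` and `Z'_n(P)` is flat (i.e. `T_p` preserves epimorphisms), then
`T_p ≅ H_p(P) ⊗ -`. -/
noncomputable def tensorIso : CohIII.TFun P p ≅ tensorLeft (P.homology p) :=
  NatIso.ofComponents (fun M => (tensorIsoApp P hP hpn hflat M :
      (CohIII.TFun P p).obj M ≅ (tensorLeft (P.homology p)).obj M))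
    (fun g => tensorIsoHom_naturality P hP hpn hflat g)

end Construction

end Iso

section TensorLeft

variable {A : Type u} [CommRing A]

theorem tensorLeft_preservesMono_iff_flat (N : ModuleCat.{u} A) :
    (tensorLeft N).PreservesMonomorphisms ↔ Module.Flat A N := by
  constructor
  · intro h
    rw [Module.Flat.iff_lTensor_preserves_injective_linearMap'.{u}]
    intro N' N'' _ _ _ _ f hf
    have hm : Mono (ModuleCat.ofHom f) := (ModuleCat.mono_iff_injective _).mpr hf
    have : Mono ((tensorLeft N).map (ModuleCat.ofHom f)) := h.preserves _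
    exact (mono_whiskerLeft_iff N (ModuleCat.ofHom f)).mp this
  · intro h
    refine ⟨fun {M M'} f hf => ?_⟩
    have hinj := (ModuleCat.mono_iff_injective _).mp hf
    exact (mono_whiskerLeft_iff N f).mpr
      (Module.Flat.lTensor_preserves_injective_linearMap _ hinj)

theorem tensorLeft_preservesEpi (N : ModuleCat.{u} A) :
    (tensorLeft N).PreservesEpimorphisms := by
  refine ⟨fun {M M'} f hf => ?_⟩
  have hsurj := (ModuleCat.epi_iff_surjective _).mp hf
  rw [ModuleCat.epi_iff_surjective]
  show Function.Surjective (N ◁ f).hom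
  rw [ModuleCat.hom_whiskerLeft]
  exact LinearMap.lTensor_surjective _ hsurj

end TensorLeft

section Characterisations

variable {A : Type u} [CommRing A] {ι : Type} {c : ComplexShape ι}

/-- `T_p` preserves epimorphisms iff it is isomorphic to some `N ⊗ -`. -/
theorem preservesEpi_iff_exists_tensorIso (P : HomologicalComplex (ModuleCat.{u} A) c)
    (hP : ∀ i, Module.Flat A (P.X i)) {p n : ι} (hpn : c.Rel p n) :
    (CohIII.TFun P p).PreservesEpimorphisms ↔
      ∃ N : ModuleCat.{u} A, Nonempty (CohIII.TFun P p ≅ tensorLeft N) := by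
  constructor
  · intro h
    have hflat : Module.Flat A (P.opcycles n) := by
      rw [← preservesMono_iff_flat_opcycles P n hP,
        ← preservesEpi_iff_preservesMono_of_rel P hP p n hpn]
      exact h
    exact ⟨P.homology p, ⟨tensorIso P hP hpn hflat⟩⟩
  · rintro ⟨N, ⟨e⟩⟩
    rw [Functor.PreservesEpimorphisms.iso_iff e]
    exact tensorLeft_preservesEpi N

/-- `T_p` preserves monomorphisms and epimorphisms iff it is isomorphic to `N ⊗ -` with `N` flat. -/
theorem preservesMonoEpi_iff_exists_flat_tensorIso (P : HomologicalComplex (ModuleCat.{u} A) c)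
    (hP : ∀ i, Module.Flat A (P.X i)) {p n : ι} (hpn : c.Rel p n) :
    ((CohIII.TFun P p).PreservesMonomorphisms ∧ (CohIII.TFun P p).PreservesEpimorphisms) ↔
      ∃ N : ModuleCat.{u} A, Module.Flat A N ∧ Nonempty (CohIII.TFun P p ≅ tensorLeft N) := by
  constructor
  · rintro ⟨hm, he⟩
    obtain ⟨N, ⟨e⟩⟩ := (preservesEpi_iff_exists_tensorIso P hP hpn).mp he
    refine ⟨N, ?_, ⟨e⟩⟩
    rw [← tensorLeft_preservesMono_iff_flat, ← Functor.PreservesMonomorphisms.iso_iff e]
    exact hm
  · rintro ⟨N, hN, ⟨e⟩⟩
    rw [Functor.PreservesMonomorphisms.iso_iff e, Functor.PreservesEpimorphisms.iso_iff e]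
    exact ⟨(tensorLeft_preservesMono_iff_flat N).mpr hN, tensorLeft_preservesEpi N⟩

end Characterisations

end Groth.Agent.Lib.Helper20
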