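import Groth.Agent.Lib.Helper12.FlatCxRank4
import Groth.Agent.Lib.Helper20.TFunTensorIso

/-!
# Helper library (helper20): base change of homology when the next opcycles are flat.

If `c.Rel p n` and `Z'_n(P)` and `P_n` are flat, then for every `A`-algebra `S`,
`H_p(S ⊗_A P) ≃ₗ[S] S ⊗_A H_p(P)`; hence `dRank P p x = fd (H_p P) x`.
-/

set_option autoImplicit false

namespace Groth.Agent.Lib.Helper20

open CategoryTheory CategoryTheory.Limits MonoidalCategory Groth.Agent.Lib.Helper12.FlatCx
open TensorProduct

universe u

section LinAlg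

variable {R : Type u} [CommRing R]

/-- `lTensor` version of `rTensor_exact_of_flat_coker`. -/
theorem lTensor_exact_of_flat_coker {H C F D : Type u} [AddCommGroup H] [Module R H]
    [AddCommGroup C] [Module R C] [AddCommGroup F] [Module R F] [AddCommGroup D] [Module R D]
    [Module.Flat R F] [Module.Flat R D]
    (ι : H →ₗ[R] C) (f : C →ₗ[R] F) (π : F →ₗ[R] D)
    (hι : Function.Injective ι) (hιf : Function.Exact ι f) (hfπ : Function.Exact f π)
    (hπ : Function.Surjective π) (M : Type u) [AddCommGroup M] [Module R M] :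
    Function.Injective (ι.lTensor M) ∧ Function.Exact (ι.lTensor M) (f.lTensor M) := by
  obtain ⟨h1, h2⟩ := rTensor_exact_of_flat_coker ι f π hι hιf hfπ hπ M
  constructor
  · rw [LinearMap.lTensor_inj_iff_rTensor_inj]
    exact h1
  · have hcf : (TensorProduct.comm R M F).toLinearMap ∘ₗ f.lTensor M =
        f.rTensor M ∘ₗ (TensorProduct.comm R M C).toLinearMap := by
      apply TensorProduct.ext'
      intro m c
      simp
    have hcι : (TensorProduct.comm R M C).toLinearMap ∘ₗ ι.lTensor M =
        ι.rTensor M ∘ₗ (TensorProduct.comm R M H).toLinearMap := by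
      apply TensorProduct.ext'
      intro m c
      simp
    intro z
    have e1 : (TensorProduct.comm R M F) (f.lTensor M z) =
        f.rTensor M (TensorProduct.comm R M C z) := LinearMap.congr_fun hcf z
    constructor
    · intro hz
      have : f.rTensor M (TensorProduct.comm R M C z) = 0 := by rw [← e1, hz, map_zero]
      obtain ⟨w, hw⟩ := (h2 _).mp this
      refine ⟨(TensorProduct.comm R M H).symm w, ?_⟩
      apply (TensorProduct.comm R M C).injective
      rw [← hw]
      have e2 := LinearMap.congr_fun hcι ((TensorProduct.comm R M H).symm w)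
      simp only [LinearMap.comp_apply, LinearEquiv.coe_toLinearMap,
        LinearEquiv.apply_symm_apply] at e2
      exact e2
    · rintro ⟨w, rfl⟩
      rw [← LinearMap.comp_apply, ← LinearMap.lTensor_comp, hιf.linearMap_comp_eq_zero,
        LinearMap.lTensor_zero, LinearMap.zero_apply]

end LinAlg

section ExactData

variable {A : Type u} [CommRing A] {ι : Type} {c : ComplexShape ι}
variable (P : HomologicalComplex (ModuleCat.{u} A) c) {p n : ι}

/-- The exact sequence `0 → H_p → Z'_p → P_n → Z'_n → 0` in element form. -/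
theorem homology_exact_data (hpn : c.Rel p n) :
    Function.Injective (P.homologyι p).hom ∧
    Function.Exact (P.homologyι p).hom (P.fromOpcycles p n).hom ∧
    Function.Exact (P.fromOpcycles p n).hom (P.pOpcycles n).hom ∧
    Function.Surjective (P.pOpcycles n).hom := by
  have hιinj : Function.Injective (P.homologyι p).hom :=
    (ModuleCat.mono_iff_injective _).mp inferInstance
  have hιf : Function.Exact (P.homologyι p).hom (P.fromOpcycles p n).hom := by
    have hex : (ShortComplex.mk (P.homologyι p) (P.fromOpcycles p n)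
        (P.homologyι_comp_fromOpcycles p n)).Exact :=
      ShortComplex.exact_of_f_is_kernel _ (P.homologyIsKernel p n (c.next_eq' hpn))
    exact (ShortComplex.ShortExact.moduleCat_exact_iff_function_exact _).mp hex
  have hπsurj : Function.Surjective (P.pOpcycles n).hom :=
    (ModuleCat.epi_iff_surjective _).mp inferInstance
  have hfπ : Function.Exact (P.fromOpcycles p n).hom (P.pOpcycles n).hom := by
    have hex : (ShortComplex.mk (P.d p n) (P.pOpcycles n) (P.d_pOpcycles p n)).Exact :=
      ShortComplex.exact_of_g_is_cokernel _ (P.opcyclesIsCokernel p n (c.prev_eq' hpn))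
    have hex' := (ShortComplex.ShortExact.moduleCat_exact_iff_function_exact _).mp hex
    have hsurj : Function.Surjective (P.pOpcycles p).hom :=
      (ModuleCat.epi_iff_surjective _).mp inferInstance
    intro y
    rw [hex' y]
    constructor
    · rintro ⟨x, hx⟩
      refine ⟨(P.pOpcycles p).hom x, ?_⟩
      rw [← hx]
      exact congrArg (fun φ : P.X p ⟶ P.X n => φ.hom x) (P.p_fromOpcycles p n)
    · rintro ⟨z, hz⟩
      obtain ⟨x, rfl⟩ := hsurj z
      refine ⟨x, ?_⟩
      rw [← hz]
      exact (congrArg (fun φ : P.X p ⟶ P.X n => φ.hom x) (P.p_fromOpcycles p n)).symm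
  exact ⟨hιinj, hιf, hfπ, hπsurj⟩

end ExactData

section Bc

variable {A S : Type u} [CommRing A] [CommRing S] [Algebra A S] {ι : Type} {c : ComplexShape ι}

set_option backward.isDefEq.respectTransparency false in
/-- Naturality of `extendScalarsObjEquiv`. -/
lemma extendScalarsObjEquiv_map {M N : ModuleCat.{u} A} (g : M ⟶ N)
    (x : (ModuleCat.extendScalars (algebraMap A S)).obj M) :
    extendScalarsObjEquiv (S := S) N (((ModuleCat.extendScalars (algebraMap A S)).map g).hom x) =
      g.hom.lTensor S (extendScalarsObjEquiv (S := S) M x) := by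
  induction x using TensorProduct.induction_on with
  | zero => simp
  | tmul a m => rfl
  | add x y hx hy => rw [map_add, map_add, hx, hy, map_add, map_add]

variable (P : HomologicalComplex (ModuleCat.{u} A) c) {p n : ι}

omit [Algebra A S] in
lemma pOpcycles_opcyclesBcIso_hom (φ : A →+* S) (p : ι) :
    (CohIII.bcCx φ P).pOpcycles p ≫ (opcyclesBcIso φ P p).hom =
      (ModuleCat.extendScalars φ).map (P.pOpcycles p) :=
  IsColimit.comp_coconePointUniqueUpToIso_hom
    ((CohIII.bcCx φ P).opcyclesIsCokernel (c.prev p) p rfl)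
    (CokernelCofork.mapIsColimit _ (P.opcyclesIsCokernel (c.prev p) p rfl)
      (ModuleCat.extendScalars φ)) WalkingParallelPair.one

omit [Algebra A S] in
lemma fromOpcycles_bcCx (φ : A →+* S) (p n : ι) :
    (CohIII.bcCx φ P).fromOpcycles p n =
      (opcyclesBcIso φ P p).hom ≫ (ModuleCat.extendScalars φ).map (P.fromOpcycles p n) := by
  apply (cancel_epi ((CohIII.bcCx φ P).pOpcycles p)).mp
  have h1 := (CohIII.bcCx φ P).p_fromOpcycles p n
  have h2 : (CohIII.bcCx φ P).pOpcycles p ≫ (opcyclesBcIso φ P p).hom ≫
      (ModuleCat.extendScalars φ).map (P.fromOpcycles p n) =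
      (ModuleCat.extendScalars φ).map (P.pOpcycles p) ≫
      (ModuleCat.extendScalars φ).map (P.fromOpcycles p n) := by
    rw [← Category.assoc, pOpcycles_opcyclesBcIso_hom]
    rfl
  have h3 : (ModuleCat.extendScalars φ).map (P.pOpcycles p) ≫
      (ModuleCat.extendScalars φ).map (P.fromOpcycles p n) =
      (ModuleCat.extendScalars φ).map (P.d p n) := by
    rw [← Functor.map_comp, HomologicalComplex.p_fromOpcycles]
  exact h1.trans ((bcCx_d φ P p n).trans (h3.symm.trans h2.symm))

/-- **Base change of homology**: if `c.Rel p n` and `P_n`, `Z'_n(P)` are flat, then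
`H_p(S ⊗ P) ≃ S ⊗ H_p(P)`. -/
theorem nonempty_homologyBcEquiv (hpn : c.Rel p n) (hPn : Module.Flat A (P.X n))
    (hflat : Module.Flat A (P.opcycles n)) :
    Nonempty ((CohIII.bcCx (algebraMap A S) P).homology p ≃ₗ[S] S ⊗[A] P.homology p) := by
  obtain ⟨hιinj, hιf, hfπ, hπsurj⟩ := homology_exact_data P hpn
  obtain ⟨h1, h2⟩ := lTensor_exact_of_flat_coker (P.homologyι p).hom (P.fromOpcycles p n).hom
    (P.pOpcycles n).hom hιinj hιf hfπ hπsurj S
  set φ := algebraMap A S with hφ
  set Q := CohIII.bcCx φ P with hQ
  let E := ModuleCat.extendScalars φ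
  -- `E(ι)` is injective and `E(ι), E(f)` is exact
  have hEι : Function.Injective (E.map (P.homologyι p)).hom := by
    intro x y hxy
    apply (extendScalarsObjEquiv (S := S) (P.homology p)).injective
    apply h1
    rw [← extendScalarsObjEquiv_map, ← extendScalarsObjEquiv_map, hxy]
  have hEex : ∀ y : E.obj (P.opcycles p), (E.map (P.fromOpcycles p n)).hom y = 0 →
      ∃ z, (E.map (P.homologyι p)).hom z = y := by
    intro y hy
    have : (P.fromOpcycles p n).hom.lTensor S
        (extendScalarsObjEquiv (S := S) (P.opcycles p) y) = 0 := by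
      rw [← extendScalarsObjEquiv_map, hy, map_zero]
    obtain ⟨w, hw⟩ := (h2 _).mp this
    refine ⟨(extendScalarsObjEquiv (S := S) (P.homology p)).symm w, ?_⟩
    apply (extendScalarsObjEquiv (S := S) (P.opcycles p)).injective
    rw [extendScalarsObjEquiv_map, LinearEquiv.apply_symm_apply, hw]
  have hEzero : ∀ z, (E.map (P.fromOpcycles p n)).hom ((E.map (P.homologyι p)).hom z) = 0 := by
    intro z
    have : E.map (P.homologyι p) ≫ E.map (P.fromOpcycles p n) = 0 := by
      rw [← Functor.map_comp, P.homologyι_comp_fromOpcycles, Functor.map_zero]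
    exact congrArg (fun ψ : E.obj (P.homology p) ⟶ E.obj (P.X n) => ψ.hom z) this
  -- the two injections into `Q.opcycles p`
  let a : Q.homology p →ₗ[S] Q.opcycles p := (Q.homologyι p).hom
  let b : E.obj (P.homology p) →ₗ[S] Q.opcycles p :=
    (E.map (P.homologyι p) ≫ (opcyclesBcIso φ P p).inv).hom
  let g : Q.opcycles p →ₗ[S] Q.X n := (Q.fromOpcycles p n).hom
  have ha : Function.Injective a := (ModuleCat.mono_iff_injective _).mp inferInstance
  have hb : Function.Injective b := by
    intro x y hxy
    apply hEι
    have := congrArg (opcyclesBcIso φ P p).hom.hom hxy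
    simpa [b] using this
  have hgeq : ∀ y, g y = (E.map (P.fromOpcycles p n)).hom ((opcyclesBcIso φ P p).hom.hom y) := by
    intro y
    exact congrArg (fun ψ : Q.opcycles p ⟶ Q.X n => ψ.hom y) (fromOpcycles_bcCx P φ p n)
  have hra : LinearMap.range a = LinearMap.ker g := by
    have hex : (ShortComplex.mk (Q.homologyι p) (Q.fromOpcycles p n)
        (Q.homologyι_comp_fromOpcycles p n)).Exact :=
      ShortComplex.exact_of_f_is_kernel _ (Q.homologyIsKernel p n (c.next_eq' hpn))
    exact (ShortComplex.moduleCat_exact_iff_range_eq_ker _).mp hex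
  have hrb : LinearMap.range b = LinearMap.ker g := by
    ext y
    rw [LinearMap.mem_range, LinearMap.mem_ker, hgeq]
    constructor
    · rintro ⟨z, rfl⟩
      have : (opcyclesBcIso φ P p).hom.hom (b z) = (E.map (P.homologyι p)).hom z := by
        simp [b]
      rw [this]
      exact hEzero z
    · intro hy
      obtain ⟨z, hz⟩ := hEex _ hy
      refine ⟨z, ?_⟩
      have : b z = (opcyclesBcIso φ P p).inv.hom ((E.map (P.homologyι p)).hom z) := rfl
      rw [this, hz]
      simp
  exact ⟨(LinearEquiv.ofInjective a ha).trans ((LinearEquiv.ofEq _ _ (hra.trans hrb.symm)).trans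
    ((LinearEquiv.ofInjective b hb).symm.trans (extendScalarsObjEquiv (S := S) (P.homology p))))⟩

end Bc

section Rank

variable {A : Type u} [CommRing A] {ι : Type} {c : ComplexShape ι}
variable (P : HomologicalComplex (ModuleCat.{u} A) c) {p n : ι}

/-- If `c.Rel p n` and `P_n`, `Z'_n(P)` are flat, the fibre dimension of `T_p` at `x` is the
fibre dimension of the module `H_p(P)`. -/
theorem dRank_eq_fd_homology (hpn : c.Rel p n) (hPn : Module.Flat A (P.X n))
    (hflat : Module.Flat A (P.opcycles n)) (x : PrimeSpectrum A) :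
    CohIII.dRank P p x = fd (P.homology p) x := by
  obtain ⟨e⟩ := nonempty_homologyBcEquiv (S := x.asIdeal.ResidueField) P hpn hPn hflat
  exact e.finrank_eq

/-- `T_p(A) ≃ H_p(P)` when `Z'_n(P)` is flat. -/
theorem nonempty_T_self_equiv (hP : ∀ i, Module.Flat A (P.X i)) (hpn : c.Rel p n)
    (hflat : Module.Flat A (P.opcycles n)) :
    Nonempty (CohIII.T P p (ModuleCat.of A A) ≃ₗ[A] P.homology p) :=
  ⟨((tensorIso P hP hpn hflat).app (ModuleCat.of A A)).toLinearEquiv.trans
    (TensorProduct.rid A (P.homology p))⟩

/-- If `T_p` preserves monomorphisms and epimorphisms, `H_p(P)` is flat. -/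
theorem flat_homology_of_preservesMonoEpi (hP : ∀ i, Module.Flat A (P.X i)) (hpn : c.Rel p n)
    (hm : (CohIII.TFun P p).PreservesMonomorphisms)
    (he : (CohIII.TFun P p).PreservesEpimorphisms) : Module.Flat A (P.homology p) := by
  have hflat : Module.Flat A (P.opcycles n) := by
    rw [← preservesMono_iff_flat_opcycles P n hP,
      ← preservesEpi_iff_preservesMono_of_rel P hP p n hpn]
    exact he
  rw [← tensorLeft_preservesMono_iff_flat,
    ← Functor.PreservesMonomorphisms.iso_iff (tensorIso P hP hpn hflat)]
  exact hm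

theorem flat_opcycles_of_preservesEpi (hP : ∀ i, Module.Flat A (P.X i)) (hpn : c.Rel p n)
    (he : (CohIII.TFun P p).PreservesEpimorphisms) : Module.Flat A (P.opcycles n) := by
  rw [← preservesMono_iff_flat_opcycles P n hP,
    ← preservesEpi_iff_preservesMono_of_rel P hP p n hpn]
  exact he

/-- If `T_p` is exact and `T_p(A)` is finitely presented then `dRank P p` is locally constant. -/
theorem dRank_isLocallyConstant_of_exact (hP : ∀ i, Module.Flat A (P.X i)) (hpn : c.Rel p n)
    (hm : (CohIII.TFun P p).PreservesMonomorphisms)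
    (he : (CohIII.TFun P p).PreservesEpimorphisms)
    (hfp : Module.FinitePresentation A (CohIII.T P p (ModuleCat.of A A))) :
    IsLocallyConstant (CohIII.dRank P p) := by
  have hflat := flat_opcycles_of_preservesEpi P hP hpn he
  have hHflat := flat_homology_of_preservesMonoEpi P hP hpn hm he
  obtain ⟨e⟩ := nonempty_T_self_equiv P hP hpn hflat
  have hHfp : Module.FinitePresentation A (P.homology p) := Module.FinitePresentation.of_equiv e
  have hHfin : Module.Finite A (P.homology p) := inferInstance
  have h : CohIII.dRank P p = Module.rankAtStalk (P.homology p) := by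
    funext x
    rw [dRank_eq_fd_homology P hpn (hP n) hflat x, fd_eq_rankAtStalk]
  rw [h]
  exact Module.isLocallyConstant_rankAtStalk

end Rank

end Groth.Agent.Lib.Helper20
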