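import Groth.Agent.Lib.Helper38.ChowMain
import Groth.Agent.Lib.Helper38.ChowCover
import Groth.Agent.Lib.Helper38.ChowAffine

/-! Helper library (helper20): Chow's lemma over a quasi-compact quasi-separated base for schemes
with finitely many irreducible components.  This is helper38's Noetherian proof
(`Lib/Helper38/ChowStep`, `ChowMain`, `ChowCover`) with `NoetherianSpace X` replaced by
`QuasiSeparatedSpace X` + compactness of the dense open `U`. -/

set_option autoImplicit false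
set_option linter.unusedSectionVars false
universe u
open AlgebraicGeometry CategoryTheory Limits TopologicalSpace Opposite

namespace Groth.Agent.Lib.Helper20.ChowQS

open Groth.Agent.Lib.Helper38.SchDom
open Groth.Agent.Lib.Helper38.ChowStep (ChowData)

section Step

variable {X S : Scheme.{u}} (f : X ⟶ S) [QuasiSeparatedSpace X] (U : X.Opens)
  [CompactSpace (U : Scheme.{u})]
  {Y Q P : Scheme.{u}} (π : Y ⟶ X) (tQ : Q ⟶ S) (q : Y ⟶ Q) (hq : q ≫ tQ = π ≫ f)
  (u : (U : Scheme.{u}) ⟶ Y) (hu : u ≫ π = U.ι)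
  (V : X.Opens) (hUV : U ≤ V) (tP : P ⟶ S) (e : (V : Scheme.{u}) ⟶ P) (he : e ≫ tP = V.ι ≫ f)

omit [QuasiSeparatedSpace X] [CompactSpace (U : Scheme.{u})] in
include hu he in
theorem g_cond : u ≫ π ≫ f = (X.homOfLE hUV ≫ e) ≫ tP := by
  rw [Category.assoc, he, ← Category.assoc, hu, ← Category.assoc, Scheme.homOfLE_ι]

/-- the map `U ⟶ Y ×_S P`. -/
noncomputable def g : (U : Scheme.{u}) ⟶ pullback (π ≫ f) tP :=
  pullback.lift u (X.homOfLE hUV ≫ e) (g_cond f U π u hu V hUV tP e he)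

variable [IsProper π] [IsProper tP]

omit [CompactSpace (U : Scheme.{u})] in
theorem qss_pullback : QuasiSeparatedSpace ((pullback (π ≫ f) tP : Scheme.{u})) := by
  have : QuasiSeparatedSpace Y := quasiSeparatedSpace_of_quasiSeparated π
  exact quasiSeparatedSpace_of_quasiSeparated (pullback.fst (π ≫ f) tP)

instance : QuasiCompact (g f U π u hu V hUV tP e he) := by
  have := qss_pullback f π tP
  infer_instance

instance : QuasiSeparatedSpace ((g f U π u hu V hUV tP e he).image : Scheme.{u}) := by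
  have := qss_pullback f π tP
  exact quasiSeparatedSpace_of_quasiSeparated (g f U π u hu V hUV tP e he).imageι

/-- the new scheme `Y'`: the scheme-theoretic image of `U` in `Y ×_S P`. -/
noncomputable abbrev Y' : Scheme.{u} := (g f U π u hu V hUV tP e he).image

/-- the closed immersion `Y' ⟶ Y ×_S P`. -/
noncomputable abbrev c : Y' f U π u hu V hUV tP e he ⟶ pullback (π ≫ f) tP :=
  (g f U π u hu V hUV tP e he).imageι

/-- `U ⟶ Y'`. -/
noncomputable abbrev u' : (U : Scheme.{u}) ⟶ Y' f U π u hu V hUV tP e he :=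
  (g f U π u hu V hUV tP e he).toImage

/-- `Y' ⟶ X`. -/
noncomputable def π' : Y' f U π u hu V hUV tP e he ⟶ X :=
  c f U π u hu V hUV tP e he ≫ pullback.fst _ _ ≫ π

/-- `Y' ⟶ P`. -/
noncomputable def p : Y' f U π u hu V hUV tP e he ⟶ P :=
  c f U π u hu V hUV tP e he ≫ pullback.snd _ _

/-- `Y' ⟶ Y`. -/
noncomputable def pY : Y' f U π u hu V hUV tP e he ⟶ Y :=
  c f U π u hu V hUV tP e he ≫ pullback.fst _ _

theorem u'_c : u' f U π u hu V hUV tP e he ≫ c f U π u hu V hUV tP e he =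
    g f U π u hu V hUV tP e he := Scheme.Hom.toImage_imageι _

theorem u'_pY : u' f U π u hu V hUV tP e he ≫ pY f U π u hu V hUV tP e he = u := by
  rw [pY, ← Category.assoc, u'_c, g, pullback.lift_fst]

theorem u'_π' : u' f U π u hu V hUV tP e he ≫ π' f U π u hu V hUV tP e he = U.ι := by
  rw [π', ← Category.assoc, u'_c, g, pullback.lift_fst_assoc, hu]

theorem u'_p : u' f U π u hu V hUV tP e he ≫ p f U π u hu V hUV tP e he =
    X.homOfLE hUV ≫ e := by
  rw [p, ← Category.assoc, u'_c, g, pullback.lift_snd]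

theorem p_tP : p f U π u hu V hUV tP e he ≫ tP = π' f U π u hu V hUV tP e he ≫ f := by
  rw [p, π', Category.assoc, ← pullback.condition]
  simp only [Category.assoc]

theorem pY_π : pY f U π u hu V hUV tP e he ≫ π = π' f U π u hu V hUV tP e he := by
  rw [pY, π', Category.assoc]

local notation "Y₁" => Y' f U π u hu V hUV tP e he
local notation "c₁" => c f U π u hu V hUV tP e he
local notation "u₁" => u' f U π u hu V hUV tP e he
local notation "π₁" => π' f U π u hu V hUV tP e he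
local notation "p₁" => p f U π u hu V hUV tP e he
local notation "pY₁" => pY f U π u hu V hUV tP e he

/-- two `S`-morphisms from an open of `Y'` containing `U` into a separated `S`-scheme which agree
on `U` agree. -/
theorem ext_open (O : (Y₁).Opens) (uO : (U : Scheme.{u}) ⟶ O) (huO : uO ≫ O.ι = u₁)
    {T : Scheme.{u}} {a b : (O : Scheme.{u}) ⟶ T} (t : T ⟶ S) [IsSeparated t]
    (hab : a ≫ t = b ≫ t) (h : uO ≫ a = uO ≫ b) : a = b := by
  have h1 : IsSchemeTheoreticallyDominant (uO ≫ O.ι) := by rw [huO]; infer_instance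
  have h2 : QuasiCompact (uO ≫ O.ι) := inferInstance
  have := of_comp_isOpenImmersion uO O.ι
  exact ext_of_isSchemeTheoreticallyDominant uO t hab h

/-- lifting `U ⟶ Y'` to an open containing its range. -/
noncomputable def liftU (O : (Y₁).Opens) (hO : Set.range (u₁).base ⊆ O) :
    (U : Scheme.{u}) ⟶ O :=
  IsOpenImmersion.lift O.ι (u₁) (by rwa [Scheme.Opens.range_ι])

theorem liftU_ι (O : (Y₁).Opens) (hO : Set.range (u₁).base ⊆ O) :
    liftU f U π u hu V hUV tP e he O hO ≫ O.ι = u₁ :=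
  IsOpenImmersion.lift_fac _ _ _

theorem range_u'_subset : Set.range (u₁).base ⊆ ((π₁) ⁻¹ᵁ U : (Y₁).Opens) := by
  rintro _ ⟨x, rfl⟩
  change (π₁).base ((u₁).base x) ∈ U
  rw [← Scheme.Hom.comp_apply, u'_π']
  exact x.2

/-- `U ⟶ π'⁻¹(U)`. -/
noncomputable abbrev uU : (U : Scheme.{u}) ⟶ ((π₁) ⁻¹ᵁ U : (Y₁).Opens) :=
  liftU f U π u hu V hUV tP e he _ (range_u'_subset f U π u hu V hUV tP e he)

theorem uU_restrict : uU f U π u hu V hUV tP e he ≫ (π₁ ∣_ U) = 𝟙 _ := by
  rw [← cancel_mono U.ι, Category.assoc, morphismRestrict_ι, ← Category.assoc, liftU_ι, u'_π',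
    Category.id_comp]

variable [IsSeparated f]

theorem restrict_uU : (π₁ ∣_ U) ≫ uU f U π u hu V hUV tP e he = 𝟙 _ := by
  rw [← cancel_mono ((π₁ ⁻¹ᵁ U).ι ≫ c₁)]
  have : IsSeparated (pullback.fst (π ≫ f) tP ≫ π ≫ f) := inferInstance
  refine ext_open f U π u hu V hUV tP e he _ (uU f U π u hu V hUV tP e he) (liftU_ι ..)
    (pullback.fst (π ≫ f) tP ≫ π ≫ f) ?_ ?_
  · have h1 : c₁ ≫ pullback.fst (π ≫ f) tP ≫ π ≫ f = π₁ ≫ f := by
      rw [π']
      simp only [Category.assoc]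
    simp only [Category.assoc, Category.id_comp]
    rw [h1, reassoc_of% (liftU_ι f U π u hu V hUV tP e he), reassoc_of% (u'_π' f U π u hu V hUV tP e he),
      ← morphismRestrict_ι_assoc]
  · simp only [Category.assoc, Category.id_comp]
    rw [reassoc_of% (uU_restrict f U π u hu V hUV tP e he)]

theorem isIso_uU : IsIso (uU f U π u hu V hUV tP e he) :=
  ⟨π₁ ∣_ U, uU_restrict f U π u hu V hUV tP e he, restrict_uU f U π u hu V hUV tP e he⟩

theorem isOpenImmersion_u' : IsOpenImmersion (u₁) := by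
  have := isIso_uU f U π u hu V hUV tP e he
  rw [← liftU_ι f U π u hu V hUV tP e he _ (range_u'_subset f U π u hu V hUV tP e he)]
  infer_instance

theorem opensRange_u' [IsOpenImmersion (u₁)] : (u₁).opensRange = π₁ ⁻¹ᵁ U := by
  have := isIso_uU f U π u hu V hUV tP e he
  apply le_antisymm
  · rintro _ ⟨x, rfl⟩
    exact range_u'_subset f U π u hu V hUV tP e he ⟨x, rfl⟩
  · intro y hy
    have hs : Function.Surjective (uU f U π u hu V hUV tP e he).base :=
      (ConcreteCategory.bijective_of_isIso (uU f U π u hu V hUV tP e he).base).2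
    obtain ⟨x, hx⟩ := hs ⟨y, hy⟩
    refine ⟨x, ?_⟩
    have h2 := congrArg (fun z => (π₁ ⁻¹ᵁ U).ι.base z) hx
    simp only at h2
    rw [← Scheme.Hom.comp_apply, liftU_ι] at h2
    exact h2

include hq in
theorem q'_cond : (pY₁ ≫ q) ≫ tQ = p₁ ≫ tP := by
  rw [Category.assoc, hq, ← Category.assoc, pY_π, p_tP]

/-- `Y' ⟶ Q ×_S P`. -/
noncomputable def q' : Y₁ ⟶ pullback tQ tP :=
  pullback.lift (pY₁ ≫ q) p₁ (q'_cond f U π tQ q hq u hu V hUV tP e he)

local notation "q₁" => q' f U π tQ q hq u hu V hUV tP e he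

theorem q'_fst : q₁ ≫ pullback.fst tQ tP = pY₁ ≫ q := pullback.lift_fst _ _ _

theorem q'_snd : q₁ ≫ pullback.snd tQ tP = p₁ := pullback.lift_snd _ _ _

theorem q'_tQ : q₁ ≫ pullback.fst tQ tP ≫ tQ = π₁ ≫ f := by
  rw [← Category.assoc, q'_fst, Category.assoc, hq, ← Category.assoc, pY_π]

theorem mono' (hm : ∀ {T : Scheme.{u}} (a b : T ⟶ Y), a ≫ π = b ≫ π → a ≫ q = b ≫ q → a = b)
    {T : Scheme.{u}} (a b : T ⟶ Y₁) (h1 : a ≫ π₁ = b ≫ π₁) (h2 : a ≫ q₁ = b ≫ q₁) : a = b := by
  rw [← cancel_mono c₁]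
  apply pullback.hom_ext
  · simp only [Category.assoc]
    apply hm
    · simpa only [Category.assoc, π'] using h1
    · have := congrArg (· ≫ pullback.fst tQ tP) h2
      simpa only [Category.assoc, q'_fst, pY] using this
  · have := congrArg (· ≫ pullback.snd tQ tP) h2
    simpa only [Category.assoc, q'_snd, p] using this

instance : IsProper (pY₁) := by
  rw [pY]
  infer_instance

instance : IsProper (π₁) := by
  rw [π']
  infer_instance

theorem isProper_tQ' [IsProper tQ] : IsProper (pullback.fst tQ tP ≫ tQ) := inferInstance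

theorem preimage_old (G : Q.Opens) (W : X.Opens) (hG : q ⁻¹ᵁ G = π ⁻¹ᵁ W) :
    q₁ ⁻¹ᵁ (pullback.fst tQ tP ⁻¹ᵁ G) = π₁ ⁻¹ᵁ W := by
  rw [← Scheme.Hom.comp_preimage, q'_fst, Scheme.Hom.comp_preimage, hG,
    ← Scheme.Hom.comp_preimage, pY_π]

theorem chart_old (hm : ∀ {T : Scheme.{u}} (a b : T ⟶ Y), a ≫ π = b ≫ π → a ≫ q = b ≫ q → a = b)
    (G : Q.Opens) [IsClosedImmersion (q ∣_ G)] :
    IsClosedImmersion (q₁ ∣_ (pullback.fst tQ tP ⁻¹ᵁ G)) := by
  have h1 : IsProper ((q₁ ≫ pullback.fst tQ tP) ∣_ G) := by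
    rw [q'_fst, morphismRestrict_comp]
    have h0 : IsProper (q ∣_ G) := inferInstance
    have h00 : IsProper (pY₁ ∣_ q ⁻¹ᵁ G) := inferInstance
    exact MorphismProperty.comp_mem _ _ _ h00 h0
  rw [morphismRestrict_comp] at h1
  have : IsProper (q₁ ∣_ (pullback.fst tQ tP ⁻¹ᵁ G)) :=
    @IsProper.of_comp _ _ _ (q₁ ∣_ (pullback.fst tQ tP ⁻¹ᵁ G)) (pullback.fst tQ tP ∣_ G) h1
      inferInstance
  apply Groth.Agent.Lib.Helper38.ChowStep.isClosedImmersion_restrict
  intro T a b ha h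
  apply mono' f U π tQ q hq u hu V hUV tP e he hm a b _ h
  have h2 : a ≫ pY₁ = b ≫ pY₁ := by
    apply Groth.Agent.Lib.Helper38.ChowStep.eq_of_isClosedImmersion_restrict q G
    · rintro _ ⟨t, rfl⟩
      have h3 := ha ⟨t, rfl⟩
      change (pullback.fst tQ tP).base ((q₁).base (a.base t)) ∈ G at h3
      rw [← Scheme.Hom.comp_apply, q'_fst] at h3
      exact h3
    · have := congrArg (· ≫ pullback.fst tQ tP) h
      simpa only [Category.assoc, q'_fst] using this
  rw [← pY_π, reassoc_of% h2]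

variable [IsImmersion e]

include hUV in
theorem range_u'_subset_V : Set.range (u₁).base ⊆ ((π₁) ⁻¹ᵁ V : (Y₁).Opens) := fun _ hx =>
  hUV (range_u'_subset f U π u hu V hUV tP e he hx)

/-- `U ⟶ π'⁻¹(V)`. -/
noncomputable abbrev uV : (U : Scheme.{u}) ⟶ ((π₁) ⁻¹ᵁ V : (Y₁).Opens) :=
  liftU f U π u hu V hUV tP e he _ (range_u'_subset_V f U π u hu V hUV tP e he)

theorem uV_restrict : uV f U π u hu V hUV tP e he ≫ (π₁ ∣_ V) = X.homOfLE hUV := by
  rw [← cancel_mono V.ι, Category.assoc, morphismRestrict_ι, ← Category.assoc, liftU_ι, u'_π',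
    Scheme.homOfLE_ι]

/-- on `π'⁻¹(V)` the map to `P` is `e ∘ π'`. -/
theorem ι_p_eq : (π₁ ⁻¹ᵁ V).ι ≫ p₁ = (π₁ ∣_ V) ≫ e := by
  refine ext_open f U π u hu V hUV tP e he _ (uV f U π u hu V hUV tP e he) (liftU_ι ..) tP ?_ ?_
  · rw [Category.assoc, p_tP, Category.assoc, he, ← morphismRestrict_ι_assoc]
  · rw [reassoc_of% (liftU_ι f U π u hu V hUV tP e he), u'_p,
      reassoc_of% (uV_restrict f U π u hu V hUV tP e he)]

theorem range_u'_subset_cob :
    Set.range (u₁).base ⊆ ((p₁) ⁻¹ᵁ e.coborderRange : (Y₁).Opens) := by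
  rintro _ ⟨x, rfl⟩
  change (p₁).base ((u₁).base x) ∈ e.coborderRange
  rw [← Scheme.Hom.comp_apply, u'_p]
  exact subset_coborder ⟨_, rfl⟩

theorem preimage_cob : p₁ ⁻¹ᵁ e.coborderRange = π₁ ⁻¹ᵁ V := by
  apply le_antisymm
  · -- the hard inclusion
    set O : (Y₁).Opens := p₁ ⁻¹ᵁ e.coborderRange with hO
    let uO : (U : Scheme.{u}) ⟶ O :=
      liftU f U π u hu V hUV tP e he O (range_u'_subset_cob f U π u hu V hUV tP e he)
    have huO : uO ≫ O.ι = u₁ := liftU_ι ..
    have h1 : IsSchemeTheoreticallyDominant (uO ≫ O.ι) := by rw [huO]; infer_instance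
    have h2 : QuasiCompact (uO ≫ O.ι) := inferInstance
    have := of_comp_isOpenImmersion uO O.ι
    have hl : X.homOfLE hUV ≫ e.liftCoborder = uO ≫ (p₁ ∣_ e.coborderRange) := by
      rw [← cancel_mono e.coborderRange.ι, Category.assoc, Category.assoc, morphismRestrict_ι,
        Scheme.Hom.liftCoborder_ι, reassoc_of% huO, u'_p]
    obtain ⟨ρ, hρ⟩ := exists_lift_of_isSchemeTheoreticallyDominant uO
      (p₁ ∣_ e.coborderRange) e.liftCoborder (X.homOfLE hUV) hl
    have hρ' : ρ ≫ e = O.ι ≫ p₁ := by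
      calc ρ ≫ e = ρ ≫ e.liftCoborder ≫ e.coborderRange.ι := by rw [e.liftCoborder_ι]
        _ = O.ι ≫ p₁ := by rw [reassoc_of% hρ, morphismRestrict_ι]
    have key : O.ι ≫ π₁ = ρ ≫ V.ι := by
      refine ext_open f U π u hu V hUV tP e he O uO huO f ?_ ?_
      · rw [Category.assoc, Category.assoc, ← he, reassoc_of% hρ', p_tP]
      · rw [reassoc_of% huO, u'_π']
        have h3 : uO ≫ ρ = X.homOfLE hUV := by
          rw [← cancel_mono e.liftCoborder, Category.assoc, hρ, hl]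
        rw [reassoc_of% h3, Scheme.homOfLE_ι]
    intro y hy
    change (π₁).base y ∈ V
    have h4 := congrArg (fun φ => φ.base ⟨y, hy⟩) key
    simp only [Scheme.Hom.comp_apply] at h4
    change (π₁).base y = _ at h4
    rw [h4]
    exact (ρ.base ⟨y, hy⟩).2
  · intro y hy
    change (p₁).base y ∈ e.coborderRange
    have h4 := congrArg (fun φ => φ.base ⟨y, hy⟩) (ι_p_eq f U π u hu V hUV tP e he)
    simp only [Scheme.Hom.comp_apply] at h4
    change (p₁).base y = _ at h4
    rw [h4]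
    exact subset_coborder ⟨_, rfl⟩

theorem preimage_new :
    q₁ ⁻¹ᵁ (pullback.snd tQ tP ⁻¹ᵁ e.coborderRange) = π₁ ⁻¹ᵁ V := by
  rw [← Scheme.Hom.comp_preimage, q'_snd, preimage_cob]

theorem isProper_p_restrict : IsProper (p₁ ∣_ e.coborderRange) := by
  let θ : ((π₁ ⁻¹ᵁ V : (Y₁).Opens) : Scheme.{u}) ≅ ((p₁ ⁻¹ᵁ e.coborderRange : (Y₁).Opens) : Scheme.{u}) :=
    (Y₁).isoOfEq (preimage_cob f U π u hu V hUV tP e he).symm
  have h : p₁ ∣_ e.coborderRange = θ.inv ≫ (π₁ ∣_ V) ≫ e.liftCoborder := by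
    rw [Iso.eq_inv_comp, ← cancel_mono e.coborderRange.ι]
    simp only [Category.assoc, morphismRestrict_ι, Scheme.Hom.liftCoborder_ι]
    rw [← ι_p_eq f U π u hu V hUV tP e he]
    rw [← Category.assoc]
    congr 1
    exact Scheme.isoOfEq_hom_ι _ _
  rw [h]
  have h0 : IsProper e.liftCoborder := inferInstance
  have h00 : IsProper (π₁ ∣_ V) := inferInstance
  have h1 : IsProper ((π₁ ∣_ V) ≫ e.liftCoborder) := MorphismProperty.comp_mem _ _ _ h00 h0
  have h2 : IsProper θ.inv := inferInstance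
  exact MorphismProperty.comp_mem _ _ _ h2 h1

theorem chart_new [IsProper tQ]
    (hm : ∀ {T : Scheme.{u}} (a b : T ⟶ Y), a ≫ π = b ≫ π → a ≫ q = b ≫ q → a = b) :
    IsClosedImmersion (q₁ ∣_ (pullback.snd tQ tP ⁻¹ᵁ e.coborderRange)) := by
  have h1 : IsProper ((q₁ ≫ pullback.snd tQ tP) ∣_ e.coborderRange) := by
    rw [q'_snd]
    exact isProper_p_restrict f U π u hu V hUV tP e he
  rw [morphismRestrict_comp] at h1
  have : IsProper (q₁ ∣_ (pullback.snd tQ tP ⁻¹ᵁ e.coborderRange)) :=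
    @IsProper.of_comp _ _ _ (q₁ ∣_ (pullback.snd tQ tP ⁻¹ᵁ e.coborderRange))
      (pullback.snd tQ tP ∣_ e.coborderRange) h1 inferInstance
  apply Groth.Agent.Lib.Helper38.ChowStep.isClosedImmersion_restrict
  intro T a b ha h
  apply mono' f U π tQ q hq u hu V hUV tP e he hm a b _ h
  rw [preimage_new] at ha
  have hb : Set.range b.base ⊆ (π₁ ⁻¹ᵁ V : (Y₁).Opens) := by
    rw [← preimage_new f U π tQ q hq u hu V hUV tP e he]
    rintro _ ⟨t, rfl⟩
    change (q₁).base (b.base t) ∈ (pullback.snd tQ tP ⁻¹ᵁ e.coborderRange)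
    rw [← Scheme.Hom.comp_apply, ← h, Scheme.Hom.comp_apply]
    have := ha ⟨t, rfl⟩
    rw [← preimage_new f U π tQ q hq u hu V hUV tP e he] at this
    exact this
  let a₁ : T ⟶ (π₁ ⁻¹ᵁ V : (Y₁).Opens) :=
    IsOpenImmersion.lift (π₁ ⁻¹ᵁ V).ι a (by rwa [Scheme.Opens.range_ι])
  let b₁ : T ⟶ (π₁ ⁻¹ᵁ V : (Y₁).Opens) :=
    IsOpenImmersion.lift (π₁ ⁻¹ᵁ V).ι b (by rwa [Scheme.Opens.range_ι])
  have ha₁ : a₁ ≫ (π₁ ⁻¹ᵁ V).ι = a := IsOpenImmersion.lift_fac _ _ _
  have hb₁ : b₁ ≫ (π₁ ⁻¹ᵁ V).ι = b := IsOpenImmersion.lift_fac _ _ _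
  have h2 : a ≫ p₁ = b ≫ p₁ := by
    have := congrArg (· ≫ pullback.snd tQ tP) h
    simpa only [Category.assoc, q'_snd] using this
  have h3 : a₁ ≫ (π₁ ∣_ V) = b₁ ≫ (π₁ ∣_ V) := by
    have : Mono e := inferInstance
    rw [← cancel_mono e, Category.assoc, Category.assoc, ← ι_p_eq f U π u hu V hUV tP e he,
      reassoc_of% ha₁, reassoc_of% hb₁, h2]
  have h4 := congrArg (· ≫ V.ι) h3
  simp only [Category.assoc, morphismRestrict_ι] at h4
  rwa [reassoc_of% ha₁, reassoc_of% hb₁] at h4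

end Step
section Induct

variable {X S : Scheme.{u}} (f : X ⟶ S) (U : X.Opens)
variable [QuasiSeparatedSpace X] [CompactSpace (U : Scheme.{u})] [IsSeparated f]

/-- one step of the induction. -/
noncomputable def stepQS {𝒱 : Set X.Opens} (D : ChowData f U 𝒱) (V : X.Opens)
    (hUV : U ≤ V) {P : Scheme.{u}} (tP : P ⟶ S) [IsProper tP] (e : (V : Scheme.{u}) ⟶ P)
    [IsImmersion e] (he : e ≫ tP = V.ι ≫ f) (𝒱' : Set X.Opens) (h𝒱' : 𝒱' ⊆ insert V 𝒱) :
    ChowData f U 𝒱' :=
  haveI := D.properπ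
  haveI := D.properQ
  { Y := Y' f U D.π D.u D.hu V hUV tP e he
    π := π' f U D.π D.u D.hu V hUV tP e he
    Q := pullback D.tQ tP
    tQ := pullback.fst D.tQ tP ≫ D.tQ
    q := q' f U D.π D.tQ D.q D.hq D.u D.hu V hUV tP e he
    hq := q'_tQ f U D.π D.tQ D.q D.hq D.u D.hu V hUV tP e he
    properQ := inferInstance
    properπ := inferInstance
    mono := fun a b h1 h2 => mono' f U D.π D.tQ D.q D.hq D.u D.hu V hUV tP e he D.mono a b h1 h2
    u := u' f U D.π D.u D.hu V hUV tP e he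
    hu := u'_π' f U D.π D.u D.hu V hUV tP e he
    openu := isOpenImmersion_u' f U D.π D.u D.hu V hUV tP e he
    hrange := by
      haveI := isOpenImmersion_u' f U D.π D.u D.hu V hUV tP e he
      exact opensRange_u' f U D.π D.u D.hu V hUV tP e he
    chart := by
      intro W hW
      rcases h𝒱' hW with rfl | hW'
      · exact ⟨pullback.snd D.tQ tP ⁻¹ᵁ e.coborderRange,
          preimage_new f U D.π D.tQ D.q D.hq D.u D.hu W hUV tP e he,
          chart_new f U D.π D.tQ D.q D.hq D.u D.hu W hUV tP e he D.mono⟩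
      · obtain ⟨G, hG, hcl⟩ := D.chart W hW'
        exact ⟨pullback.fst D.tQ tP ⁻¹ᵁ G,
          preimage_old f U D.π D.tQ D.q D.hq D.u D.hu V hUV tP e he G W hG,
          chart_old f U D.π D.tQ D.q D.hq D.u D.hu V hUV tP e he D.mono G⟩ }


/-- the existence of the Chow data for a finite list of opens, each immersed in a projective space
over `S`, with `Q` projective over `S`. -/
theorem exists_chowData_qs (l : List X.Opens)
    (hl : ∀ V ∈ l, U ≤ V ∧ ∃ (n : ℕ) (e : (V : Scheme.{u}) ⟶ CohB1.ProjSpaceOver n S),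
      IsImmersion e ∧ e ≫ CohB1.ProjSpaceOver.toBase n S = V.ι ≫ f) :
    ∃ D : ChowData f U {V | V ∈ l}, (l = [] → IsIso D.tQ) ∧
      (l ≠ [] → ∃ (N : ℕ) (σ : D.Q ⟶ CohB1.ProjSpaceOver N S), IsClosedImmersion σ ∧
        σ ≫ CohB1.ProjSpaceOver.toBase N S = D.tQ) := by
  induction l with
  | nil =>
    refine ⟨⟨X, 𝟙 X, S, 𝟙 S, f, by simp, inferInstance, inferInstance,
      fun a b h _ => by simpa using h, U.ι, by simp, inferInstance, by simp,
      fun W hW => by simp at hW⟩, fun _ => ?_, fun h => absurd rfl h⟩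
    change IsIso (𝟙 S)
    infer_instance
  | cons V l ih =>
    obtain ⟨D, hD1, hD2⟩ := ih (fun W hW => hl W (List.mem_cons_of_mem _ hW))
    obtain ⟨hUV, n, e, he1, he2⟩ := hl V List.mem_cons_self
    haveI := Groth.Agent.Lib.Helper17.ProjSpaceProper.isProper_toBase n S
    refine ⟨stepQS f U D V hUV (CohB1.ProjSpaceOver.toBase n S) e he2 {W | W ∈ V :: l} ?_,
      fun h => absurd h (List.cons_ne_nil _ _), fun _ => ?_⟩
    · intro W hW
      rcases List.mem_cons.mp hW with rfl | h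
      · exact Set.mem_insert _ _
      · exact Set.mem_insert_of_mem _ h
    · change ∃ (N : ℕ) (σ : pullback D.tQ (CohB1.ProjSpaceOver.toBase n S) ⟶
          CohB1.ProjSpaceOver N S), IsClosedImmersion σ ∧
        σ ≫ CohB1.ProjSpaceOver.toBase N S =
          pullback.fst D.tQ (CohB1.ProjSpaceOver.toBase n S) ≫ D.tQ
      by_cases hnil : l = []
      · haveI := hD1 hnil
        exact ⟨n, pullback.snd D.tQ (CohB1.ProjSpaceOver.toBase n S), inferInstance,
          pullback.condition.symm⟩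
      · obtain ⟨N, σ, hσ1, hσ2⟩ := hD2 hnil
        obtain ⟨φ, hφ1, hφ2⟩ := Groth.Agent.Lib.Helper38.ChowMain.segre' S N n
        let m : pullback D.tQ (CohB1.ProjSpaceOver.toBase n S) ⟶
            pullback (CohB1.ProjSpaceOver.toBase N S) (CohB1.ProjSpaceOver.toBase n S) :=
          pullback.map D.tQ (CohB1.ProjSpaceOver.toBase n S) (CohB1.ProjSpaceOver.toBase N S)
            (CohB1.ProjSpaceOver.toBase n S) σ (𝟙 _) (𝟙 _)
            ((Category.comp_id _).trans hσ2.symm)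
            ((Category.comp_id _).trans (Category.id_comp _).symm)
        have hm : IsClosedImmersion m :=
          MorphismProperty.pullbackMap (P := @IsClosedImmersion) hσ1
            (inferInstanceAs (IsClosedImmersion (𝟙 _))) hσ2.symm (Category.id_comp _).symm
        refine ⟨N * n + N + n, m ≫ φ, inferInstance, ?_⟩
        rw [Category.assoc, hφ2, pullback.lift_fst_assoc, Category.assoc, hσ2]


end Induct

open Classical in
/-- **A quasi-compact scheme with finitely many irreducible components has a finite cover by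
dense affine opens.** -/
theorem exists_dense_affine_cover_of_finite (X : Scheme.{u}) [CompactSpace X]
    (h𝒵 : (irreducibleComponents X).Finite) :
    ∃ l : List X.Opens, (∀ V ∈ l, IsAffineOpen V ∧ Dense (V : Set X)) ∧
      ∀ x : X, ∃ V ∈ l, x ∈ V := by
  -- the open part of a component
  let W : Set X → Set X := fun Z => (⋃₀ (irreducibleComponents X \ {Z}))ᶜ
  have hWopen : ∀ Z, IsOpen (W Z) := fun Z => by
    change IsOpen (⋃₀ (irreducibleComponents X \ {Z}))ᶜ
    rw [Set.sUnion_eq_biUnion, isOpen_compl_iff]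
    exact h𝒵.sdiff.isClosed_biUnion fun T hT => isClosed_of_mem_irreducibleComponents T hT.1
  have hWcl : ∀ Z ∈ irreducibleComponents X, closure (W Z) = Z := fun Z hZ =>
    closure_sUnion_irreducibleComponents_sdiff_singleton h𝒵 Z hZ
  have hWne : ∀ Z ∈ irreducibleComponents X, (W Z).Nonempty := fun Z hZ => by
    by_contra h
    rw [Set.not_nonempty_iff_eq_empty] at h
    have := hWcl Z hZ
    rw [h, closure_empty] at this
    exact hZ.1.nonempty.ne_empty this.symm
  have hWsub : ∀ Z ∈ irreducibleComponents X, W Z ⊆ Z := fun Z hZ =>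
    subset_closure.trans (hWcl Z hZ).le
  have hWdisj : ∀ Z ∈ irreducibleComponents X, ∀ Z' ∈ irreducibleComponents X, Z ≠ Z' →
      Disjoint (W Z) Z' := fun Z hZ Z' hZ' hne => by
    rw [Set.disjoint_left]
    intro x hx hx'
    exact hx (Set.mem_sUnion.mpr ⟨Z', ⟨hZ', fun h => hne (Set.mem_singleton_iff.mp h).symm⟩, hx'⟩)
  -- affine opens inside
  have hA : ∀ Z : Set X, ∃ A : X.Opens, Z ∈ irreducibleComponents X →
      IsAffineOpen A ∧ (A : Set X).Nonempty ∧ (A : Set X) ⊆ W Z := fun Z => by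
    by_cases hZ : Z ∈ irreducibleComponents X
    · obtain ⟨x, hx⟩ := hWne Z hZ
      obtain ⟨A, hA1, hA2, hA3⟩ := Groth.Agent.Lib.Helper38.ChowCover.exists_affine_nhd X (hWopen Z) hx
      exact ⟨A, fun _ => ⟨hA1, ⟨x, hA2⟩, hA3⟩⟩
    · exact ⟨⊥, fun h => absurd h hZ⟩
  choose A hA using hA
  have hAdisj : ∀ Z ∈ irreducibleComponents X, ∀ Z' ∈ irreducibleComponents X, Z ≠ Z' →
      Disjoint (A Z) (A Z') := fun Z hZ Z' hZ' hne => by
    rw [← Opens.coe_disjoint]
    exact (hWdisj Z hZ Z' hZ' hne).mono (hA Z hZ).2.2 ((hA Z' hZ').2.2.trans (hWsub Z' hZ'))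
  -- affine neighbourhoods
  have hB : ∀ x : X, ∃ B : X.Opens, IsAffineOpen B ∧ x ∈ B := fun x => by
    obtain ⟨B, hB1, hB2, -⟩ := Groth.Agent.Lib.Helper38.ChowCover.exists_affine_nhd X isOpen_univ (Set.mem_univ x)
    exact ⟨B, hB1, hB2⟩
  choose B hBaff hxB using hB
  let I : X → Set (Set X) := fun x => {Z | Z ∈ irreducibleComponents X ∧ Disjoint Z (B x : Set X)}
  have hI : ∀ x, (I x).Finite := fun x => h𝒵.subset fun Z hZ => hZ.1
  let V : X → X.Opens := fun x => B x ⊔ ⨆ Z ∈ I x, A Z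
  have hVaff : ∀ x, IsAffineOpen (V x) := fun x => by
    refine (hBaff x).sup_of_disjoint
      (IsAffineOpen.biSup_of_disjoint (hI x) (fun Z hZ => (hA Z hZ.1).1) ?_) ?_
    · intro Z hZ Z' hZ' hne
      exact hAdisj Z hZ.1 Z' hZ'.1 hne
    · rw [disjoint_iSup₂_iff]
      intro Z hZ
      rw [← Opens.coe_disjoint]
      exact (hZ.2.mono_left ((hA Z hZ.1).2.2.trans (hWsub Z hZ.1))).symm
  have hVdense : ∀ x, Dense (V x : Set X) := fun x => by
    rw [dense_iff_closure_eq, ← Set.univ_subset_iff, ← sUnion_irreducibleComponents]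
    apply Set.sUnion_subset
    intro Z hZ
    have hne : (Z ∩ (V x : Set X)).Nonempty := by
      by_cases hd : Disjoint Z (B x : Set X)
      · obtain ⟨y, hy⟩ := (hA Z hZ).2.1
        refine ⟨y, hWsub Z hZ ((hA Z hZ).2.2 hy), ?_⟩
        change y ∈ V x
        exact Opens.mem_sup.mpr (Or.inr (Opens.mem_iSup.mpr ⟨Z, Opens.mem_iSup.mpr ⟨⟨hZ, hd⟩, hy⟩⟩))
      · obtain ⟨y, hy1, hy2⟩ := Set.not_disjoint_iff.mp hd
        exact ⟨y, hy1, Opens.mem_sup.mpr (Or.inl hy2)⟩
    exact (subset_closure_inter_of_isPreirreducible_of_isOpen hZ.1.2 (V x).2 hne).trans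
      (closure_mono Set.inter_subset_right)
  -- quasi-compactness
  have hcompact : IsCompact (Set.univ : Set X) := isCompact_univ
  obtain ⟨t, ht⟩ := hcompact.elim_finite_subcover (fun x => (B x : Set X)) (fun x => (B x).2)
    (fun x _ => Set.mem_iUnion.mpr ⟨x, hxB x⟩)
  refine ⟨t.toList.map V, ?_, ?_⟩
  · intro V' hV'
    obtain ⟨x, -, rfl⟩ := List.mem_map.mp hV'
    exact ⟨hVaff x, hVdense x⟩
  · intro x
    obtain ⟨y, hy, hxy⟩ := Set.mem_iUnion₂.mp (ht (Set.mem_univ x))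
    exact ⟨V y, List.mem_map.mpr ⟨y, Finset.mem_toList.mpr hy, rfl⟩,
      Opens.mem_sup.mpr (Or.inl hxy)⟩


/-- the infimum of a list of opens. -/
def listInf {X : Scheme.{u}} : List X.Opens → X.Opens
  | [] => ⊤
  | V :: l => V ⊓ listInf l

theorem listInf_le {X : Scheme.{u}} (l : List X.Opens) (V : X.Opens) (hV : V ∈ l) :
    listInf l ≤ V := by
  induction l with
  | nil => simp at hV
  | cons W l ih =>
    rcases List.mem_cons.mp hV with rfl | h
    · exact inf_le_left
    · exact inf_le_right.trans (ih h)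

theorem dense_listInf {X : Scheme.{u}} (l : List X.Opens)
    (hl : ∀ V ∈ l, Dense (V : Set X)) : Dense (listInf l : Set X) := by
  induction l with
  | nil => simp [listInf]
  | cons W l ih =>
    have h1 := hl W List.mem_cons_self
    have h2 := ih (fun V hV => hl V (List.mem_cons_of_mem _ hV))
    change Dense ((W : Set X) ∩ (listInf l : Set X))
    exact h1.inter_of_isOpen_left h2 W.2

theorem isCompact_listInf {X : Scheme.{u}} [CompactSpace X] [QuasiSeparatedSpace X]
    (l : List X.Opens) (hl : ∀ V ∈ l, IsAffineOpen V) : IsCompact (listInf l : Set X) := by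
  induction l with
  | nil => simpa [listInf] using isCompact_univ
  | cons W l ih =>
    have h1 := (hl W List.mem_cons_self).isCompact
    have h2 := ih (fun V hV => hl V (List.mem_cons_of_mem _ hV))
    change IsCompact ((W : Set X) ∩ (listInf l : Set X))
    exact QuasiSeparatedSpace.inter_isCompact (W : Set X) (listInf l : Set X) W.2 h1 (listInf l).2 h2

end Groth.Agent.Lib.Helper20.ChowQS
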