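import Groth.Agent.Lib.Helper20.TFunFinite
import Groth.Agent.Lib.Helper20.TFunBc

/-!
# Comparing `H_q(bcCx φ P)` (a `B`-module) with `T_q(B) = H_q(P ⊗_A B)` (an `A`-module)
-/

set_option autoImplicit false
universe u

namespace Groth.Agent.Lib.Helper20

open CategoryTheory CategoryTheory.Limits MonoidalCategory TensorProduct
  Groth.Agent.Lib.Helper12.FlatCx

section

variable {A B : Type u} [CommRing A] [CommRing B] [Algebra A B]

/-- A `B`-module which is finite after restriction of scalars is finite. -/
lemma finite_of_restrictScalars (N : ModuleCat.{u} B)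
    (h : Module.Finite A ((ModuleCat.restrictScalars (algebraMap A B)).obj N)) :
    Module.Finite B N := by
  obtain ⟨s, hs⟩ := h.fg_top
  refine ⟨⟨s, ?_⟩⟩
  rw [eq_top_iff]
  intro n _
  have hn : n ∈ Submodule.span A (s : Set ((ModuleCat.restrictScalars (algebraMap A B)).obj N)) := by
    rw [hs]; trivial
  induction hn using Submodule.span_induction with
  | mem x hx => exact Submodule.subset_span hx
  | zero => exact zero_mem _
  | add x y _ _ hx hy => exact add_mem (hx trivial) (hy trivial)
  | smul a x _ hx =>
    change (algebraMap A B a) • (show N from x) ∈ _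
    exact Submodule.smul_mem _ _ (hx trivial)

/-- restriction of scalars of a `B`-linear equivalence -/
def restrictEquiv {E : ModuleCat.{u} B} {N : Type u} [AddCommGroup N] [Module B N] [Module A N]
    [IsScalarTower A B N] (e : E ≃ₗ[B] N) :
    ((ModuleCat.restrictScalars (algebraMap A B)).obj E) ≃ₗ[A] N where
  toFun := fun x => e (show E from x)
  invFun := fun y => (e.symm y : E)
  map_add' := fun x y => e.map_add _ _
  map_smul' := fun a x => by
    show e ((algebraMap A B a) • (show E from x)) = a • e _
    rw [e.map_smul, algebraMap_smul]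
  left_inv := fun x => e.symm_apply_apply _
  right_inv := e.apply_symm_apply

@[simp] lemma restrictEquiv_apply {E : ModuleCat.{u} B} {N : Type u} [AddCommGroup N] [Module B N]
    [Module A N] [IsScalarTower A B N] (e : E ≃ₗ[B] N)
    (x : (ModuleCat.restrictScalars (algebraMap A B)).obj E) :
    restrictEquiv e x = e (show E from x) := rfl

variable {ι : Type} {c : ComplexShape ι} (P : HomologicalComplex (ModuleCat.{u} A) c)

/-- the degreewise comparison `B ⊗ P_i ≃ P_i ⊗ B` of `A`-modules -/
noncomputable def bcCompareX (M : ModuleCat.{u} A) :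
    (ModuleCat.restrictScalars (algebraMap A B)).obj
      ((ModuleCat.extendScalars (algebraMap A B)).obj M) ≃ₗ[A]
      (M ⊗ ModuleCat.of A B : ModuleCat.{u} A) :=
  (restrictEquiv (extendScalarsObjEquiv (S := B) M)).trans (TensorProduct.comm A B M)

lemma bcCompareX_tmul (M : ModuleCat.{u} A) (b : B) (m : M) :
    bcCompareX (B := B) M
      (show (ModuleCat.restrictScalars (algebraMap A B)).obj
        ((ModuleCat.extendScalars (algebraMap A B)).obj M) from
        (b ⊗ₜ[A] m : TensorProduct A ((ModuleCat.restrictScalars (algebraMap A B)).obj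
          (ModuleCat.of B B)) M)) = m ⊗ₜ[A] b := rfl

lemma bcCompareX_naturality {M N : ModuleCat.{u} A} (g : M ⟶ N)
    (x : (ModuleCat.restrictScalars (algebraMap A B)).obj
      ((ModuleCat.extendScalars (algebraMap A B)).obj M)) :
    bcCompareX (B := B) N (((ModuleCat.restrictScalars (algebraMap A B)).map
      ((ModuleCat.extendScalars (algebraMap A B)).map g)).hom x) =
    (g ▷ ModuleCat.of A B).hom (bcCompareX (B := B) M x) := by
  change TensorProduct.comm A B N (extendScalarsObjEquiv (S := B) N
      (((ModuleCat.extendScalars (algebraMap A B)).map g).hom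
        (show (ModuleCat.extendScalars (algebraMap A B)).obj M from x))) =
    (g ▷ ModuleCat.of A B).hom (TensorProduct.comm A B M (extendScalarsObjEquiv (S := B) M
      (show (ModuleCat.extendScalars (algebraMap A B)).obj M from x)))
  rw [extendScalarsObjEquiv_map]
  generalize extendScalarsObjEquiv (S := B) M
    (show (ModuleCat.extendScalars (algebraMap A B)).obj M from x) = y
  induction y using TensorProduct.induction_on with
  | zero => simp
  | tmul b m => rfl
  | add y z hy hz => rw [map_add, map_add, hy, hz, map_add, map_add]

/-- restriction of scalars of `bcCx φ P` is `P ⊗_A B` -/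
noncomputable def bcCxRestrictIso :
    ((ModuleCat.restrictScalars (algebraMap A B)).mapHomologicalComplex c).obj
      (CohIII.bcCx (algebraMap A B) P) ≅ CohIII.tensorObj P (ModuleCat.of A B) :=
  HomologicalComplex.Hom.isoOfComponents (fun i => (bcCompareX (B := B) (P.X i)).toModuleIso)
    (by
      intro i j _
      apply ModuleCat.hom_ext
      apply LinearMap.ext
      intro x
      exact (bcCompareX_naturality (B := B) (P.d i j) x).symm)

/-- `H_q(bcCx φ P)` restricted to `A` is `T_q(B)` -/
noncomputable def homologyBcRestrictIso (q : ι) :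
    (ModuleCat.restrictScalars (algebraMap A B)).obj
      ((CohIII.bcCx (algebraMap A B) P).homology q) ≅ CohIII.T P q (ModuleCat.of A B) :=
  (((CohIII.bcCx (algebraMap A B) P).sc q).mapHomologyIso
      (ModuleCat.restrictScalars (algebraMap A B))).symm ≪≫
    (HomologicalComplex.homologyFunctor _ c q).mapIso (bcCxRestrictIso (B := B) P)

theorem finite_homology_bcCx (q : ι)
    (h : Module.Finite A (CohIII.T P q (ModuleCat.of A B))) :
    Module.Finite B ((CohIII.bcCx (algebraMap A B) P).homology q) := by
  apply finite_of_restrictScalars (A := A)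
  exact Module.Finite.equiv (homologyBcRestrictIso (B := B) P q).toLinearEquiv.symm

end

end Groth.Agent.Lib.Helper20
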