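import Mathlib
import Groth.Agent.Lib.Helper20.CompVal

/-!
# Every finite chain of specializations in a scheme is the image of a chain of primes of a
valuation ring (helper20)
-/

set_option autoImplicit false
universe u
open CategoryTheory CategoryTheory.Limits AlgebraicGeometry IsLocalRing

namespace Groth.Agent.Lib.Helper20.ChainVal

open Groth.Agent.Lib.Helper20.CompVal

variable {Y : Scheme.{u}}

/-- a local homomorphism out of a stalk sends the closed point to the point -/
lemma closedPoint_map {y : Y} (R : Type u) [CommRing R] [IsLocalRing R]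
    (ψ : Y.presheaf.stalk y ⟶ CommRingCat.of R) [IsLocalHom ψ.hom] :
    (Spec.map ψ ≫ Y.fromSpecStalk y).base (closedPoint R) = y := by
  rw [Scheme.Hom.comp_apply]
  have h1 : (Spec.map ψ).base (closedPoint R) = closedPoint (Y.presheaf.stalk y) :=
    IsLocalRing.comap_closedPoint ψ.hom
  rw [h1]
  exact Scheme.fromSpecStalk_closedPoint

/-- the chain lemma -/
theorem exists_chain_valuationSubring (y : ℕ → Y) (hy : ∀ i, y i ⤳ y (i + 1)) (n : ℕ) :
    ∃ (F : Type u) (_ : Field F) (R : ValuationSubring F)
      (ψ : Y.presheaf.stalk (y n) ⟶ CommRingCat.of R) (_ : IsLocalHom ψ.hom)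
      (v : ℕ → Spec (CommRingCat.of R)),
      (∀ i, i < n → v i ⤳ v (i + 1)) ∧
      (∀ i, i ≤ n → (Spec.map ψ ≫ Y.fromSpecStalk (y n)).base (v i) = y i) := by
  induction n with
  | zero =>
    let F := IsLocalRing.ResidueField (Y.presheaf.stalk (y 0))
    let R : ValuationSubring F := ⊤
    let ψ0 : Y.presheaf.stalk (y 0) →+* R :=
      (IsLocalRing.residue (Y.presheaf.stalk (y 0))).codRestrict R.toSubring (fun _ => trivial)
    have hloc : IsLocalHom ψ0 := by
      constructor
      intro a ha
      have h1 : IsUnit (IsLocalRing.residue (Y.presheaf.stalk (y 0)) a) := ha.map R.subtype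
      exact isUnit_of_map_unit (IsLocalRing.residue (Y.presheaf.stalk (y 0))) a h1
    refine ⟨F, inferInstance, R, CommRingCat.ofHom ψ0, hloc, fun _ => closedPoint R, ?_, ?_⟩
    · intro i hi
      exact absurd hi (Nat.not_lt_zero i)
    · intro i hi
      obtain rfl : i = 0 := Nat.le_zero.1 hi
      haveI : IsLocalHom (CommRingCat.ofHom ψ0).hom := hloc
      exact closedPoint_map R (CommRingCat.ofHom ψ0)
  | succ n ih =>
    obtain ⟨F, _, R', ψ', hψ', v', hv', hg'⟩ := ih
    let k' := ResidueField R'
    let ρ : R' →+* k' := residue R'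
    let sp : Y.presheaf.stalk (y (n + 1)) ⟶ Y.presheaf.stalk (y n) :=
      Y.presheaf.stalkSpecializes (hy n)
    let θ : Y.presheaf.stalk (y (n + 1)) →+* k' := ρ.comp (ψ'.hom.comp sp.hom)
    obtain ⟨B, hB, hBloc⟩ := IsLocalRing.exists_factor_valuationRing θ
    let R : ValuationSubring F := comp R' ρ B
    have hmem : ∀ o : Y.presheaf.stalk (y (n + 1)),
        ((R'.subtype).comp (ψ'.hom.comp sp.hom)) o ∈ R.toSubring := by
      intro o
      exact ⟨(ψ'.hom (sp.hom o)).2, hB o⟩
    let ψ0 : Y.presheaf.stalk (y (n + 1)) →+* R :=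
      ((R'.subtype).comp (ψ'.hom.comp sp.hom)).codRestrict R.toSubring hmem
    have hloc : IsLocalHom ψ0 := by
      constructor
      intro o ho
      by_contra hou
      have h1 : ¬ IsUnit (θ.codRestrict B.toSubring hB o) := fun hu => hou (hBloc.map_nonunit o hu)
      have h2 : B.valuation (θ o) < 1 :=
        (B.valuation_lt_one_iff _).mp ((mem_maximalIdeal _).mpr h1)
      have h3 : R.valuation ((ψ'.hom (sp.hom o) : R') : F) < 1 :=
        comp_valuation_lt_one R' ρ B (ψ'.hom (sp.hom o)).2 h2
      have h4 : R.valuation ((ψ0 o : R) : F) = 1 := (R.valuation_eq_one_iff _).mp ho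
      have h5 : ((ψ0 o : R) : F) = ((ψ'.hom (sp.hom o) : R') : F) := rfl
      rw [h5] at h4
      rw [h4] at h3
      exact lt_irrefl _ h3
    let incl : R →+* R' := Subring.inclusion (comp_le R' ρ B)
    let ψ : Y.presheaf.stalk (y (n + 1)) ⟶ CommRingCat.of R := CommRingCat.ofHom ψ0
    have hcomp : ψ ≫ CommRingCat.ofHom incl = sp ≫ ψ' := by
      ext o
      rfl
    have hK : Spec.map (CommRingCat.ofHom incl) ≫ (Spec.map ψ ≫ Y.fromSpecStalk (y (n + 1))) =
        Spec.map ψ' ≫ Y.fromSpecStalk (y n) := by
      rw [← Category.assoc, ← Spec.map_comp, hcomp, Spec.map_comp, Category.assoc,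
        Scheme.SpecMap_stalkSpecializes_fromSpecStalk]
    refine ⟨F, inferInstance, R, ψ, hloc,
      fun i => if i ≤ n then (Spec.map (CommRingCat.ofHom incl)).base (v' i) else closedPoint R,
      ?_, ?_⟩
    · intro i hi
      by_cases hin : i + 1 ≤ n
      · have hin' : i ≤ n := by omega
        simp only [hin, hin', if_true]
        exact (hv' i (by omega)).map (Spec.map (CommRingCat.ofHom incl)).continuous
      · simp only [hin, if_false]
        exact IsLocalRing.specializes_closedPoint _
    · intro i hi
      by_cases hin : i ≤ n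
      · simp only [hin, if_true]
        rw [← Scheme.Hom.comp_apply, hK]
        exact hg' i hin
      · simp only [hin, if_false]
        obtain rfl : i = n + 1 := by omega
        haveI : IsLocalHom ψ.hom := hloc
        exact closedPoint_map R ψ

end Groth.Agent.Lib.Helper20.ChainVal
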