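import Mathlib.AlgebraicGeometry.Stalk
import Mathlib.AlgebraicGeometry.Noetherian
import Mathlib.AlgebraicGeometry.FunctionField
import Mathlib.RingTheory.KrullDimension.Basic
import Mathlib.Order.KrullDimension

/-!
# Topology of curves (schemes whose closed points have one-dimensional local rings)
-/

set_option autoImplicit false
universe u

open CategoryTheory AlgebraicGeometry TopologicalSpace

namespace Groth.Agent.Lib.Helper20.Curve

/-- a chain of two strict specializations ending at `c` forces `dim O_{X,c} ≥ 2` -/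
lemma two_le_ringKrullDim_stalk {X : Scheme.{u}} {z₁ z₂ c : X} (h₁ : z₁ ⤳ z₂) (h₂ : z₂ ⤳ c)
    (hne₁ : z₁ ≠ z₂) (hne₂ : z₂ ≠ c) : 2 ≤ ringKrullDim (X.presheaf.stalk c) := by
  let j := X.fromSpecStalk c
  have hemb : Topology.IsEmbedding j := j.isEmbedding
  have hrange : Set.range j = {z | z ⤳ c} := Scheme.range_fromSpecStalk
  have m₁ : z₁ ∈ Set.range j := by rw [hrange]; exact h₁.trans h₂
  have m₂ : z₂ ∈ Set.range j := by rw [hrange]; exact h₂
  have m₃ : c ∈ Set.range j := by rw [hrange]; exact specializes_rfl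
  obtain ⟨p₁, hp₁⟩ := m₁
  obtain ⟨p₂, hp₂⟩ := m₂
  obtain ⟨p₃, hp₃⟩ := m₃
  have s₁ : p₁ ⤳ p₂ := by
    rw [← hemb.isInducing.specializes_iff, hp₁, hp₂]; exact h₁
  have s₂ : p₂ ⤳ p₃ := by
    rw [← hemb.isInducing.specializes_iff, hp₂, hp₃]; exact h₂
  let q₁ : PrimeSpectrum (X.presheaf.stalk c) := p₁
  let q₂ : PrimeSpectrum (X.presheaf.stalk c) := p₂
  let q₃ : PrimeSpectrum (X.presheaf.stalk c) := p₃
  have l₁ : q₁ < q₂ := by
    refine lt_of_le_of_ne ((PrimeSpectrum.le_iff_specializes _ _).mpr s₁) ?_
    intro h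
    apply hne₁
    calc z₁ = j p₁ := hp₁.symm
      _ = j p₂ := congrArg j h
      _ = z₂ := hp₂
  have l₂ : q₂ < q₃ := by
    refine lt_of_le_of_ne ((PrimeSpectrum.le_iff_specializes _ _).mpr s₂) ?_
    intro h
    apply hne₂
    calc z₂ = j p₂ := hp₂.symm
      _ = j p₃ := congrArg j h
      _ = c := hp₃
  let s : LTSeries (PrimeSpectrum (X.presheaf.stalk c)) :=
    ((RelSeries.singleton _ q₁).snoc q₂ l₁).snoc q₃ (by simpa using l₂)
  have hs : s.length = 2 := rfl
  have := Order.LTSeries.length_le_krullDim s
  rw [hs] at this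
  exact this

/-- the local ring at a point without proper generizations has dimension `≤ 0` -/
lemma ringKrullDim_stalk_le_zero {X : Scheme.{u}} {c : X} (h : ∀ z : X, z ⤳ c → z = c) :
    ringKrullDim (X.presheaf.stalk c) ≤ 0 := by
  let j := X.fromSpecStalk c
  have hemb : Topology.IsEmbedding j := j.isEmbedding
  have hrange : Set.range j = {z | z ⤳ c} := Scheme.range_fromSpecStalk
  have hsub : Subsingleton (PrimeSpectrum (X.presheaf.stalk c)) := by
    constructor
    intro p q
    apply hemb.injective
    have hp : j p ∈ {z | z ⤳ c} := by rw [← hrange]; exact ⟨p, rfl⟩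
    have hq : j q ∈ {z | z ⤳ c} := by rw [← hrange]; exact ⟨q, rfl⟩
    rw [h _ hp, h _ hq]
  exact Order.krullDim_nonpos_of_subsingleton

variable {X : Scheme.{u}} [IrreducibleSpace X]

/-- In an irreducible quasi-compact scheme whose closed points have one-dimensional local rings,
the generic point is the only non-closed point. -/
lemma eq_genericPoint_of_not_isClosed [CompactSpace X]
    (hcurve : ∀ x : X, IsClosed ({x} : Set X) → ringKrullDim (X.presheaf.stalk x) = 1)
    (x : X) (hx : ¬ IsClosed ({x} : Set X)) : x = genericPoint X := by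
  by_contra hne
  obtain ⟨c, hc, hcl⟩ := IsClosed.exists_closed_singleton (isClosed_closure (s := ({x} : Set X)))
    ⟨x, subset_closure rfl⟩
  have hxc : x ⤳ c := specializes_iff_mem_closure.mpr hc
  have hne' : x ≠ c := by
    rintro rfl
    exact hx hcl
  have hξ : genericPoint X ⤳ x := genericPoint_specializes x
  have h2 := two_le_ringKrullDim_stalk hξ hxc (Ne.symm hne) hne'
  rw [hcurve c hcl] at h2
  exact absurd h2 (by decide)

/-- In an irreducible scheme whose closed points have one-dimensional local rings, the generic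
point is not closed. -/
lemma not_isClosed_genericPoint
    (hcurve : ∀ x : X, IsClosed ({x} : Set X) → ringKrullDim (X.presheaf.stalk x) = 1) :
    ¬ IsClosed ({genericPoint X} : Set X) := by
  intro hcl
  have h0 : ringKrullDim (X.presheaf.stalk (genericPoint X)) ≤ 0 := by
    apply ringKrullDim_stalk_le_zero
    intro z hz
    have : z ∈ closure ({genericPoint X} : Set X) := by
      rw [genericPoint_closure]; trivial
    rw [hcl.closure_eq] at this
    exact this
  rw [hcurve _ hcl] at h0
  exact absurd h0 (by decide)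

end Groth.Agent.Lib.Helper20.Curve
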