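import Groth.Agent.Lib.Helper20.Curve
import Mathlib.RingTheory.DiscreteValuationRing.TFAE
import Mathlib.RingTheory.KrullDimension.Field
import Mathlib.RingTheory.Valuation.ValuationSubring

/-!
# One-dimensional normal local domains are valuation rings; the valuation subring of the
fraction field cut out by a valuation ring.
-/

set_option autoImplicit false
universe u

open IsLocalRing

namespace Groth.Agent.Lib.Helper20.Curve

lemma not_isField_of_ringKrullDim_eq_one (A : Type*) [CommRing A] (h : ringKrullDim A = 1) :
    ¬ IsField A := by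
  intro hf
  rw [ringKrullDim_eq_zero_of_isField hf] at h
  exact absurd h (by decide)

/-- A Noetherian integrally closed local domain of dimension one is a valuation ring. -/
lemma valuationRing_of_dim_one (A : Type*) [CommRing A] [IsDomain A] [IsLocalRing A]
    [IsNoetherianRing A] [IsIntegrallyClosed A] (h : ringKrullDim A = 1) : ValuationRing A := by
  have hnf := not_isField_of_ringKrullDim_eq_one A h
  have h13 : ValuationRing A ↔ (IsIntegrallyClosed A ∧ ∃! P : Ideal A, P ≠ ⊥ ∧ P.IsPrime) :=
    (IsDiscreteValuationRing.TFAE A hnf).out 1 3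
  rw [h13]
  refine ⟨inferInstance, ?_⟩
  have hm : maximalIdeal A ≠ ⊥ := isField_iff_maximalIdeal_eq.not.mp hnf
  refine ⟨maximalIdeal A, ⟨hm, inferInstance⟩, ?_⟩
  rintro P ⟨hP0, hPp⟩
  by_contra hne
  have hPm : P ≤ maximalIdeal A := le_maximalIdeal hPp.ne_top
  let q₁ : PrimeSpectrum A := ⟨⊥, Ideal.isPrime_bot⟩
  let q₂ : PrimeSpectrum A := ⟨P, hPp⟩
  let q₃ : PrimeSpectrum A := ⟨maximalIdeal A, inferInstance⟩
  have l₁ : q₁ < q₂ := by
    show (⊥ : Ideal A) < P
    exact bot_lt_iff_ne_bot.mpr hP0
  have l₂ : q₂ < q₃ := by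
    show P < maximalIdeal A
    exact lt_of_le_of_ne hPm hne
  let s : LTSeries (PrimeSpectrum A) :=
    ((RelSeries.singleton _ q₁).snoc q₂ l₁).snoc q₃ (by simpa using l₂)
  have hs : s.length = 2 := rfl
  have := Order.LTSeries.length_le_krullDim s
  rw [hs] at this
  have h2 : (2 : WithBot ℕ∞) ≤ ringKrullDim A := this
  rw [h] at h2
  exact absurd h2 (by decide)

/-- The valuation subring of the fraction field `K` of a valuation ring `A` consisting of the
image of `A`. -/
def rangeValSub (A K : Type*) [CommRing A] [IsDomain A] [ValuationRing A] [Field K] [Algebra A K]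
    [IsFractionRing A K] : ValuationSubring K :=
  { (algebraMap A K).range with
    mem_or_inv_mem' := by
      intro x
      rcases ValuationRing.isInteger_or_isInteger A x with ⟨a, ha⟩ | ⟨a, ha⟩
      · exact Or.inl ⟨a, ha⟩
      · exact Or.inr ⟨a, ha⟩ }

lemma mem_rangeValSub {A K : Type*} [CommRing A] [IsDomain A] [ValuationRing A] [Field K]
    [Algebra A K] [IsFractionRing A K] (x : K) :
    x ∈ rangeValSub A K ↔ ∃ a : A, algebraMap A K a = x := Iff.rfl

lemma coe_rangeValSub (A K : Type*) [CommRing A] [IsDomain A] [ValuationRing A] [Field K]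
    [Algebra A K] [IsFractionRing A K] :
    (rangeValSub A K : Set K) = Set.range (algebraMap A K) := rfl

lemma rangeValSub_ne_top (A K : Type*) [CommRing A] [IsDomain A] [ValuationRing A] [Field K]
    [Algebra A K] [IsFractionRing A K] (h : ¬ IsField A) : rangeValSub A K ≠ ⊤ := by
  intro htop
  apply h
  have hsurj : Function.Surjective (algebraMap A K) := by
    intro x
    have : x ∈ rangeValSub A K := by rw [htop]; trivial
    exact this
  have hbij : Function.Bijective (algebraMap A K) := ⟨IsFractionRing.injective A K, hsurj⟩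
  exact (RingEquiv.ofBijective (algebraMap A K) hbij).toMulEquiv.isField
    (Field.toIsField K)

/-- A valuation subring dominating (the image of) a valuation ring with the same fraction field
is equal to it. -/
lemma eq_range_of_dominates {A K : Type*} [CommRing A] [IsDomain A] [ValuationRing A] [Field K]
    [Algebra A K] [IsFractionRing A K] (R : ValuationSubring K)
    (h₁ : ∀ a : A, algebraMap A K a ∈ R)
    (h₂ : ∀ a : A, ¬ IsUnit a → R.valuation (algebraMap A K a) < 1) :
    (R : Set K) = Set.range (algebraMap A K) := by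
  apply Set.Subset.antisymm
  · intro r hr
    rcases ValuationRing.isInteger_or_isInteger A r with ⟨a, ha⟩ | ⟨a, ha⟩
    · exact ⟨a, ha⟩
    · by_cases hr0 : r = 0
      · exact ⟨0, by rw [map_zero, hr0]⟩
      by_cases hu : IsUnit a
      · obtain ⟨u, rfl⟩ := hu
        refine ⟨((u⁻¹ : Aˣ) : A), ?_⟩
        have h1 : algebraMap A K ((u⁻¹ : Aˣ) : A) * algebraMap A K (u : A) = 1 := by
          rw [← map_mul, Units.inv_mul, map_one]
        rw [ha] at h1
        field_simp at h1
        exact h1
      · exfalso
        have h1 := h₂ a hu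
        rw [ha, map_inv₀] at h1
        have h2 : R.valuation r ≤ 1 := (R.valuation_le_one_iff _).mpr hr
        have h3 : R.valuation r ≠ 0 := by
          rw [ne_eq, map_eq_zero]; exact hr0
        have h4 : 1 < (R.valuation r)⁻¹ := (one_lt_inv₀ (zero_lt_iff.mpr h3)).mpr
          (lt_of_le_of_ne h2 (fun h => by rw [h, inv_one] at h1; exact lt_irrefl _ h1))
        exact lt_irrefl _ (h4.trans h1)
  · rintro _ ⟨a, rfl⟩
    exact h₁ a

end Groth.Agent.Lib.Helper20.Curve
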