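import Mathlib
import Groth.Prelude
import Groth.Agent.Lib.Helper11.GenLocusBasis

/-! Helper library (helper20): on a Noetherian scheme every point has a dense affine open
neighbourhood; affine opens of a finite-type scheme over a Noetherian base are quasi-projective. -/

set_option autoImplicit false
universe u

open AlgebraicGeometry CategoryTheory Limits TopologicalSpace

namespace Groth.Agent.Lib.Helper20.DenseAffine

/-- In a scheme whose underlying space is Noetherian, every point has a dense affine open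
neighbourhood. -/
theorem exists_dense_isAffineOpen (X : Scheme.{u}) [NoetherianSpace X] (x : X) :
    ∃ U : X.Opens, x ∈ U ∧ IsAffineOpen U ∧ Dense (U : Set X) := by
  classical
  -- the set of affine opens containing x
  let P : Set X.Opens := {U | x ∈ U ∧ IsAffineOpen U}
  have hP : P.Nonempty := by
    obtain ⟨_, ⟨U, hU, rfl⟩, hxU, -⟩ :=
      X.isBasis_affineOpens.exists_subset_of_mem_open (Set.mem_univ x) isOpen_univ
    exact ⟨U, hxU, hU⟩
  have hwf : WellFoundedGT X.Opens := inferInstanceAs (NoetherianSpace X)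
  obtain ⟨U, hUP, hmax⟩ := hwf.wf.has_min P hP
  refine ⟨U, hUP.1, hUP.2, ?_⟩
  by_contra hnd
  -- the complement of the closure of U is a nonempty open
  have hne : ((closure (U : Set X))ᶜ).Nonempty := by
    rw [Set.nonempty_compl]
    intro h
    exact hnd (dense_iff_closure_eq.mpr h)
  obtain ⟨y, hy⟩ := hne
  obtain ⟨_, ⟨V, hV, rfl⟩, hyV, hVsub⟩ :=
    X.isBasis_affineOpens.exists_subset_of_mem_open hy isClosed_closure.isOpen_compl
  have hdisj : Disjoint U V := by
    rw [← TopologicalSpace.Opens.coe_disjoint]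
    rw [Set.disjoint_left]
    intro z hzU hzV
    exact hVsub hzV (subset_closure hzU)
  have hUV : IsAffineOpen (U ⊔ V) := hUP.2.sup_of_disjoint hV hdisj
  have hlt : U < U ⊔ V := by
    refine lt_of_le_of_ne le_sup_left ?_
    intro h
    have hyU : y ∈ U := by
      rw [h]; exact Or.inr hyV
    exact hy (subset_closure hyU)
  exact hmax (U ⊔ V) ⟨Or.inl hUP.1, hUV⟩ hlt

/-- Finitely many dense affine opens cover a Noetherian scheme. -/
theorem exists_finite_dense_affine_cover (X : Scheme.{u}) [NoetherianSpace X] :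
    ∃ (n : ℕ) (U : Fin n → X.Opens), (⨆ i, U i) = ⊤ ∧
      ∀ i, IsAffineOpen (U i) ∧ Dense ((U i : Set X)) := by
  classical
  choose W hxW hW hWd using exists_dense_isAffineOpen X
  have hcov : (⋃ x, ((W x : X.Opens) : Set X)) = Set.univ :=
    Set.eq_univ_of_forall fun x => Set.mem_iUnion.mpr ⟨x, hxW x⟩
  have hc : IsCompact (Set.univ : Set X) := NoetherianSpace.isCompact _
  obtain ⟨t, ht⟩ := hc.elim_finite_subcover (fun x => ((W x : X.Opens) : Set X))
    (fun x => (W x).2) hcov.ge
  refine ⟨t.card, fun i => W (t.equivFin.symm i).1, ?_, fun i => ⟨hW _, hWd _⟩⟩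
  rw [eq_top_iff]
  intro z _
  obtain ⟨x, hx, hz⟩ := Set.mem_iUnion₂.mp (ht (Set.mem_univ z))
  rw [TopologicalSpace.Opens.mem_iSup]
  refine ⟨t.equivFin ⟨x, hx⟩, ?_⟩
  simpa using hz

open Groth.Agent.Lib.Helper11.GenLocus in
/-- An affine open of a scheme of finite type over a Noetherian scheme is quasi-projective over
the base: its structure module is relatively ample. -/
theorem isQuasiProjective_of_isAffineOpen {S X : Scheme.{u}} (f : X ⟶ S)
    [IsNoetherian S] [QuasiCompact f] [LocallyOfFiniteType f] (U : X.Opens) (hU : IsAffineOpen U) :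
    RelProj.IsQuasiProjective (U.ι ≫ f) := by
  have hXl : IsLocallyNoetherian X := LocallyOfFiniteType.isLocallyNoetherian f
  have hXc : CompactSpace X := by
    have := QuasiCompact.compactSpace_of_compactSpace f
    exact this
  have hXn : IsNoetherian X := { }
  have : IsAffine (U : Scheme.{u}) := hU
  have hUl : IsLocallyNoetherian (U : Scheme.{u}) := inferInstance
  have hUn : IsNoetherian (U : Scheme.{u}) := { }
  have hqc : QuasiCompact (U.ι ≫ f) := inferInstance
  refine ⟨inferInstance, hqc, Coh.structureModule (U : Scheme.{u}), hqc, ?_⟩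
  intro V
  have hWn : IsNoetherian (((U.ι ≫ f) ⁻¹ᵁ V.1 : (U : Scheme.{u}).Opens) : Scheme.{u}) := by
    have : IsLocallyNoetherian (((U.ι ≫ f) ⁻¹ᵁ V.1 : (U : Scheme.{u}).Opens) : Scheme.{u}) :=
      inferInstance
    have : CompactSpace (((U.ι ≫ f) ⁻¹ᵁ V.1 : (U : Scheme.{u}).Opens) : Scheme.{u}) := by
      have h := (NoetherianSpace.isCompact (((U.ι ≫ f) ⁻¹ᵁ V.1 : (U : Scheme.{u}).Opens) :
        Set (U : Scheme.{u})))
      exact isCompact_iff_compactSpace.mp h
    exact { }
  have hqa : Scheme.IsQuasiAffine (((U.ι ≫ f) ⁻¹ᵁ V.1 : (U : Scheme.{u}).Opens) : Scheme.{u}) :=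
    Scheme.IsQuasiAffine.of_isImmersion ((U.ι ≫ f) ⁻¹ᵁ V.1).ι
  exact isAmple_of_isQuasiAffine _
    (isInvertible_restrict (isInvertible_structureModule (U : Scheme.{u})) _)

end Groth.Agent.Lib.Helper20.DenseAffine
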