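/-
Helper20 library: divisibility by a regular element of a Noetherian ring is detected at the
primes of depth one (no domain hypothesis; generalises `DepthOne`).

* `depth_eq_one_of_mem_associatedPrimes_quotSMulTop_of_isSMulRegular` : `p ∈ Ass(A/sA)`, `s` a
  regular element of a Noetherian ring, implies `depth A_p = 1`.
* `exists_mul_eq_mul_of_forall_depth_one` : for `a b : A`, `b` regular and a prime `q`: if `b ∣ a` in
  `A_p` for all primes `p ≤ q` with `depth A_p = 1`, then `b ∣ a` in `A_q`.
-/
import Groth.Agent.Lib.Helper29.DepthLoc2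
import Groth.Agent.Lib.Helper29.DepthSelf
import Groth.Agent.Lib.Helper29.DepthQuot
import Mathlib.RingTheory.Ideal.AssociatedPrime.Localization

set_option autoImplicit false
universe u

namespace Groth.Agent.Lib.Helper20.DepthOneReg

open Groth.Agent.Lib.Helper29
open scoped Pointwise

variable {A : Type u} [CommRing A] [IsNoetherianRing A]

theorem depth_eq_one_of_mem_associatedPrimes_quotSMulTop_of_isSMulRegular {s : A}
    (hreg : IsSMulRegular A s) (p : Ideal A)
    [p.IsPrime] (hp : p ∈ associatedPrimes A (QuotSMulTop s A)) (hsp : s ∈ p) :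
    LocCoh.depth (Localization.AtPrime p) (Localization.AtPrime p) = 1 := by
  have h0 := depth_localizedModule_eq_zero_of_mem_associatedPrimes A (QuotSMulTop s A) p hp
  have h1 := depth_localizedModule_quotSMulTop_add_one A p A hsp hreg
  rw [h0, zero_add, depth_localizedModule_self] at h1
  exact h1.symm

theorem exists_mul_eq_mul_of_forall_depth_one (a b : A) (hb : IsSMulRegular A b) (q : Ideal A)
    [q.IsPrime]
    (h : ∀ (p : Ideal A) [p.IsPrime], p ≤ q →
      LocCoh.depth (Localization.AtPrime p) (Localization.AtPrime p) = 1 →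
      ∃ t ∉ p, ∃ e : A, t * a = b * e) :
    ∃ t ∉ q, ∃ e : A, t * a = b * e := by
  let x : QuotSMulTop b A := Submodule.Quotient.mk a
  let N : Submodule A (QuotSMulTop b A) := Submodule.span A {x}
  let I : Ideal A := Module.annihilator A N
  have hI : ∀ t : A, t ∈ I ↔ ∃ e : A, t * a = b * e := by
    intro t
    have h1 : t ∈ I ↔ t • x = 0 := Submodule.mem_annihilator_span_singleton x t
    rw [h1]
    have h2 : t • x = 0 ↔ t * a ∈ b • (⊤ : Submodule A A) := by
      change Submodule.Quotient.mk (t • a) = 0 ↔ _
      rw [Submodule.Quotient.mk_eq_zero, smul_eq_mul]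
    rw [h2, Submodule.mem_smul_pointwise_iff_exists]
    constructor
    · rintro ⟨e, -, he⟩
      exact ⟨e, by rw [← he, smul_eq_mul]⟩
    · rintro ⟨e, he⟩
      exact ⟨e, trivial, by rw [smul_eq_mul, he]⟩
  by_cases hIq : I ≤ q
  · exfalso
    obtain ⟨p, hp, hpq⟩ := Ideal.exists_minimalPrimes_le hIq
    have hpprime : p.IsPrime := hp.1.1
    have hIp : I ≤ p := hp.1.2
    have hfin : Module.Finite A N := Module.Finite.span_singleton A x
    have hpN : p ∈ associatedPrimes A N :=
      Module.associatedPrimes.minimalPrimes_annihilator_subset_associatedPrimes A N hp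
    have hpM : p ∈ associatedPrimes A (QuotSMulTop b A) :=
      associatedPrimes.subset_of_injective (f := N.subtype) N.injective_subtype hpN
    have hbI : b ∈ I := by
      rw [hI]
      exact ⟨a, rfl⟩
    have hd := depth_eq_one_of_mem_associatedPrimes_quotSMulTop_of_isSMulRegular hb p hpM (hIp hbI)
    obtain ⟨t, htp, e, hte⟩ := h p hpq hd
    exact htp (hIp ((hI t).mpr ⟨e, hte⟩))
  · obtain ⟨t, htI, htq⟩ := Set.not_subset.mp hIq
    obtain ⟨e, hte⟩ := (hI t).mp htI
    exact ⟨t, htq, e, hte⟩

end Groth.Agent.Lib.Helper20.DepthOneReg
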