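import Groth.Agent.Lib.Helper20.EilenbergWatts

/-!
# Helper library (helper20): Eilenberg–Watts for functors `ModuleCat A ⥤ ModuleCat B`

For an additive functor `F : ModuleCat A ⥤ ModuleCat B`, the `B`-module `K = F(A)` carries an
`A`-action `a ↦ F(a • 𝟙)`, and there is a comparison map `t_M : K ⊗[A] M →ₗ[B] F(M)`,
`y ⊗ x ↦ F(θ_x) y`.  It is bijective when `F` preserves finite colimits and coproducts.
-/

set_option autoImplicit false

namespace Groth.Agent.Lib.Helper20.EWH

open CategoryTheory CategoryTheory.Limits TensorProduct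
open Groth.Agent.Lib.Helper20.EW

universe u

variable {A B : Type u} [CommRing A] [CommRing B]

lemma smul_id_eq (a : A) :
    a • 𝟙 (ModuleCat.of A A) = ModuleCat.ofHom (θ (ModuleCat.of A A) a) := by
  rw [θ_self]
  rfl

lemma θ_add (M : ModuleCat.{u} A) (x x' : M) : θ M (x + x') = θ M x + θ M x' := by
  ext
  simp

lemma θ_smul (M : ModuleCat.{u} A) (a : A) (x : M) :
    θ M (a • x) = θ M x ∘ₗ θ (ModuleCat.of A A) a := by
  ext
  rw [LinearMap.comp_apply, θ_apply, θ_apply, θ_apply, one_smul, smul_eq_mul, one_mul]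

variable (F : ModuleCat.{u} A ⥤ ModuleCat.{u} B) [F.Additive]

/-- The `B`-module `F(A)`, as a type synonym which also carries an `A`-module structure. -/
def KF : Type u := F.obj (ModuleCat.of A A)

noncomputable instance : AddCommGroup (KF F) :=
  inferInstanceAs (AddCommGroup (F.obj (ModuleCat.of A A)))

noncomputable instance : Module B (KF F) :=
  inferInstanceAs (Module B (F.obj (ModuleCat.of A A)))

/-- The action of `A` on `F(A)` by functoriality. -/
noncomputable def actHom : A →+* Module.End B (KF F) where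
  toFun a := (F.map (a • 𝟙 (ModuleCat.of A A))).hom
  map_one' := by
    rw [one_smul, F.map_id]
    rfl
  map_mul' a b := by
    have h : (a * b) • 𝟙 (ModuleCat.of A A) =
        (b • 𝟙 (ModuleCat.of A A)) ≫ (a • 𝟙 (ModuleCat.of A A)) := by
      rw [Linear.smul_comp, Linear.comp_smul, Category.comp_id, smul_smul, mul_comm]
    rw [h, F.map_comp]
    rfl
  map_zero' := by
    rw [zero_smul, F.map_zero]
    rfl
  map_add' a b := by
    rw [add_smul, F.map_add]
    rfl

noncomputable instance : Module A (KF F) := Module.compHom (KF F) (actHom F)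

lemma smul_def (a : A) (y : KF F) :
    a • y = (F.map (a • 𝟙 (ModuleCat.of A A))).hom y := rfl

instance : SMulCommClass A B (KF F) where
  smul_comm a b y := by
    rw [smul_def, smul_def]
    exact map_smul (F.map (a • 𝟙 (ModuleCat.of A A))).hom b y

/-- The biadditive map `(y, x) ↦ F(θ_x) y`. -/
noncomputable def tAdd (M : ModuleCat.{u} A) : KF F →+ M →+ F.obj M :=
  AddMonoidHom.mk' (fun y => AddMonoidHom.mk'
    (fun x => (F.map (ModuleCat.ofHom (θ M x))).hom y) (by
      intro x x'
      rw [θ_add, ModuleCat.ofHom_add, F.map_add]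
      rfl)) (by
    intro y y'
    ext x
    exact map_add (F.map (ModuleCat.ofHom (θ M x))).hom y y')

lemma tAdd_apply (M : ModuleCat.{u} A) (y : KF F) (x : M) :
    tAdd F M y x = (F.map (ModuleCat.ofHom (θ M x))).hom y := rfl

lemma tAdd_smul (M : ModuleCat.{u} A) (a : A) (y : KF F) (x : M) :
    tAdd F M (a • y) x = tAdd F M y (a • x) := by
  rw [tAdd_apply, tAdd_apply, smul_def, θ_smul, ModuleCat.ofHom_comp, F.map_comp, smul_id_eq]
  rfl

/-- The canonical comparison map `F(A) ⊗[A] M → F(M)`. -/
noncomputable def tMap (M : ModuleCat.{u} A) : KF F ⊗[A] M →ₗ[B] F.obj M where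
  toFun := TensorProduct.liftAddHom (tAdd F M) (tAdd_smul F M)
  map_add' := map_add _
  map_smul' b z := by
    induction z using TensorProduct.induction_on with
    | zero => simp
    | tmul y x =>
      rw [TensorProduct.smul_tmul', TensorProduct.liftAddHom_tmul, TensorProduct.liftAddHom_tmul,
        tAdd_apply, tAdd_apply]
      exact map_smul (F.map (ModuleCat.ofHom (θ M x))).hom b y
    | add z w hz hw =>
      rw [smul_add, map_add, hz, hw, map_add, smul_add]

lemma tMap_tmul (M : ModuleCat.{u} A) (y : KF F) (x : M) :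
    tMap F M (y ⊗ₜ x) = (F.map (ModuleCat.ofHom (θ M x))).hom y := rfl

lemma tMap_naturality {M N : ModuleCat.{u} A} (g : M ⟶ N) (z : KF F ⊗[A] M) :
    (F.map g).hom (tMap F M z) = tMap F N (g.hom.lTensor _ z) := by
  induction z using TensorProduct.induction_on with
  | zero => simp
  | tmul y x =>
    rw [LinearMap.lTensor_tmul, tMap_tmul, tMap_tmul, ← comp_θ, F.map_comp]
    rfl
  | add a b ha hb => rw [map_add, map_add, ha, hb, map_add, map_add]

lemma tMap_self_tmul_one (y : KF F) :
    tMap F (ModuleCat.of A A) (y ⊗ₜ (1 : A)) = y := by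
  rw [tMap_tmul]
  have h : ModuleCat.ofHom (θ (ModuleCat.of A A) (1 : A)) = 𝟙 _ := by
    rw [← smul_id_eq, one_smul]
  rw [h, F.map_id]
  rfl

section Free

variable (L : ModuleCat.{u} A) {I : Type u} (b : Module.Basis I A L)
variable [∀ J : Type u, PreservesColimitsOfShape (Discrete J) F]

/-- `F` of the basis cofan is a colimit cofan. -/
noncomputable def mapBasisCofanIsColimit :
    IsColimit (Cofan.mk (F.obj L) fun i => F.map (ModuleCat.ofHom (θ L (b i))) :
      Cofan fun _ : I => F.obj (ModuleCat.of A A)) :=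
  isColimitCofanMkObjOfIsColimit F _ (fun i => ModuleCat.ofHom (θ L (b i)))
    (basisCofanIsColimit L b)

include b in
lemma tMap_surjective_of_basis : Function.Surjective (tMap F L) := by
  rw [← LinearMap.range_eq_top]
  have hc := mapBasisCofanIsColimit F L b
  have h : ModuleCat.ofHom (LinearMap.range (tMap F L)).mkQ =
      (0 : F.obj L ⟶ ModuleCat.of B (F.obj L ⧸ LinearMap.range (tMap F L))) := by
    refine Cofan.IsColimit.hom_ext hc _ _ (fun i => ?_)
    rw [Limits.comp_zero]
    ext y
    show (LinearMap.range (tMap F L)).mkQ ((F.map (ModuleCat.ofHom (θ L (b i)))).hom y) = 0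
    rw [Submodule.mkQ_apply, Submodule.Quotient.mk_eq_zero]
    exact ⟨(y : KF F) ⊗ₜ b i, tMap_tmul F L y (b i)⟩
  have h2 : (LinearMap.range (tMap F L)).mkQ = 0 := congrArg ModuleCat.Hom.hom h
  rw [← Submodule.ker_mkQ (LinearMap.range (tMap F L)), h2, LinearMap.ker_zero]

/-- `y ↦ y ⊗ x` as a `B`-linear map. -/
noncomputable def tmulRight (x : L) : KF F →ₗ[B] KF F ⊗[A] L where
  toFun y := y ⊗ₜ x
  map_add' y y' := TensorProduct.add_tmul y y' x
  map_smul' c y := (TensorProduct.smul_tmul' c y x).symm

include b in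
lemma tMap_injective_of_basis : Function.Injective (tMap F L) := by
  classical
  have hc := mapBasisCofanIsColimit F L b
  let s : F.obj L ⟶ ModuleCat.of B (KF F ⊗[A] L) :=
    Cofan.IsColimit.desc hc (fun i => ModuleCat.ofHom (tmulRight F L (b i)))
  have hs : ∀ (i : I) (y : KF F),
      s.hom ((F.map (ModuleCat.ofHom (θ L (b i)))).hom y) = y ⊗ₜ b i := by
    intro i y
    have := Cofan.IsColimit.fac hc (fun i => ModuleCat.ofHom (tmulRight F L (b i))) i
    exact congrArg (fun φ : F.obj (ModuleCat.of A A) ⟶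
      ModuleCat.of B (KF F ⊗[A] L) => φ.hom y) this
  have hid : ∀ z : KF F ⊗[A] L, s.hom (tMap F L z) = z := by
    intro z
    induction z using TensorProduct.induction_on with
    | zero => simp
    | tmul y x =>
      have hx : x = ∑ i ∈ (b.repr x).support, (b.repr x i) • b i := by
        conv_lhs => rw [← b.linearCombination_repr x]
        rw [Finsupp.linearCombination_apply, Finsupp.sum]
      have h1 : y ⊗ₜ[A] x = ∑ i ∈ (b.repr x).support, ((b.repr x i) • y) ⊗ₜ[A] b i := by
        conv_lhs => rw [hx]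
        rw [TensorProduct.tmul_sum]
        refine Finset.sum_congr rfl (fun i _ => ?_)
        rw [TensorProduct.tmul_smul, TensorProduct.smul_tmul']
      rw [h1, map_sum, map_sum]
      refine Finset.sum_congr rfl (fun i _ => ?_)
      rw [tMap_tmul, hs]
    | add z w hz hw => rw [map_add, map_add, hz, hw]
  intro z w hzw
  rw [← hid z, ← hid w, hzw]

lemma tMap_bijective_of_free [Module.Free A L] : Function.Bijective (tMap F L) :=
  ⟨tMap_injective_of_basis F L (Module.Free.chooseBasis A L),
    tMap_surjective_of_basis F L (Module.Free.chooseBasis A L)⟩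

end Free

section RightExact

variable [∀ J : Type u, PreservesColimitsOfShape (Discrete J) F] [PreservesFiniteColimits F]

theorem tMap_bijective (M : ModuleCat.{u} A) : Function.Bijective (tMap F M) := by
  -- a free presentation `L₁ → L₀ → M → 0`
  let π₀ : (M →₀ A) →ₗ[A] M := Finsupp.linearCombination A (id : M → M)
  have hπ₀ : Function.Surjective π₀ := Finsupp.linearCombination_id_surjective A M
  let K := LinearMap.ker π₀
  let ρ : (K →₀ A) →ₗ[A] K := Finsupp.linearCombination A (id : K → K)
  have hρ : Function.Surjective ρ := Finsupp.linearCombination_id_surjective A K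
  let d₀ : (K →₀ A) →ₗ[A] (M →₀ A) := K.subtype ∘ₗ ρ
  have hexact : Function.Exact d₀ π₀ := by
    intro x
    constructor
    · intro hx
      obtain ⟨y, hy⟩ := hρ ⟨x, hx⟩
      exact ⟨y, by simp [d₀, hy]⟩
    · rintro ⟨y, rfl⟩
      exact (ρ y).2
  let L₀ : ModuleCat.{u} A := ModuleCat.of A (M →₀ A)
  let L₁ : ModuleCat.{u} A := ModuleCat.of A (K →₀ A)
  have : Module.Free A L₀ := inferInstanceAs (Module.Free A (M →₀ A))
  have : Module.Free A L₁ := inferInstanceAs (Module.Free A (K →₀ A))
  let π : L₀ ⟶ M := ModuleCat.ofHom π₀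
  let d : L₁ ⟶ L₀ := ModuleCat.ofHom d₀
  let S : ShortComplex (ModuleCat.{u} A) := ShortComplex.mk d π (by
    apply ModuleCat.hom_ext
    rw [ModuleCat.hom_comp]
    exact hexact.linearMap_comp_eq_zero)
  have hS : S.Exact := (ShortComplex.ShortExact.moduleCat_exact_iff_function_exact S).mpr hexact
  have hepi : Epi S.g := (ModuleCat.epi_iff_surjective _).mpr hπ₀
  have htfae := (Functor.preservesFiniteColimits_tfae F).out 3 1
  have hT := htfae.mp inferInstance S ⟨hS, hepi⟩
  have hTex : Function.Exact (F.map d).hom (F.map π).hom :=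
    (ShortComplex.ShortExact.moduleCat_exact_iff_function_exact (S.map F)).mp hT.1
  have hTsurj : Function.Surjective (F.map π).hom := (ModuleCat.epi_iff_surjective _).mp hT.2
  have h0 := tMap_bijective_of_free F L₀
  have h1 := tMap_bijective_of_free F L₁
  constructor
  · rw [injective_iff_map_eq_zero]
    intro z hz
    obtain ⟨w, rfl⟩ := LinearMap.lTensor_surjective (KF F) hπ₀ z
    have hw : (F.map π).hom (tMap F L₀ w) = 0 := by
      rw [tMap_naturality]
      exact hz
    obtain ⟨v, hv⟩ := (hTex _).mp hw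
    obtain ⟨u, rfl⟩ := h1.2 v
    have hu : tMap F L₀ (d.hom.lTensor _ u) = tMap F L₀ w := by
      rw [← tMap_naturality]
      exact hv
    have := h0.1 hu
    rw [← this]
    show (π₀.lTensor _) ((d₀.lTensor _) u) = 0
    rw [← LinearMap.comp_apply, ← LinearMap.lTensor_comp, hexact.linearMap_comp_eq_zero,
      LinearMap.lTensor_zero, LinearMap.zero_apply]
  · intro w
    obtain ⟨v, rfl⟩ := hTsurj w
    obtain ⟨z, rfl⟩ := h0.2 v
    exact ⟨π.hom.lTensor _ z, (tMap_naturality F π z).symm⟩

/-- The comparison isomorphism `F(A) ⊗[A] M ≃ₗ[B] F(M)`. -/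
noncomputable def tEquiv (M : ModuleCat.{u} A) : KF F ⊗[A] M ≃ₗ[B] F.obj M :=
  LinearEquiv.ofBijective (tMap F M) (tMap_bijective F M)

lemma tEquiv_apply (M : ModuleCat.{u} A) (z : KF F ⊗[A] M) : tEquiv F M z = tMap F M z := rfl

end RightExact

end Groth.Agent.Lib.Helper20.EWH
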