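import Mathlib
import Groth.Prelude.Def_WeakSerre

/-!
# The essential image of a weak Serre subcategory under a fully faithful right adjoint (helper20)

`L ⊣ R` adjunction between abelian categories with `R` fully faithful and `L` exact, `A` a weak
Serre subcategory of the source of `R` such that `R` sends the epimorphism of a short exact sequence
whose kernel lies in `A` to an epimorphism. Then `A.map R` is a weak Serre subcategory.
-/

set_option autoImplicit false
universe v₁ v₂ u₁ u₂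
open CategoryTheory CategoryTheory.Limits

namespace Groth.Agent.Lib.Helper20.WSerreMap

variable {𝒜 : Type u₁} [Category.{v₁} 𝒜] [Abelian 𝒜] {ℬ : Type u₂} [Category.{v₂} ℬ] [Abelian ℬ]
  {L : ℬ ⥤ 𝒜} {R : 𝒜 ⥤ ℬ} (adj : L ⊣ R) [R.Full] [R.Faithful] [L.Additive] [R.Additive]
  [PreservesFiniteLimits L]
  (A : ObjectProperty 𝒜) [WSerre.IsWeakSerre A]
  (hE : ∀ S : ShortComplex 𝒜, S.ShortExact → A S.X₁ → Epi (R.map S.g))

omit [Abelian 𝒜] [Abelian ℬ] [R.Full] [R.Faithful] [L.Additive] [R.Additive]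
  [PreservesFiniteLimits L] in
include adj in
lemma preservesFiniteLimits_R : PreservesFiniteLimits R :=
  have := adj.rightAdjoint_preservesLimits
  inferInstance

omit [R.Full] [R.Faithful] [L.Additive] [PreservesFiniteLimits L] in
include adj hE in
/-- `R` preserves the cokernel of a morphism between objects of `A`. -/
lemma exact_map_cokernel {X₁ X₂ : 𝒜} (ψ : X₁ ⟶ X₂) (h₁ : A X₁) (h₂ : A X₂) :
    (ShortComplex.mk (R.map ψ) (R.map (cokernel.π ψ))
      (by rw [← R.map_comp, cokernel.condition, R.map_zero])).Exact ∧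
      Epi (R.map (cokernel.π ψ)) := by
  have := preservesFiniteLimits_R adj
  have hI : A (Abelian.image ψ) := A.prop_kernel (cokernel.π ψ) h₂ (A.prop_cokernel ψ h₁ h₂)
  have hK : A (kernel ψ) := A.prop_kernel ψ h₁ h₂
  -- the two short exact sequences
  let S₂ : ShortComplex 𝒜 := ShortComplex.mk (Abelian.image.ι ψ) (cokernel.π ψ)
    (kernel.condition _)
  have hS₂ : S₂.ShortExact :=
    ShortComplex.ShortExact.mk' (ShortComplex.exact_of_f_is_kernel _ (kernelIsKernel _))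
      (inferInstanceAs (Mono (Abelian.image.ι ψ))) (inferInstanceAs (Epi (cokernel.π ψ)))
  let S₀ : ShortComplex 𝒜 := ShortComplex.mk (kernel.ι ψ) (Abelian.factorThruImage ψ)
    (by rw [← cancel_mono (Abelian.image.ι ψ), Category.assoc, Abelian.image.fac,
      kernel.condition, zero_comp])
  have hS₀ : S₀.ShortExact := by
    refine ShortComplex.ShortExact.mk' ?_ (inferInstanceAs (Mono (kernel.ι ψ)))
      (inferInstanceAs (Epi (Abelian.factorThruImage ψ)))
    have hex : (ShortComplex.mk (kernel.ι ψ) ψ (kernel.condition ψ)).Exact :=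
      ShortComplex.exact_of_f_is_kernel _ (kernelIsKernel _)
    let φ : S₀ ⟶ ShortComplex.mk (kernel.ι ψ) ψ (kernel.condition ψ) :=
      { τ₁ := 𝟙 _, τ₂ := 𝟙 _, τ₃ := Abelian.image.ι ψ
        comm₁₂ := by simp [S₀]
        comm₂₃ := by simp [S₀] }
    haveI : Epi φ.τ₁ := by dsimp [φ]; infer_instance
    haveI : IsIso φ.τ₂ := by dsimp [φ]; infer_instance
    haveI : Mono φ.τ₃ := by dsimp [φ]; infer_instance
    exact (ShortComplex.exact_iff_of_epi_of_isIso_of_mono φ).2 hex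
  have hepi₂ : Epi (R.map (cokernel.π ψ)) := hE S₂ hS₂ hI
  have hepi₀ : Epi (R.map (Abelian.factorThruImage ψ)) := hE S₀ hS₀ hK
  refine ⟨?_, hepi₂⟩
  have hex₂ : (S₂.map R).Exact :=
    hS₂.exact.map_of_mono_of_preservesKernel R hS₂.mono_f inferInstance
  let φ : ShortComplex.mk (R.map ψ) (R.map (cokernel.π ψ))
      (by rw [← R.map_comp, cokernel.condition, R.map_zero]) ⟶ S₂.map R :=
    { τ₁ := R.map (Abelian.factorThruImage ψ), τ₂ := 𝟙 _, τ₃ := 𝟙 _
      comm₁₂ := by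
        change R.map (Abelian.factorThruImage ψ) ≫ R.map (Abelian.image.ι ψ) = R.map ψ ≫ 𝟙 _
        rw [Category.comp_id, ← R.map_comp, Abelian.image.fac]
      comm₂₃ := by
        change 𝟙 _ ≫ R.map (cokernel.π ψ) = R.map (cokernel.π ψ) ≫ 𝟙 _
        rw [Category.id_comp, Category.comp_id] }
  haveI : Epi φ.τ₁ := hepi₀
  haveI : IsIso φ.τ₂ := IsIso.id _
  haveI : Mono φ.τ₃ := (inferInstance : Mono (𝟙 (R.obj (cokernel ψ))))
  exact (ShortComplex.exact_iff_of_epi_of_isIso_of_mono φ).2 hex₂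


include adj hE in
theorem isWeakSerre_map : WSerre.IsWeakSerre (A.map R) := by
  have hR := preservesFiniteLimits_R adj
  have hcounit : IsIso adj.counit := inferInstance
  refine { exists_zero := ?_, kernels_le := ?_, cokernels_le := ?_, prop_X₂_of_shortExact := ?_ }
  · obtain ⟨Z, hZ, hAZ⟩ := A.exists_prop_of_containsZero
    exact ⟨R.obj Z, R.map_isZero hZ, A.prop_map_obj R hAZ⟩
  · rintro _ ⟨f, k, hk, ⟨X₁, hX₁, ⟨e₁⟩⟩, ⟨X₂, hX₂, ⟨e₂⟩⟩⟩
    let ψ : X₁ ⟶ X₂ := R.preimage (e₁.hom ≫ f ≫ e₂.inv)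
    have hψ : R.map ψ = e₁.hom ≫ f ≫ e₂.inv := R.map_preimage _
    refine ⟨kernel ψ, A.prop_kernel ψ hX₁ hX₂, ⟨?_⟩⟩
    have e3' := IsLimit.conePointUniqueUpToIso (kernelIsKernel f) hk
    have e3 : kernel f ≅ k.pt := e3'
    exact PreservesKernel.iso R ψ ≪≫
      kernel.mapIso (R.map ψ) f e₁ e₂ (by rw [hψ]; simp) ≪≫ e3
  · rintro _ ⟨f, k, hk, ⟨X₁, hX₁, ⟨e₁⟩⟩, ⟨X₂, hX₂, ⟨e₂⟩⟩⟩
    let ψ : X₁ ⟶ X₂ := R.preimage (e₁.hom ≫ f ≫ e₂.inv)
    have hψ : R.map ψ = e₁.hom ≫ f ≫ e₂.inv := R.map_preimage _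
    refine ⟨cokernel ψ, A.prop_cokernel ψ hX₁ hX₂, ⟨?_⟩⟩
    obtain ⟨hex, hepi⟩ := exact_map_cokernel adj A hE ψ hX₁ hX₂
    have hcok := hex.gIsCokernel
    have e1' := IsColimit.coconePointUniqueUpToIso (cokernelIsCokernel (R.map ψ)) hcok
    have e1 : cokernel (R.map ψ) ≅ R.obj (cokernel ψ) := e1'
    have e3' := IsColimit.coconePointUniqueUpToIso (cokernelIsCokernel f) hk
    have e3 : cokernel f ≅ k.pt := e3'
    exact e1.symm ≪≫ cokernel.mapIso (R.map ψ) f e₁ e₂ (by rw [hψ]; simp) ≪≫ e3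
  · intro S hS ⟨X₁, hX₁, ⟨e₁⟩⟩ ⟨X₃, hX₃, ⟨e₃⟩⟩
    have := adj.leftAdjoint_preservesColimits
    have hLS : (S.map L).ShortExact := hS.map_of_exact L
    have h1 : A (L.obj S.X₁) :=
      A.prop_of_iso ((asIso (adj.counit.app X₁)).symm ≪≫ L.mapIso e₁) hX₁
    have h3 : A (L.obj S.X₃) :=
      A.prop_of_iso ((asIso (adj.counit.app X₃)).symm ≪≫ L.mapIso e₃) hX₃
    have h2 : A (L.obj S.X₂) := A.prop_X₂_of_shortExact hLS h1 h3
    have hepi : Epi (R.map (L.map S.g)) := hE (S.map L) hLS h1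
    have hmono : Mono (R.map (L.map S.f)) := by
      have := hLS.mono_f
      exact (inferInstance : Mono (R.map (S.map L).f))
    have hex : ((S.map L).map R).Exact :=
      hLS.exact.map_of_mono_of_preservesKernel R hLS.mono_f inferInstance
    have hRLS : ((S.map L).map R).ShortExact := ShortComplex.ShortExact.mk' hex hmono hepi
    let φ : S ⟶ (S.map L).map R :=
      { τ₁ := adj.unit.app S.X₁, τ₂ := adj.unit.app S.X₂, τ₃ := adj.unit.app S.X₃
        comm₁₂ := (adj.unit.naturality S.f).symm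
        comm₂₃ := (adj.unit.naturality S.g).symm }
    haveI : IsIso φ.τ₁ := adj.isIso_unit_app_of_iso e₁.symm
    haveI : IsIso φ.τ₃ := adj.isIso_unit_app_of_iso e₃.symm
    have hiso : IsIso (adj.unit.app S.X₂) :=
      ShortComplex.isIso₂_of_shortExact_of_isIso₁₃ φ hS hRLS
    exact ⟨L.obj S.X₂, h2, ⟨(asIso (adj.unit.app S.X₂)).symm⟩⟩

end Groth.Agent.Lib.Helper20.WSerreMap
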