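import Groth.Agent.S9080
import Groth.Agent.Lib.Helper20.WSerreMap

/-!
# The comparison morphism `ε : (C, J, O) → (C, J', O)` for `J' ≤ J` (helper20)

* `ε_*` is fully faithful.
* `epi_push_g`: `ε_*` preserves the epimorphism of a short exact sequence whose kernel has vanishing
  `Ext^1(freeOn V, -)` for `V` in a `J'`-covering class.
* `isWeakSerre_map_push`: the essential image of a weak Serre subcategory under `ε_*` is weak Serre.
* `exists_cofinal`: cofinal coverings with members in a covering class.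
-/

set_option autoImplicit false
universe u
open CategoryTheory CategoryTheory.Limits Opposite
attribute [local instance] HasDerivedCategory.standard
open SiteCmp

namespace Groth.Agent.Lib.Helper20.EpsFF

variable {C : Type u} [SmallCategory C] {J J' : GrothendieckTopology C} (h : J' ≤ J)
  (O : Sheaf J CommRingCat.{u})

/-- preimage of a morphism under `ε_*` -/
noncomputable def pushPreimage {M N : ModSite.Mod O}
    (g : (SiteCmp.eps h O).push.obj M ⟶ (SiteCmp.eps h O).push.obj N) : M ⟶ N :=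
  ⟨PresheafOfModules.homMk
    { app := fun X => ((PresheafOfModules.toPresheaf _).map g.val).app X
      naturality := fun _ _ f => ((PresheafOfModules.toPresheaf _).map g.val).naturality f }
    (fun X r m => (g.val.app X).hom.map_smul r m)⟩

lemma push_map_pushPreimage {M N : ModSite.Mod O}
    (g : (SiteCmp.eps h O).push.obj M ⟶ (SiteCmp.eps h O).push.obj N) :
    (SiteCmp.eps h O).push.map (pushPreimage h O g) = g := by
  apply SheafOfModules.hom_ext
  apply PresheafOfModules.hom_ext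
  intro X
  rfl

instance : (SiteCmp.eps h O).push.Full where
  map_surjective g := ⟨pushPreimage h O g, push_map_pushPreimage h O g⟩

instance : (SiteCmp.eps h O).push.Faithful where
  map_injective {M N} f g hfg := by
    apply SheafOfModules.hom_ext
    apply PresheafOfModules.hom_ext
    intro X
    have := congrArg (fun k => k.val.app X) hfg
    exact this


open Groth.Agent.Lib.Helper74.ModQc Abelian in
/-- **K1**: `ε_*` of the epimorphism of a short exact sequence is an epimorphism as soon as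
`Ext^1(freeOn V, X₁) = 0` for `V` in a class `B` of objects covering everything for `J'`. -/
lemma epi_push_g [HasExt.{u} (ModSite.Mod O)] (S : ShortComplex (ModSite.Mod O))
    (hS : S.ShortExact) (B : Set C)
    (hB : ∀ U : C, ∃ (ι : Type u) (Y : ι → C) (g : ∀ i, Y i ⟶ U),
      Sieve.ofArrows Y g ∈ J' U ∧ ∀ i, Y i ∈ B)
    (hv : ∀ V ∈ B, Subsingleton (Ext.{u} (ModSite.freeOn O V) S.X₁ 1)) :
    Epi ((SiteCmp.eps h O).push.map S.g) := by
  apply Groth.Agent.Lib.Helper30.ModEpi.epi_of_isLocallySurjective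
  constructor
  intro U s
  obtain ⟨ι, YY, g, hcov, hYB⟩ := hB U
  refine J'.superset_covering ?_ hcov
  rintro W _ ⟨Z, a, _, ⟨i⟩, rfl⟩
  -- lift `s|Y i`
  let s' : S.X₃.val.obj (op (YY i)) := S.X₃.val.map (g i).op s
  have := hv (YY i) (hYB i)
  obtain ⟨x₂, hx₂⟩ := Ext.covariant_sequence_exact₃ (ModSite.freeOn O (YY i)) hS
    (Ext.mk₀ (ofSec O s')) (n₁ := 1) rfl (Subsingleton.elim _ _)
  obtain ⟨t, rfl⟩ := (Ext.mk₀_bijective _ _).2 x₂
  rw [Ext.mk₀_comp_mk₀] at hx₂
  have ht : t ≫ S.g = ofSec O s' := (Ext.mk₀_bijective _ _).1 hx₂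
  have ht' : secMap S.g (YY i) (toSec O t) = s' := by
    rw [← toSec_comp, ht, toSec_ofSec]
  refine ⟨S.X₂.val.map a.op (toSec O t), ?_⟩
  have e1 := secMap_map S.g a (toSec O t)
  rw [ht'] at e1
  have e2 : S.X₃.val.map a.op s' = S.X₃.val.map (a ≫ g i).op s :=
    (Groth.Agent.Lib.Helper74.ModTrunc.map_comp_apply S.X₃ (g i) a s).symm
  rw [e2] at e1
  exact e1.symm


open Abelian in
/-- the essential image under `ε_*` of a weak Serre subcategory `A` with `Ext^1(freeOn V, F) = 0`
for `F ∈ A` and `V` in a `J'`-covering class is a weak Serre subcategory -/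
theorem isWeakSerre_map_push [HasExt.{u} (ModSite.Mod O)]
    [PreservesFiniteLimits (SiteCmp.eps h O).pull]
    (A : ObjectProperty (ModSite.Mod O)) [WSerre.IsWeakSerre A] (B : Set C)
    (hB : ∀ U : C, ∃ (ι : Type u) (Y : ι → C) (g : ∀ i, Y i ⟶ U),
      Sieve.ofArrows Y g ∈ J' U ∧ ∀ i, Y i ∈ B)
    (hv : ∀ V ∈ B, ∀ F : ModSite.Mod O, A F → Subsingleton (Ext.{u} (ModSite.freeOn O V) F 1)) :
    WSerre.IsWeakSerre (A.map (SiteCmp.eps h O).push) :=
  Groth.Agent.Lib.Helper20.WSerreMap.isWeakSerre_map (SiteCmp.eps h O).adj A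
    (fun S hS h1 => epi_push_g h O S hS B hB (fun V hV => hv V hV S.X₁ h1))

omit O in
include h in
/-- every `J`-covering sieve contains a `J`-covering family with members in a class `B` that
covers every object for the coarser topology `J'` -/
lemma exists_cofinal (B : Set C)
    (hB : ∀ U : C, ∃ (ι : Type u) (Y : ι → C) (g : ∀ i, Y i ⟶ U),
      Sieve.ofArrows Y g ∈ J' U ∧ ∀ i, Y i ∈ B)
    (V : C) (T : Sieve V) (hT : T ∈ J V) :
    ∃ (ι : Type u) (Y : ι → C) (g : ∀ i, Y i ⟶ V),
      (∀ i, T.arrows (g i)) ∧ Sieve.ofArrows Y g ∈ J V ∧ ∀ i, Y i ∈ B := by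
  choose ιW YW gW hcov hYB using hB
  refine ⟨Σ (W : C) (_ : {a : W ⟶ V // T a}), ιW W, fun x => YW x.1 x.2.2,
    fun x => gW x.1 x.2.2 ≫ x.2.1.1, fun x => T.downward_closed x.2.1.2 _, ?_,
    fun x => hYB x.1 x.2.2⟩
  refine J.transitive hT _ (fun W a ha => ?_)
  refine J.superset_covering ?_ (h _ (hcov W))
  rintro W' _ ⟨Z, c, _, ⟨i⟩, rfl⟩
  show (Sieve.ofArrows _ _).arrows ((c ≫ gW W i) ≫ a)
  rw [Category.assoc]
  exact Sieve.downward_closed _ (Sieve.ofArrows_mk
    (fun x : (Σ (W : C) (_ : {a : W ⟶ V // T a}), ιW W) => YW x.1 x.2.2)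
    (fun x => gW x.1 x.2.2 ≫ x.2.1.1) ⟨W, ⟨a, ha⟩, i⟩) c

end Groth.Agent.Lib.Helper20.EpsFF
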