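import Mathlib
import Groth.Agent.Lib.Helper49.QcqsModules
import Groth.Agent.Lib.Helper11.GenLocus
import Groth.Agent.Lib.Helper45.InvBasis

/-!
# Gluing morphisms of `O_X`-modules from local data (helper20)

`LocalHomData L L' U`: for a family of opens `U i`, maps `β i V h : Γ(L, V) → Γ(L', V)` for all
`V ≤ U i`, additive, `O`-linear, compatible with restriction and agreeing on overlaps.
If the `U i` cover `X`, `glue D hU : L ⟶ L'` is the unique morphism with
`(glue D hU).app V = β i V h` for `V ≤ U i` (`glue_app_of_le`); it is an isomorphism if all the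
`β i V h` are bijective (`isIso_glue`).
-/

set_option autoImplicit false
universe u
open CategoryTheory CategoryTheory.Limits AlgebraicGeometry TopologicalSpace

namespace Groth.Agent.Lib.Helper20.GlueHom

open Groth.Agent.Lib.Helper49 Groth.Agent.Lib.Helper11.GenLocus

variable {X : Scheme.{u}}

/-- Local data for a morphism of modules. -/
structure LocalHomData (L L' : X.Modules) {ι : Type*} (U : ι → X.Opens) where
  /-- the local maps -/
  β : ∀ (i : ι) (V : X.Opens), V ≤ U i → Γ(L, V) → Γ(L', V)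
  map_add : ∀ (i : ι) (V : X.Opens) (h : V ≤ U i) (m n : Γ(L, V)),
    β i V h (m + n) = β i V h m + β i V h n
  map_smul : ∀ (i : ι) (V : X.Opens) (h : V ≤ U i) (r : Γ(X, V)) (m : Γ(L, V)),
    β i V h (r • m) = r • β i V h m
  res : ∀ (i : ι) (V V' : X.Opens) (h : V ≤ U i) (h' : V' ≤ V) (m : Γ(L, V)),
    mres L' h' (β i V h m) = β i V' (h'.trans h) (mres L h' m)
  compat : ∀ (i j : ι) (V : X.Opens) (hi : V ≤ U i) (hj : V ≤ U j) (m : Γ(L, V)),
    β i V hi m = β j V hj m

namespace LocalHomData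

variable {L L' : X.Modules} {ι : Type*} {U : ι → X.Opens} (D : LocalHomData L L' U)
  (hU : iSup U = ⊤)

include hU in
theorem cover (W : X.Opens) : W ≤ ⨆ i, W ⊓ U i := by
  intro x hx
  have : x ∈ iSup U := by rw [hU]; trivial
  obtain ⟨i, hi⟩ := Opens.mem_iSup.mp this
  exact Opens.mem_iSup.mpr ⟨i, ⟨hx, hi⟩⟩

include hU in
theorem existsUnique_glue (W : X.Opens) (m : Γ(L, W)) :
    ∃! y : Γ(L', W), ∀ i, mres L' (inf_le_left : W ⊓ U i ≤ W) y =
      D.β i (W ⊓ U i) inf_le_right (mres L inf_le_left m) := by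
  have := TopCat.Sheaf.existsUnique_gluing' ⟨L'.presheaf, L'.isSheaf⟩ (fun i => W ⊓ U i) W
    (fun i => homOfLE inf_le_left) (cover hU W)
    (fun i => D.β i (W ⊓ U i) inf_le_right (mres L inf_le_left m)) (by
      intro i j
      change mres L' (inf_le_left : (W ⊓ U i) ⊓ (W ⊓ U j) ≤ W ⊓ U i) _ =
        mres L' (inf_le_right : (W ⊓ U i) ⊓ (W ⊓ U j) ≤ W ⊓ U j) _
      rw [D.res, D.res, mres_mres, mres_mres]
      exact D.compat i j _ _ _ _)
  exact this

/-- The glued map on sections. -/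
noncomputable def glueApp (W : X.Opens) (m : Γ(L, W)) : Γ(L', W) :=
  (D.existsUnique_glue hU W m).choose

theorem glueApp_spec (W : X.Opens) (m : Γ(L, W)) (i : ι) :
    mres L' (inf_le_left : W ⊓ U i ≤ W) (D.glueApp hU W m) =
      D.β i (W ⊓ U i) inf_le_right (mres L inf_le_left m) :=
  (D.existsUnique_glue hU W m).choose_spec.1 i

theorem glueApp_unique (W : X.Opens) (m : Γ(L, W)) (y : Γ(L', W))
    (hy : ∀ i, mres L' (inf_le_left : W ⊓ U i ≤ W) y =
      D.β i (W ⊓ U i) inf_le_right (mres L inf_le_left m)) : y = D.glueApp hU W m :=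
  (D.existsUnique_glue hU W m).choose_spec.2 y hy

theorem glueApp_add (W : X.Opens) (m n : Γ(L, W)) :
    D.glueApp hU W (m + n) = D.glueApp hU W m + D.glueApp hU W n := by
  symm
  apply D.glueApp_unique hU
  intro i
  rw [_root_.map_add, _root_.map_add, D.map_add, D.glueApp_spec, D.glueApp_spec]

theorem glueApp_smul (W : X.Opens) (r : Γ(X, W)) (m : Γ(L, W)) :
    D.glueApp hU W (r • m) = r • D.glueApp hU W m := by
  symm
  apply D.glueApp_unique hU
  intro i
  rw [mres_smul, mres_smul, D.map_smul, D.glueApp_spec]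

theorem glueApp_res {W W' : X.Opens} (h : W' ≤ W) (m : Γ(L, W)) :
    mres L' h (D.glueApp hU W m) = D.glueApp hU W' (mres L h m) := by
  apply D.glueApp_unique hU
  intro i
  have h1 : W' ⊓ U i ≤ W ⊓ U i := inf_le_inf_right _ h
  rw [mres_mres, mres_mres]
  have e1 : mres L' ((inf_le_left : W' ⊓ U i ≤ W').trans h) (D.glueApp hU W m) =
      mres L' h1 (mres L' (inf_le_left : W ⊓ U i ≤ W) (D.glueApp hU W m)) := by
    rw [mres_mres]
  rw [e1, D.glueApp_spec, D.res, mres_mres]

theorem glueApp_of_le (i : ι) (V : X.Opens) (h : V ≤ U i) (m : Γ(L, V)) :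
    D.glueApp hU V m = D.β i V h m := by
  symm
  apply D.glueApp_unique hU
  intro j
  rw [D.res]
  exact D.compat i j _ _ _ _

/-- The glued morphism of abelian presheaves. -/
noncomputable def gluePresheaf : L.presheaf ⟶ L'.presheaf where
  app W := AddCommGrpCat.ofHom (AddMonoidHom.mk' (D.glueApp hU W.unop) (D.glueApp_add hU W.unop))
  naturality W W' f := by
    ext m
    exact (D.glueApp_res hU (leOfHom f.unop) m).symm

/-- The glued morphism of modules. -/
noncomputable def glue : L ⟶ L' :=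
  (SheafOfModules.Hom.mk (PresheafOfModules.homMk (D.gluePresheaf hU)
    (fun W r m => D.glueApp_smul hU W.unop r m)) : SheafOfModules.Hom L L')

theorem glue_app (W : X.Opens) (m : Γ(L, W)) :
    ((D.glue hU).app W).hom m = D.glueApp hU W m := rfl

theorem glue_app_of_le (i : ι) (V : X.Opens) (h : V ≤ U i) (m : Γ(L, V)) :
    ((D.glue hU).app V).hom m = D.β i V h m := by
  rw [glue_app, D.glueApp_of_le hU i V h m]

/-- If the local maps are bijective, the glued morphism is an isomorphism. -/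
theorem isIso_glue (hb : ∀ (i : ι) (V : X.Opens) (h : V ≤ U i), Function.Bijective (D.β i V h)) :
    IsIso (D.glue hU) := by
  rw [Scheme.Modules.Hom.isIso_iff_isIso_app]
  intro W
  apply app_isIso_of_stalkIso
  intro x _
  have : x ∈ iSup U := by rw [hU]; trivial
  obtain ⟨i, hi⟩ := Opens.mem_iSup.mp this
  have : IsIso ((Scheme.Modules.restrictFunctor (U i).ι).map (D.glue hU)) := by
    rw [isIso_restrict_iff]
    intro V hV
    rw [Groth.Agent.Lib.Helper11.GenLocus.isIso_iff_bijective]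
    have : (⇑((D.glue hU).app V).hom : Γ(L, V) → Γ(L', V)) = D.β i V hV := by
      funext m
      exact D.glue_app_of_le hU i V hV m
    rw [this]
    exact hb i V hV
  exact stalkIso_of_isIso_restrict _ (U i) x hi

/-! ### Partial version: the opens `U i` need not cover `X` (appended) -/

section Partial

theorem cover' {W : X.Opens} (hW : W ≤ iSup U) : W ≤ ⨆ i, W ⊓ U i := by
  intro x hx
  obtain ⟨i, hi⟩ := Opens.mem_iSup.mp (hW hx)
  exact Opens.mem_iSup.mpr ⟨i, ⟨hx, hi⟩⟩

theorem existsUnique_glue' (W : X.Opens) (hW : W ≤ iSup U) (m : Γ(L, W)) :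
    ∃! y : Γ(L', W), ∀ i, mres L' (inf_le_left : W ⊓ U i ≤ W) y =
      D.β i (W ⊓ U i) inf_le_right (mres L inf_le_left m) := by
  have := TopCat.Sheaf.existsUnique_gluing' ⟨L'.presheaf, L'.isSheaf⟩ (fun i => W ⊓ U i) W
    (fun i => homOfLE inf_le_left) (cover' hW)
    (fun i => D.β i (W ⊓ U i) inf_le_right (mres L inf_le_left m)) (by
      intro i j
      change mres L' (inf_le_left : (W ⊓ U i) ⊓ (W ⊓ U j) ≤ W ⊓ U i) _ =
        mres L' (inf_le_right : (W ⊓ U i) ⊓ (W ⊓ U j) ≤ W ⊓ U j) _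
      rw [D.res, D.res, mres_mres, mres_mres]
      exact D.compat i j _ _ _ _)
  exact this

/-- The glued map on sections over an open covered by the `U i`. -/
noncomputable def glueApp' (W : X.Opens) (hW : W ≤ iSup U) (m : Γ(L, W)) : Γ(L', W) :=
  (D.existsUnique_glue' W hW m).choose

theorem glueApp'_spec (W : X.Opens) (hW : W ≤ iSup U) (m : Γ(L, W)) (i : ι) :
    mres L' (inf_le_left : W ⊓ U i ≤ W) (D.glueApp' W hW m) =
      D.β i (W ⊓ U i) inf_le_right (mres L inf_le_left m) :=
  (D.existsUnique_glue' W hW m).choose_spec.1 i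

theorem glueApp'_unique (W : X.Opens) (hW : W ≤ iSup U) (m : Γ(L, W)) (y : Γ(L', W))
    (hy : ∀ i, mres L' (inf_le_left : W ⊓ U i ≤ W) y =
      D.β i (W ⊓ U i) inf_le_right (mres L inf_le_left m)) : y = D.glueApp' W hW m :=
  (D.existsUnique_glue' W hW m).choose_spec.2 y hy

theorem glueApp'_add (W : X.Opens) (hW : W ≤ iSup U) (m n : Γ(L, W)) :
    D.glueApp' W hW (m + n) = D.glueApp' W hW m + D.glueApp' W hW n := by
  symm
  apply D.glueApp'_unique
  intro i
  rw [_root_.map_add, _root_.map_add, D.map_add, D.glueApp'_spec, D.glueApp'_spec]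

theorem glueApp'_smul (W : X.Opens) (hW : W ≤ iSup U) (r : Γ(X, W)) (m : Γ(L, W)) :
    D.glueApp' W hW (r • m) = r • D.glueApp' W hW m := by
  symm
  apply D.glueApp'_unique
  intro i
  rw [mres_smul, mres_smul, D.map_smul, D.glueApp'_spec]

theorem glueApp'_res {W W' : X.Opens} (hW : W ≤ iSup U) (h : W' ≤ W) (m : Γ(L, W)) :
    mres L' h (D.glueApp' W hW m) = D.glueApp' W' (h.trans hW) (mres L h m) := by
  apply D.glueApp'_unique
  intro i
  have h1 : W' ⊓ U i ≤ W ⊓ U i := inf_le_inf_right _ h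
  rw [mres_mres, mres_mres]
  have e1 : mres L' ((inf_le_left : W' ⊓ U i ≤ W').trans h) (D.glueApp' W hW m) =
      mres L' h1 (mres L' (inf_le_left : W ⊓ U i ≤ W) (D.glueApp' W hW m)) := by
    rw [mres_mres]
  rw [e1, D.glueApp'_spec, D.res, mres_mres]

theorem glueApp'_of_le (i : ι) (V : X.Opens) (h : V ≤ U i) (m : Γ(L, V)) :
    D.glueApp' V (h.trans (le_iSup U i)) m = D.β i V h m := by
  symm
  apply D.glueApp'_unique
  intro j
  rw [D.res]
  exact D.compat i j _ _ _ _

theorem glueApp'_bijective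
    (hb : ∀ (i : ι) (V : X.Opens) (h : V ≤ U i), Function.Bijective (D.β i V h))
    (W : X.Opens) (hW : W ≤ iSup U) : Function.Bijective (D.glueApp' W hW) := by
  constructor
  · intro m m' hmm
    apply TopCat.Sheaf.eq_of_locally_eq' ⟨L.presheaf, L.isSheaf⟩ (fun i => W ⊓ U i) W
      (fun i => homOfLE inf_le_left) (cover' hW)
    intro i
    change mres L (inf_le_left : W ⊓ U i ≤ W) m = mres L (inf_le_left : W ⊓ U i ≤ W) m'
    apply (hb i (W ⊓ U i) inf_le_right).1
    rw [← D.glueApp'_spec W hW m i, ← D.glueApp'_spec W hW m' i, hmm]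
  · intro y
    choose c hc using fun i => (hb i (W ⊓ U i) inf_le_right).2
      (mres L' (inf_le_left : W ⊓ U i ≤ W) y)
    obtain ⟨m, hm, -⟩ := TopCat.Sheaf.existsUnique_gluing' ⟨L.presheaf, L.isSheaf⟩
      (fun i => W ⊓ U i) W (fun i => homOfLE inf_le_left) (cover' hW) c (by
        intro i j
        change mres L (inf_le_left : (W ⊓ U i) ⊓ (W ⊓ U j) ≤ W ⊓ U i) (c i) =
          mres L (inf_le_right : (W ⊓ U i) ⊓ (W ⊓ U j) ≤ W ⊓ U j) (c j)
        apply (hb i ((W ⊓ U i) ⊓ (W ⊓ U j)) (inf_le_left.trans inf_le_right)).1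
        rw [← D.res i (W ⊓ U i) _ inf_le_right inf_le_left (c i), hc i,
          D.compat i j _ _ ((inf_le_right : (W ⊓ U i) ⊓ (W ⊓ U j) ≤ W ⊓ U j).trans inf_le_right),
          ← D.res j (W ⊓ U j) _ inf_le_right inf_le_right (c j), hc j, mres_mres, mres_mres])
    refine ⟨m, ?_⟩
    symm
    apply D.glueApp'_unique
    intro i
    have : mres L (inf_le_left : W ⊓ U i ≤ W) m = c i := hm i
    rw [this, hc i]

/-- Transfer of local bases along the glued maps. -/
theorem isBasisOn_glueApp'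
    (hb : ∀ (i : ι) (V : X.Opens) (h : V ≤ U i), Function.Bijective (D.β i V h))
    (V : X.Opens) (hV : V ≤ iSup U) (ε : Γ(L, V))
    (hε : Groth.Agent.Lib.Helper45.IsBasisOn L V ε) :
    Groth.Agent.Lib.Helper45.IsBasisOn L' V (D.glueApp' V hV ε) := by
  intro W hW
  have e : (fun r : Γ(X, W) => r • mres L' hW (D.glueApp' V hV ε)) =
      D.glueApp' W (hW.trans hV) ∘ (fun r : Γ(X, W) => r • mres L hW ε) := by
    funext r
    simp only [Function.comp_apply]
    rw [D.glueApp'_smul, D.glueApp'_res hV hW]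
  rw [e]
  exact (D.glueApp'_bijective hb W (hW.trans hV)).comp (hε W hW)

end Partial

end LocalHomData

end Groth.Agent.Lib.Helper20.GlueHom
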