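import Mathlib
import Groth.Prelude.Def_Pic
import Groth.Agent.Lib.Helper20.LocalTriv
import Groth.Agent.Lib.Helper20.CocycleMod
import Groth.Agent.Lib.Helper20.GlueHom

/-!
# Extending invertible modules across factorial points (helper20)

Let `X` be a locally Noetherian scheme, `U ⊆ X` open and `M` an `O_X`-module with
`M = j_* j^* M` (`IsPushed`) which has local bases on `U` (for instance `M = j_* L` with `L`
invertible on `U`).  If the local rings of `X` at the points outside `U` are factorial, then there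
is an invertible `O_X`-module `L'` with a morphism `L' ⟶ M` which is an isomorphism over `U`
(`exists_extension`).
-/

set_option autoImplicit false
universe u
open CategoryTheory CategoryTheory.Limits AlgebraicGeometry TopologicalSpace

namespace Groth.Agent.Lib.Helper20.ExtendInv

open Groth.Agent.Lib.Helper45 Groth.Agent.Lib.Helper49 Groth.Agent.Lib.Helper11.GenLocus
open Groth.Agent.Lib.Helper20.LocalTriv Groth.Agent.Lib.Helper20.CocycleMod
open Groth.Agent.Lib.Helper20.InvUFD

variable {X : Scheme.{u}} (U : X.Opens) (M : X.Modules)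

/-- Functions on opens inside `W` are determined by their restriction to `U`. -/
def Good (W : X.Opens) : Prop :=
  ∀ T : X.Opens, T ≤ W → Function.Injective (fres (inf_le_left : T ⊓ U ≤ T))

/-- `M = j_* j^* M` for `j : U ⟶ X`. -/
def IsPushed : Prop :=
  ∀ T : X.Opens, Function.Bijective (mres M (inf_le_left : T ⊓ U ≤ T))

variable {U} in
theorem Good.mono {W W' : X.Opens} (h : Good U W) (hW : W' ≤ W) : Good U W' :=
  fun T hT => h T (hT.trans hW)

theorem good_of_le {W : X.Opens} (hW : W ≤ U) : Good U W := by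
  intro T hT r r' hrr
  have hl : T ≤ T ⊓ U := le_inf le_rfl (hT.trans hW)
  have := congrArg (fres hl) hrr
  simpa only [fres_fres, fres_self'] using this

theorem subsingleton_sections_bot (T : X.Opens) (hT : T = ⊥) : Subsingleton Γ(X, T) := by
  subst hT
  infer_instance

/-- A good open does not meet the complement of the closure of `U`. -/
theorem Good.inf_eq_bot {W : X.Opens} (h : Good U W) (T : X.Opens) (hT : T ≤ W)
    (hTU : T ⊓ U = ⊥) : T = ⊥ := by
  haveI := subsingleton_sections_bot (T ⊓ U) hTU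
  have h1 : (1 : Γ(X, T)) = 0 := h T hT (Subsingleton.elim _ _)
  have h2 : X.basicOpen (1 : Γ(X, T)) = T := Scheme.basicOpen_of_isUnit _ isUnit_one
  rw [h1, Scheme.basicOpen_zero] at h2
  exact h2.symm

/-- A piece of an extension: an open `W` and a section of `M` over `W` which is a basis over
`W ⊓ U`. -/
structure Piece where
  /-- the open -/
  W : X.Opens
  good : Good U W
  /-- the section -/
  e : Γ(M, W)
  basis : IsBasisOn M (W ⊓ U) (mres M inf_le_left e)

variable {U M}

/-- The relation `e_p = η e_q` over `T`. -/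
def Rel (p q : Piece U M) (T : X.Opens) (hp : T ≤ p.W) (hq : T ≤ q.W) (η : Γ(X, T)) : Prop :=
  mres M hp p.e = η • mres M hq q.e

theorem Rel.res {p q : Piece U M} {T : X.Opens} {hp : T ≤ p.W} {hq : T ≤ q.W} {η : Γ(X, T)}
    (h : Rel p q T hp hq η) {T' : X.Opens} (hT : T' ≤ T) :
    Rel p q T' (hT.trans hp) (hT.trans hq) (fres hT η) := by
  have := congrArg (mres M hT) h
  rw [mres_smul, mres_mres, mres_mres] at this
  exact this

theorem Rel.unique {p q : Piece U M} {T : X.Opens} {hp : T ≤ p.W} {hq : T ≤ q.W}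
    {η η' : Γ(X, T)} (h : Rel p q T hp hq η) (h' : Rel p q T hp hq η') : η = η' := by
  apply p.good T hp
  have hb := q.basis.mono (inf_le_inf_right U hq : T ⊓ U ≤ q.W ⊓ U)
  apply hb.eq_of_smul_eq
  have e1 := congrArg (mres M (inf_le_left : T ⊓ U ≤ T)) h
  have e2 := congrArg (mres M (inf_le_left : T ⊓ U ≤ T)) h'
  simp only [mres_smul, mres_mres] at e1 e2
  simp only [mres_mres]
  rw [← e1, ← e2]

theorem Rel.trans {p q r : Piece U M} {T : X.Opens} {hp : T ≤ p.W} {hq : T ≤ q.W}
    {hr : T ≤ r.W} {η η' : Γ(X, T)} (h : Rel p q T hp hq η) (h' : Rel q r T hq hr η') :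
    Rel p r T hp hr (η * η') := by
  change mres M hp p.e = (η * η') • mres M hr r.e
  rw [mul_smul, ← h', ← h]

theorem Rel.one (p : Piece U M) (T : X.Opens) (hp : T ≤ p.W) : Rel p p T hp hp 1 := by
  change mres M hp p.e = (1 : Γ(X, T)) • mres M hp p.e
  rw [one_smul]

theorem Rel.symm {p q : Piece U M} {T : X.Opens} {hp : T ≤ p.W} {hq : T ≤ q.W} {η η' : Γ(X, T)}
    (h : Rel p q T hp hq η) (hη : η' * η = 1) : Rel q p T hq hp η' := by
  change mres M hq q.e = η' • mres M hp p.e
  rw [h, ← mul_smul, hη, one_smul]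

/-- Two pieces are compatible if they differ by a unit on the overlap. -/
def Compat (p q : Piece U M) : Prop :=
  ∃ η : Γ(X, p.W ⊓ q.W), IsUnit η ∧ Rel p q (p.W ⊓ q.W) inf_le_left inf_le_right η

theorem Compat.refl (p : Piece U M) : Compat p p :=
  ⟨1, isUnit_one, Rel.one p _ _⟩

theorem Compat.symm {p q : Piece U M} (h : Compat p q) : Compat q p := by
  obtain ⟨η, hu, hη⟩ := h
  obtain ⟨η', h1⟩ := hu.exists_left_inv
  have hl : q.W ⊓ p.W ≤ p.W ⊓ q.W := le_inf inf_le_right inf_le_left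
  refine ⟨fres hl η', ?_, (hη.res hl).symm ?_⟩
  · exact (IsUnit.of_mul_eq_one _ h1).map _
  · rw [← map_mul, h1, map_one]

/-- A piece inside `U` is compatible with every piece. -/
theorem compat_of_le (p q : Piece U M) (hp : p.W ≤ U) : Compat p q := by
  have l1 : p.W ⊓ q.W ≤ p.W ⊓ U := le_inf inf_le_left (inf_le_left.trans hp)
  have l2 : p.W ⊓ q.W ≤ q.W ⊓ U := le_inf inf_le_right (inf_le_left.trans hp)
  have b1 := p.basis.mono l1
  have b2 := q.basis.mono l2
  rw [mres_mres] at b1 b2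
  obtain ⟨c, hc⟩ := b2.exists_eq_smul (mres M inf_le_left p.e)
  obtain ⟨c', hc'⟩ := b1.exists_eq_smul (mres M inf_le_right q.e)
  refine ⟨c, ?_, hc.symm⟩
  have : c * c' = 1 := by
    apply b1.eq_of_smul_eq
    rw [mul_smul, hc', hc, one_smul]
  exact IsUnit.of_mul_eq_one _ this

/-! ### Families of pairwise compatible pieces -/

section Family

variable {ι : Type u} (P : ι → Piece U M) (hP : ∀ i j, Compat (P i) (P j))

/-- The opens of a family of pieces. -/
def Wf (i : ι) : X.Opens := (P i).W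

/-- The chosen transition functions. -/
noncomputable def eta (i j : ι) : Γ(X, Wf P i ⊓ Wf P j) := (hP i j).choose

theorem eta_isUnit (i j : ι) : IsUnit (eta P hP i j) := (hP i j).choose_spec.1

theorem eta_rel (i j : ι) :
    Rel (P i) (P j) (Wf P i ⊓ Wf P j) inf_le_left inf_le_right (eta P hP i j) :=
  (hP i j).choose_spec.2

theorem eta_cocycle (i j k : ι) :
    fres (inf_le_inf_right (Wf P k) inf_le_left : Wf P i ⊓ Wf P j ⊓ Wf P k ≤ Wf P i ⊓ Wf P k)
        (eta P hP i k) =
      fres (inf_le_left : Wf P i ⊓ Wf P j ⊓ Wf P k ≤ Wf P i ⊓ Wf P j) (eta P hP i j) *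
        fres (inf_le_inf_right (Wf P k) inf_le_right :
          Wf P i ⊓ Wf P j ⊓ Wf P k ≤ Wf P j ⊓ Wf P k) (eta P hP j k) :=
  Rel.unique ((eta_rel P hP i k).res _)
    (((eta_rel P hP i j).res _).trans ((eta_rel P hP j k).res _))

end Family

/-! ### The extension step -/

theorem good_of_isIntegral (U : X.Opens) (W₀ : X.Opens) [IsIntegral ↑W₀]
    (h : ((W₀ ⊓ U : X.Opens) : Set X).Nonempty) : Good U W₀ := by
  intro T hT
  by_cases hne : (T : Set X).Nonempty
  · apply fres_injective_of_isIntegral W₀ hT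
    obtain ⟨y, hy⟩ := hne
    obtain ⟨z, hz⟩ := h
    have hA : ((W₀.ι ⁻¹ᵁ T : (W₀ : Scheme.{u}).Opens) : Set ↑W₀).Nonempty := ⟨⟨y, hT hy⟩, hy⟩
    have hB : ((W₀.ι ⁻¹ᵁ U : (W₀ : Scheme.{u}).Opens) : Set ↑W₀).Nonempty := ⟨⟨z, hz.1⟩, hz.2⟩
    obtain ⟨w, hw1, hw2⟩ :=
      nonempty_preirreducible_inter (W₀.ι ⁻¹ᵁ T).isOpen (W₀.ι ⁻¹ᵁ U).isOpen hA hB
    exact ⟨w.1, hw1, hw2⟩
  · have hT' : T = ⊥ := by
      apply Opens.ext
      simpa [Set.not_nonempty_iff_eq_empty] using hne
    haveI := subsingleton_sections_bot T hT'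
    exact Function.injective_of_subsingleton _

theorem exists_piece_compat [IsLocallyNoetherian X] (hM : IsPushed U M) {ι : Type u}
    (P : ι → Piece U M) (hP : ∀ i j, Compat (P i) (P j)) (hU : U ≤ ⨆ i, Wf P i) (x : X)
    (hx : x ∈ closure (U : Set X)) [UniqueFactorizationMonoid (X.presheaf.stalk x)] :
    ∃ p : Piece U M, x ∈ p.W ∧ ∀ i, Compat p (P i) := by
  classical
  have hη := eta_cocycle P hP
  have hu := eta_isUnit P hP
  have hrel := eta_rel P hP
  generalize eta P hP = η at hη hu hrel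
  let Ω : X.Opens := ⨆ i, Wf P i
  have hN : HasLocalBases (cocycleMod (Wf P) η) Ω := by
    intro y hy
    obtain ⟨i, hi⟩ := Opens.mem_iSup.mp hy
    exact ⟨Wf P i, le_iSup (Wf P) i, hi, basisSec (Wf P) η hη i,
      isBasisOn_basisSec (Wf P) η hη hu i⟩
  obtain ⟨W₀, W, hxW, hWW₀, hint, ε, hε⟩ := exists_isBasisOn_inf Ω (cocycleMod (Wf P) η) hN x
  haveI := hint
  have hgood : Good U W := by
    refine (good_of_isIntegral U W₀ ?_).mono hWW₀
    obtain ⟨z, hz1, hz2⟩ := mem_closure_iff.mp hx W₀ W₀.isOpen (hWW₀ hxW)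
    exact ⟨z, hz1, hz2⟩
  -- transition units
  let A : ι → X.Opens := fun i => (W ⊓ Ω) ⊓ Wf P i
  choose c hcu hc using fun i => exists_unit_smul hε (isBasisOn_basisSec (Wf P) η hη hu i)
  let σ : ∀ i, Γ(M, A i) := fun i => c i • mres M (inf_le_right : A i ≤ Wf P i) (P i).e
  have lA : ∀ i j, A i ⊓ A j ≤ Wf P i ⊓ Wf P j := fun i j =>
    inf_le_inf inf_le_right inf_le_right
  have hcc : ∀ i j, fres (inf_le_left : A i ⊓ A j ≤ A i) (c i) * fres (lA i j) (η i j) =
      fres (inf_le_right : A i ⊓ A j ≤ A j) (c j) := by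
    intro i j
    have hb := (isBasisOn_basisSec (Wf P) η hη hu j).mono
      (inf_le_right.trans inf_le_right : A i ⊓ A j ≤ Wf P j)
    apply hb.eq_of_smul_eq
    have e1 := congrArg (mres (cocycleMod (Wf P) η) (inf_le_left : A i ⊓ A j ≤ A i)) (hc i)
    have e2 := congrArg (mres (cocycleMod (Wf P) η) (inf_le_right : A i ⊓ A j ≤ A j)) (hc j)
    have e3 := congrArg (mres (cocycleMod (Wf P) η) (lA i j))
      (basisSec_transition (Wf P) η hη i j)
    simp only [mres_smul, mres_mres] at e1 e2 e3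
    rw [mul_smul, ← e3, ← e1, e2]
  have hσ : ∀ i j, mres M (inf_le_left : A i ⊓ A j ≤ A i) (σ i) =
      mres M (inf_le_right : A i ⊓ A j ≤ A j) (σ j) := by
    intro i j
    have hr : mres M _ (P i).e = fres (lA i j) (η i j) • mres M _ (P j).e :=
      (hrel i j).res (lA i j)
    simp only [σ, mres_smul, mres_mres]
    rw [← hcc i j, mul_smul]
    congr 1
  -- glue on `W ⊓ Ω`
  have hcov : W ⊓ Ω ≤ ⨆ i, A i := by
    intro y hy
    obtain ⟨i, hi⟩ := Opens.mem_iSup.mp hy.2
    exact Opens.mem_iSup.mpr ⟨i, ⟨hy, hi⟩⟩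
  obtain ⟨e', he', -⟩ := TopCat.Sheaf.existsUnique_gluing' ⟨M.presheaf, M.isSheaf⟩ A (W ⊓ Ω)
    (fun i => homOfLE inf_le_left) hcov σ (fun i j => hσ i j)
  have he'' : ∀ i, mres M (inf_le_left : A i ≤ W ⊓ Ω) e' = σ i := he'
  -- lift to `W`
  have hWU : W ⊓ U ≤ W ⊓ Ω := inf_le_inf_left W hU
  obtain ⟨ex, hex⟩ := (hM W).2 (mres M hWU e')
  have hex' : mres M (inf_le_left : W ⊓ Ω ≤ W) ex = e' := by
    apply (hM (W ⊓ Ω)).1
    have l : (W ⊓ Ω) ⊓ U ≤ W ⊓ U := inf_le_inf_right U inf_le_left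
    have := congrArg (mres M l) hex
    simp only [mres_mres] at this ⊢
    exact this
  have hexA : ∀ i, mres M (inf_le_left.trans inf_le_left : A i ≤ W) ex = σ i := by
    intro i
    rw [← he'' i, ← hex', mres_mres]
  have hbasis : IsBasisOn M (W ⊓ U) (mres M inf_le_left ex) := by
    refine IsBasisOn.of_cover (fun i => A i ⊓ U) (W ⊓ U)
      (fun i => inf_le_inf_right U (inf_le_left.trans inf_le_left)) ?_ _ (fun i => ?_)
    · intro y hy
      obtain ⟨i, hi⟩ := Opens.mem_iSup.mp (hU hy.2)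
      exact Opens.mem_iSup.mpr ⟨i, ⟨⟨⟨hy.1, hU hy.2⟩, hi⟩, hy.2⟩⟩
    · have h1 := congrArg (mres M (inf_le_left : A i ⊓ U ≤ A i)) (hexA i)
      have hb := (((P i).basis.mono
        (inf_le_inf_right U inf_le_right : A i ⊓ U ≤ Wf P i ⊓ U))).smul_unit _
        ((hcu i).map (fres (inf_le_left : A i ⊓ U ≤ A i)))
      simp only [σ, mres_smul, mres_mres] at h1 hb ⊢
      rw [h1]
      exact hb
  refine ⟨⟨W, hgood, ex, hbasis⟩, hxW, fun i => ?_⟩
  have l : W ⊓ Wf P i ≤ A i :=
    le_inf (le_inf inf_le_left (inf_le_right.trans (le_iSup (Wf P) i))) inf_le_right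
  refine ⟨fres l (c i), (hcu i).map _, ?_⟩
  have := congrArg (mres M l) (hexA i)
  simp only [σ, mres_smul, mres_mres] at this
  exact this

/-! ### A maximal family of compatible pieces -/

theorem exists_family [IsLocallyNoetherian X] (hM : IsPushed U M) (hloc : HasLocalBases M U)
    (hufd : ∀ x : X, x ∉ U → UniqueFactorizationMonoid (X.presheaf.stalk x)) :
    ∃ S : Set (Piece U M), (∀ p ∈ S, ∀ q ∈ S, Compat p q) ∧
      ∀ x ∈ closure (U : Set X), ∃ p ∈ S, x ∈ p.W := by
  classical
  let 𝒮 : Set (Set (Piece U M)) := {S | ∀ p ∈ S, ∀ q ∈ S, Compat p q}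
  let S₀ : Set (Piece U M) := {p | p.W ≤ U}
  have hS₀ : S₀ ∈ 𝒮 := fun p hp q _ => compat_of_le p q hp
  obtain ⟨S, hS₀S, hmax⟩ := zorn_subset_nonempty 𝒮 (by
    intro c hc hchain hne
    refine ⟨⋃₀ c, ?_, fun s hs => Set.subset_sUnion_of_mem hs⟩
    rintro p ⟨s₁, hs₁, hp⟩ q ⟨s₂, hs₂, hq⟩
    rcases hchain.total hs₁ hs₂ with h | h
    · exact hc hs₂ p (h hp) q hq
    · exact hc hs₁ p hp q (h hq)) S₀ hS₀
  have hS : S ∈ 𝒮 := hmax.prop
  have hcovU : ∀ x ∈ U, ∃ p ∈ S, x ∈ p.W := by
    intro x hx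
    obtain ⟨T, hTU, hxT, e, he⟩ := hloc x hx
    have hb : IsBasisOn M (T ⊓ U) (mres M inf_le_left e) := he.mono inf_le_left
    exact ⟨⟨T, good_of_le U hTU, e, hb⟩, hS₀S hTU, hxT⟩
  refine ⟨S, hS, fun x hx => ?_⟩
  by_cases hxU : x ∈ U
  · exact hcovU x hxU
  haveI := hufd x hxU
  obtain ⟨p, hxp, hp⟩ := exists_piece_compat hM (fun k : S => k.1)
    (fun i j => hS i.1 i.2 j.1 j.2) (by
      intro y hy
      obtain ⟨q, hq, hyq⟩ := hcovU y hy
      exact Opens.mem_iSup.mpr ⟨⟨q, hq⟩, hyq⟩) x hx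
  have hins : insert p S ∈ 𝒮 := by
    rintro a (rfl | ha) b (rfl | hb)
    · exact Compat.refl _
    · exact hp ⟨b, hb⟩
    · exact (hp ⟨a, ha⟩).symm
    · exact hS a ha b hb
  have : p ∈ S := hmax.le_of_ge hins (Set.subset_insert p S) (Set.mem_insert p S)
  exact ⟨p, this, hxp⟩

/-! ### The extension -/

section Final

/-- The complement of the closure of `U`. -/
def outside (U : X.Opens) : X.Opens := ⟨(closure (U : Set X))ᶜ, isClosed_closure.isOpen_compl⟩

theorem outside_inf (U : X.Opens) : outside U ⊓ U = ⊥ := by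
  apply le_bot_iff.mp
  intro y hy
  exact (hy.1 (subset_closure hy.2)).elim

theorem eq_bot_of_le_outside (p : Piece U M) (T : X.Opens) (h1 : T ≤ p.W) (h2 : T ≤ outside U) :
    T = ⊥ := by
  apply p.good.inf_eq_bot U T h1
  apply le_bot_iff.mp
  exact (inf_le_inf_right U h2).trans (outside_inf U).le

theorem subsingleton_module_bot (N : X.Modules) (T : X.Opens) (hT : T = ⊥) :
    Subsingleton Γ(N, T) := by
  haveI := subsingleton_sections_bot T hT
  exact Module.subsingleton Γ(X, T) Γ(N, T)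

variable (S : Set (Piece U M))

/-- The opens of the final cover. -/
def Wo : Option S → X.Opens
  | some k => k.1.W
  | none => outside U

variable (hS : ∀ p ∈ S, ∀ q ∈ S, Compat p q)

/-- The transition functions of the final cover. -/
noncomputable def etaO : ∀ o o' : Option S, Γ(X, Wo S o ⊓ Wo S o')
  | some i, some j => eta (fun k : S => k.1) (fun i j => hS _ i.2 _ j.2) i j
  | some _, none => 1
  | none, some _ => 1
  | none, none => 1

theorem etaO_isUnit (o o' : Option S) : IsUnit (etaO S hS o o') := by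
  rcases o with _ | i <;> rcases o' with _ | j
  · exact isUnit_one
  · exact isUnit_one
  · exact isUnit_one
  · exact eta_isUnit _ _ i j

theorem etaO_cocycle (o₁ o₂ o₃ : Option S) :
    fres (inf_le_inf_right (Wo S o₃) inf_le_left : Wo S o₁ ⊓ Wo S o₂ ⊓ Wo S o₃ ≤ Wo S o₁ ⊓ Wo S o₃)
        (etaO S hS o₁ o₃) =
      fres (inf_le_left : Wo S o₁ ⊓ Wo S o₂ ⊓ Wo S o₃ ≤ Wo S o₁ ⊓ Wo S o₂) (etaO S hS o₁ o₂) *
        fres (inf_le_inf_right (Wo S o₃) inf_le_right :
          Wo S o₁ ⊓ Wo S o₂ ⊓ Wo S o₃ ≤ Wo S o₂ ⊓ Wo S o₃) (etaO S hS o₂ o₃) := by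
  rcases o₁ with _ | i <;> rcases o₂ with _ | j <;> rcases o₃ with _ | k
  · simp only [etaO, map_one, mul_one]
  · haveI := subsingleton_sections_bot _ (eq_bot_of_le_outside k.1
      (Wo S none ⊓ Wo S none ⊓ Wo S (some k)) inf_le_right (inf_le_left.trans inf_le_left))
    exact Subsingleton.elim _ _
  · haveI := subsingleton_sections_bot _ (eq_bot_of_le_outside j.1
      (Wo S none ⊓ Wo S (some j) ⊓ Wo S none) (inf_le_left.trans inf_le_right) inf_le_right)
    exact Subsingleton.elim _ _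
  · haveI := subsingleton_sections_bot _ (eq_bot_of_le_outside j.1
      (Wo S none ⊓ Wo S (some j) ⊓ Wo S (some k)) (inf_le_left.trans inf_le_right)
      (inf_le_left.trans inf_le_left))
    exact Subsingleton.elim _ _
  · haveI := subsingleton_sections_bot _ (eq_bot_of_le_outside i.1
      (Wo S (some i) ⊓ Wo S none ⊓ Wo S none) (inf_le_left.trans inf_le_left) inf_le_right)
    exact Subsingleton.elim _ _
  · haveI := subsingleton_sections_bot _ (eq_bot_of_le_outside i.1
      (Wo S (some i) ⊓ Wo S none ⊓ Wo S (some k)) (inf_le_left.trans inf_le_left)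
      (inf_le_left.trans inf_le_right))
    exact Subsingleton.elim _ _
  · haveI := subsingleton_sections_bot _ (eq_bot_of_le_outside i.1
      (Wo S (some i) ⊓ Wo S (some j) ⊓ Wo S none) (inf_le_left.trans inf_le_left) inf_le_right)
    exact Subsingleton.elim _ _
  · exact eta_cocycle (fun k : S => k.1) (fun i j => hS _ i.2 _ j.2) i j k

end Final

/-! ### Coefficients of sections of a cocycle module -/

section Coef

open Groth.Agent.Lib.Helper20.GlueHom

variable {κ : Type u} (Wc : κ → X.Opens) (η : ∀ i j, Γ(X, Wc i ⊓ Wc j))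

/-- The coefficient of a section of `cocycleMod` in the `i`-th chart. -/
noncomputable def coef (i : κ) (T : X.Opens) (h : T ≤ Wc i) (m : Γ(cocycleMod Wc η, T)) :
    Γ(X, T) :=
  fres (le_inf le_rfl h : T ≤ T ⊓ Wc i) ((toSec Wc η T m).1 i)

theorem coef_add (i : κ) (T : X.Opens) (h : T ≤ Wc i) (m n : Γ(cocycleMod Wc η, T)) :
    coef Wc η i T h (m + n) = coef Wc η i T h m + coef Wc η i T h n := by
  have : (toSec Wc η T (m + n)).1 i = (toSec Wc η T m).1 i + (toSec Wc η T n).1 i := rfl
  rw [coef, this, map_add]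
  rfl

theorem coef_smul (i : κ) (T : X.Opens) (h : T ≤ Wc i) (r : Γ(X, T))
    (m : Γ(cocycleMod Wc η, T)) :
    coef Wc η i T h (r • m) = r * coef Wc η i T h m := by
  rw [coef, toSec_smul, map_mul, fres_fres, fres_self']
  rfl

theorem coef_res (i : κ) (T T' : X.Opens) (h : T ≤ Wc i) (h' : T' ≤ T)
    (m : Γ(cocycleMod Wc η, T)) :
    coef Wc η i T' (h'.trans h) (mres (cocycleMod Wc η) h' m) = fres h' (coef Wc η i T h m) := by
  rw [coef, toSec_mres, coef, fres_fres, fres_fres]

theorem coef_transition (i j : κ) (T : X.Opens) (hi : T ≤ Wc i) (hj : T ≤ Wc j)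
    (m : Γ(cocycleMod Wc η, T)) :
    coef Wc η j T hj m = coef Wc η i T hi m * fres (le_inf hi hj) (η i j) := by
  have h1 := (toSec Wc η T m).2 i j
  have hl : T ≤ T ⊓ (Wc i ⊓ Wc j) := le_inf le_rfl (le_inf hi hj)
  have h2 := congrArg (fres hl) h1
  simp only [map_mul, fres_fres] at h2
  exact h2

theorem coef_basisSec
    (hη : ∀ i j k,
      fres (inf_le_inf_right (Wc k) inf_le_left : Wc i ⊓ Wc j ⊓ Wc k ≤ Wc i ⊓ Wc k) (η i k) =
        fres (inf_le_left : Wc i ⊓ Wc j ⊓ Wc k ≤ Wc i ⊓ Wc j) (η i j) *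
          fres (inf_le_inf_right (Wc k) inf_le_right : Wc i ⊓ Wc j ⊓ Wc k ≤ Wc j ⊓ Wc k) (η j k))
    (hu : ∀ i j, IsUnit (η i j)) (i : κ) (T : X.Opens) (h : T ≤ Wc i) :
    coef Wc η i T h (mres (cocycleMod Wc η) h (basisSec Wc η hη i)) = 1 := by
  rw [coef, toSec_mres, toSec_basisSec, eta_self Wc η hη hu i, map_one, map_one]

/-- A morphism of modules which is bijective on the small opens of a cover is bijective. -/
theorem bijective_app_of_cover {L L' : X.Modules} (ψ : L ⟶ L') {κ' : Type*} (V : κ' → X.Opens)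
    (W : X.Opens) (hW : W ≤ iSup V)
    (hb : ∀ (i : κ') (T : X.Opens), T ≤ V i → Function.Bijective (ψ.app T).hom) :
    Function.Bijective (ψ.app W).hom := by
  let D : LocalHomData L L' V :=
    { β := fun _ T _ => (ψ.app T).hom
      map_add := fun _ T _ m n => map_add (ψ.app T).hom m n
      map_smul := fun _ T _ r m => Scheme.Modules.Hom.app_smul ψ r m
      res := fun _ T T' _ h' m => app_res ψ h' m
      compat := fun _ _ _ _ _ _ => rfl }
  have h1 : ⇑(ψ.app W).hom = D.glueApp' W hW := by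
    funext m
    apply D.glueApp'_unique
    intro i
    exact app_res ψ _ m
  rw [h1]
  exact D.glueApp'_bijective (fun i T h => hb i T h) W hW

end Coef

/-! ### The comparison morphism and the main theorem -/

section Main

open Groth.Agent.Lib.Helper20.GlueHom

variable (S : Set (Piece U M)) (hS : ∀ p ∈ S, ∀ q ∈ S, Compat p q)

/-- The local maps `L' ⟶ M`. -/
noncomputable def betaO : ∀ (o : Option S) (T : X.Opens), T ≤ Wo S o →
    Γ(cocycleMod (Wo S) (etaO S hS), T) → Γ(M, T)
  | some k, T, h, m => coef (Wo S) (etaO S hS) (some k) T h m • mres M h k.1.e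
  | none, _, _, _ => 0

/-- The local data of the comparison morphism `L' ⟶ M`. -/
noncomputable def homData : LocalHomData (cocycleMod (Wo S) (etaO S hS)) M (Wo S) where
  β := betaO S hS
  map_add := by
    rintro (_ | k) T h m n
    · exact (add_zero _).symm
    · change coef _ _ _ T h (m + n) • _ = coef _ _ _ T h m • _ + coef _ _ _ T h n • _
      rw [coef_add, add_smul]
  map_smul := by
    rintro (_ | k) T h r m
    · exact (smul_zero _).symm
    · change coef _ _ _ T h (r • m) • _ = r • (coef _ _ _ T h m • _)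
      rw [coef_smul, mul_smul]
  res := by
    rintro (_ | k) T T' h h' m
    · exact map_zero _
    · change mres M h' (coef _ _ _ T h m • mres M h k.1.e) =
        coef _ _ _ T' (h'.trans h) (mres _ h' m) • mres M (h'.trans h) k.1.e
      rw [coef_res, mres_smul, mres_mres]
  compat := by
    rintro (_ | k) (_ | l) T hk hl m
    · rfl
    · haveI := subsingleton_module_bot M T (eq_bot_of_le_outside l.1 T hl hk)
      exact Subsingleton.elim _ _
    · haveI := subsingleton_module_bot M T (eq_bot_of_le_outside k.1 T hk hl)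
      exact Subsingleton.elim _ _
    · change coef _ _ _ T hk m • mres M hk k.1.e = coef _ _ _ T hl m • mres M hl l.1.e
      have hr : mres M hk k.1.e = fres (le_inf hk hl) (etaO S hS (some k) (some l)) •
          mres M hl l.1.e :=
        (eta_rel (fun k : S => k.1) (fun i j => hS _ i.2 _ j.2) k l).res (le_inf hk hl)
      rw [coef_transition (Wo S) (etaO S hS) (some k) (some l) T hk hl m, hr, mul_smul]

end Main

/-- **Extension of invertible modules across factorial points.** -/
theorem exists_extension [IsLocallyNoetherian X] (hM : IsPushed U M) (hloc : HasLocalBases M U)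
    (hufd : ∀ x : X, x ∉ U → UniqueFactorizationMonoid (X.presheaf.stalk x)) :
    ∃ (L' : X.Modules) (ψ : L' ⟶ M), PicF.IsInvertible L' ∧
      ∀ V : X.Opens, V ≤ U → IsIso (ψ.app V) := by
  obtain ⟨S, hS, hcov⟩ := exists_family hM hloc hufd
  have hη := etaO_cocycle S hS
  have hu := etaO_isUnit S hS
  have hU : iSup (Wo S) = ⊤ := by
    apply top_le_iff.mp
    intro x _
    by_cases hx : x ∈ closure (U : Set X)
    · obtain ⟨p, hp, hxp⟩ := hcov x hx
      exact Opens.mem_iSup.mpr ⟨some ⟨p, hp⟩, hxp⟩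
    · exact Opens.mem_iSup.mpr ⟨none, hx⟩
  refine ⟨cocycleMod (Wo S) (etaO S hS), (homData S hS).glue hU,
    isInvertible_cocycleMod _ _ hη hu hU, ?_⟩
  intro V hV
  rw [Groth.Agent.Lib.Helper11.GenLocus.isIso_iff_bijective]
  apply bijective_app_of_cover ((homData S hS).glue hU) (fun k : S => k.1.W ⊓ U) V
  · intro y hy
    obtain ⟨p, hp, hyp⟩ := hcov y (subset_closure (hV hy))
    exact Opens.mem_iSup.mpr ⟨⟨p, hp⟩, ⟨hyp, hV hy⟩⟩
  · intro k T hT
    have h1 : T ≤ Wo S (some k) := hT.trans inf_le_left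
    have h2 : ⇑(((homData S hS).glue hU).app T).hom = betaO S hS (some k) T h1 :=
      funext fun m => (homData S hS).glue_app_of_le hU (some k) T h1 m
    rw [h2]
    have hf : Function.Bijective (fun r : Γ(X, T) =>
        r • mres (cocycleMod (Wo S) (etaO S hS)) h1 (basisSec (Wo S) (etaO S hS) hη (some k))) :=
      isBasisOn_basisSec (Wo S) (etaO S hS) hη hu (some k) T h1
    have hg : Function.Bijective (fun r : Γ(X, T) => r • mres M h1 k.1.e) := by
      have := k.1.basis T hT
      simp only [mres_mres] at this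
      exact this
    have hcomp : betaO S hS (some k) T h1 ∘ (fun r : Γ(X, T) =>
        r • mres (cocycleMod (Wo S) (etaO S hS)) h1 (basisSec (Wo S) (etaO S hS) hη (some k))) =
        fun r : Γ(X, T) => r • mres M h1 k.1.e := by
      funext r
      change coef _ _ _ T h1 (r • _) • mres M h1 k.1.e = _
      rw [coef_smul, coef_basisSec (Wo S) (etaO S hS) hη hu (some k) T h1, mul_one]
    rw [← hcomp] at hg
    exact (Function.Bijective.of_comp_iff _ hf).mp hg

/-! ### Application to `M = j_* L` -/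

theorem isPushed_pushforward (U : X.Opens) (L : (U : Scheme.{u}).Modules) :
    IsPushed U ((Scheme.Modules.pushforward U.ι).obj L) := by
  intro T
  have hle : U.ι ⁻¹ᵁ T ≤ U.ι ⁻¹ᵁ (T ⊓ U) := fun z hz => ⟨hz, z.2⟩
  have hle' : U.ι ⁻¹ᵁ (T ⊓ U) ≤ U.ι ⁻¹ᵁ T := fun z hz => hz.1
  have key : Function.Bijective (mres L hle') := by
    refine Function.bijective_iff_has_inverse.mpr ⟨mres L hle, ?_, ?_⟩
    · intro m
      rw [mres_mres]
      exact mres_self L m
    · intro m
      rw [mres_mres]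
      exact mres_self L m
  exact key

theorem hasLocalBases_pushforward (U : X.Opens) (L : (U : Scheme.{u}).Modules)
    (hL : PicF.IsInvertible L) :
    HasLocalBases ((Scheme.Modules.pushforward U.ι).obj L) U := by
  have hinv : PicF.IsInvertible (((Scheme.Modules.pushforward U.ι).obj L).restrict U.ι) :=
    isInvertible_of_iso ((Scheme.Modules.restrictFunctorAdjCounitIso U.ι).app L).symm hL
  intro y hy
  obtain ⟨V', hyV', t, ht⟩ := exists_isBasisOn_of_isInvertible hinv ⟨y, hy⟩
  refine ⟨U.ι ''ᵁ V', ?_, ⟨⟨y, hy⟩, hyV', rfl⟩, t, isBasisOn_of_restrict U V' t ht⟩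
  rintro _ ⟨z, -, rfl⟩
  exact z.2

/-- **Extension of invertible modules**: on a locally Noetherian scheme, an invertible module on an
open `U` extends to `X` if the local rings at the points outside `U` are factorial. -/
theorem exists_invertible_extension [IsLocallyNoetherian X] (U : X.Opens)
    (L : (U : Scheme.{u}).Modules) (hL : PicF.IsInvertible L)
    (hufd : ∀ x : X, x ∉ U → UniqueFactorizationMonoid (X.presheaf.stalk x)) :
    ∃ L' : X.Modules, PicF.IsInvertible L' ∧ Nonempty (L'.restrict U.ι ≅ L) := by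
  obtain ⟨L', ψ, hL', hψ⟩ := exists_extension (isPushed_pushforward U L)
    (hasLocalBases_pushforward U L hL) hufd
  haveI : IsIso ((Scheme.Modules.restrictFunctor U.ι).map ψ) := (isIso_restrict_iff ψ U).mpr hψ
  exact ⟨L', hL', ⟨asIso ((Scheme.Modules.restrictFunctor U.ι).map ψ) ≪≫
    (Scheme.Modules.restrictFunctorAdjCounitIso U.ι).app L⟩⟩

end Groth.Agent.Lib.Helper20.ExtendInv
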