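import Mathlib
import Groth.Agent.Lib.Helper20.GlueOpens

/-!
# Extending a morphism to a proper scheme over a point whose local ring is a valuation ring
-/

set_option autoImplicit false
universe u
open CategoryTheory CategoryTheory.Limits AlgebraicGeometry

namespace Groth.Agent.Lib.Helper20.ExtendVal

section topology

variable {X : Scheme.{u}}

/-- The image of `Spec K ⟶ Spec O_{X,x} ⟶ X`, for an injective map from the (domain) `O_{X,x}` to
a field, specializes to every generalization of `x`. -/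
lemma genPt_specializes (x : X) {K : Type u} [Field K]
    (φ : X.presheaf.stalk x ⟶ CommRingCat.of K) (hφ : Function.Injective φ.hom)
    (t : Spec (CommRingCat.of K)) (z : X) (hz : z ⤳ x) :
    (Spec.map φ ≫ X.fromSpecStalk x) t ⤳ z := by
  have hz' : z ∈ Set.range (X.fromSpecStalk x) := by
    rw [Scheme.range_fromSpecStalk]; exact hz
  obtain ⟨𝔮, rfl⟩ := hz'
  rw [Scheme.Hom.comp_apply]
  refine Specializes.map ?_ (X.fromSpecStalk x).continuous
  refine (PrimeSpectrum.le_iff_specializes (R := X.presheaf.stalk x)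
    (PrimeSpectrum.comap φ.hom t) 𝔮).mp ?_
  intro a ha
  have h1 : φ.hom a ∈ t.asIdeal := ha
  have h2 : t.asIdeal = ⊥ := Ideal.eq_bot_of_prime _
  rw [h2, Ideal.mem_bot] at h1
  have h3 : a = 0 := hφ (h1.trans (map_zero _).symm)
  rw [h3]
  exact zero_mem _

/-- In an integral open neighbourhood `W` of `x`, the image of `Spec K` specializes to every
point. -/
lemma genPt_specializes_of_isIntegral (x : X) (W : X.Opens) (hxW : x ∈ W)
    [IsIntegral (W : Scheme.{u})] {K : Type u} [Field K]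
    (φ : X.presheaf.stalk x ⟶ CommRingCat.of K) (hφ : Function.Injective φ.hom)
    (t : Spec (CommRingCat.of K)) (z : X) (hz : z ∈ W) :
    (Spec.map φ ≫ X.fromSpecStalk x) t ⤳ z := by
  let ξ : (W : Scheme.{u}) := genericPoint (W : Scheme.{u})
  have h1 : ∀ w : (W : Scheme.{u}), (W.ι ξ) ⤳ (W.ι w) := fun w =>
    (genericPoint_specializes w).map W.ι.continuous
  have h2 : W.ι ξ ⤳ x := h1 ⟨x, hxW⟩
  have h3 : W.ι ξ ⤳ z := h1 ⟨z, hz⟩
  exact (genPt_specializes x φ hφ t _ h2).trans h3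

/-- A point at which the germ map is injective and whose local ring is a domain has an integral
open neighbourhood. -/
theorem exists_integral_nhd_of_isGermInjectiveAt (x : X) [X.IsGermInjectiveAt x]
    [IsDomain (X.presheaf.stalk x)] :
    ∃ W : X.Opens, x ∈ W ∧ IsIntegral (W : Scheme.{u}) := by
  obtain ⟨W, hxW, hW, hinj⟩ := X.exists_germ_injective x
  refine ⟨W, hxW, ?_⟩
  have h1 : IsDomain Γ(X, W) := hinj.isDomain (X.presheaf.germ W x hxW).hom
  have : IsAffine (W : Scheme.{u}) := hW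
  have : Nonempty (W : Scheme.{u}) := ⟨⟨x, hxW⟩⟩
  have : IsDomain Γ((W : Scheme.{u}), ⊤) :=
    MulEquiv.isDomain Γ(X, W) (W.topIso.commRingCatIsoToRingEquiv.toMulEquiv)
  exact isIntegral_of_isAffine_of_isDomain _

/-- On a reduced scheme with finitely many irreducible components, a point whose local ring is a
domain has an integral open neighbourhood. -/
theorem exists_integral_nhd_of_isReduced [IsReduced X] (hfin : (irreducibleComponents X).Finite)
    (x : X) [IsDomain (X.presheaf.stalk x)] :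
    ∃ W : X.Opens, x ∈ W ∧ IsIntegral (W : Scheme.{u}) := by
  let C : Set X := ⋃ Z ∈ {Z ∈ irreducibleComponents X | x ∉ Z}, Z
  have hC : IsClosed C := (hfin.subset (Set.sep_subset _ _)).isClosed_biUnion
    (fun Z hZ => isClosed_of_mem_irreducibleComponents Z hZ.1)
  have hxC : x ∉ C := by
    intro h
    obtain ⟨Z, hZ, hxZ⟩ := Set.mem_iUnion₂.mp h
    exact hZ.2 hxZ
  let W : X.Opens := ⟨Cᶜ, hC.isOpen_compl⟩
  have hxW : x ∈ W := hxC
  let K := FractionRing (X.presheaf.stalk x)
  let φ : X.presheaf.stalk x ⟶ CommRingCat.of K :=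
    CommRingCat.ofHom (algebraMap (X.presheaf.stalk x) K)
  have hφ : Function.Injective φ.hom := IsFractionRing.injective (X.presheaf.stalk x) K
  let t₀ : Spec (CommRingCat.of K) := ⟨⊥, Ideal.isPrime_bot⟩
  let η : X := (Spec.map φ ≫ X.fromSpecStalk x) t₀
  have hη : ∀ z ∈ W, η ⤳ z := by
    intro z hz
    have hZ : irreducibleComponent z ∈ irreducibleComponents X :=
      irreducibleComponent_mem_irreducibleComponents z
    have hxZ : x ∈ irreducibleComponent z := by
      by_contra hx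
      exact hz (Set.mem_iUnion₂.mpr ⟨_, ⟨hZ, hx⟩, mem_irreducibleComponent⟩)
    obtain ⟨ζ, hζ⟩ := QuasiSober.sober (isIrreducible_irreducibleComponent (x := z))
      isClosed_irreducibleComponent
    have h1 : ζ ⤳ x := hζ.specializes hxZ
    have h2 : ζ ⤳ z := hζ.specializes mem_irreducibleComponent
    exact (genPt_specializes x φ hφ t₀ ζ h1).trans h2
  have hηW : η ∈ W := (hη x hxW).mem_open W.isOpen hxW
  let η' : W := ⟨η, hηW⟩
  have hη' : ∀ w : W, η' ⤳ w := fun w =>
    (subtype_specializes_iff η' w).mpr (hη w.1 w.2)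
  have hirr : IsIrreducible (Set.univ : Set W) := by
    have h : (Set.univ : Set W) = closure {η'} := by
      ext w
      simp only [Set.mem_univ, true_iff]
      exact specializes_iff_mem_closure.mp (hη' w)
    rw [h]
    exact isIrreducible_singleton.closure
  have : IrreducibleSpace (W : Scheme.{u}) :=
    { isPreirreducible_univ := hirr.isPreirreducible, toNonempty := ⟨η'⟩ }
  exact ⟨W, hxW, isIntegral_of_irreducibleSpace_of_isReduced _⟩

end topology

section main

variable {X Y S : Scheme.{u}}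

/-- **Extension over a valuation-ring point.** Let `q : Y ⟶ S` be proper, `x : X` a point whose
local ring is a valuation ring and which has an integral open neighbourhood `W`. An `S`-morphism
`f : U ⟶ Y` on an open `U` with `x ∈ closure U` extends to an open containing `U` and `x`. -/
theorem exists_extension_of_integral_nhd (p : X ⟶ S) (q : Y ⟶ S) [IsProper q]
    (x : X) (W : X.Opens) (hxW : x ∈ W) [IsIntegral (W : Scheme.{u})]
    (hdom : IsDomain (X.presheaf.stalk x)) (hval : @ValuationRing (X.presheaf.stalk x) _ hdom)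
    (U : X.Opens) (f : (U : Scheme.{u}) ⟶ Y) (hf : f ≫ q = U.ι ≫ p)
    (hx : x ∈ closure (U : Set X)) :
    ∃ (U' : X.Opens) (hUU' : U ≤ U'), x ∈ U' ∧
      ∃ f' : (U' : Scheme.{u}) ⟶ Y, f' ≫ q = U'.ι ≫ p ∧ X.homOfLE hUU' ≫ f' = f := by
  -- notation
  let R := X.presheaf.stalk x
  let K := FractionRing R
  let φ : R ⟶ CommRingCat.of K := CommRingCat.ofHom (algebraMap R K)
  have hφ : Function.Injective φ.hom := IsFractionRing.injective R K
  let j : Spec (CommRingCat.of K) ⟶ X := Spec.map φ ≫ X.fromSpecStalk x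
  have hj : ∀ t, ∀ z ∈ W, j t ⤳ z := fun t z hz =>
    genPt_specializes_of_isIntegral x W hxW φ hφ t z hz
  -- the generic point lies in U
  obtain ⟨z, hzW, hzU⟩ : ∃ z, z ∈ W ∧ z ∈ U := by
    obtain ⟨z, hz1, hz2⟩ := mem_closure_iff.mp hx W W.isOpen hxW
    exact ⟨z, hz1, hz2⟩
  have hjU : ∀ t, j t ∈ U := fun t => (hj t z hzW).mem_open U.isOpen hzU
  have hjW : ∀ t, j t ∈ W := fun t => (hj t x hxW).mem_open W.isOpen hxW
  -- factor j through U
  have hrU : Set.range j ⊆ Set.range U.ι := by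
    rw [Scheme.Opens.range_ι]; rintro _ ⟨t, rfl⟩; exact hjU t
  let jU : Spec (CommRingCat.of K) ⟶ U := IsOpenImmersion.lift U.ι j hrU
  have hjU' : jU ≫ U.ι = j := IsOpenImmersion.lift_fac _ _ _
  -- valuative criterion
  have hex : ValuativeCriterion.Existence q := by
    have h : UniversallyClosed q := inferInstance
    rw [UniversallyClosed.eq_valuativeCriterion] at h
    exact h.1
  let sq : ValuativeCommSq q :=
    { R := R, domain := hdom, valuationRing := hval, K := K, i₁ := jU ≫ f,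
      i₂ := X.fromSpecStalk x ≫ p,
      commSq := ⟨by rw [Category.assoc, hf, reassoc_of% hjU']; rfl⟩ }
  obtain ⟨⟨l⟩⟩ := hex sq
  obtain ⟨φ', hφ'1, hφ'2⟩ : ∃ φ' : Spec (X.presheaf.stalk x) ⟶ Y,
      Spec.map φ ≫ φ' = jU ≫ f ∧ φ' ≫ q = X.fromSpecStalk x ≫ p := ⟨l.l, l.fac_left, l.fac_right⟩
  -- germ injectivity at x
  have : X.IsGermInjectiveAt x := by
    have h1 : (W : Scheme.{u}).IsGermInjectiveAt (⟨x, hxW⟩ : W) := inferInstance
    exact (isGermInjectiveAt_iff_of_isOpenImmersion (f := W.ι) (x := ⟨x, hxW⟩)).mpr h1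
  have : LocallyOfFiniteType q := inferInstance
  obtain ⟨W', hxW', g, hg1, hg2⟩ := spread_out_of_isGermInjective' p q φ' hφ'2
  -- restrict g to W'' := W' ⊓ W
  let W'' : X.Opens := W' ⊓ W
  let g'' : (W'' : Scheme.{u}) ⟶ Y := X.homOfLE (inf_le_left : W'' ≤ W') ≫ g
  have hg'' : g'' ≫ q = W''.ι ≫ p := by rw [Category.assoc, hg2, Scheme.homOfLE_ι_assoc]
  -- compatibility on the overlap
  have hcompat : X.homOfLE (inf_le_left : U ⊓ W'' ≤ U) ≫ f =
      X.homOfLE (inf_le_right : U ⊓ W'' ≤ W'') ≫ g'' := by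
    have : IsReduced ((U ⊓ W'' : X.Opens) : Scheme.{u}) :=
      isReduced_of_isOpenImmersion
        (X.homOfLE ((inf_le_right.trans inf_le_right : U ⊓ W'' ≤ W)))
    have hr : Set.range j ⊆ Set.range (U ⊓ W'').ι := by
      rw [Scheme.Opens.range_ι]; rintro _ ⟨t, rfl⟩
      exact ⟨hjU t, (hj t x hxW).mem_open W'.isOpen hxW', hjW t⟩
    let ι : Spec (CommRingCat.of K) ⟶ ((U ⊓ W'' : X.Opens) : Scheme.{u}) :=
      IsOpenImmersion.lift (U ⊓ W'').ι j hr
    have hι : ι ≫ (U ⊓ W'').ι = j := IsOpenImmersion.lift_fac _ _ _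
    have : IsDominant ι := by
      refine ⟨fun w => ?_⟩
      let t₀ : Spec (CommRingCat.of K) := ⟨⊥, Ideal.isPrime_bot⟩
      have h1 : (U ⊓ W'').ι (ι t₀) ⤳ (U ⊓ W'').ι w := by
        rw [← Scheme.Hom.comp_apply, hι]
        exact hj t₀ _ w.2.2.2
      have h2 : ι t₀ ⤳ w := (U ⊓ W'').ι.isEmbedding.isInducing.specializes_iff.mp h1
      exact closure_mono (Set.singleton_subset_iff.mpr (Set.mem_range_self t₀))
        (specializes_iff_mem_closure.mp h2)
    refine ext_of_isDominant_of_isSeparated q ?_ ι ?_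
    · rw [Category.assoc, Category.assoc, hf, hg'', Scheme.homOfLE_ι_assoc,
        Scheme.homOfLE_ι_assoc]
    · have e1 : ι ≫ X.homOfLE (inf_le_left : U ⊓ W'' ≤ U) = jU := by
        rw [← cancel_mono U.ι, Category.assoc, Scheme.homOfLE_ι, hι, hjU']
      have e2 : ι ≫ X.homOfLE (inf_le_right : U ⊓ W'' ≤ W'') ≫
          X.homOfLE (inf_le_left : W'' ≤ W') = Spec.map φ ≫ W'.fromSpecStalkOfMem x hxW' := by
        rw [← cancel_mono W'.ι, Category.assoc, Category.assoc, Scheme.homOfLE_ι,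
          Scheme.homOfLE_ι, hι, Category.assoc, Scheme.Opens.fromSpecStalkOfMem_ι]
      rw [reassoc_of% e1, ← hφ'1, hg1]
      change _ = ι ≫ X.homOfLE (inf_le_right : U ⊓ W'' ≤ W'') ≫
          X.homOfLE (inf_le_left : W'' ≤ W') ≫ g
      rw [reassoc_of% e2]
  -- glue
  obtain ⟨U', hU, hV, k, hk1, hk2, hkext⟩ := GlueOpens.exists_glue₂ U W'' f g'' hcompat
  refine ⟨U', hU, hV ⟨hxW', hxW⟩, k, ?_, hk1⟩
  apply hkext
  · rw [reassoc_of% hk1, hf, Scheme.homOfLE_ι_assoc]
  · rw [reassoc_of% hk2, hg'', Scheme.homOfLE_ι_assoc]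

end main

section family

variable {S X Y : Scheme.{u}}

/-- two `S`-morphisms from a reduced open to a separated `S`-scheme which agree on a dense open
are equal -/
theorem eq_of_dense (p : X ⟶ S) [IsSeparated p] (q : Y ⟶ S) [IsReduced Y]
    (V : Y.Opens) (hV : Dense (V : Set Y)) (A : Y.Opens) (hVA : V ≤ A)
    (a b : (A : Scheme.{u}) ⟶ X) (ha : a ≫ p = A.ι ≫ q) (hb : b ≫ p = A.ι ≫ q)
    (hab : Y.homOfLE hVA ≫ a = Y.homOfLE hVA ≫ b) : a = b := by
  have : IsDominant (Y.homOfLE hVA) := by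
    refine ⟨fun w => ?_⟩
    rw [mem_closure_iff]
    intro O hO hwO
    have hO' : IsOpen (A.ι '' O) := A.ι.isOpenEmbedding.isOpenMap O hO
    obtain ⟨v, hvV, w', hw'O, rfl⟩ := hV.exists_mem_open hO' ⟨_, w, hwO, rfl⟩
    refine ⟨w', hw'O, ⟨⟨A.ι w', hvV⟩, ?_⟩⟩
    apply A.ι.isOpenEmbedding.injective
    rw [← Scheme.Hom.comp_apply, Scheme.homOfLE_ι]
    rfl
  exact ext_of_isDominant_of_isSeparated p (ha.trans hb.symm) (Y.homOfLE hVA) hab

/-- **Extension over a set of valuation-ring points.** Let `p : X ⟶ S` be proper, `Y` reduced,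
`P` a set of points of `Y` each of which has an integral open neighbourhood and a valuation ring
as local ring. An `S`-morphism `g : V ⟶ X` on a dense open `V` extends to an open containing `V`
and `P`. -/
theorem exists_extension_of_forall_mem (p : X ⟶ S) [IsProper p] (q : Y ⟶ S) [IsReduced Y]
    (P : Set Y)
    (hP : ∀ y ∈ P, (∃ W : Y.Opens, y ∈ W ∧ IsIntegral (W : Scheme.{u})) ∧
      ∃ hdom : IsDomain (Y.presheaf.stalk y), @ValuationRing (Y.presheaf.stalk y) _ hdom)
    (V : Y.Opens) (hV : Dense (V : Set Y)) (g : (V : Scheme.{u}) ⟶ X) (hg : g ≫ p = V.ι ≫ q) :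
    ∃ (U : Y.Opens) (hVU : V ≤ U) (g' : (U : Scheme.{u}) ⟶ X), g' ≫ p = U.ι ≫ q ∧
      Y.homOfLE hVU ≫ g' = g ∧ P ⊆ U := by
  -- local extensions
  have hloc : ∀ y : Y, y ∈ P →
      ∃ (U' : Y.Opens) (hUU' : V ≤ U'), y ∈ U' ∧
        ∃ f' : (U' : Scheme.{u}) ⟶ X, f' ≫ p = U'.ι ≫ q ∧ Y.homOfLE hUU' ≫ f' = g := by
    intro y hy
    obtain ⟨⟨W, hyW, hW⟩, hdom, hval⟩ := hP y hy
    exact exists_extension_of_integral_nhd q p y W hyW hdom hval V g hg
      (hV.closure_eq ▸ Set.mem_univ y)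
  choose Uy hVUy hyUy fy hfy1 hfy2 using hloc
  -- the family
  let J := Option {y : Y // y ∈ P}
  let T : J → Y.Opens := fun j =>
    match j with
    | none => V
    | some y => Uy y.1 y.2
  have hVT : ∀ j, V ≤ T j := fun j =>
    match j with
    | none => le_rfl
    | some y => hVUy y.1 y.2
  let F : ∀ j, ((T j : Y.Opens) : Scheme.{u}) ⟶ X := fun j =>
    match j with
    | none => g
    | some y => fy y.1 y.2
  have hF1 : ∀ j, F j ≫ p = (T j).ι ≫ q := fun j =>
    match j with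
    | none => hg
    | some y => hfy1 y.1 y.2
  have hF2 : ∀ j, Y.homOfLE (hVT j) ≫ F j = g := fun j =>
    match j with
    | none => by simp [F, T]
    | some y => hfy2 y.1 y.2
  obtain ⟨k, hk⟩ := GlueOpens.exists_glue T F (by
    intro i j
    refine eq_of_dense p q V hV (T i ⊓ T j) (le_inf (hVT i) (hVT j)) _ _ ?_ ?_ ?_
    · rw [Category.assoc, hF1, Scheme.homOfLE_ι_assoc]
    · rw [Category.assoc, hF1, Scheme.homOfLE_ι_assoc]
    · rw [Scheme.homOfLE_homOfLE_assoc, Scheme.homOfLE_homOfLE_assoc, hF2, hF2])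
  refine ⟨⨆ j, T j, le_iSup T none, k, ?_, hk none, ?_⟩
  · apply GlueOpens.hom_ext_iSup T
    intro j
    rw [reassoc_of% hk j, hF1, Scheme.homOfLE_ι_assoc]
  · intro y hy
    exact TopologicalSpace.Opens.mem_iSup.mpr ⟨some ⟨y, hy⟩, hyUy y hy⟩

end family

end Groth.Agent.Lib.Helper20.ExtendVal
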