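import Mathlib

/-!
# The filtered system of quotients `M ⧸ K'` over finitely generated `K' ≤ K`

Its colimit in `ModuleCat R` is `M ⧸ K`.  Used to characterize finitely generated / finitely
presented modules by commutation of `Hom(N, -)` with filtered colimits.
-/

set_option autoImplicit false
universe u
open CategoryTheory CategoryTheory.Limits

namespace Groth.Agent.Lib.Helper20.FGSystem

variable {R : Type u} [CommRing R] {M : Type u} [AddCommGroup M] [Module R M]
  (K : Submodule R M)

/-- finitely generated submodules of `K` -/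
def Idx : Type u := {K' : Submodule R M // K'.FG ∧ K' ≤ K}

instance : Preorder (Idx K) := inferInstanceAs (Preorder {K' : Submodule R M // K'.FG ∧ K' ≤ K})

instance : Nonempty (Idx K) := ⟨⟨⊥, Submodule.fg_bot, bot_le⟩⟩

instance : IsDirected (Idx K) (· ≤ ·) :=
  ⟨fun a b => ⟨⟨a.1 ⊔ b.1, a.2.1.sup b.2.1, sup_le a.2.2 b.2.2⟩,
    show a.1 ≤ a.1 ⊔ b.1 from le_sup_left, show b.1 ≤ a.1 ⊔ b.1 from le_sup_right⟩⟩

instance : IsFiltered (Idx K) := inferInstance

/-- the bottom index -/
def idxBot : Idx K := ⟨⊥, Submodule.fg_bot, bot_le⟩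

/-- adjoin an element of `K` to an index -/
def idxAdjoin (K' : Idx K) (k : M) (hk : k ∈ K) : Idx K :=
  ⟨K'.1 ⊔ Submodule.span R {k}, K'.2.1.sup (Submodule.fg_span_singleton k),
    sup_le K'.2.2 ((Submodule.span_singleton_le_iff_mem k K).mpr hk)⟩

lemma le_idxAdjoin (K' : Idx K) (k : M) (hk : k ∈ K) : K' ≤ idxAdjoin K K' k hk :=
  show K'.1 ≤ K'.1 ⊔ _ from le_sup_left

lemma mem_idxAdjoin (K' : Idx K) (k : M) (hk : k ∈ K) : k ∈ (idxAdjoin K K' k hk).1 :=
  (le_sup_right : Submodule.span R {k} ≤ K'.1 ⊔ Submodule.span R {k}) (Submodule.mem_span_singleton_self k)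

/-- the diagram `K' ↦ M ⧸ K'` -/
noncomputable def diagram : Idx K ⥤ ModuleCat.{u} R where
  obj K' := ModuleCat.of R (M ⧸ K'.1)
  map {K' K''} f := ModuleCat.ofHom (Submodule.factor (show K'.1 ≤ K''.1 from leOfHom f))
  map_id K' := by
    ext x
    rfl
  map_comp f g := by
    ext x
    rfl

/-- the projection `M ⟶ M ⧸ K'` -/
noncomputable def proj (K' : Idx K) : ModuleCat.of R M ⟶ (diagram K).obj K' :=
  ModuleCat.ofHom (Submodule.mkQ K'.1)

@[simp] lemma proj_map {K' K'' : Idx K} (f : K' ⟶ K'') :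
    proj K K' ≫ (diagram K).map f = proj K K'' := by
  ext x
  rfl

lemma proj_surjective (K' : Idx K) : Function.Surjective (proj K K').hom :=
  Submodule.mkQ_surjective _

lemma proj_apply_eq_zero_iff (K' : Idx K) (x : M) : (proj K K').hom x = 0 ↔ x ∈ K'.1 :=
  Submodule.Quotient.mk_eq_zero _

/-- the cocone with point `M ⧸ K` -/
noncomputable def cocone : Cocone (diagram K) where
  pt := ModuleCat.of R (M ⧸ K)
  ι :=
    { app := fun K' => ModuleCat.ofHom (Submodule.factor K'.2.2)
      naturality := fun K' K'' f => by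
        ext x
        obtain ⟨x, rfl⟩ := Submodule.mkQ_surjective _ x
        rfl }

lemma proj_cocone_ι (K' : Idx K) :
    proj K K' ≫ (cocone K).ι.app K' = ModuleCat.ofHom (Submodule.mkQ K) := by
  ext x
  rfl

/-- `M ⧸ K` is the colimit -/
noncomputable def isColimit : IsColimit (cocone K) where
  desc s := ModuleCat.ofHom (Submodule.liftQ K (proj K (idxBot K) ≫ s.ι.app (idxBot K)).hom (by
    intro k hk
    rw [LinearMap.mem_ker]
    have h1 := s.w (homOfLE (le_idxAdjoin K (idxBot K) k hk))
    rw [← h1, ← Category.assoc, proj_map]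
    have h2 : (proj K (idxAdjoin K (idxBot K) k hk)).hom k = 0 :=
      (proj_apply_eq_zero_iff K _ k).mpr (mem_idxAdjoin K _ k hk)
    rw [ModuleCat.hom_comp, LinearMap.comp_apply, h2, map_zero]))
  fac s K' := by
    ext x
    obtain ⟨x, rfl⟩ := Submodule.mkQ_surjective _ x
    have h1 := s.w (homOfLE (show idxBot K ≤ K' from (bot_le : (⊥ : Submodule R M) ≤ K'.1)))
    have : s.ι.app K' ((proj K K').hom x) = s.ι.app (idxBot K) ((proj K (idxBot K)).hom x) := by
      rw [← h1]
      rfl
    exact this.symm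
  uniq s m hm := by
    ext x
    obtain ⟨x, rfl⟩ := Submodule.mkQ_surjective _ x
    have := congrArg (fun g => g.hom ((proj K (idxBot K)).hom x)) (hm (idxBot K))
    exact this

end Groth.Agent.Lib.Helper20.FGSystem
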