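import Mathlib.RingTheory.GradedAlgebra.FiniteType
import Mathlib.RingTheory.GradedAlgebra.Basic
import Mathlib.Algebra.Algebra.Operations
import Mathlib.Algebra.Module.GradedModule

/-!
# Graded algebras of finite type: eventually `S_{d+h} = S_h S_d`
-/

set_option autoImplicit false

namespace Groth.Agent.Lib.Helper20.GradedFG

open DirectSum

variable {R A : Type*} [CommRing R] [CommRing A] [Algebra R A]

section monomials

variable (s : Finset A) (deg : A → ℕ)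

/-- monomials in the elements of `s` of weighted degree `e` -/
def Mon (e : ℕ) : Set A :=
  {x | ∃ α : A → ℕ, ∑ f ∈ s, α f * deg f = e ∧ x = ∏ f ∈ s, f ^ α f}

lemma one_mem_Mon : (1 : A) ∈ Mon s deg 0 := ⟨fun _ => 0, by simp, by simp⟩

lemma mem_Mon_of_mem {f : A} (hf : f ∈ s) : f ∈ Mon s deg (deg f) := by
  classical
  refine ⟨fun g => if g = f then 1 else 0, ?_, ?_⟩
  · simp [Finset.sum_ite_eq', hf]
  · simp [pow_ite, Finset.prod_ite_eq', hf]

lemma mul_mem_Mon {e e' : ℕ} {x y : A} (hx : x ∈ Mon s deg e) (hy : y ∈ Mon s deg e') :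
    x * y ∈ Mon s deg (e + e') := by
  obtain ⟨α, hα, rfl⟩ := hx
  obtain ⟨β, hβ, rfl⟩ := hy
  refine ⟨α + β, ?_, ?_⟩
  · simp only [Pi.add_apply, add_mul, Finset.sum_add_distrib, hα, hβ]
  · simp only [Pi.add_apply, pow_add, Finset.prod_mul_distrib]

variable (𝒜 : ℕ → Submodule R A) [GradedAlgebra 𝒜]

lemma Mon_subset (hdeg : ∀ f ∈ s, f ∈ 𝒜 (deg f)) (e : ℕ) : Mon s deg e ⊆ 𝒜 e := by
  rintro x ⟨α, hα, rfl⟩
  rw [← hα]
  apply SetLike.prod_mem_graded
  intro f hf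
  have := SetLike.pow_mem_graded (α f) (hdeg f hf)
  simpa [smul_eq_mul] using this

/-- the span of `𝒜 0`-multiples of monomials of degree `e` -/
def P (e : ℕ) : Submodule R A := 𝒜 0 * Submodule.span R (Mon s deg e)

lemma zero_mul_le (e : ℕ) : 𝒜 0 * 𝒜 e ≤ 𝒜 e := by
  rw [Submodule.mul_le]
  intro a ha b hb
  have := SetLike.mul_mem_graded ha hb
  rwa [zero_add] at this

lemma P_le (hdeg : ∀ f ∈ s, f ∈ 𝒜 (deg f)) (e : ℕ) : P s deg 𝒜 e ≤ 𝒜 e := by
  refine le_trans ?_ (zero_mul_le 𝒜 e)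
  exact mul_le_mul' le_rfl (Submodule.span_le.mpr (Mon_subset s deg 𝒜 hdeg e))

lemma P_mul_P (e e' : ℕ) : P s deg 𝒜 e * P s deg 𝒜 e' ≤ P s deg 𝒜 (e + e') := by
  unfold P
  rw [mul_mul_mul_comm, Submodule.span_mul_span]
  refine mul_le_mul' (zero_mul_le 𝒜 0) (Submodule.span_mono ?_)
  rintro _ ⟨x, hx, y, hy, rfl⟩
  exact mul_mem_Mon s deg hx hy

lemma iSup_P_eq_top (hs : Algebra.adjoin (𝒜 0) (s : Set A) = ⊤) :
    ⨆ e, P s deg 𝒜 e = ⊤ := by
  rw [eq_top_iff]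
  suffices H : ∀ x ∈ Algebra.adjoin (𝒜 0) (s : Set A), x ∈ ⨆ e, P s deg 𝒜 e by
    intro x _
    exact H x (by rw [hs]; trivial)
  intro x hx
  induction hx using Algebra.adjoin_induction with
  | mem x hx =>
    apply Submodule.mem_iSup_of_mem (deg x)
    have h1 : 1 * x ∈ P s deg 𝒜 (deg x) :=
      Submodule.mul_mem_mul (SetLike.one_mem_graded 𝒜)
        (Submodule.subset_span (mem_Mon_of_mem s deg hx))
    rwa [one_mul] at h1
  | algebraMap c =>
    apply Submodule.mem_iSup_of_mem 0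
    have : algebraMap (𝒜 0) A c = (c : A) * 1 := (mul_one _).symm
    rw [this]
    exact Submodule.mul_mem_mul c.2 (Submodule.subset_span (one_mem_Mon s deg))
  | add x y _ _ hx hy => exact add_mem hx hy
  | mul x y _ _ hx hy =>
    have : x * y ∈ (⨆ e, P s deg 𝒜 e) * (⨆ e, P s deg 𝒜 e) := Submodule.mul_mem_mul hx hy
    refine (?_ : (⨆ e, P s deg 𝒜 e) * (⨆ e, P s deg 𝒜 e) ≤ ⨆ e, P s deg 𝒜 e) this
    rw [Submodule.iSup_mul]
    refine iSup_le fun e => ?_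
    rw [Submodule.mul_iSup]
    refine iSup_le fun e' => ?_
    exact le_trans (P_mul_P s deg 𝒜 e e') (le_iSup (P s deg 𝒜) (e + e'))

lemma le_P (hdeg : ∀ f ∈ s, f ∈ 𝒜 (deg f)) (hs : Algebra.adjoin (𝒜 0) (s : Set A) = ⊤) (e : ℕ) :
    𝒜 e ≤ P s deg 𝒜 e := by
  classical
  have key : ∀ x ∈ ⨆ e, P s deg 𝒜 e, ∀ e, (decompose 𝒜 x e : A) ∈ P s deg 𝒜 e := by
    intro x hx
    induction hx using Submodule.iSup_induction' with
    | mem e' x hx =>
      intro e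
      by_cases h : e' = e
      · subst h
        rw [decompose_of_mem_same 𝒜 (P_le s deg 𝒜 hdeg e' hx)]
        exact hx
      · rw [decompose_of_mem_ne 𝒜 (P_le s deg 𝒜 hdeg e' hx) h]
        exact zero_mem _
    | zero =>
      intro e
      rw [decompose_zero]
      exact zero_mem _
    | add x y _ _ hx hy =>
      intro e
      rw [decompose_add]
      exact add_mem (hx e) (hy e)
  intro a ha
  have h1 := key a (by rw [iSup_P_eq_top s deg 𝒜 hs]; trivial) e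
  rwa [decompose_of_mem_same 𝒜 ha] at h1

/-- pigeonhole: a monomial of large degree is divisible by the `h/deg f`-th power of some `f` -/
lemma Mon_split (hdeg : ∀ f ∈ s, f ∈ 𝒜 (deg f)) (hpos : ∀ f ∈ s, 0 < deg f) (h : ℕ) (hh : 0 < h)
    (hdvd : ∀ f ∈ s, deg f ∣ h) (d : ℕ) (hd : s.card * h ≤ d) {x : A}
    (hx : x ∈ Mon s deg (d + h)) : ∃ g ∈ 𝒜 h, ∃ m ∈ Mon s deg d, x = g * m := by
  classical
  obtain ⟨α, hα, rfl⟩ := hx
  -- some term is at least `h`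
  have hex : ∃ f ∈ s, h ≤ α f * deg f := by
    by_contra hcon
    push Not at hcon
    have h1 : ∑ f ∈ s, α f * deg f ≤ s.card • (h - 1) := by
      apply Finset.sum_le_card_nsmul
      intro f hf
      have := hcon f hf
      omega
    rw [hα, smul_eq_mul] at h1
    have h2 : s.card * (h - 1) ≤ s.card * h := Nat.mul_le_mul_left _ (Nat.sub_le _ _)
    omega
  obtain ⟨f₀, hf₀, hle⟩ := hex
  obtain ⟨q, hq⟩ := hdvd f₀ hf₀
  have hqle : q ≤ α f₀ := by
    have h0 := hpos f₀ hf₀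
    rw [hq, mul_comm] at hle
    exact Nat.le_of_mul_le_mul_right hle h0
  let β : A → ℕ := fun f => if f = f₀ then α f₀ - q else α f
  let γ : A → ℕ := fun f => if f = f₀ then q else 0
  have hαβγ : ∀ f, α f = β f + γ f := by
    intro f
    by_cases hf : f = f₀
    · subst hf; simp only [β, γ, if_true]; omega
    · simp only [β, γ, if_neg hf, add_zero]
  have hγprod : ∏ f ∈ s, f ^ γ f = f₀ ^ q := by
    simp [γ, pow_ite, Finset.prod_ite_eq', hf₀]
  have hγsum : ∑ f ∈ s, γ f * deg f = h := by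
    simp only [γ, ite_mul, zero_mul, Finset.sum_ite_eq', hf₀, if_true]
    rw [hq, mul_comm]
  refine ⟨f₀ ^ q, ?_, ∏ f ∈ s, f ^ β f, ⟨β, ?_, rfl⟩, ?_⟩
  · have := SetLike.pow_mem_graded q (hdeg f₀ hf₀)
    rw [smul_eq_mul, mul_comm, ← hq] at this
    exact this
  · have h1 : ∑ f ∈ s, α f * deg f = ∑ f ∈ s, β f * deg f + ∑ f ∈ s, γ f * deg f := by
      rw [← Finset.sum_add_distrib]
      apply Finset.sum_congr rfl
      intro f _
      rw [hαβγ f, add_mul]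
    rw [hα, hγsum] at h1
    omega
  · rw [← hγprod, mul_comm, ← Finset.prod_mul_distrib]
    apply Finset.prod_congr rfl
    intro f _
    rw [hαβγ f, pow_add]

end monomials

/-- **Key lemma**: in a graded algebra of finite type over its degree zero part there are `n₀` and
`h > 0` with `S_{d+h} = S_h S_d` for all `d ≥ n₀`. -/
theorem exists_add_le_mul (𝒜 : ℕ → Submodule R A) [GradedAlgebra 𝒜] [Algebra.FiniteType (𝒜 0) A] :
    ∃ (n₀ h : ℕ), 0 < h ∧ ∀ d, n₀ ≤ d → 𝒜 (d + h) ≤ 𝒜 h * 𝒜 d := by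
  classical
  obtain ⟨s, hs, hs'⟩ := GradedAlgebra.exists_finset_adjoin_eq_top_and_homogeneous_ne_zero 𝒜
  choose! deg hdeg0 hdeg using hs'
  have hpos : ∀ f ∈ s, 0 < deg f := fun f hf => Nat.pos_of_ne_zero (hdeg0 f hf)
  let h := ∏ f ∈ s, deg f
  have hh : 0 < h := Finset.prod_pos hpos
  have hdvd : ∀ f ∈ s, deg f ∣ h := fun f hf => Finset.dvd_prod_of_mem deg hf
  refine ⟨s.card * h, h, hh, fun d hd => ?_⟩
  refine le_trans (le_P s deg 𝒜 hdeg hs (d + h)) ?_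
  unfold P
  have h1 : Submodule.span R (Mon s deg (d + h)) ≤ 𝒜 h * 𝒜 d := by
    rw [Submodule.span_le]
    intro x hx
    obtain ⟨g, hg, m, hm, rfl⟩ := Mon_split s deg 𝒜 hdeg hpos h hh hdvd d hd hx
    exact Submodule.mul_mem_mul hg (Mon_subset s deg 𝒜 hdeg d hm)
  refine le_trans (mul_le_mul' le_rfl h1) ?_
  rw [← mul_assoc]
  exact mul_le_mul' (zero_mul_le 𝒜 h) le_rfl

lemma mul_le_add (𝒜 : ℕ → Submodule R A) [GradedAlgebra 𝒜] (i j : ℕ) :
    𝒜 i * 𝒜 j ≤ 𝒜 (i + j) := by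
  rw [Submodule.mul_le]
  intro a ha b hb
  exact SetLike.mul_mem_graded ha hb

lemma pow_le_mul (𝒜 : ℕ → Submodule R A) [GradedAlgebra 𝒜] (i : ℕ) :
    ∀ m : ℕ, 0 < m → 𝒜 i ^ m ≤ 𝒜 (m * i) := by
  intro m hm
  induction m with
  | zero => exact absurd hm (lt_irrefl _)
  | succ m ih =>
    rcases Nat.eq_zero_or_pos m with rfl | hm'
    · simp
    · rw [pow_succ, Nat.succ_mul]
      exact le_trans (mul_le_mul' (ih hm') le_rfl) (mul_le_add 𝒜 _ _)

end Groth.Agent.Lib.Helper20.GradedFG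

namespace Groth.Agent.Lib.Helper20.GradedFG

variable {R A : Type*} [CommRing R] [CommRing A] [Algebra R A]

lemma add_mul_le_pow_mul (𝒜 : ℕ → Submodule R A) [GradedAlgebra 𝒜] (n₀ h₀ : ℕ)
    (H : ∀ d, n₀ ≤ d → 𝒜 (d + h₀) ≤ 𝒜 h₀ * 𝒜 d) :
    ∀ k d, n₀ ≤ d → 𝒜 (d + k * h₀) ≤ 𝒜 h₀ ^ k * 𝒜 d := by
  intro k
  induction k with
  | zero =>
    intro d _
    simp
  | succ k ih =>
    intro d hd
    have h1 : d + (k + 1) * h₀ = (d + k * h₀) + h₀ := by ring
    rw [h1]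
    refine le_trans (H _ (le_trans hd (Nat.le_add_right _ _))) ?_
    rw [pow_succ', mul_assoc]
    exact mul_le_mul' le_rfl (ih d hd)

/-- a version of the key lemma where the bound is the period itself -/
theorem exists_add_le_mul' (𝒜 : ℕ → Submodule R A) [GradedAlgebra 𝒜]
    [Algebra.FiniteType (𝒜 0) A] :
    ∃ h : ℕ, 0 < h ∧ ∀ d, h ≤ d → 𝒜 (d + h) ≤ 𝒜 h * 𝒜 d := by
  obtain ⟨n₀, h₀, hh₀, H⟩ := exists_add_le_mul 𝒜
  refine ⟨(n₀ + 1) * h₀, Nat.mul_pos (Nat.succ_pos _) hh₀, fun d hd => ?_⟩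
  have hn₀ : n₀ ≤ d := by
    have : n₀ + 1 ≤ (n₀ + 1) * h₀ := Nat.le_mul_of_pos_right _ hh₀
    omega
  refine le_trans (add_mul_le_pow_mul 𝒜 n₀ h₀ H (n₀ + 1) d hn₀) ?_
  exact mul_le_mul' (pow_le_mul 𝒜 h₀ (n₀ + 1) (Nat.succ_pos _)) le_rfl

theorem exists_mul_eq_pow (𝒜 : ℕ → Submodule R A) [GradedAlgebra 𝒜]
    [Algebra.FiniteType (𝒜 0) A] :
    ∃ h : ℕ, 0 < h ∧ ∀ m : ℕ, 0 < m → 𝒜 (m * h) = 𝒜 h ^ m := by
  obtain ⟨h, hh, H⟩ := exists_add_le_mul' 𝒜
  refine ⟨h, hh, fun m hm => ?_⟩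
  induction m with
  | zero => exact absurd hm (lt_irrefl _)
  | succ m ih =>
    rcases Nat.eq_zero_or_pos m with rfl | hm'
    · simp
    · apply le_antisymm _ (pow_le_mul 𝒜 h (m + 1) (Nat.succ_pos _))
      have h1 : (m + 1) * h = m * h + h := by ring
      rw [h1]
      refine le_trans (H (m * h) (Nat.le_mul_of_pos_left _ hm')) ?_
      rw [ih hm', pow_succ']

end Groth.Agent.Lib.Helper20.GradedFG
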