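import Mathlib

/-!
# Helper library (helper20): elementwise description of the homology of a short complex /
homological complex of modules.

`cls S z` is the homology class of the cycle `z ∈ ker S.g`.
-/

set_option autoImplicit false

namespace Groth.Agent.Lib.Helper20.HomologyElts

open CategoryTheory CategoryTheory.Limits

universe v u

variable {R : Type u} [Ring R]

section ShortComplex

variable (S : ShortComplex (ModuleCat.{v} R))

/-- The homology class of a cycle. -/
noncomputable def cls : LinearMap.ker S.g.hom →ₗ[R] S.homology :=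
  (S.moduleCatCyclesIso.inv ≫ S.homologyπ).hom

theorem cls_surjective : Function.Surjective (cls S) := by
  have : Epi (S.moduleCatCyclesIso.inv ≫ S.homologyπ) := epi_comp _ _
  exact (ModuleCat.epi_iff_surjective _).mp this

theorem cls_eq_zero_iff (z : LinearMap.ker S.g.hom) :
    cls S z = 0 ↔ (z : S.X₂) ∈ LinearMap.range S.f.hom := by
  have h1 : (S.moduleCatHomologyIso.hom.hom (cls S z) :
      LinearMap.ker S.g.hom ⧸ LinearMap.range S.moduleCatToCycles) =
      (LinearMap.range S.moduleCatToCycles).mkQ z := by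
    have h2 := S.moduleCatCyclesIso_inv_π
    have h3 := congrArg (fun f => f.hom z) h2
    simp only [ModuleCat.hom_comp, LinearMap.comp_apply] at h3
    have h4 : S.moduleCatHomologyIso.hom.hom (S.moduleCatHomologyIso.inv.hom
        (S.moduleCatLeftHomologyData.π.hom z)) = S.moduleCatLeftHomologyData.π.hom z := by
      rw [← LinearMap.comp_apply, ← ModuleCat.hom_comp, Iso.inv_hom_id]
      rfl
    rw [← h3] at h4
    exact h4
  constructor
  · intro h
    rw [h, map_zero] at h1
    have h5 : (LinearMap.range S.moduleCatToCycles).mkQ z = 0 := h1.symm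
    rw [Submodule.mkQ_apply, Submodule.Quotient.mk_eq_zero] at h5
    obtain ⟨w, hw⟩ := h5
    exact ⟨w, congrArg Subtype.val hw⟩
  · rintro ⟨w, hw⟩
    have h5 : (LinearMap.range S.moduleCatToCycles).mkQ z = 0 := by
      rw [Submodule.mkQ_apply, Submodule.Quotient.mk_eq_zero]
      exact ⟨w, Subtype.ext hw⟩
    rw [h5] at h1
    have hinj : Function.Injective S.moduleCatHomologyIso.hom.hom :=
      (ModuleCat.mono_iff_injective _).mp inferInstance
    exact hinj (h1.trans (map_zero _).symm)

variable {S}

theorem homologyMap_cls {S₁ S₂ : ShortComplex (ModuleCat.{v} R)} (φ : S₁ ⟶ S₂)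
    (z : LinearMap.ker S₁.g.hom) (hz : φ.τ₂.hom z ∈ LinearMap.ker S₂.g.hom) :
    (ShortComplex.homologyMap φ).hom (cls S₁ z) = cls S₂ ⟨φ.τ₂.hom z, hz⟩ := by
  have hnat := ShortComplex.homologyπ_naturality φ
  have hc : (ShortComplex.cyclesMap φ).hom (S₁.moduleCatCyclesIso.inv.hom z) =
      S₂.moduleCatCyclesIso.inv.hom ⟨φ.τ₂.hom z, hz⟩ := by
    have hinj : Function.Injective S₂.iCycles.hom :=
      (ModuleCat.mono_iff_injective _).mp inferInstance
    apply hinj
    have e1 := congrArg (fun f => f.hom (S₁.moduleCatCyclesIso.inv.hom z))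
      (ShortComplex.cyclesMap_i φ)
    have e2 := congrArg (fun f => f.hom z) S₁.moduleCatCyclesIso_inv_iCycles
    have e3 := congrArg (fun f => f.hom (⟨φ.τ₂.hom z, hz⟩ : LinearMap.ker S₂.g.hom))
      S₂.moduleCatCyclesIso_inv_iCycles
    simp only [ModuleCat.hom_comp, LinearMap.comp_apply] at e1 e2 e3
    rw [e1, e2, e3]
    rfl
  have e4 := congrArg (fun f => f.hom (S₁.moduleCatCyclesIso.inv.hom z)) hnat
  simp only [ModuleCat.hom_comp, LinearMap.comp_apply] at e4
  change (ShortComplex.homologyMap φ).hom (S₁.homologyπ.hom (S₁.moduleCatCyclesIso.inv.hom z)) =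
    S₂.homologyπ.hom (S₂.moduleCatCyclesIso.inv.hom ⟨φ.τ₂.hom z, hz⟩)
  rw [e4, hc]

end ShortComplex

section HomologicalComplex

variable {ι : Type*} {c : ComplexShape ι} (K : HomologicalComplex (ModuleCat.{v} R) c)

/-- The homology class of a cycle in degree `i`. -/
noncomputable def hcls (i : ι) : LinearMap.ker (K.d i (c.next i)).hom →ₗ[R] K.homology i :=
  cls (K.sc i)

theorem hcls_surjective (i : ι) : Function.Surjective (hcls K i) := cls_surjective _

theorem hcls_eq_zero_iff (i : ι) (z : LinearMap.ker (K.d i (c.next i)).hom) :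
    hcls K i z = 0 ↔ (z : K.X i) ∈ LinearMap.range (K.d (c.prev i) i).hom :=
  cls_eq_zero_iff (K.sc i) z

variable {K}

theorem homologyMap_hcls {L : HomologicalComplex (ModuleCat.{v} R) c} (φ : K ⟶ L) (i : ι)
    (z : LinearMap.ker (K.d i (c.next i)).hom)
    (hz : (φ.f i).hom z ∈ LinearMap.ker (L.d i (c.next i)).hom) :
    (HomologicalComplex.homologyMap φ i).hom (hcls K i z) = hcls L i ⟨(φ.f i).hom z, hz⟩ :=
  homologyMap_cls ((HomologicalComplex.shortComplexFunctor _ c i).map φ) z hz

theorem map_mem_ker {L : HomologicalComplex (ModuleCat.{v} R) c} (φ : K ⟶ L) (i : ι)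
    (z : LinearMap.ker (K.d i (c.next i)).hom) :
    (φ.f i).hom z ∈ LinearMap.ker (L.d i (c.next i)).hom := by
  rw [LinearMap.mem_ker]
  have h := congrArg (fun f => f.hom (z : K.X i)) (φ.comm i (c.next i))
  simp only [ModuleCat.hom_comp, LinearMap.comp_apply] at h
  rw [h, LinearMap.mem_ker.mp z.2, map_zero]

end HomologicalComplex

end Groth.Agent.Lib.Helper20.HomologyElts
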