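import Mathlib

/-!
# `S⁻¹M` as a filtered colimit of copies of `M`, and functors commuting with filtered colimits

* `LocCat S`: the category with objects `S`, `Hom s t = {u // s * u = t}`; it is filtered.
* `locDiagram S M : LocCat S ⥤ ModuleCat A`, constant `M` with `u ↦ u • 𝟙`.
* `locCocone S M` with point `LocalizedModule S M`, `isColimitLocCocone`.
* `isLocalizedModule_map`: an additive `A`-linear functor `T` preserving filtered colimits
  satisfies `T(S⁻¹M) = S⁻¹T(M)`.
-/

set_option autoImplicit false
universe u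

namespace Groth.Agent.Lib.Helper20.LocColim

open CategoryTheory CategoryTheory.Limits

variable {A : Type u} [CommRing A] (S : Submonoid A)

/-- objects: elements of `S` -/
structure LocCat (S : Submonoid A) : Type u where
  /-- the denominator -/
  den : S

namespace LocCat

variable {S}

instance : Category.{u} (LocCat S) where
  Hom s t := {u : S // s.den * u = t.den}
  id s := ⟨1, mul_one _⟩
  comp {s t r} f g := ⟨f.1 * g.1, by rw [← mul_assoc, f.2, g.2]⟩
  id_comp f := Subtype.ext (one_mul _)
  comp_id f := Subtype.ext (mul_one _)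
  assoc f g h := Subtype.ext (mul_assoc _ _ _)

@[simp] lemma id_val (s : LocCat S) : (𝟙 s : s ⟶ s).1 = 1 := rfl
@[simp] lemma comp_val {s t r : LocCat S} (f : s ⟶ t) (g : t ⟶ r) : (f ≫ g).1 = f.1 * g.1 := rfl

/-- the morphism `s ⟶ s * u` -/
def homMul (s : LocCat S) (u : S) : s ⟶ ⟨s.den * u⟩ := ⟨u, rfl⟩

instance : IsFiltered (LocCat S) where
  nonempty := ⟨⟨1⟩⟩
  cocone_objs s t := ⟨⟨s.den * t.den⟩, ⟨t.den, rfl⟩, ⟨s.den, mul_comm _ _⟩, trivial⟩
  cocone_maps {s t} f g := ⟨⟨t.den * s.den⟩, ⟨s.den, rfl⟩, by
    apply Subtype.ext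
    change f.1 * s.den = g.1 * s.den
    rw [mul_comm f.1, mul_comm g.1, f.2, g.2]⟩

end LocCat

variable (M : ModuleCat.{u} A)

/-- the diagram `s ↦ M`, `u ↦ u • 𝟙` -/
def locDiagram : LocCat S ⥤ ModuleCat.{u} A where
  obj _ := M
  map {s t} f := ((f.1 : S) : A) • 𝟙 M
  map_id s := by
    change ((1 : S) : A) • 𝟙 M = 𝟙 M
    rw [Submonoid.coe_one, one_smul]
  map_comp {s t r} f g := by
    change (((f.1 * g.1 : S)) : A) • 𝟙 M = (((f.1 : S) : A) • 𝟙 M) ≫ (((g.1 : S) : A) • 𝟙 M)
    rw [Linear.smul_comp, Linear.comp_smul, Category.id_comp, smul_smul, Submonoid.coe_mul,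
      mul_comm]


/-- `m ↦ m / s` -/
noncomputable def divMap (s : S) : M →ₗ[A] LocalizedModule S M :=
  (LocalizedModule.divBy s) ∘ₗ (LocalizedModule.mkLinearMap S M)

lemma divMap_apply (s : S) (m : M) : divMap S M s m = LocalizedModule.mk m s := by
  change LocalizedModule.mk m (1 * s) = LocalizedModule.mk m s
  rw [one_mul]

/-- the cocone `M → S⁻¹M`, `m ↦ m / s` at `s`. -/
noncomputable def locCocone : Cocone (locDiagram S M) where
  pt := ModuleCat.of A (LocalizedModule S M)
  ι :=
    { app := fun s => ModuleCat.ofHom (divMap S M s.den)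
      naturality := fun s t f => by
        apply ModuleCat.hom_ext
        apply LinearMap.ext
        intro m
        change divMap S M t.den (((f.1 : S) : A) • m) = divMap S M s.den m
        rw [divMap_apply, divMap_apply]
        have h := LocalizedModule.mk_cancel_common_right s.den f.1 (m : M)
        have h2 : s.den * f.1 = t.den := f.2
        rw [h2] at h
        exact h }

lemma locCocone_ι_app_apply (s : LocCat S) (m : M) :
    ((locCocone S M).ι.app s).hom m = LocalizedModule.mk m s.den := divMap_apply S M s.den m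

/-- `S⁻¹M` is the colimit of the diagram. -/
noncomputable def isColimitLocCocone : IsColimit (locCocone S M) := by
  have : ReflectsColimitsOfShape (LocCat S) (forget (ModuleCat.{u} A)) :=
    reflectsColimitsOfShape_of_reflectsIsomorphisms
  apply isColimitOfReflects (forget (ModuleCat.{u} A))
  refine Types.FilteredColimit.isColimitOf _ _ ?_ ?_
  · intro x
    induction x using LocalizedModule.induction_on with
    | h m s => exact ⟨⟨s⟩, m, (locCocone_ι_app_apply S M ⟨s⟩ m).symm⟩
  · intro s t m m' h
    have h' : LocalizedModule.mk (m : M) s.den = LocalizedModule.mk (m' : M) t.den := by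
      rw [← locCocone_ι_app_apply, ← locCocone_ι_app_apply]
      exact h
    obtain ⟨u, hu⟩ := LocalizedModule.mk_eq.mp h'
    refine ⟨⟨s.den * (t.den * u)⟩, ⟨t.den * u, rfl⟩, ⟨s.den * u, by
      change t.den * (s.den * u) = s.den * (t.den * u)
      rw [← mul_assoc, ← mul_assoc, mul_comm t.den]⟩, ?_⟩
    change ((t.den * u : S) : A) • (m : M) = ((s.den * u : S) : A) • (m' : M)
    have h1 : ((t.den * u : S) : A) • (m : M) = u • t.den • (m : M) := by
      rw [Submonoid.coe_mul, mul_comm, mul_smul]; rfl
    have h2 : ((s.den * u : S) : A) • (m' : M) = u • s.den • (m' : M) := by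
      rw [Submonoid.coe_mul, mul_comm, mul_smul]; rfl
    exact h1.trans (hu.trans h2.symm)


section functor

variable (T : ModuleCat.{u} A ⥤ ModuleCat.{u} A) [T.Additive] [T.Linear A]

omit [T.Additive] in
lemma map_smul_id (a : A) (N : ModuleCat.{u} A) : T.map (a • 𝟙 N) = a • 𝟙 (T.obj N) := by
  rw [Functor.map_smul, T.map_id]

/-- `m ↦ m / s` as a morphism of `ModuleCat` -/
noncomputable def ιs (s : S) : M ⟶ ModuleCat.of A (LocalizedModule S M) :=
  ModuleCat.ofHom (divMap S M s)

lemma ιs_apply (s : S) (m : M) : (ιs S M s).hom m = LocalizedModule.mk m s := divMap_apply S M s m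

lemma smul_ιs (s : S) : (s : A) • ιs S M s = ιs S M 1 := by
  apply ModuleCat.hom_ext
  apply LinearMap.ext
  intro m
  change (s : A) • (ιs S M s).hom m = (ιs S M 1).hom m
  rw [ιs_apply, ιs_apply, LocalizedModule.smul'_mk]
  exact LocalizedModule.mk_cancel s (m : M)

lemma ιs_one :
    ιs S M 1 = (ModuleCat.ofHom (LocalizedModule.mkLinearMap S M) :
      M ⟶ ModuleCat.of A (LocalizedModule S M)) := by
  apply ModuleCat.hom_ext
  apply LinearMap.ext
  intro m
  exact ιs_apply S M 1 m

/-- An additive linear functor preserving filtered colimits commutes with localization. -/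
theorem isLocalizedModule_map [PreservesColimitsOfShape (LocCat S) T] :
    IsLocalizedModule S (T.map (ModuleCat.ofHom (LocalizedModule.mkLinearMap S M) :
      M ⟶ ModuleCat.of A (LocalizedModule S M))).hom := by
  have hc : IsColimit (T.mapCocone (locCocone S M)) :=
    isColimitOfPreserves T (isColimitLocCocone S M)
  have hc' : IsColimit ((forget (ModuleCat.{u} A)).mapCocone (T.mapCocone (locCocone S M))) :=
    isColimitOfPreserves (forget (ModuleCat.{u} A)) hc
  have hrel' : ∀ s : S, (s : A) • T.map (ιs S M s) =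
      T.map (ModuleCat.ofHom (LocalizedModule.mkLinearMap S M) :
        M ⟶ ModuleCat.of A (LocalizedModule S M)) := by
    intro s
    rw [← ιs_one, ← smul_ιs S M s, Functor.map_smul]
  have hrel : ∀ (s : S) (x : T.obj M), (s : A) • (T.map (ιs S M s)).hom x =
      (T.map (ModuleCat.ofHom (LocalizedModule.mkLinearMap S M) :
        M ⟶ ModuleCat.of A (LocalizedModule S M))).hom x := by
    intro s x
    rw [← hrel' s]
    rfl
  refine ⟨fun s => ?_, fun y => ?_, fun {x₁ x₂} h => ?_⟩
  · -- `s` acts invertibly on `T(S⁻¹M)`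
    obtain ⟨u, hu⟩ := IsLocalizedModule.map_units (LocalizedModule.mkLinearMap S M) s
    let N : ModuleCat.{u} A := ModuleCat.of A (LocalizedModule S M)
    let e : N ≅ N :=
      { hom := ModuleCat.ofHom u.val
        inv := ModuleCat.ofHom u.inv
        hom_inv_id := by
          rw [← ModuleCat.ofHom_comp]
          change ModuleCat.ofHom (u.inv * u.val) = _
          rw [u.inv_val]; rfl
        inv_hom_id := by
          rw [← ModuleCat.ofHom_comp]
          change ModuleCat.ofHom (u.val * u.inv) = _
          rw [u.val_inv]; rfl }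
    have he : e.hom = (s : A) • 𝟙 N := by
      apply ModuleCat.hom_ext
      apply LinearMap.ext
      intro m
      change u.val m = (s : A) • m
      rw [hu]
      rfl
    have hiso : IsIso ((s : A) • 𝟙 (T.obj N)) := by
      rw [← map_smul_id T, ← he]
      exact (T.mapIso e).isIso_hom
    rw [Module.End.isUnit_iff]
    exact (ConcreteCategory.bijective_of_isIso ((s : A) • 𝟙 (T.obj N)))
  · obtain ⟨s, x, hx⟩ := Types.jointly_surjective_of_isColimit hc' y
    refine ⟨(x, s.den), ?_⟩
    change ((s.den : S) : A) • y = _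
    rw [← hrel s.den x]
    congr 1
    exact hx.symm
  · have h' : ((forget (ModuleCat.{u} A)).mapCocone (T.mapCocone (locCocone S M))).ι.app ⟨1⟩ x₁ =
        ((forget (ModuleCat.{u} A)).mapCocone (T.mapCocone (locCocone S M))).ι.app ⟨1⟩ x₂ := by
      change (T.map (ιs S M 1)).hom x₁ = (T.map (ιs S M 1)).hom x₂
      rw [ιs_one]
      exact h
    obtain ⟨j, g, hg⟩ := (Types.FilteredColimit.isColimit_eq_iff' hc' x₁ x₂).mp h'
    refine ⟨g.1, ?_⟩
    have hmap : T.map ((locDiagram S M).map g) = ((g.1 : S) : A) • 𝟙 (T.obj M) :=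
      map_smul_id T _ M
    have h1 : ∀ x : T.obj M, (T.map ((locDiagram S M).map g)).hom x = ((g.1 : S) : A) • x := by
      intro x
      rw [hmap]
      rfl
    exact (h1 x₁).symm.trans (hg.trans (h1 x₂))

end functor


section general

variable {S} {M}
variable (T : ModuleCat.{u} A ⥤ ModuleCat.{u} A) [T.Additive] [T.Linear A]

/-- general form: `T` of any localization map is a localization map -/
theorem isLocalizedModule_map' [PreservesColimitsOfShape (LocCat S) T] {N : ModuleCat.{u} A}
    (g : M ⟶ N) (hg : IsLocalizedModule S g.hom) : IsLocalizedModule S (T.map g).hom := by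
  let e : ModuleCat.of A (LocalizedModule S M) ≅ N := (IsLocalizedModule.iso S g.hom).toModuleIso
  have hfac : g = (ModuleCat.ofHom (LocalizedModule.mkLinearMap S M) :
      M ⟶ ModuleCat.of A (LocalizedModule S M)) ≫ e.hom := by
    apply ModuleCat.hom_ext
    apply LinearMap.ext
    intro m
    change g.hom m = IsLocalizedModule.iso S g.hom (LocalizedModule.mkLinearMap S M m)
    have h := congrArg (fun l => l m) (IsLocalizedModule.iso_symm_comp S g.hom)
    change (IsLocalizedModule.iso S g.hom).symm (g.hom m) = LocalizedModule.mkLinearMap S M m at h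
    rw [← h, LinearEquiv.apply_symm_apply]
  have h1 := isLocalizedModule_map S M T
  have h2 : (T.map g).hom = (T.mapIso e).toLinearEquiv.toLinearMap ∘ₗ
      (T.map (ModuleCat.ofHom (LocalizedModule.mkLinearMap S M) :
        M ⟶ ModuleCat.of A (LocalizedModule S M))).hom := by
    rw [hfac, T.map_comp]
    rfl
  rw [h2]
  exact IsLocalizedModule.of_linearEquiv S _ _

end general

end Groth.Agent.Lib.Helper20.LocColim
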