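import Groth.Agent.Lib.Helper74.ModTrunc.ModRlim

/-!
# Local vanishing criterion for cohomology sheaves in `D(O)` (helper20)
-/

set_option autoImplicit false
universe w u

namespace Groth.Agent.Lib.Helper20.LocalVanish

open CategoryTheory CategoryTheory.Limits Opposite DerivedCategory
open Groth.Agent.Lib.Helper83.SingleHom Groth.Agent.Lib.Helper74.ModQc
open Groth.Agent.Lib.Helper74.ModTrunc

variable {C : Type u} [SmallCategory C] {J : GrothendieckTopology C}
  {O : Sheaf J CommRingCat.{u}} [HasDerivedCategory.{w} (ModSite.Mod O)]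

/-- If `B` covers every object and every map `freeOn O V [0] ⟶ T` vanishes for `V ∈ B`, then
`H^0(T) = 0`. -/
theorem isZero_H0_of_local (B : Set C)
    (hB : ∀ U : C, ∃ (ι : Type u) (Y : ι → C) (f : ∀ i, Y i ⟶ U),
      Sieve.ofArrows Y f ∈ J U ∧ ∀ i, Y i ∈ B)
    (T : DerivedCategory (ModSite.Mod O))
    (hT : ∀ V ∈ B, ∀ y : (DerivedCategory.singleFunctor (ModSite.Mod O) 0).obj
      (ModSite.freeOn O V) ⟶ T, y = 0) :
    IsZero ((DerivedCategory.homologyFunctor (ModSite.Mod O) 0).obj T) := by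
  set N := (DerivedCategory.homologyFunctor (ModSite.Mod O) 0).obj T with hN
  obtain ⟨L, hL, ⟨eL⟩⟩ := exists_kInjective T
  have key : ∀ (V : C) (s : N.val.obj (op V)), s = 0 := by
    intro V s
    set ψ : ModSite.freeOn O V ⟶ N := ofSec O s with hψ
    obtain ⟨R, hR, hR'⟩ := locally_surj eL ψ
    refine eq_zero_of_cover N R hR s ?_
    intro W g hg
    obtain ⟨φ, hφ⟩ := hR' g hg
    obtain ⟨ι, YY, f, hcov, hYB⟩ := hB W
    refine eq_zero_of_cover N _ hcov _ ?_
    rintro W' _ ⟨Z, a, _, ⟨i⟩, rfl⟩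
    rw [map_comp_apply]
    have h1 : N.val.map (f i).op (N.val.map g.op s) = 0 := by
      have h2 : freeOnMap O (f i) ≫ h0 φ = 0 := by
        rw [← h0_precomp, hT (YY i) (hYB i)
          ((DerivedCategory.singleFunctor (ModSite.Mod O) 0).map (freeOnMap O (f i)) ≫ φ), h0_zero]
      have e1 : toSec O (freeOnMap O (f i) ≫ (freeOnMap O g ≫ ψ)) =
          N.val.map (f i).op (toSec O (freeOnMap O g ≫ ψ)) := toSec_freeOnMap_comp (f i) _
      have e2 : toSec O (freeOnMap O g ≫ ψ) = N.val.map g.op (toSec O ψ) :=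
        toSec_freeOnMap_comp g ψ
      have e3 : toSec O ψ = s := toSec_ofSec s
      rw [e2, e3] at e1
      rw [← e1, ← hφ, h2, toSec_zero]
      rfl
    rw [h1]
    exact (N.val.map a.op).hom.map_zero
  rw [IsZero.iff_id_eq_zero]
  apply SheafOfModules.hom_ext
  apply PresheafOfModules.hom_ext
  intro X
  ext s
  exact key X.unop s

/-- shifted version -/
theorem isZero_homology_of_local (B : Set C)
    (hB : ∀ U : C, ∃ (ι : Type u) (Y : ι → C) (f : ∀ i, Y i ⟶ U),
      Sieve.ofArrows Y f ∈ J U ∧ ∀ i, Y i ∈ B)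
    (T : DerivedCategory (ModSite.Mod O)) (m : ℤ)
    (hT : ∀ V ∈ B, ∀ y : (DerivedCategory.singleFunctor (ModSite.Mod O) 0).obj
      (ModSite.freeOn O V) ⟶ T⟦m⟧, y = 0) :
    IsZero ((DerivedCategory.homologyFunctor (ModSite.Mod O) m).obj T) := by
  have h := isZero_H0_of_local B hB (T⟦m⟧) hT
  exact IsZero.of_iso h
    (((DerivedCategory.homologyFunctor (ModSite.Mod O) 0).shiftIso m 0 m (by simp)).app T).symm

end Groth.Agent.Lib.Helper20.LocalVanish
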