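/-
Helper20 library: divisors in the sense of `Mero` (sheaf of meromorphic functions) via local
fractions `a / b` with regular numerator and denominator on an affine open.

* `LocalFrac D V a b`: on the open `V` the divisor `D` is represented by `a / b`.
* `exists_localFrac`: every point has such an affine neighbourhood.
* `isEffectiveAt_imp`, `isEffectiveAt_of`, `eq_one_iff`: pointwise dictionary
  (effective at `y` ↔ `b ∣ a` in `O_y`, trivial at `y` ↔ `a = b * unit` in `O_y`).
* `isEffectiveAt_of_forall_depth_one`, `eq_one_of_forall_depth_one`: on a locally Noetherian scheme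
  effectivity / triviality at `x` follows from that at the generizations of depth one.
-/
import Groth.Prelude.Def_MeroDiv
import Groth.Prelude.Def_CAlg
import Groth.Agent.Lib.Helper20.DepthOneReg
import Groth.Agent.Lib.Helper45.KTotalFrac
import Groth.Agent.Lib.Helper45.WeakAssNoeth
import Groth.Agent.S12513
import Mathlib.AlgebraicGeometry.Noetherian

set_option autoImplicit false
universe u

namespace Groth.Agent.Lib.Helper20.MeroDiv

open AlgebraicGeometry CategoryTheory TopologicalSpace Mero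

section alg

variable {R : Type u} [CommRing R] (S : Submonoid R)

lemma mk_eq_mk' (α : R) (β : S) :
    (LocalizedModule.mk α β : Localization S) = IsLocalization.mk' (Localization S) α β := by
  rw [← Localization.mk_eq_mk']; rfl

lemma mk_mul_algebraMap_eq_iff (hS : S ≤ nonZeroDivisors R) (α : R) (β : S) (u c : R) :
    (LocalizedModule.mk α β : Localization S) * algebraMap R (Localization S) u =
        algebraMap R (Localization S) c ↔ α * u = β * c := by
  rw [mk_eq_mk', mul_comm, IsLocalization.mul_mk'_eq_mk'_of_mul, IsLocalization.mk'_eq_iff_eq_mul,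
    ← map_mul]
  constructor
  · intro h
    have := IsLocalization.injective (Localization S) hS h
    rw [mul_comm α u, mul_comm (β : R) c]
    exact this
  · intro h
    rw [mul_comm u α, h, mul_comm]

lemma quot_eq_iff (F G : (Localization S)ˣ) :
    (QuotientGroup.mk F : (Localization S)ˣ ⧸
        (Units.map (algebraMap R (Localization S)).toMonoidHom).range) = QuotientGroup.mk G ↔
      ∃ u : Rˣ, (F : Localization S) * algebraMap R (Localization S) u = G := by
  rw [QuotientGroup.eq, MonoidHom.mem_range]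
  constructor
  · rintro ⟨u, hu⟩
    refine ⟨u, ?_⟩
    have h1 : F * Units.map (algebraMap R (Localization S)).toMonoidHom u = G := by
      rw [hu, mul_inv_cancel_left]
    exact congrArg Units.val h1
  · rintro ⟨u, hu⟩
    refine ⟨u, ?_⟩
    have h1 : F * Units.map (algebraMap R (Localization S)).toMonoidHom u = G := Units.ext hu
    rw [← h1, inv_mul_cancel_left]

lemma quot_eq_one_iff (F : (Localization S)ˣ) :
    (QuotientGroup.mk F : (Localization S)ˣ ⧸
        (Units.map (algebraMap R (Localization S)).toMonoidHom).range) = 1 ↔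
      ∃ u : Rˣ, algebraMap R (Localization S) u = F := by
  rw [QuotientGroup.eq_one_iff, MonoidHom.mem_range]
  constructor
  · rintro ⟨u, hu⟩
    exact ⟨u, congrArg Units.val hu⟩
  · rintro ⟨u, hu⟩
    exact ⟨u, Units.ext hu⟩

end alg

variable {X : Scheme.{u}}

/-- On the open `V`, the divisor `D` is represented by the fraction `a / b` of regular sections. -/
structure LocalFrac (D : Mero.Divisor X) (V : X.Opens) (a b : Γ(X, V)) : Prop where
  ha : a ∈ regSub X V
  hb : b ∈ regSub X V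
  eq : ∀ (y : X) (hy : y ∈ V), ∃ F : (KStalk X y)ˣ,
    (F : KStalk X y) = LocalizedModule.mk (X.presheaf.germ V y hy a)
      (⟨X.presheaf.germ V y hy b, germ_mem_regStalk ⟨y, hy⟩ hb⟩ : regStalk X y) ∧
    D.1 y = QuotientGroup.mk F

lemma exists_localFrac (D : Mero.Divisor X) (x : X) :
    ∃ V : X.Opens, IsAffineOpen V ∧ x ∈ V ∧ ∃ a b : Γ(X, V), LocalFrac D V a b := by
  obtain ⟨U, hxU, f, hf⟩ := D.2 x
  obtain ⟨V₁, m₁, i₁, a₁, b₁, h₁⟩ := (f : Γ(kmod X, U)).2 ⟨x, hxU⟩
  obtain ⟨V₂, m₂, i₂, a₂, b₂, h₂⟩ := ((f⁻¹ : (Γ(kmod X, U))ˣ) : Γ(kmod X, U)).2 ⟨x, hxU⟩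
  obtain ⟨W, hW, hxW, hWV⟩ : ∃ W : X.Opens, IsAffineOpen W ∧ x ∈ W ∧ W ≤ V₁ ⊓ V₂ := by
    obtain ⟨_, ⟨W, hW, rfl⟩, hxW, hWV⟩ :=
      X.isBasis_affineOpens.exists_subset_of_mem_open
        (show x ∈ ((V₁ ⊓ V₂ : X.Opens) : Set X) from ⟨m₁, m₂⟩) (V₁ ⊓ V₂).isOpen
    exact ⟨W, hW, hxW, hWV⟩
  have hW1 : W ≤ V₁ := hWV.trans inf_le_left
  have hW2 : W ≤ V₂ := hWV.trans inf_le_right
  have hWU : W ≤ U := hW1.trans i₁.le
  set a : Γ(X, W) := X.presheaf.map (homOfLE hW1).op a₁ with ha_def
  set b : Γ(X, W) := X.presheaf.map (homOfLE hW1).op b₁.1 with hb_def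
  set a' : Γ(X, W) := X.presheaf.map (homOfLE hW2).op a₂ with ha'_def
  set b' : Γ(X, W) := X.presheaf.map (homOfLE hW2).op b₂.1 with hb'_def
  have hb : b ∈ regSub X W := regSub_res _ b₁.2
  have hb' : b' ∈ regSub X W := regSub_res _ b₂.2
  -- values
  have hval : ∀ (y : X) (hy : y ∈ W), (f : Γ(kmod X, U)).1 ⟨y, hWU hy⟩ =
      LocalizedModule.mk (X.presheaf.germ W y hy a)
        (⟨X.presheaf.germ W y hy b, germ_mem_regStalk ⟨y, hy⟩ hb⟩ : regStalk X y) := by
    intro y hy
    have := h₁ ⟨y, hW1 hy⟩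
    dsimp only at this
    refine this.trans (mk_congr ?_ ?_)
    · rw [ha_def, TopCat.Presheaf.germ_res_apply]
    · change X.presheaf.germ V₁ y _ b₁.1 = X.presheaf.germ W y hy b
      rw [hb_def, TopCat.Presheaf.germ_res_apply]
  have hval' : ∀ (y : X) (hy : y ∈ W), ((f⁻¹ : (Γ(kmod X, U))ˣ) : Γ(kmod X, U)).1 ⟨y, hWU hy⟩ =
      LocalizedModule.mk (X.presheaf.germ W y hy a')
        (⟨X.presheaf.germ W y hy b', germ_mem_regStalk ⟨y, hy⟩ hb'⟩ : regStalk X y) := by
    intro y hy
    have := h₂ ⟨y, hW2 hy⟩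
    dsimp only at this
    refine this.trans (mk_congr ?_ ?_)
    · rw [ha'_def, TopCat.Presheaf.germ_res_apply]
    · change X.presheaf.germ V₂ y _ b₂.1 = X.presheaf.germ W y hy b'
      rw [hb'_def, TopCat.Presheaf.germ_res_apply]
  have ha : a ∈ regSub X W := by
    rintro ⟨y, hy⟩
    change X.presheaf.germ W y hy a ∈ _
    have h1 : (f : Γ(kmod X, U)).1 ⟨y, hWU hy⟩ * ((f⁻¹ : (Γ(kmod X, U))ˣ) : Γ(kmod X, U)).1 ⟨y, hWU hy⟩
        = 1 := by
      rw [← kmod_mul_apply, Units.mul_inv, kmod_one_apply]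
    rw [hval y hy, hval' y hy, mk_eq_mk', mk_eq_mk', ← IsLocalization.mk'_mul,
      IsLocalization.mk'_eq_iff_eq_mul, one_mul] at h1
    have h2 := IsLocalization.injective (KStalk X y) (regStalk_le_nonZeroDivisors y) h1
    have h3 : X.presheaf.germ W y hy a * X.presheaf.germ W y hy a' ∈
        nonZeroDivisors (X.presheaf.stalk y) := by
      rw [h2]
      exact regStalk_le_nonZeroDivisors y (Submonoid.mul_mem _ (germ_mem_regStalk ⟨y, hy⟩ hb)
        (germ_mem_regStalk ⟨y, hy⟩ hb'))
    exact (mul_mem_nonZeroDivisors.mp h3).1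
  refine ⟨W, hW, hxW, a, b, ha, hb, fun y hy => ?_⟩
  refine ⟨Units.map (evalK X U ⟨y, hWU hy⟩).toMonoidHom f, hval y hy, ?_⟩
  exact hf ⟨y, hWU hy⟩

variable {D : Mero.Divisor X} {V : X.Opens} {a b : Γ(X, V)}

lemma LocalFrac.germ_a_mem (h : LocalFrac D V a b) {y : X} (hy : y ∈ V) :
    X.presheaf.germ V y hy a ∈ nonZeroDivisors (X.presheaf.stalk y) :=
  h.ha ⟨y, hy⟩

lemma LocalFrac.germ_b_mem (h : LocalFrac D V a b) {y : X} (hy : y ∈ V) :
    X.presheaf.germ V y hy b ∈ nonZeroDivisors (X.presheaf.stalk y) :=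
  h.hb ⟨y, hy⟩

/-- Effectivity at `y` implies `b ∣ a` in the local ring at `y`. -/
lemma LocalFrac.isEffectiveAt_imp (h : LocalFrac D V a b) {y : X} (hy : y ∈ V)
    (hE : IsEffectiveAt D y) :
    ∃ c : X.presheaf.stalk y, X.presheaf.germ V y hy a = X.presheaf.germ V y hy b * c := by
  obtain ⟨F, hF, hD⟩ := h.eq y hy
  obtain ⟨c, hc⟩ := hE
  rw [hD] at hc
  obtain ⟨u, hu⟩ := (quot_eq_iff (regStalk X y) F _).mp hc
  rw [hF, IsUnit.unit_spec,
    mk_mul_algebraMap_eq_iff _ (regStalk_le_nonZeroDivisors y)] at hu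
  refine ⟨c.1 * ((u⁻¹ : (X.presheaf.stalk y)ˣ) : X.presheaf.stalk y), ?_⟩
  change _ = X.presheaf.germ V y hy b * _ at hu
  rw [← mul_assoc, ← hu, mul_assoc, Units.mul_inv, mul_one]

/-- `b ∣ a` in the local ring at `y` implies effectivity at `y`, provided every nonzerodivisor
germ is the germ of a regular section. -/
lemma LocalFrac.isEffectiveAt_of (h : LocalFrac D V a b) {y : X} (hy : y ∈ V)
    (hreg : regStalk X y = nonZeroDivisors (X.presheaf.stalk y))
    (hc : ∃ c : X.presheaf.stalk y, X.presheaf.germ V y hy a = X.presheaf.germ V y hy b * c) :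
    IsEffectiveAt D y := by
  obtain ⟨F, hF, hD⟩ := h.eq y hy
  obtain ⟨c, hc⟩ := hc
  have hcreg : c ∈ regStalk X y := by
    rw [hreg]
    have := h.germ_a_mem hy
    rw [hc] at this
    exact (mul_mem_nonZeroDivisors.mp this).2
  refine ⟨⟨c, hcreg⟩, ?_⟩
  rw [hD]
  refine (quot_eq_iff (regStalk X y) F _).mpr ⟨1, ?_⟩
  rw [hF, IsUnit.unit_spec, mk_mul_algebraMap_eq_iff _ (regStalk_le_nonZeroDivisors y)]
  change X.presheaf.germ V y hy a * ((1 : (X.presheaf.stalk y)ˣ) : X.presheaf.stalk y) =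
    X.presheaf.germ V y hy b * c
  rw [Units.val_one, mul_one, hc]

/-- Triviality of the germ at `y` means `a = b * unit` in the local ring at `y`. -/
lemma LocalFrac.eq_one_iff (h : LocalFrac D V a b) {y : X} (hy : y ∈ V) :
    D.1 y = 1 ↔ ∃ u : (X.presheaf.stalk y)ˣ,
      X.presheaf.germ V y hy a = X.presheaf.germ V y hy b * u := by
  obtain ⟨F, hF, hD⟩ := h.eq y hy
  rw [hD]
  refine (quot_eq_one_iff (regStalk X y) F).trans ?_
  constructor
  · rintro ⟨u, hu⟩
    refine ⟨u, ?_⟩
    have h1 : (F : KStalk X y) * algebraMap _ (KStalk X y) (1 : X.presheaf.stalk y) =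
        algebraMap _ (KStalk X y) (u : X.presheaf.stalk y) := by
      rw [map_one, mul_one, hu]
    rw [hF, mk_mul_algebraMap_eq_iff _ (regStalk_le_nonZeroDivisors y), mul_one] at h1
    exact h1
  · rintro ⟨u, hu⟩
    refine ⟨u, ?_⟩
    have h1 : (F : KStalk X y) * algebraMap _ (KStalk X y) (1 : X.presheaf.stalk y) =
        algebraMap _ (KStalk X y) (u : X.presheaf.stalk y) := by
      rw [hF, mk_mul_algebraMap_eq_iff _ (regStalk_le_nonZeroDivisors y), mul_one]
      exact hu
    rw [map_one, mul_one] at h1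
    exact h1.symm

open Groth.Agent.Lib.Helper29 in
/-- On a locally Noetherian scheme, divisibility `b ∣ a` in the local ring at `x` (for sections
`a, b` over an affine open, `b` regular) follows from divisibility at the generizations of depth
one. -/
theorem exists_dvd_of_forall_depth_one [IsLocallyNoetherian X] {V : X.Opens} (hV : IsAffineOpen V)
    (a b : Γ(X, V)) (hb : b ∈ regSub X V) (x : X) (hx : x ∈ V)
    (H : ∀ (z : X) (hz : z ∈ V), z ⤳ x →
      LocCoh.depth (X.presheaf.stalk z) (X.presheaf.stalk z) = 1 →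
      ∃ c : X.presheaf.stalk z, X.presheaf.germ V z hz a = X.presheaf.germ V z hz b * c) :
    ∃ c : X.presheaf.stalk x, X.presheaf.germ V x hx a = X.presheaf.germ V x hx b * c := by
  have hN : IsNoetherianRing Γ(X, V) := IsLocallyNoetherian.component_noetherian ⟨V, hV⟩
  have hbreg : IsSMulRegular Γ(X, V) b := by
    have h1 : b ∈ nonZeroDivisors Γ(X, V) := by
      rw [← Groth.Agent.S12513.result X V hV]
      exact hb
    exact (isRegular_iff_mem_nonZeroDivisors.mpr h1).left.isSMulRegular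
  let q := hV.primeIdealOf ⟨x, hx⟩
  obtain ⟨t, htq, e, hte⟩ := DepthOneReg.exists_mul_eq_mul_of_forall_depth_one (A := Γ(X, V))
    a b hbreg q.asIdeal (by
    intro p _ hpq hd
    let y' : PrimeSpectrum Γ(X, V) := ⟨p, inferInstance⟩
    have hyV : hV.fromSpec y' ∈ V := by
      have h0 : hV.fromSpec y' ∈ hV.fromSpec.opensRange := ⟨y', rfl⟩
      rwa [hV.opensRange_fromSpec] at h0
    let _ : Algebra Γ(X, V) (X.presheaf.stalk (hV.fromSpec y')) :=
      TopCat.Presheaf.algebra_section_stalk X.presheaf ⟨hV.fromSpec y', hyV⟩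
    have hloc : IsLocalization.AtPrime (X.presheaf.stalk (hV.fromSpec y')) p :=
      hV.isLocalization_stalk' y' hyV
    have hyx : hV.fromSpec y' ⤳ x := by
      have h1 : y' ⤳ q := (PrimeSpectrum.le_iff_specializes y' q).mp hpq
      have h2 := h1.map hV.fromSpec.continuous
      rwa [hV.fromSpec_primeIdealOf] at h2
    have hdy : LocCoh.depth (X.presheaf.stalk (hV.fromSpec y'))
        (X.presheaf.stalk (hV.fromSpec y')) = 1 := by
      rw [← hd]
      symm
      exact depth_self_eq_of_ringEquiv (IsLocalization.algEquiv p.primeCompl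
        (Localization.AtPrime p) (X.presheaf.stalk (hV.fromSpec y'))).toRingEquiv
    obtain ⟨c, hc⟩ := H _ hyV hyx hdy
    obtain ⟨⟨e, t⟩, het⟩ := IsLocalization.surj p.primeCompl c
    -- `c * t = e` in the stalk, so `a * t = b * e` there
    have h1 : algebraMap Γ(X, V) (X.presheaf.stalk (hV.fromSpec y')) (t.1 * a) =
        algebraMap Γ(X, V) (X.presheaf.stalk (hV.fromSpec y')) (b * e) := by
      rw [map_mul, map_mul]
      change _ * X.presheaf.germ V _ hyV a = X.presheaf.germ V _ hyV b * _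
      rw [hc, ← het]
      change _ = _ * (c * algebraMap Γ(X, V) (X.presheaf.stalk (hV.fromSpec y')) t.1)
      ring
    obtain ⟨t', ht'⟩ := (IsLocalization.eq_iff_exists p.primeCompl _).mp h1
    refine ⟨t'.1 * t.1, ?_, t'.1 * e, ?_⟩
    · exact (p.primeCompl.mul_mem t'.2 t.2)
    · rw [mul_assoc, ht']
      ring)
  let _ : Algebra Γ(X, V) (X.presheaf.stalk x) :=
    TopCat.Presheaf.algebra_section_stalk X.presheaf ⟨x, hx⟩
  have hloc : IsLocalization.AtPrime (X.presheaf.stalk x) q.asIdeal :=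
    hV.isLocalization_stalk ⟨x, hx⟩
  have hu : IsUnit (algebraMap Γ(X, V) (X.presheaf.stalk x) t) :=
    IsLocalization.map_units (M := q.asIdeal.primeCompl) (X.presheaf.stalk x) ⟨t, htq⟩
  refine ⟨algebraMap Γ(X, V) (X.presheaf.stalk x) e * hu.unit⁻¹.1, ?_⟩
  have h2 : algebraMap Γ(X, V) (X.presheaf.stalk x) t * X.presheaf.germ V x hx a =
      X.presheaf.germ V x hx b * algebraMap Γ(X, V) (X.presheaf.stalk x) e := by
    change algebraMap Γ(X, V) (X.presheaf.stalk x) t * algebraMap Γ(X, V) (X.presheaf.stalk x) a =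
      algebraMap Γ(X, V) (X.presheaf.stalk x) b * algebraMap Γ(X, V) (X.presheaf.stalk x) e
    rw [← map_mul, ← map_mul, hte]
  rw [← mul_assoc, ← h2, mul_comm _ (X.presheaf.germ V x hx a), mul_assoc, IsUnit.mul_val_inv,
    mul_one]

open Groth.Agent.Lib.Helper45 in
lemma regStalk_eq_nonZeroDivisors [IsLocallyNoetherian X] {V : X.Opens} (hV : IsAffineOpen V)
    {y : X} (hy : y ∈ V) : regStalk X y = nonZeroDivisors (X.presheaf.stalk y) := by
  have hN : IsNoetherianRing Γ(X, V) := IsLocallyNoetherian.component_noetherian ⟨V, hV⟩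
  exact regStalk_eq_nonZeroDivisors_of_finite hV weakAss_finite ⟨y, hy⟩

/-- On a locally Noetherian scheme, a divisor which is effective at all generizations of depth one
of `x` is effective at `x`. -/
theorem isEffectiveAt_of_forall_depth_one [IsLocallyNoetherian X] (D : Mero.Divisor X) (x : X)
    (H : ∀ z : X, z ⤳ x → LocCoh.depth (X.presheaf.stalk z) (X.presheaf.stalk z) = 1 →
      IsEffectiveAt D z) : IsEffectiveAt D x := by
  obtain ⟨V, hV, hxV, a, b, h⟩ := exists_localFrac D x
  exact h.isEffectiveAt_of hxV (regStalk_eq_nonZeroDivisors hV hxV)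
    (exists_dvd_of_forall_depth_one hV a b h.hb x hxV
      (fun z hz hzx hd => h.isEffectiveAt_imp hz (H z hzx hd)))

/-- On a locally Noetherian scheme, a divisor whose germ is trivial at all generizations of depth
one of `x` has trivial germ at `x`. -/
theorem eq_one_of_forall_depth_one [IsLocallyNoetherian X] (D : Mero.Divisor X) (x : X)
    (H : ∀ z : X, z ⤳ x → LocCoh.depth (X.presheaf.stalk z) (X.presheaf.stalk z) = 1 →
      D.1 z = 1) : D.1 x = 1 := by
  obtain ⟨V, hV, hxV, a, b, h⟩ := exists_localFrac D x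
  obtain ⟨c, hc⟩ := exists_dvd_of_forall_depth_one hV a b h.hb x hxV
    (fun z hz hzx hd => by
      obtain ⟨u, hu⟩ := (h.eq_one_iff hz).mp (H z hzx hd)
      exact ⟨u, hu⟩)
  obtain ⟨c', hc'⟩ := exists_dvd_of_forall_depth_one hV b a h.ha x hxV
    (fun z hz hzx hd => by
      obtain ⟨u, hu⟩ := (h.eq_one_iff hz).mp (H z hzx hd)
      refine ⟨((u⁻¹ : (X.presheaf.stalk z)ˣ) : X.presheaf.stalk z), ?_⟩
      rw [hu, mul_assoc, Units.mul_inv, mul_one])
  have h1 : X.presheaf.germ V x hxV a * (c' * c) = X.presheaf.germ V x hxV a * 1 := by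
    rw [← mul_assoc, ← hc', ← hc, mul_one]
  have h2 : c' * c = 1 := by
    have hreg := h.germ_a_mem hxV
    exact (isRegular_iff_mem_nonZeroDivisors.mpr hreg).left h1
  have hcu : IsUnit c := IsUnit.of_mul_eq_one c' (by rw [mul_comm]; exact h2)
  refine (h.eq_one_iff hxV).mpr ⟨hcu.unit, ?_⟩
  rw [IsUnit.unit_spec, hc]

end Groth.Agent.Lib.Helper20.MeroDiv
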