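import Groth.Agent.Lib.Helper20.NodeEtale
import Groth.Agent.Lib.Helper55.FiberTrdeg

/-!
# At-worst-nodal families and étale morphisms
-/

set_option autoImplicit false

universe u

namespace Groth.Agent.Lib.Helper20.NodalFamEtale

open CategoryTheory CategoryTheory.Limits AlgebraicGeometry IsLocalRing

section Top

variable {A B : Type*} [TopologicalSpace A] [TopologicalSpace B]

/-- A generalizing continuous map sends generic points of irreducible components to generic points
of irreducible components. -/
theorem closure_image_mem_irreducibleComponents [QuasiSober B] [T0Space A] (φ : A → B)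
    (hφ : GeneralizingMap φ) {Z : Set A} (hZ : Z ∈ irreducibleComponents A) (η : A)
    (hη : closure {η} = Z) : closure {φ η} ∈ irreducibleComponents B := by
  refine ⟨isIrreducible_singleton.closure, fun W hW hle => ?_⟩
  obtain ⟨ξ', hξ'⟩ := QuasiSober.sober hW.closure isClosed_closure
  have h1 : φ η ∈ closure {ξ'} := by
    rw [hξ'.def]
    exact subset_closure (hle (subset_closure rfl))
  have h2 : ξ' ⤳ φ η := specializes_iff_mem_closure.mpr h1
  obtain ⟨η', hη', rfl⟩ := hφ h2
  have h3 : closure {η'} ⊆ Z := by
    apply hZ.2 isIrreducible_singleton.closure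
    rw [← hη]
    exact closure_minimal (Set.singleton_subset_iff.mpr (specializes_iff_mem_closure.mp hη'))
      isClosed_closure
  have h4 : η ⤳ η' := by
    rw [specializes_iff_mem_closure, hη]
    exact h3 (subset_closure rfl)
  have h5 : η' = η := (hη'.antisymm h4).eq
  subst h5
  calc W ⊆ closure W := subset_closure
    _ = closure {φ η'} := hξ'.def.symm
  
end Top

section Dim

attribute [local instance] Curv2.resAlgebra

variable (k : Type u) [Field k] {P Q : Scheme.{u}} (p : P ⟶ Spec (CommRingCat.of k))
  (q : Q ⟶ Spec (CommRingCat.of k)) (h : Q ⟶ P) (hq : h ≫ p = q) [LocallyOfFiniteType p] [Etale h]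

include hq in
/-- Étale morphisms of schemes locally of finite type over a field preserve the dimension of the
closure of a point. -/
theorem dim_closure_eq_of_etale (η : Q) :
    topologicalKrullDim ↥(closure ({η} : Set Q)) =
      topologicalKrullDim ↥(closure ({h η} : Set P)) := by
  letI : P.Over (Spec (CommRingCat.of k)) := ⟨p⟩
  letI : Q.Over (Spec (CommRingCat.of k)) := ⟨q⟩
  have hp : LocallyOfFiniteType (P ↘ Spec (CommRingCat.of k)) := ‹LocallyOfFiniteType p›
  have hq' : LocallyOfFiniteType (Q ↘ Spec (CommRingCat.of k)) := by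
    show LocallyOfFiniteType q
    rw [← hq]; infer_instance
  obtain ⟨s, hs1, hs2⟩ := Groth.Agent.Lib.Helper55.exists_dim_closure_eq_trdeg k P (h η)
  obtain ⟨s', hs1', hs2'⟩ := Groth.Agent.Lib.Helper55.exists_dim_closure_eq_trdeg k Q η
  rw [hs1, hs1']
  letI alg : Algebra (P.residueField (h η)) (Q.residueField η) :=
    (h.residueFieldMap η).hom.toAlgebra
  have hsep : Algebra.IsSeparable (P.residueField (h η)) (Q.residueField η) := inferInstance
  have halg : Algebra.IsAlgebraic (P.residueField (h η)) (Q.residueField η) :=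
    Algebra.IsSeparable.isAlgebraic _ _
  have htower : IsScalarTower k (P.residueField (h η)) (Q.residueField η) := by
    refine IsScalarTower.of_algebraMap_eq' ?_
    exact (Groth.Agent.Lib.Helper55.residueFieldMap_comp_resMap k Q P h hq η).symm
  have h1 := trdeg_add_eq k (P.residueField (h η)) (A := Q.residueField η)
  rw [trdeg_eq_zero_iff.mpr halg, add_zero, hs2, hs2'] at h1
  have h2 : s = s' := by exact_mod_cast h1
  rw [h2]

include hq in
theorem dim_irreducibleComponents_of_etale (d : WithBot ℕ∞)
    (hP : ∀ Z ∈ irreducibleComponents (P : Type u), topologicalKrullDim Z = d) :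
    ∀ Z ∈ irreducibleComponents (Q : Type u), topologicalKrullDim Z = d := by
  intro Z hZ
  obtain ⟨η, hη⟩ := QuasiSober.sober hZ.1 (isClosed_of_mem_irreducibleComponents Z hZ)
  have hcl : closure {η} = Z := hη.def
  have h1 := closure_image_mem_irreducibleComponents h (Flat.generalizingMap h) hZ η hcl
  have h2 := hP _ h1
  rw [← hcl, dim_closure_eq_of_etale k p q h hq η]
  exact h2

include hq in
theorem atWorstNodal_of_etale (hP : @Curv2.AtWorstNodal k _ P ⟨p⟩) :
    @Curv2.AtWorstNodal k _ Q ⟨q⟩ := by
  intro z hz
  have hJ : JacobsonSpace P := LocallyOfFiniteType.jacobsonSpace p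
  have hcl : IsClosed ({h z} : Set P) :=
    h.closePoints_subset_preimage_closedPoints (mem_closedPoints_iff.mpr hz)
  rcases hP (h z) hcl with ⟨U, hzU, hU⟩ | hnode
  · left
    refine ⟨h ⁻¹ᵁ U, hzU, ?_⟩
    have e : (h ⁻¹ᵁ U).ι ≫ q = (h ∣_ U) ≫ U.ι ≫ p := by
      rw [← hq, ← Category.assoc, ← Category.assoc, morphismRestrict_ι]
    show Smooth ((h ⁻¹ᵁ U).ι ≫ q)
    rw [e]
    have : Smooth (U.ι ≫ p) := hU
    infer_instance
  · right
    subst hq
    letI : P.Over (Spec (CommRingCat.of k)) := ⟨p⟩
    have hp : LocallyOfFiniteType (P ↘ Spec (CommRingCat.of k)) := ‹LocallyOfFiniteType p›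
    exact (NodeEtale.isNode_iff_of_etale k P h z).mp hnode

end Dim

section Main

theorem isNodalFamily_comp_etale {X Y S : Scheme.{u}} (f : X ⟶ S) (hf : Curv2.IsNodalFamily f)
    (g : Y ⟶ X) [Etale g] : Curv2.IsNodalFamily (g ≫ f) := by
  obtain ⟨hfl, hfp, hfib⟩ := hf
  refine ⟨inferInstance, inferInstance, fun s => ?_⟩
  obtain ⟨hdim, hnod⟩ := hfib s
  let bm : pullback (g ≫ f) (S.fromSpecResidueField s) ⟶ pullback f (S.fromSpecResidueField s) :=
    pullback.map (g ≫ f) (S.fromSpecResidueField s) f (S.fromSpecResidueField s) g (𝟙 _) (𝟙 _)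
      (by simp) (by simp)
  have hfst : bm ≫ pullback.fst f (S.fromSpecResidueField s) =
      pullback.fst (g ≫ f) (S.fromSpecResidueField s) ≫ g := pullback.lift_fst _ _ _
  have hsnd : bm ≫ pullback.snd f (S.fromSpecResidueField s) =
      pullback.snd (g ≫ f) (S.fromSpecResidueField s) := by
    rw [pullback.lift_snd]
    exact Category.comp_id _
  have hpb : IsPullback bm (pullback.fst (g ≫ f) (S.fromSpecResidueField s))
      (pullback.fst f (S.fromSpecResidueField s)) g := by
    refine IsPullback.of_right ?_ hfst
      (IsPullback.of_hasPullback f (S.fromSpecResidueField s)).flip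
    have h := (IsPullback.of_hasPullback (g ≫ f) (S.fromSpecResidueField s)).flip
    rw [hsnd]
    exact h
  have hbm : Etale bm := MorphismProperty.of_isPullback (P := @Etale) hpb.flip inferInstance
  have hlft : LocallyOfFiniteType (pullback.snd f (S.fromSpecResidueField s)) := inferInstance
  exact ⟨dim_irreducibleComponents_of_etale (S.residueField s)
      (pullback.snd f (S.fromSpecResidueField s))
      (pullback.snd (g ≫ f) (S.fromSpecResidueField s)) bm hsnd 1 hdim,
    atWorstNodal_of_etale (S.residueField s) (pullback.snd f (S.fromSpecResidueField s))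
      (pullback.snd (g ≫ f) (S.fromSpecResidueField s)) bm hsnd hnod⟩

end Main

end Groth.Agent.Lib.Helper20.NodalFamEtale
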