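import Mathlib

/-!
# Node criterion: basic algebra (helper20)

* `exists_of_sum_smul_mem`: equational criterion of flatness relative to an ideal.
* `HasQuad`: existence of a nondegenerate quadratic relation modulo `𝔪³` between generators of `𝔪`.
* `mem_of_lincomb_mem_sq`: in a local ring of embedding dimension two, two generators of `𝔪` modulo
  `𝔪²` are linearly independent modulo `𝔪²`.
* `hasQuad_basis_change`: the quadratic relation can be written in any generators.
* `derivation_mem`: derivations of a "node" preserve the maximal ideal.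
* `exists_derivation_localization`: derivations extend to localizations.
-/

set_option autoImplicit false
universe u v

namespace Groth.Agent.Lib.Helper20.NodeCrit

open IsLocalRing



section EQ

variable {A : Type u} {B : Type v} [CommRing A] [CommRing B] [Algebra A B] [Module.Flat A B]

/-- Equational criterion of flatness relative to an ideal: a relation `∑ fᵢ tᵢ ∈ I B` in a flat
algebra comes from relations `∑ fᵢ aᵢⱼ ∈ I`. -/
theorem exists_of_sum_smul_mem {ι : Type*} [Fintype ι] (f : ι → A) (I : Ideal A) (t : ι → B)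
    (h : ∑ i, f i • t i ∈ I.map (algebraMap A B)) :
    ∃ (n : ℕ) (a : ι → Fin n → A) (y : Fin n → B),
      (∀ i, t i = ∑ j, a i j • y j) ∧ ∀ j, ∑ i, f i * a i j ∈ I := by
  classical
  rw [Ideal.map, Ideal.span, Submodule.mem_span_set'] at h
  obtain ⟨m, s, g, hg⟩ := h
  choose g' hg'I hg' using fun i => (g i).2
  let F : ι ⊕ Fin m → A := Sum.elim f (fun i => - g' i)
  let X : ι ⊕ Fin m → B := Sum.elim t s
  have hrel : ∑ i, F i • X i = 0 := by
    rw [Fintype.sum_sum_type]
    simp only [F, X, Sum.elim_inl, Sum.elim_inr, neg_smul, Finset.sum_neg_distrib]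
    rw [← hg, add_neg_eq_zero]
    refine Finset.sum_congr rfl fun i _ => ?_
    rw [← hg' i, smul_eq_mul, Algebra.smul_def, mul_comm]
  obtain ⟨n, a, y, h1, h2⟩ := Module.Flat.isTrivialRelation_of_sum_smul_eq_zero (R := A) (M := B)
    (f := F) (x := X) hrel
  refine ⟨n, fun i j => a (Sum.inl i) j, y, fun i => h1 (Sum.inl i), fun j => ?_⟩
  have := h2 j
  rw [Fintype.sum_sum_type] at this
  simp only [F, Sum.elim_inl, Sum.elim_inr, neg_mul, Finset.sum_neg_distrib,
    add_neg_eq_zero] at this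
  rw [this]
  exact Ideal.sum_mem _ fun i _ => Ideal.mul_mem_right _ _ (hg'I i)

end EQ




section LI

variable {A : Type u} [CommRing A] [IsLocalRing A]

/-- existence of a nondegenerate quadratic relation modulo `𝔪³` between two generators of `𝔪`
modulo `𝔪²` -/
def HasQuad (A : Type u) [CommRing A] [IsLocalRing A] : Prop :=
  ∃ x y a b c : A, x ∈ maximalIdeal A ∧ y ∈ maximalIdeal A ∧
    Ideal.span {x, y} ⊔ maximalIdeal A ^ 2 = maximalIdeal A ∧
    residue A (4 * a * c - b ^ 2) ≠ 0 ∧
    a * x ^ 2 + b * x * y + c * y ^ 2 ∈ maximalIdeal A ^ 3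

theorem exists_lincomb_of_span {x y : A}
    (hspan : Ideal.span {x, y} ⊔ maximalIdeal A ^ 2 = maximalIdeal A) {z : A}
    (hz : z ∈ maximalIdeal A) :
    ∃ p q w : A, w ∈ maximalIdeal A ^ 2 ∧ z = p * x + q * y + w := by
  rw [← hspan, Submodule.mem_sup] at hz
  obtain ⟨u, hu, w, hw, rfl⟩ := hz
  obtain ⟨p, q, rfl⟩ := Ideal.mem_span_pair.mp hu
  exact ⟨p, q, w, hw, rfl⟩

theorem toCotangent_lincomb {x y : A} (hx : x ∈ maximalIdeal A) (hy : y ∈ maximalIdeal A)
    (p q : A) :
    (maximalIdeal A).toCotangent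
      ⟨p * x + q * y, Ideal.add_mem _ (Ideal.mul_mem_left _ _ hx) (Ideal.mul_mem_left _ _ hy)⟩ =
      residue A p • (maximalIdeal A).toCotangent ⟨x, hx⟩ +
        residue A q • (maximalIdeal A).toCotangent ⟨y, hy⟩ := by
  have h2 : (⟨p * x + q * y, Ideal.add_mem _ (Ideal.mul_mem_left _ _ hx)
      (Ideal.mul_mem_left _ _ hy)⟩ : maximalIdeal A) =
      p • (⟨x, hx⟩ : maximalIdeal A) + q • (⟨y, hy⟩ : maximalIdeal A) := by
    apply Subtype.ext
    simp
  rw [h2, map_add, map_smul, map_smul]
  rfl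

/-- In a local ring of embedding dimension two, generators of `𝔪` modulo `𝔪²` are linearly
independent modulo `𝔪²`. -/
theorem mem_of_lincomb_mem_sq
    (hfin : Module.finrank (ResidueField A) (CotangentSpace A) = 2)
    {x y : A} (hx : x ∈ maximalIdeal A) (hy : y ∈ maximalIdeal A)
    (hspan : Ideal.span {x, y} ⊔ maximalIdeal A ^ 2 = maximalIdeal A) (p q : A)
    (h : p * x + q * y ∈ maximalIdeal A ^ 2) : p ∈ maximalIdeal A ∧ q ∈ maximalIdeal A := by
  classical
  let v : Fin 2 → CotangentSpace A :=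
    ![(maximalIdeal A).toCotangent ⟨x, hx⟩, (maximalIdeal A).toCotangent ⟨y, hy⟩]
  have hsp : ⊤ ≤ Submodule.span (ResidueField A) (Set.range v) := by
    intro w _
    obtain ⟨⟨z, hz⟩, rfl⟩ := (maximalIdeal A).toCotangent_surjective w
    obtain ⟨p, q, w, hw, hzw⟩ := exists_lincomb_of_span hspan hz
    have : (maximalIdeal A).toCotangent ⟨z, hz⟩ = residue A p • v 0 + residue A q • v 1 := by
      change _ = residue A p • (maximalIdeal A).toCotangent ⟨x, hx⟩ +
        residue A q • (maximalIdeal A).toCotangent ⟨y, hy⟩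
      rw [← toCotangent_lincomb hx hy, Ideal.toCotangent_eq]
      change z - (p * x + q * y) ∈ _
      rw [hzw, add_sub_cancel_left]
      exact hw
    rw [this]
    exact Submodule.add_mem _ (Submodule.smul_mem _ _ (Submodule.subset_span ⟨0, rfl⟩))
      (Submodule.smul_mem _ _ (Submodule.subset_span ⟨1, rfl⟩))
  have hLI : LinearIndependent (ResidueField A) v :=
    linearIndependent_of_top_le_span_of_card_eq_finrank hsp (by rw [hfin, Fintype.card_fin])
  rw [LinearIndependent.pair_iff] at hLI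
  have h0 : (maximalIdeal A).toCotangent
      ⟨p * x + q * y, Ideal.add_mem _ (Ideal.mul_mem_left _ _ hx)
        (Ideal.mul_mem_left _ _ hy)⟩ = 0 := by
    rw [Ideal.toCotangent_eq_zero]; exact h
  rw [toCotangent_lincomb hx hy] at h0
  obtain ⟨h1, h2⟩ := hLI _ _ h0
  exact ⟨(residue_eq_zero_iff _).mp h1, (residue_eq_zero_iff _).mp h2⟩

end LI




section Basis

variable {A : Type u} [CommRing A] [IsLocalRing A]

lemma mul_mem_cube {u v : A} (hu : u ∈ maximalIdeal A ^ 2) (hv : v ∈ maximalIdeal A) :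
    u * v ∈ maximalIdeal A ^ 3 := by
  rw [show (3 : ℕ) = 2 + 1 from rfl, pow_succ]
  exact Ideal.mul_mem_mul hu hv

lemma mul_mem_sq {u v : A} (hu : u ∈ maximalIdeal A) (hv : v ∈ maximalIdeal A) :
    u * v ∈ maximalIdeal A ^ 2 := by
  rw [pow_two]
  exact Ideal.mul_mem_mul hu hv

lemma sq_le : maximalIdeal A ^ 2 ≤ maximalIdeal A := Ideal.pow_le_self (by norm_num)

/-- The quadratic relation can be expressed in any pair of generators of `𝔪` modulo `𝔪²`. -/
theorem hasQuad_basis_change
    (hfin : Module.finrank (ResidueField A) (CotangentSpace A) = 2) (h : HasQuad A)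
    {x' y' : A} (hx' : x' ∈ maximalIdeal A) (hy' : y' ∈ maximalIdeal A)
    (hspan' : Ideal.span {x', y'} ⊔ maximalIdeal A ^ 2 = maximalIdeal A) :
    ∃ a b c : A, residue A (4 * a * c - b ^ 2) ≠ 0 ∧
      a * x' ^ 2 + b * x' * y' + c * y' ^ 2 ∈ maximalIdeal A ^ 3 := by
  obtain ⟨x, y, a, b, c, hx, hy, hspan, hdisc, hq⟩ := h
  obtain ⟨α, β, μ, hμ, hxe⟩ := exists_lincomb_of_span hspan' hx
  obtain ⟨γ, δ, ν, hν, hye⟩ := exists_lincomb_of_span hspan' hy
  obtain ⟨α', β', μ', hμ', hxe'⟩ := exists_lincomb_of_span hspan hx'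
  obtain ⟨γ', δ', ν', hν', hye'⟩ := exists_lincomb_of_span hspan hy'
  -- the transition matrices are inverse modulo `𝔪`
  have h1 : (α * α' + β * γ' - 1) * x + (α * β' + β * δ') * y ∈ maximalIdeal A ^ 2 := by
    have : (α * α' + β * γ' - 1) * x + (α * β' + β * δ') * y =
        -(α * μ' + β * ν' + μ) := by
      have e1 : x = α * (α' * x + β' * y + μ') + β * (γ' * x + δ' * y + ν') + μ := by
        rw [← hxe', ← hye']; exact hxe
      linear_combination (-1 : A) * e1
    rw [this]
    exact Ideal.neg_mem_iff _ |>.mpr (Ideal.add_mem _ (Ideal.add_mem _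
      (Ideal.mul_mem_left _ _ hμ') (Ideal.mul_mem_left _ _ hν')) hμ)
  have h2 : (γ * α' + δ * γ') * x + (γ * β' + δ * δ' - 1) * y ∈ maximalIdeal A ^ 2 := by
    have : (γ * α' + δ * γ') * x + (γ * β' + δ * δ' - 1) * y =
        -(γ * μ' + δ * ν' + ν) := by
      have e1 : y = γ * (α' * x + β' * y + μ') + δ * (γ' * x + δ' * y + ν') + ν := by
        rw [← hxe', ← hye']; exact hye
      linear_combination (-1 : A) * e1
    rw [this]
    exact Ideal.neg_mem_iff _ |>.mpr (Ideal.add_mem _ (Ideal.add_mem _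
      (Ideal.mul_mem_left _ _ hμ') (Ideal.mul_mem_left _ _ hν')) hν)
  obtain ⟨h11, h12⟩ := mem_of_lincomb_mem_sq hfin hx hy hspan _ _ h1
  obtain ⟨h21, h22⟩ := mem_of_lincomb_mem_sq hfin hx hy hspan _ _ h2
  have hdet : α * δ - β * γ ∉ maximalIdeal A := by
    intro hd
    have : (1 : A) ∈ maximalIdeal A := by
      have e : (1 : A) = (α * δ - β * γ) * (α' * δ' - β' * γ') -
          ((α * α' + β * γ' - 1) * (γ * β' + δ * δ' - 1) + (α * α' + β * γ' - 1) +
            (γ * β' + δ * δ' - 1) - (α * β' + β * δ') * (γ * α' + δ * γ')) := by ring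
      rw [e]
      exact Ideal.sub_mem _ (Ideal.mul_mem_right _ _ hd)
        (Ideal.sub_mem _ (Ideal.add_mem _ (Ideal.add_mem _ (Ideal.mul_mem_right _ _ h11) h11) h22)
          (Ideal.mul_mem_right _ _ h12))
    exact (Ideal.ne_top_iff_one _).mp (maximalIdeal.isMaximal A).ne_top this
  refine ⟨a * α ^ 2 + b * α * γ + c * γ ^ 2,
    2 * a * α * β + b * (α * δ + β * γ) + 2 * c * γ * δ,
    a * β ^ 2 + b * β * δ + c * δ ^ 2, ?_, ?_⟩
  · have e : 4 * (a * α ^ 2 + b * α * γ + c * γ ^ 2) * (a * β ^ 2 + b * β * δ + c * δ ^ 2) -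
        (2 * a * α * β + b * (α * δ + β * γ) + 2 * c * γ * δ) ^ 2 =
        (α * δ - β * γ) ^ 2 * (4 * a * c - b ^ 2) := by ring
    rw [e, map_mul, map_pow]
    refine mul_ne_zero (pow_ne_zero _ ?_) hdisc
    rwa [Ne, residue_eq_zero_iff]
  · set X := α * x' + β * y' with hX
    set Y := γ * x' + δ * y' with hY
    have hXm : X ∈ maximalIdeal A :=
      Ideal.add_mem _ (Ideal.mul_mem_left _ _ hx') (Ideal.mul_mem_left _ _ hy')
    have hYm : Y ∈ maximalIdeal A :=
      Ideal.add_mem _ (Ideal.mul_mem_left _ _ hx') (Ideal.mul_mem_left _ _ hy')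
    have e : (a * α ^ 2 + b * α * γ + c * γ ^ 2) * x' ^ 2 +
        (2 * a * α * β + b * (α * δ + β * γ) + 2 * c * γ * δ) * x' * y' +
        (a * β ^ 2 + b * β * δ + c * δ ^ 2) * y' ^ 2 =
        (a * x ^ 2 + b * x * y + c * y ^ 2) -
          (μ * (2 * a * X + a * μ + b * Y + b * ν) + ν * (b * X + 2 * c * Y + c * ν)) := by
      rw [hxe, hye]; ring
    rw [e]
    have hμm : μ ∈ maximalIdeal A := sq_le hμ
    have hνm : ν ∈ maximalIdeal A := sq_le hν
    refine Ideal.sub_mem _ hq (Ideal.add_mem _ (mul_mem_cube hμ ?_) (mul_mem_cube hν ?_))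
    · exact Ideal.add_mem _ (Ideal.add_mem _ (Ideal.add_mem _ (Ideal.mul_mem_left _ _ hXm)
        (Ideal.mul_mem_left _ _ hμm)) (Ideal.mul_mem_left _ _ hYm)) (Ideal.mul_mem_left _ _ hνm)
    · exact Ideal.add_mem _ (Ideal.add_mem _ (Ideal.mul_mem_left _ _ hXm)
        (Ideal.mul_mem_left _ _ hYm)) (Ideal.mul_mem_left _ _ hνm)

end Basis

section Deriv

variable {A : Type u} [CommRing A] [IsLocalRing A]

lemma derivation_sq_mem (D : Derivation ℤ A A) {w : A} (hw : w ∈ maximalIdeal A ^ 2) :
    D w ∈ maximalIdeal A := by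
  rw [pow_two] at hw
  refine Submodule.mul_induction_on hw (fun u hu v hv => ?_) (fun u v hu hv => ?_)
  · rw [Derivation.leibniz, smul_eq_mul, smul_eq_mul]
    exact Ideal.add_mem _ (Ideal.mul_mem_right _ _ hu) (Ideal.mul_mem_right _ _ hv)
  · rw [map_add]; exact Ideal.add_mem _ hu hv

lemma derivation_cube_mem (D : Derivation ℤ A A) {w : A} (hw : w ∈ maximalIdeal A ^ 3) :
    D w ∈ maximalIdeal A ^ 2 := by
  rw [show (3 : ℕ) = 2 + 1 from rfl, pow_succ] at hw
  refine Submodule.mul_induction_on hw (fun u hu v hv => ?_) (fun u v hu hv => ?_)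
  · rw [Derivation.leibniz, smul_eq_mul, smul_eq_mul]
    exact Ideal.add_mem _ (Ideal.mul_mem_right _ _ hu) (mul_mem_sq hv (derivation_sq_mem D hu))
  · rw [map_add]; exact Ideal.add_mem _ hu hv

/-- In a local ring of embedding dimension two with a nondegenerate quadratic relation modulo `𝔪³`,
every derivation preserves the maximal ideal. -/
theorem derivation_mem (hfin : Module.finrank (ResidueField A) (CotangentSpace A) = 2)
    (h : HasQuad A) (D : Derivation ℤ A A) {z : A} (hz : z ∈ maximalIdeal A) :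
    D z ∈ maximalIdeal A := by
  obtain ⟨x, y, a, b, c, hx, hy, hspan, hdisc, hq⟩ := h
  have hD := derivation_cube_mem D hq
  have e : D (a * x ^ 2 + b * x * y + c * y ^ 2) =
      (D a * x ^ 2 + D b * (x * y) + D c * y ^ 2) +
        ((2 * a * D x + b * D y) * x + (b * D x + 2 * c * D y) * y) := by
    rw [pow_two, pow_two, map_add, map_add, Derivation.leibniz, Derivation.leibniz,
      Derivation.leibniz, Derivation.leibniz, Derivation.leibniz, Derivation.leibniz]
    simp only [smul_eq_mul]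
    ring
  rw [e] at hD
  have h0 : D a * x ^ 2 + D b * (x * y) + D c * y ^ 2 ∈ maximalIdeal A ^ 2 := by
    have hxx : x ^ 2 ∈ maximalIdeal A ^ 2 := by rw [pow_two x]; exact mul_mem_sq hx hx
    have hyy : y ^ 2 ∈ maximalIdeal A ^ 2 := by rw [pow_two y]; exact mul_mem_sq hy hy
    have hxy : x * y ∈ maximalIdeal A ^ 2 := mul_mem_sq hx hy
    exact (maximalIdeal A ^ 2).add_mem ((maximalIdeal A ^ 2).add_mem
      ((maximalIdeal A ^ 2).mul_mem_left _ hxx) ((maximalIdeal A ^ 2).mul_mem_left _ hxy))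
      ((maximalIdeal A ^ 2).mul_mem_left _ hyy)
  have h1 := (Ideal.add_mem_iff_right _ h0).mp hD
  obtain ⟨hP, hQ⟩ := mem_of_lincomb_mem_sq hfin hx hy hspan _ _ h1
  have hunit : IsUnit (4 * a * c - b ^ 2) := by
    rw [← notMem_maximalIdeal, ← residue_eq_zero_iff]; exact hdisc
  have hp : D x ∈ maximalIdeal A := by
    have : (4 * a * c - b ^ 2) * D x = 2 * c * (2 * a * D x + b * D y) -
        b * (b * D x + 2 * c * D y) := by ring
    have h2 : (4 * a * c - b ^ 2) * D x ∈ maximalIdeal A := by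
      rw [this]
      exact Ideal.sub_mem _ (Ideal.mul_mem_left _ _ hP) (Ideal.mul_mem_left _ _ hQ)
    exact ((maximalIdeal.isMaximal A).isPrime.mem_or_mem h2).resolve_left
      (fun h => (notMem_maximalIdeal.mpr hunit) h)
  have hqq : D y ∈ maximalIdeal A := by
    have : (4 * a * c - b ^ 2) * D y = 2 * a * (b * D x + 2 * c * D y) -
        b * (2 * a * D x + b * D y) := by ring
    have h2 : (4 * a * c - b ^ 2) * D y ∈ maximalIdeal A := by
      rw [this]
      exact Ideal.sub_mem _ (Ideal.mul_mem_left _ _ hQ) (Ideal.mul_mem_left _ _ hP)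
    exact ((maximalIdeal.isMaximal A).isPrime.mem_or_mem h2).resolve_left
      (fun h => (notMem_maximalIdeal.mpr hunit) h)
  obtain ⟨p, q, w, hw, rfl⟩ := exists_lincomb_of_span hspan hz
  rw [map_add, map_add, Derivation.leibniz, Derivation.leibniz]
  simp only [smul_eq_mul]
  exact Ideal.add_mem _ (Ideal.add_mem _ (Ideal.add_mem _ (Ideal.mul_mem_left _ _ hp)
    (Ideal.mul_mem_right _ _ hx)) (Ideal.add_mem _ (Ideal.mul_mem_left _ _ hqq)
    (Ideal.mul_mem_right _ _ hy))) (derivation_sq_mem D hw)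

end Deriv



section DerivLoc

variable {S : Type u} [CommRing S] (M : Submonoid S) (T : Type v) [CommRing T] [Algebra S T]
  [IsLocalization M T]

/-- the ring map `s ↦ s + D s ε` to the dual numbers over a localization -/
noncomputable def derivHom (D : Derivation ℤ S S) : S →+* TrivSqZeroExt T T where
  toFun s := TrivSqZeroExt.inl (algebraMap S T s) + TrivSqZeroExt.inr (algebraMap S T (D s))
  map_one' := by
    rw [Derivation.map_one_eq_zero, map_zero, map_one, TrivSqZeroExt.inr_zero, add_zero]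
    rfl
  map_zero' := by
    rw [map_zero, map_zero, map_zero, TrivSqZeroExt.inr_zero, add_zero, TrivSqZeroExt.inl_zero]
  map_add' a b := by
    rw [map_add, map_add, map_add, TrivSqZeroExt.inl_add, TrivSqZeroExt.inr_add]
    abel
  map_mul' a b := by
    ext
    · simp
    · simp only [TrivSqZeroExt.snd_add, TrivSqZeroExt.snd_inl, TrivSqZeroExt.snd_inr, zero_add,
        TrivSqZeroExt.snd_mul, TrivSqZeroExt.fst_add, TrivSqZeroExt.fst_inl,
        TrivSqZeroExt.fst_inr, add_zero, Derivation.leibniz, smul_eq_mul, map_add, map_mul,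
        MulOpposite.smul_eq_mul_unop, MulOpposite.unop_op]
      ring

include M in
/-- Derivations extend to localizations. -/
theorem exists_derivation_localization (D : Derivation ℤ S S) :
    ∃ D' : Derivation ℤ T T, ∀ s, D' (algebraMap S T s) = algebraMap S T (D s) := by
  have hunit : ∀ y : M, IsUnit (derivHom T D y) := by
    intro y
    rw [TrivSqZeroExt.isUnit_iff_isUnit_fst]
    have : (derivHom T D y).fst = algebraMap S T y := by
      simp [derivHom]
    rw [this]
    exact IsLocalization.map_units T y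
  let Ψ : T →+* TrivSqZeroExt T T := IsLocalization.lift hunit
  have hΨ : ∀ s, Ψ (algebraMap S T s) = derivHom T D s := fun s => IsLocalization.lift_eq hunit s
  have hfst : ∀ t, (Ψ t).fst = t := by
    have : (TrivSqZeroExt.fstHom T T T).toRingHom.comp Ψ = RingHom.id T := by
      apply IsLocalization.ringHom_ext M
      ext s
      simp [hΨ, derivHom]
    intro t
    exact congr($this t)
  let L : T →ₗ[ℤ] T := (AddMonoidHom.toIntLinearMap
    { toFun := fun t => (Ψ t).snd
      map_zero' := by simp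
      map_add' := fun a b => by simp })
  refine ⟨Derivation.mk' L ?_, ?_⟩
  · intro a b
    change (Ψ (a * b)).snd = a • (Ψ b).snd + b • (Ψ a).snd
    rw [map_mul, TrivSqZeroExt.snd_mul, hfst, hfst]
    simp [mul_comm]
  · intro s
    change (Ψ (algebraMap S T s)).snd = _
    rw [hΨ]
    simp only [derivHom, RingHom.coe_mk, MonoidHom.coe_mk, OneHom.coe_mk, TrivSqZeroExt.snd_add,
      TrivSqZeroExt.snd_inl, TrivSqZeroExt.snd_inr, zero_add]

end DerivLoc


end Groth.Agent.Lib.Helper20.NodeCrit
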