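import Mathlib
import Groth.Agent.Lib.Helper20.NodeCritBasic

/-!
# Node criterion: flat local homomorphisms with `𝔪_A B = 𝔪_B` (helper20)

* `finrank_cotangentSpace_eq_of_flat`: embedding dimensions agree.
* `disc3_mem_of_mem_span`: polar form argument for the discriminant.
* `hasQuad_ascend`, `hasQuad_descend`: the nondegenerate quadratic relation modulo `𝔪³` ascends and
  descends.
-/

set_option autoImplicit false
universe u v

namespace Groth.Agent.Lib.Helper20.NodeCrit

open IsLocalRing



section FL

variable {A : Type u} {B : Type v} [CommRing A] [CommRing B] [IsLocalRing A] [IsLocalRing B]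
  [Algebra A B]

lemma algebraMap_mem_maximalIdeal [IsLocalHom (algebraMap A B)] {a : A}
    (ha : a ∈ maximalIdeal A) : algebraMap A B a ∈ maximalIdeal B := by
  rw [mem_maximalIdeal, mem_nonunits_iff] at ha ⊢
  exact fun h => ha (isUnit_of_map_unit (algebraMap A B) a h)

lemma mem_maximalIdeal_of_algebraMap_mem [IsLocalHom (algebraMap A B)] {a : A}
    (ha : algebraMap A B a ∈ maximalIdeal B) : a ∈ maximalIdeal A := by
  rw [mem_maximalIdeal, mem_nonunits_iff] at ha ⊢
  exact fun h => ha (h.map (algebraMap A B))

lemma toCotangent_sum {ι : Type*} (s : Finset ι) (t : ι → A) (w : ι → maximalIdeal A) :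
    (maximalIdeal A).toCotangent (∑ i ∈ s, t i • w i) =
      ∑ i ∈ s, residue A (t i) • (maximalIdeal A).toCotangent (w i) := by
  rw [map_sum]
  refine Finset.sum_congr rfl fun i _ => ?_
  rw [map_smul]
  rfl

variable [IsNoetherianRing A] [IsNoetherianRing B] [Module.Flat A B] [IsLocalHom (algebraMap A B)]

/-- For a flat local homomorphism with `𝔪_A B = 𝔪_B` the embedding dimensions agree. -/
theorem finrank_cotangentSpace_eq_of_flat
    (hm : (maximalIdeal A).map (algebraMap A B) = maximalIdeal B) :
    Module.finrank (ResidueField B) (CotangentSpace B) =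
      Module.finrank (ResidueField A) (CotangentSpace A) := by
  classical
  set r := Module.finrank (ResidueField A) (CotangentSpace A) with hr
  let b : Module.Basis (Fin r) (ResidueField A) (CotangentSpace A) :=
    Module.finBasis (ResidueField A) (CotangentSpace A)
  choose u hu using fun i => (maximalIdeal A).toCotangent_surjective (b i)
  let w : Fin r → maximalIdeal B := fun i =>
    ⟨algebraMap A B (u i : A), algebraMap_mem_maximalIdeal (u i).2⟩
  let v : Fin r → CotangentSpace B := fun i => (maximalIdeal B).toCotangent (w i)
  -- the `u i` generate `𝔪_A`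
  have hspanA : Submodule.span A (Set.range u) = ⊤ := by
    rw [← CotangentSpace.span_image_eq_top_iff, ← Set.range_comp]
    have : (maximalIdeal A).toCotangent ∘ u = b := funext hu
    rw [this]
    exact b.span_eq
  have hmA : maximalIdeal A = Ideal.span (Set.range fun i => (u i : A)) := by
    have := congrArg (Submodule.map (maximalIdeal A).subtype) hspanA
    rw [Submodule.map_span, Submodule.map_top, Submodule.range_subtype, ← Set.range_comp] at this
    exact this.symm
  have hmB : maximalIdeal B = Ideal.span (Set.range fun i => (w i : B)) := by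
    have h1 : maximalIdeal B =
        (Ideal.span (Set.range fun i => (u i : A))).map (algebraMap A B) := by
      rw [← hmA]; exact hm.symm
    refine h1.trans ?_
    rw [Ideal.map_span, ← Set.range_comp]
    rfl
  have hspanB : Submodule.span B (Set.range w) = ⊤ := by
    apply Submodule.map_injective_of_injective (maximalIdeal B).injective_subtype
    rw [Submodule.map_span, Submodule.map_top, Submodule.range_subtype, ← Set.range_comp]
    exact hmB.symm
  have hvspan : Submodule.span (ResidueField B) (Set.range v) = ⊤ := by
    have := CotangentSpace.span_image_eq_top_iff.mpr hspanB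
    rwa [← Set.range_comp] at this
  -- linear independence
  have hLI : LinearIndependent (ResidueField B) v := by
    rw [Fintype.linearIndependent_iff]
    intro g hg
    choose t ht using fun i => residue_surjective (g i)
    have h0 : (maximalIdeal B).toCotangent (∑ i, t i • w i) = 0 := by
      rw [toCotangent_sum]
      simp only [ht]
      exact hg
    have h0' : ((∑ i, t i • w i : maximalIdeal B) : B) ∈
        (maximalIdeal A ^ 2).map (algebraMap A B) := by
      rw [Ideal.map_pow, hm]; exact (Ideal.toCotangent_eq_zero _ _).mp h0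
    have h1 : ∑ i, (u i : A) • t i ∈ (maximalIdeal A ^ 2).map (algebraMap A B) := by
      convert h0' using 1
      rw [Submodule.coe_sum]
      refine Finset.sum_congr rfl fun i _ => ?_
      rw [Algebra.smul_def, mul_comm]
      rfl
    obtain ⟨n, a, y, hy1, hy2⟩ := exists_of_sum_smul_mem (fun i => (u i : A)) _ t h1
    have ha : ∀ i j, a i j ∈ maximalIdeal A := by
      intro i j
      have h2 : (maximalIdeal A).toCotangent (∑ i, a i j • u i) = 0 := by
        rw [Ideal.toCotangent_eq_zero, Submodule.coe_sum]
        convert hy2 j using 1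
        refine Finset.sum_congr rfl fun i _ => ?_
        change a i j * (u i : A) = _
        exact mul_comm _ _
      rw [toCotangent_sum] at h2
      simp only [hu] at h2
      have h3 := Fintype.linearIndependent_iff.mp b.linearIndependent _ h2 i
      exact (residue_eq_zero_iff _).mp h3
    intro i
    rw [← ht i, residue_eq_zero_iff, hy1 i]
    refine Ideal.sum_mem _ fun j _ => ?_
    rw [Algebra.smul_def]
    exact Ideal.mul_mem_right _ _ (algebraMap_mem_maximalIdeal (ha i j))
  apply le_antisymm
  · have h1 := finrank_range_le_card (R := ResidueField B) v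
    rw [Set.finrank, hvspan, finrank_top, Fintype.card_fin] at h1
    exact h1
  · have := hLI.fintype_card_le_finrank
    rwa [Fintype.card_fin] at this

end FL




section Polar

variable {R : Type*} [CommRing R]

/-- discriminant of a binary quadratic form given by its coefficient vector -/
def disc3 (T : Fin 3 → R) : R := 4 * T 0 * T 2 - T 1 ^ 2

/-- polar form of the discriminant -/
def polar3 (T T' : Fin 3 → R) : R := 4 * (T 0 * T' 2 + T' 0 * T 2) - 2 * T 1 * T' 1

lemma disc3_add (T T' : Fin 3 → R) : disc3 (T + T') = disc3 T + disc3 T' + polar3 T T' := by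
  simp only [disc3, polar3, Pi.add_apply]; ring

lemma disc3_smul (c : R) (T : Fin 3 → R) : disc3 (c • T) = c ^ 2 * disc3 T := by
  simp only [disc3, Pi.smul_apply, smul_eq_mul]; ring

lemma polar3_add_left (T T' T'' : Fin 3 → R) :
    polar3 (T + T') T'' = polar3 T T'' + polar3 T' T'' := by
  simp only [polar3, Pi.add_apply]; ring

lemma polar3_smul_left (c : R) (T T' : Fin 3 → R) : polar3 (c • T) T' = c * polar3 T T' := by
  simp only [polar3, Pi.smul_apply, smul_eq_mul]; ring

lemma polar3_comm (T T' : Fin 3 → R) : polar3 T T' = polar3 T' T := by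
  simp only [polar3]; ring

lemma polar3_zero_left (T : Fin 3 → R) : polar3 0 T = 0 := by
  simp [polar3]

lemma disc3_zero : disc3 (0 : Fin 3 → R) = 0 := by simp [disc3]

/-- If the discriminant and its polar form take values in an ideal on a set of vectors, so does the
discriminant on their span. -/
theorem disc3_mem_of_mem_span (I : Ideal R) (G : Set (Fin 3 → R))
    (h1 : ∀ g ∈ G, disc3 g ∈ I) (h2 : ∀ g ∈ G, ∀ g' ∈ G, polar3 g g' ∈ I)
    {T : Fin 3 → R} (hT : T ∈ Submodule.span R G) : disc3 T ∈ I := by
  have c2 : ∀ T ∈ Submodule.span R G, ∀ g ∈ G, polar3 T g ∈ I := by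
    intro T hT g hg
    induction hT using Submodule.span_induction with
    | mem x hx => exact h2 x hx g hg
    | zero => rw [polar3_zero_left]; exact I.zero_mem
    | add x y _ _ hx hy => rw [polar3_add_left]; exact I.add_mem hx hy
    | smul c x _ hx => rw [polar3_smul_left]; exact I.mul_mem_left _ hx
  have c3 : ∀ T ∈ Submodule.span R G, ∀ T' ∈ Submodule.span R G, polar3 T T' ∈ I := by
    intro T hT T' hT'
    induction hT' using Submodule.span_induction with
    | mem x hx => exact c2 T hT x hx
    | zero => rw [polar3_comm, polar3_zero_left]; exact I.zero_mem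
    | add x y _ _ hx hy =>
      rw [polar3_comm, polar3_add_left, polar3_comm x, polar3_comm y]; exact I.add_mem hx hy
    | smul c x _ hx =>
      rw [polar3_comm, polar3_smul_left, polar3_comm]; exact I.mul_mem_left _ hx
  induction hT using Submodule.span_induction with
  | mem x hx => exact h1 x hx
  | zero => rw [disc3_zero]; exact I.zero_mem
  | add x y hx hy hx' hy' =>
    rw [disc3_add]; exact I.add_mem (I.add_mem hx' hy') (c3 x hx y hy)
  | smul c x _ hx => rw [disc3_smul]; exact I.mul_mem_left _ hx

end Polar




section Pair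

variable {A : Type u} [CommRing A] [IsLocalRing A] [IsNoetherianRing A]

/-- a local ring of embedding dimension two has maximal ideal generated by two elements -/
theorem exists_pair_span (hfin : Module.finrank (ResidueField A) (CotangentSpace A) = 2) :
    ∃ x y : A, x ∈ maximalIdeal A ∧ y ∈ maximalIdeal A ∧
      Ideal.span {x, y} = maximalIdeal A := by
  classical
  let b : Module.Basis (Fin 2) (ResidueField A) (CotangentSpace A) :=
    (Module.finBasis (ResidueField A) (CotangentSpace A)).reindex (finCongr hfin)
  choose u hu using fun i => (maximalIdeal A).toCotangent_surjective (b i)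
  have hspanA : Submodule.span A (Set.range u) = ⊤ := by
    rw [← CotangentSpace.span_image_eq_top_iff, ← Set.range_comp]
    have : (maximalIdeal A).toCotangent ∘ u = b := funext hu
    rw [this]
    exact b.span_eq
  have hmA : maximalIdeal A = Ideal.span (Set.range fun i => (u i : A)) := by
    have := congrArg (Submodule.map (maximalIdeal A).subtype) hspanA
    rw [Submodule.map_span, Submodule.map_top, Submodule.range_subtype, ← Set.range_comp] at this
    exact this.symm
  refine ⟨u 0, u 1, (u 0).2, (u 1).2, ?_⟩
  refine Eq.trans ?_ hmA.symm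
  congr 1
  ext z
  simp only [Set.mem_insert_iff, Set.mem_singleton_iff, Set.mem_range, Fin.exists_fin_two]
  constructor
  · rintro (h | h)
    · exact Or.inl h.symm
    · exact Or.inr h.symm
  · rintro (h | h)
    · exact Or.inl h.symm
    · exact Or.inr h.symm

end Pair

section FL2

variable {A : Type u} {B : Type v} [CommRing A] [CommRing B] [IsLocalRing A] [IsLocalRing B]
  [Algebra A B] [IsLocalHom (algebraMap A B)]

omit [IsLocalHom (algebraMap A B)] in
lemma map_span_sup (hm : (maximalIdeal A).map (algebraMap A B) = maximalIdeal B) {x y : A}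
    (hspan : Ideal.span {x, y} ⊔ maximalIdeal A ^ 2 = maximalIdeal A) :
    Ideal.span {algebraMap A B x, algebraMap A B y} ⊔ maximalIdeal B ^ 2 = maximalIdeal B := by
  have h1 := congrArg (Ideal.map (algebraMap A B)) hspan
  rw [Ideal.map_sup, Ideal.map_span, Set.image_pair, Ideal.map_pow, hm] at h1
  exact h1

/-- ascent of the quadratic relation -/
theorem hasQuad_ascend (hm : (maximalIdeal A).map (algebraMap A B) = maximalIdeal B)
    (h : HasQuad A) : HasQuad B := by
  obtain ⟨x, y, a, b, c, hx, hy, hspan, hdisc, hq⟩ := h
  refine ⟨algebraMap A B x, algebraMap A B y, algebraMap A B a, algebraMap A B b,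
    algebraMap A B c, algebraMap_mem_maximalIdeal hx, algebraMap_mem_maximalIdeal hy,
    map_span_sup hm hspan, ?_, ?_⟩
  · have e : 4 * algebraMap A B a * algebraMap A B c - algebraMap A B b ^ 2 =
        algebraMap A B (4 * a * c - b ^ 2) := by
      rw [map_sub, map_mul, map_mul, map_pow, map_ofNat]
    rw [e, Ne, residue_eq_zero_iff]
    intro h
    exact hdisc ((residue_eq_zero_iff _).mpr (mem_maximalIdeal_of_algebraMap_mem h))
  · have e : algebraMap A B a * algebraMap A B x ^ 2 +
        algebraMap A B b * algebraMap A B x * algebraMap A B y +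
        algebraMap A B c * algebraMap A B y ^ 2 =
        algebraMap A B (a * x ^ 2 + b * x * y + c * y ^ 2) := by
      simp only [map_add, map_mul, map_pow]
    rw [e, ← hm, ← Ideal.map_pow]
    exact Ideal.mem_map_of_mem _ hq

variable [IsNoetherianRing A] [IsNoetherianRing B] [Module.Flat A B]

/-- descent of the quadratic relation along a flat local homomorphism with `𝔪_A B = 𝔪_B` -/
theorem hasQuad_descend (hm : (maximalIdeal A).map (algebraMap A B) = maximalIdeal B)
    (hfinB : Module.finrank (ResidueField B) (CotangentSpace B) = 2) (h : HasQuad B) :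
    HasQuad A := by
  classical
  have hfinA : Module.finrank (ResidueField A) (CotangentSpace A) = 2 := by
    rw [← finrank_cotangentSpace_eq_of_flat hm, hfinB]
  obtain ⟨x, y, hx, hy, hxy⟩ := exists_pair_span hfinA
  have hspan : Ideal.span {x, y} ⊔ maximalIdeal A ^ 2 = maximalIdeal A := by
    rw [hxy]; exact sup_eq_left.mpr sq_le
  obtain ⟨a'', b'', c'', hdisc, hq⟩ := hasQuad_basis_change hfinB h
    (algebraMap_mem_maximalIdeal hx) (algebraMap_mem_maximalIdeal hy) (map_span_sup hm hspan)
  by_contra hcon
  -- all relations over `A` are degenerate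
  have hdeg : ∀ a b c : A, a * x ^ 2 + b * x * y + c * y ^ 2 ∈ maximalIdeal A ^ 3 →
      4 * a * c - b ^ 2 ∈ maximalIdeal A := by
    intro a b c hrel
    by_contra hnot
    exact hcon ⟨x, y, a, b, c, hx, hy, hspan, by rwa [Ne, residue_eq_zero_iff], hrel⟩
  let f : Fin 3 → A := ![x ^ 2, x * y, y ^ 2]
  let t : Fin 3 → B := ![a'', b'', c'']
  have hrel : ∑ i, f i • t i ∈ (maximalIdeal A ^ 3).map (algebraMap A B) := by
    rw [Ideal.map_pow, hm, Fin.sum_univ_three]
    simp only [f, t, Matrix.cons_val_zero, Matrix.cons_val_one, Matrix.cons_val_two,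
      Matrix.tail_cons, Matrix.head_cons, Algebra.smul_def, map_pow, map_mul]
    convert hq using 1
    ring
  obtain ⟨n, α, Y, hY1, hY2⟩ := exists_of_sum_smul_mem f _ t hrel
  let G : Set (Fin 3 → B) := {g | ∃ a b c : A,
    a * x ^ 2 + b * x * y + c * y ^ 2 ∈ maximalIdeal A ^ 3 ∧
      g = ![algebraMap A B a, algebraMap A B b, algebraMap A B c]}
  have hG1 : ∀ g ∈ G, disc3 g ∈ maximalIdeal B := by
    rintro g ⟨a, b, c, hrel, rfl⟩
    have : disc3 ![algebraMap A B a, algebraMap A B b, algebraMap A B c] =
        algebraMap A B (4 * a * c - b ^ 2) := by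
      simp only [disc3, Matrix.cons_val_zero, Matrix.cons_val_one, Matrix.cons_val_two,
        Matrix.tail_cons, Matrix.head_cons, map_sub, map_mul, map_pow, map_ofNat]
    rw [this]
    exact algebraMap_mem_maximalIdeal (hdeg a b c hrel)
  have hG2 : ∀ g ∈ G, ∀ g' ∈ G, polar3 g g' ∈ maximalIdeal B := by
    rintro g ⟨a, b, c, hrel, rfl⟩ g' ⟨a', b', c', hrel', rfl⟩
    have : polar3 ![algebraMap A B a, algebraMap A B b, algebraMap A B c]
        ![algebraMap A B a', algebraMap A B b', algebraMap A B c'] =
        algebraMap A B ((4 * (a + a') * (c + c') - (b + b') ^ 2) - (4 * a * c - b ^ 2) -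
          (4 * a' * c' - b' ^ 2)) := by
      simp only [polar3, Matrix.cons_val_zero, Matrix.cons_val_one, Matrix.cons_val_two,
        Matrix.tail_cons, Matrix.head_cons, map_sub, map_mul, map_pow, map_ofNat, map_add]
      ring
    rw [this]
    refine algebraMap_mem_maximalIdeal (Ideal.sub_mem _ (Ideal.sub_mem _ (hdeg _ _ _ ?_)
      (hdeg a b c hrel)) (hdeg a' b' c' hrel'))
    have e : (a + a') * x ^ 2 + (b + b') * x * y + (c + c') * y ^ 2 =
        (a * x ^ 2 + b * x * y + c * y ^ 2) + (a' * x ^ 2 + b' * x * y + c' * y ^ 2) := by ring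
    rw [e]
    exact Ideal.add_mem _ hrel hrel'
  have ht : t ∈ Submodule.span B G := by
    have e : t = ∑ j, Y j • (fun i => algebraMap A B (α i j)) := by
      funext i
      rw [hY1 i, Finset.sum_apply]
      refine Finset.sum_congr rfl fun j _ => ?_
      rw [Pi.smul_apply, Algebra.smul_def, smul_eq_mul, mul_comm]
    rw [e]
    refine Submodule.sum_mem _ fun j _ => Submodule.smul_mem _ _ (Submodule.subset_span ?_)
    refine ⟨α 0 j, α 1 j, α 2 j, ?_, ?_⟩
    · have := hY2 j
      rw [Fin.sum_univ_three] at this
      simp only [f, Matrix.cons_val_zero, Matrix.cons_val_one, Matrix.cons_val_two,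
        Matrix.tail_cons, Matrix.head_cons] at this
      convert this using 1
      ring
    · funext i
      fin_cases i <;> rfl
  have hfinal := disc3_mem_of_mem_span (maximalIdeal B) G hG1 hG2 ht
  apply hdisc
  rw [residue_eq_zero_iff]
  exact hfinal

end FL2


end Groth.Agent.Lib.Helper20.NodeCrit
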