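import Mathlib
import Groth.Agent.Lib.Helper20.NodeCritFlat

/-!
# Node criterion: extension of the base field (helper20)

For a field extension `E / F`, an `F`-algebra `T` and an `E`-point `χ : E ⊗[F] T →ₐ[E] E`, we
compare the local ring of `T` at `𝔭 = ker (χ ∘ incl)` (`pp χ`) with the local ring of `E ⊗[F] T` at
`𝔓 = ker χ` (`PP χ`) via the flat local homomorphism `locHom χ`.

* `map_locHom_maximalIdeal_of_rational`, `map_locHom_maximalIdeal_of_isSeparable`: the maximal ideal
  extends if the residue field of `𝔭` is `F`, resp. finite separable over `F`.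
* `isSeparable_of_hasQuad`: if the local ring at `𝔓` is a "node", the residue field of `𝔭` is
  separable (derivation argument).
-/

set_option autoImplicit false
universe u

open TensorProduct IsLocalRing

namespace Groth.Agent.Lib.Helper20.NodeCrit


section BC

variable (F : Type u) [Field F] (T : Type u) [CommRing T] [Algebra F T] (E : Type u) [Field E]
  [Algebra F E]

/-- the inclusion `T → E ⊗[F] T` -/
noncomputable def inc : T →+* E ⊗[F] T :=
  (Algebra.TensorProduct.includeRight : T →ₐ[F] E ⊗[F] T).toRingHom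

lemma inc_apply (t : T) : inc F T E t = 1 ⊗ₜ t := rfl

lemma inc_flat : (inc F T E).Flat := by
  letI := Algebra.TensorProduct.rightAlgebra (R := F) (A := E) (B := T)
  change Module.Flat T (E ⊗[F] T)
  exact Module.Flat.of_linearEquiv (Algebra.TensorProduct.commRight F T E).symm.toLinearEquiv

variable {F T E}
variable (χ : E ⊗[F] T →ₐ[E] E)

/-- the point of `E ⊗[F] T` -/
noncomputable def PP : Ideal (E ⊗[F] T) := RingHom.ker χ.toRingHom

/-- the point of `T` -/
noncomputable def pp : Ideal T := (PP χ).comap (inc F T E)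

lemma chi_surjective : Function.Surjective χ := fun e =>
  ⟨algebraMap E _ e, by rw [AlgHom.commutes]; rfl⟩

instance PP_isMaximal : (PP χ).IsMaximal :=
  RingHom.ker_isMaximal_of_surjective χ.toRingHom (chi_surjective χ)

instance PP_isPrime : (PP χ).IsPrime := (PP_isMaximal χ).isPrime

instance pp_isPrime : (pp χ).IsPrime := Ideal.comap_isPrime _ _

lemma mem_PP (z : E ⊗[F] T) : z ∈ PP χ ↔ χ z = 0 := Iff.rfl

lemma mem_pp (t : T) : t ∈ pp χ ↔ χ (1 ⊗ₜ t) = 0 := Iff.rfl

/-- the local homomorphism `T_𝔭 → (E ⊗ T)_𝔓` -/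
noncomputable def locHom : Localization.AtPrime (pp χ) →+* Localization.AtPrime (PP χ) :=
  Localization.localRingHom (pp χ) (PP χ) (inc F T E) rfl

lemma locHom_flat : (locHom χ).Flat :=
  RingHom.Flat.localRingHom (inc_flat F T E) (PP χ) (pp χ) rfl

instance : IsLocalHom (locHom χ) := Localization.isLocalHom_localRingHom _ _ _ _

lemma locHom_algebraMap (t : T) : locHom χ (algebraMap T _ t) =
    algebraMap (E ⊗[F] T) (Localization.AtPrime (PP χ)) (inc F T E t) :=
  Localization.localRingHom_to_map _ _ _ _ _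

/-- criterion for `𝔪 (E ⊗ T)_𝔓 = 𝔪_{T_𝔭} (E ⊗ T)_𝔓` -/
theorem map_locHom_maximalIdeal
    (h : ∀ z ∈ PP χ, algebraMap (E ⊗[F] T) (Localization.AtPrime (PP χ)) z ∈
      ((pp χ).map (inc F T E)).map (algebraMap (E ⊗[F] T) (Localization.AtPrime (PP χ)))) :
    (maximalIdeal (Localization.AtPrime (pp χ))).map (locHom χ) =
      maximalIdeal (Localization.AtPrime (PP χ)) := by
  rw [← Localization.AtPrime.map_eq_maximalIdeal, ← Localization.AtPrime.map_eq_maximalIdeal,
    Ideal.map_map]
  have hcomp : (locHom χ).comp (algebraMap T (Localization.AtPrime (pp χ))) =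
      (algebraMap (E ⊗[F] T) (Localization.AtPrime (PP χ))).comp (inc F T E) :=
    RingHom.ext fun t => locHom_algebraMap χ t
  rw [hcomp, ← Ideal.map_map]
  apply le_antisymm
  · exact Ideal.map_mono Ideal.map_comap_le
  · rw [Ideal.map_le_iff_le_comap]
    intro z hz
    exact h z hz

/-- the rational case: if `χ` maps `T` into `F` then `𝔓` is generated by `𝔭` -/
theorem PP_eq_map_of_rational (hrat : ∀ t : T, ∃ c : F, χ (1 ⊗ₜ t) = algebraMap F E c) :
    PP χ = (pp χ).map (inc F T E) := by
  apply le_antisymm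
  · have key : ∀ z : E ⊗[F] T, z - algebraMap E _ (χ z) ∈ (pp χ).map (inc F T E) := by
      intro z
      induction z using TensorProduct.induction_on with
      | zero => simp
      | tmul e t =>
        obtain ⟨c, hc⟩ := hrat t
        have h1 : χ (e ⊗ₜ[F] t) = e * algebraMap F E c := by
          have : (e ⊗ₜ[F] t : E ⊗[F] T) = e • (1 ⊗ₜ[F] t) := by
            rw [TensorProduct.smul_tmul', smul_eq_mul, mul_one]
          rw [this, map_smul, hc, smul_eq_mul]
        have h2 : (e ⊗ₜ[F] t : E ⊗[F] T) - algebraMap E _ (χ (e ⊗ₜ[F] t)) =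
            (e ⊗ₜ[F] (1 : T)) * inc F T E (t - algebraMap F T c) := by
          rw [h1, inc_apply, Algebra.TensorProduct.tmul_mul_tmul, mul_one, one_mul,
            TensorProduct.tmul_sub, Algebra.TensorProduct.algebraMap_apply,
            Algebra.algebraMap_eq_smul_one (R := F) (A := T) c, TensorProduct.tmul_smul,
            TensorProduct.smul_tmul', Algebra.smul_def (R := F) (A := E), mul_comm,
            Algebra.algebraMap_self, RingHom.id_apply]
        rw [h2]
        refine Ideal.mul_mem_left _ _ (Ideal.mem_map_of_mem _ ?_)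
        rw [mem_pp, TensorProduct.tmul_sub, map_sub, hc, sub_eq_zero,
          Algebra.algebraMap_eq_smul_one (R := F) (A := T) c, TensorProduct.tmul_smul]
        have h3 : (c • (1 ⊗ₜ[F] 1 : E ⊗[F] T)) = algebraMap E (E ⊗[F] T) (algebraMap F E c) := by
          rw [Algebra.TensorProduct.algebraMap_apply, Algebra.algebraMap_self, RingHom.id_apply,
            Algebra.algebraMap_eq_smul_one (R := F) (A := E) c, TensorProduct.smul_tmul']
        rw [h3, AlgHom.commutes]
        rfl
      | add x y hx hy =>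
        have : x + y - algebraMap E _ (χ (x + y)) =
            (x - algebraMap E _ (χ x)) + (y - algebraMap E _ (χ y)) := by
          rw [map_add, map_add]; ring
        rw [this]
        exact Ideal.add_mem _ hx hy
    intro z hz
    have := key z
    rw [(mem_PP χ z).mp hz, map_zero, sub_zero] at this
    exact this
  · exact Ideal.map_comap_le

theorem map_locHom_maximalIdeal_of_rational
    (hrat : ∀ t : T, ∃ c : F, χ (1 ⊗ₜ t) = algebraMap F E c) :
    (maximalIdeal (Localization.AtPrime (pp χ))).map (locHom χ) =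
      maximalIdeal (Localization.AtPrime (PP χ)) := by
  apply map_locHom_maximalIdeal
  intro z hz
  rw [← PP_eq_map_of_rational χ hrat]
  exact Ideal.mem_map_of_mem _ hz

end BC



section Sep

variable {F : Type u} [Field F] {T : Type u} [CommRing T] [Algebra F T] {E : Type u} [Field E]
  [Algebra F E] (χ : E ⊗[F] T →ₐ[E] E)

/-- the `F`-point `T → E` -/
noncomputable def evT : T →ₐ[F] E :=
  (χ.restrictScalars F).comp (Algebra.TensorProduct.includeRight : T →ₐ[F] E ⊗[F] T)

lemma evT_apply (t : T) : evT χ t = χ (1 ⊗ₜ t) := rfl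

/-- the induced map on the residue field -/
noncomputable def evBar : T ⧸ pp χ →ₐ[F] E :=
  Ideal.Quotient.liftₐ (pp χ) (evT χ) (fun a ha => (mem_pp χ a).mp ha)

/-- the induced point of `E ⊗ (T ⧸ 𝔭)` -/
noncomputable def chiBar : E ⊗[F] (T ⧸ pp χ) →ₐ[E] E :=
  Algebra.TensorProduct.productLeftAlgHom (AlgHom.id E E) (evBar χ)

/-- the quotient map `E ⊗ T → E ⊗ (T ⧸ 𝔭)` -/
noncomputable def qMap : E ⊗[F] T →ₐ[E] E ⊗[F] (T ⧸ pp χ) :=
  Algebra.TensorProduct.map (AlgHom.id E E) (Ideal.Quotient.mkₐ F (pp χ))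

lemma chiBar_comp_qMap : (chiBar χ).comp (qMap χ) = χ := by
  apply Algebra.TensorProduct.ext
  · ext
  · ext t
    simp only [chiBar, qMap, evBar, AlgHom.coe_comp, AlgHom.coe_restrictScalars',
      Function.comp_apply, Algebra.TensorProduct.includeRight_apply,
      Algebra.TensorProduct.map_tmul, map_one, Ideal.Quotient.mkₐ_eq_mk,
      Algebra.TensorProduct.lift_tmul, one_mul]
    rfl

lemma qMap_surjective : Function.Surjective (qMap χ) :=
  Algebra.TensorProduct.map_surjective (AlgHom.id E E) (Ideal.Quotient.mkₐ F (pp χ))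
    (fun x => ⟨x, rfl⟩) (Ideal.Quotient.mkₐ_surjective F (pp χ))

lemma ker_qMap : RingHom.ker (qMap χ).toRingHom = (pp χ).map (inc F T E) := by
  have h := Algebra.TensorProduct.lTensor_ker (A := E) (Ideal.Quotient.mkₐ F (pp χ))
    (Ideal.Quotient.mkₐ_surjective F (pp χ))
  have h2 : RingHom.ker (Ideal.Quotient.mkₐ F (pp χ)) = pp χ := Ideal.Quotient.mkₐ_ker F (pp χ)
  rw [h2] at h
  exact h

variable [hmax : (pp χ).IsMaximal] [Module.Finite F (T ⧸ pp χ)]
  [Algebra.IsSeparable F (T ⧸ pp χ)]

/-- the separable case: `𝔓 (E ⊗ T)_𝔓` is generated by `𝔭` -/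
theorem map_locHom_maximalIdeal_of_isSeparable :
    (maximalIdeal (Localization.AtPrime (pp χ))).map (locHom χ) =
      maximalIdeal (Localization.AtPrime (PP χ)) := by
  letI : Field (T ⧸ pp χ) := Ideal.Quotient.field (pp χ)
  haveI : Algebra.FormallyUnramified F (T ⧸ pp χ) :=
    Algebra.FormallyUnramified.of_isSeparable F (T ⧸ pp χ)
  haveI : IsReduced (E ⊗[F] (T ⧸ pp χ)) :=
    Algebra.FormallyUnramified.isReduced_of_field E (E ⊗[F] (T ⧸ pp χ))
  haveI : IsArtinianRing (E ⊗[F] (T ⧸ pp χ)) :=
    IsArtinianRing.of_finite E (E ⊗[F] (T ⧸ pp χ))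
  haveI : (PP (chiBar χ)).IsPrime := PP_isPrime (chiBar χ)
  have hfield : IsField (Localization.AtPrime (PP (chiBar χ))) :=
    IsArtinianRing.isField_of_isReduced_of_isLocalRing _
  have hbot : maximalIdeal (Localization.AtPrime (PP (chiBar χ))) = ⊥ :=
    isField_iff_maximalIdeal_eq.mp hfield
  apply map_locHom_maximalIdeal
  intro z hz
  have hqz : qMap χ z ∈ PP (chiBar χ) := by
    rw [mem_PP, ← AlgHom.comp_apply, chiBar_comp_qMap]
    exact hz
  have h0 : algebraMap _ (Localization.AtPrime (PP (chiBar χ))) (qMap χ z) = 0 := by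
    have : algebraMap _ (Localization.AtPrime (PP (chiBar χ))) (qMap χ z) ∈
        maximalIdeal (Localization.AtPrime (PP (chiBar χ))) := by
      rw [← Localization.AtPrime.map_eq_maximalIdeal]
      exact Ideal.mem_map_of_mem _ hqz
    rwa [hbot, Ideal.mem_bot] at this
  rw [IsLocalization.map_eq_zero_iff (PP (chiBar χ)).primeCompl] at h0
  obtain ⟨⟨sbar, hsbar⟩, hs0⟩ := h0
  obtain ⟨s, rfl⟩ := qMap_surjective χ sbar
  have hs : s ∈ (PP χ).primeCompl := by
    intro hs
    apply hsbar
    rw [SetLike.mem_coe, mem_PP, ← AlgHom.comp_apply, chiBar_comp_qMap]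
    exact hs
  have hsz : s * z ∈ (pp χ).map (inc F T E) := by
    rw [← ker_qMap, RingHom.mem_ker]
    change qMap χ (s * z) = 0
    rw [map_mul]
    exact hs0
  have hunit : IsUnit (algebraMap (E ⊗[F] T) (Localization.AtPrime (PP χ)) s) :=
    IsLocalization.map_units _ ⟨s, hs⟩
  rw [← Ideal.unit_mul_mem_iff_mem _ hunit, ← map_mul]
  exact Ideal.mem_map_of_mem _ hsz

end Sep



section TensorDer

variable {k : Type u} [Field k] {L : Type u} [Field L] [Algebra k L] {R : Type u} [CommRing R]
  [Algebra k R]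

/-- the derivation `δ ⊗ id` of `L ⊗[k] R` -/
noncomputable def tensorDerivation (δ : Derivation k L L) :
    Derivation k (L ⊗[k] R) (L ⊗[k] R) :=
  Derivation.mk' (TensorProduct.map δ.toLinearMap LinearMap.id) (by
    intro a b
    induction a using TensorProduct.induction_on with
    | zero => simp
    | tmul l r =>
      induction b using TensorProduct.induction_on with
      | zero => simp
      | tmul l' r' =>
        simp only [Algebra.TensorProduct.tmul_mul_tmul, TensorProduct.map_tmul,
          Derivation.coeFn_coe, LinearMap.id_coe, id_eq, Derivation.leibniz, smul_eq_mul,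
          TensorProduct.add_tmul]
        rw [mul_comm r' r]
      | add x y hx hy =>
        simp only [mul_add, map_add, hx, hy, smul_eq_mul, add_mul]
        ring
    | add x y hx hy =>
      simp only [add_mul, mul_add, map_add, hx, hy, smul_eq_mul]
      ring)

@[simp]
lemma tensorDerivation_tmul (δ : Derivation k L L) (l : L) (r : R) :
    tensorDerivation (R := R) δ (l ⊗ₜ r) = δ l ⊗ₜ r := rfl

/-- a finite inseparable field extension has a derivation taking the value `1` -/
theorem exists_derivation_of_not_isSeparable [Module.Finite k L]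
    (h : ¬ Algebra.IsSeparable k L) : ∃ (δ : Derivation k L L) (θ : L), δ θ = 1 := by
  have h1 : ¬ Algebra.FormallyUnramified k L := fun hu =>
    h ((Algebra.FormallyUnramified.iff_isSeparable k L).mp hu)
  have h1' : Nontrivial Ω[L⁄k] := by
    rw [← not_subsingleton_iff_nontrivial]
    exact fun hs => h1 ⟨hs⟩
  obtain ⟨ω, hω⟩ := exists_ne (0 : Ω[L⁄k])
  have h2 : ¬ ∀ φ : Module.Dual L Ω[L⁄k], φ ω = 0 := fun hall =>
    hω ((Module.forall_dual_apply_eq_zero_iff L ω).mp hall)
  push Not at h2
  obtain ⟨φ, hφ⟩ := h2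
  let δ : Derivation k L L := φ.compDer (KaehlerDifferential.D k L)
  have hδ : ∃ θ, δ θ ≠ 0 := by
    by_contra hcon
    push Not at hcon
    apply hφ
    have hspan := KaehlerDifferential.span_range_derivation k L
    have hall : ∀ x ∈ Submodule.span L (Set.range (KaehlerDifferential.D k L)), φ x = 0 := by
      intro x hx
      induction hx using Submodule.span_induction with
      | mem x hx =>
        obtain ⟨θ, rfl⟩ := hx
        exact hcon θ
      | zero => exact map_zero φ
      | add x y _ _ hx hy => rw [map_add, hx, hy, add_zero]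
      | smul c x _ hx => rw [map_smul, hx, smul_zero]
    exact hall ω (by rw [hspan]; trivial)
  obtain ⟨θ, hθ⟩ := hδ
  refine ⟨(δ θ)⁻¹ • δ, θ, ?_⟩
  rw [Derivation.smul_apply, smul_eq_mul, inv_mul_cancel₀ hθ]

end TensorDer

section LocRing

variable {S S' : Type u} [CommRing S] [CommRing S'] (f : S →+* S') (P : Ideal S) (P' : Ideal S')
  [P.IsPrime] [P'.IsPrime] (hP : P = P'.comap f)

/-- if `P'` is generated by the image of `P`, the maximal ideal extends along the local
homomorphism of localizations -/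
theorem map_localRingHom_maximalIdeal (h : P' ≤ P.map f) :
    (maximalIdeal (Localization.AtPrime P)).map (Localization.localRingHom P P' f hP) =
      maximalIdeal (Localization.AtPrime P') := by
  rw [← Localization.AtPrime.map_eq_maximalIdeal, ← Localization.AtPrime.map_eq_maximalIdeal,
    Ideal.map_map]
  have hcomp : (Localization.localRingHom P P' f hP).comp
      (algebraMap S (Localization.AtPrime P)) =
      (algebraMap S' (Localization.AtPrime P')).comp f :=
    RingHom.ext fun t => Localization.localRingHom_to_map P P' f hP t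
  rw [hcomp, ← Ideal.map_map]
  apply le_antisymm
  · apply Ideal.map_mono
    rw [hP]
    exact Ideal.map_comap_le
  · exact Ideal.map_mono h

end LocRing



section Wrappers

variable {A B : Type u} [CommRing A] [CommRing B] [IsLocalRing A] [IsLocalRing B]
  (φ : A →+* B) [IsLocalHom φ]

theorem hasQuad_ascend' (hm : (maximalIdeal A).map φ = maximalIdeal B) (h : HasQuad A) :
    HasQuad B := by
  letI := φ.toAlgebra
  haveI : IsLocalHom (algebraMap A B) := ‹IsLocalHom φ›
  exact hasQuad_ascend hm h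

variable [IsNoetherianRing A] [IsNoetherianRing B]

theorem finrank_cotangentSpace_eq_of_flat' (hflat : φ.Flat)
    (hm : (maximalIdeal A).map φ = maximalIdeal B) :
    Module.finrank (ResidueField B) (CotangentSpace B) =
      Module.finrank (ResidueField A) (CotangentSpace A) := by
  letI := φ.toAlgebra
  haveI : IsLocalHom (algebraMap A B) := ‹IsLocalHom φ›
  haveI : Module.Flat A B := hflat
  exact finrank_cotangentSpace_eq_of_flat hm

theorem hasQuad_descend' (hflat : φ.Flat) (hm : (maximalIdeal A).map φ = maximalIdeal B)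
    (hfinB : Module.finrank (ResidueField B) (CotangentSpace B) = 2) (h : HasQuad B) :
    HasQuad A := by
  letI := φ.toAlgebra
  haveI : IsLocalHom (algebraMap A B) := ‹IsLocalHom φ›
  haveI : Module.Flat A B := hflat
  exact hasQuad_descend hm hfinB h

omit [IsNoetherianRing A] [IsNoetherianRing B] in
theorem isReduced_of_flat_local (hflat : φ.Flat) [IsReduced B] : IsReduced A := by
  letI := φ.toAlgebra
  haveI : IsLocalHom (algebraMap A B) := ‹IsLocalHom φ›
  haveI : Module.Flat A B := hflat
  haveI : Module.FaithfullyFlat A B := Module.FaithfullyFlat.of_flat_of_isLocalHom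
  have hinj : Function.Injective (algebraMap A B) := FaithfulSMul.algebraMap_injective A B
  exact isReduced_of_injective (algebraMap A B) hinj

end Wrappers



section TwoStep

variable {k : Type u} [Field k] {R : Type u} [CommRing R] [Algebra k R]
  {K : Type u} [Field K] [Algebra k K] (χ : K ⊗[k] R →ₐ[K] K)

/-- factorisation of the base change `k → K` through the residue field `L = R ⧸ 𝔭` -/
theorem exists_twoStep (L : Type u) [Field L] [Algebra k L] [Algebra L K] [IsScalarTower k L K]
    (mk : R →ₐ[k] L) (hmk : ∀ r : R, algebraMap L K (mk r) = χ (1 ⊗ₜ r)) :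
    ∃ (χ₁ : K ⊗[L] (L ⊗[k] R) →ₐ[K] K) (f : K ⊗[k] R →+* K ⊗[L] (L ⊗[k] R)),
      (∀ (l : L) (r : R), χ₁ (1 ⊗ₜ (l ⊗ₜ r)) = algebraMap L K (l * mk r)) ∧
      Function.Bijective f ∧ ∀ z, χ₁ (f z) = χ z := by
  let cb := Algebra.TensorProduct.cancelBaseChange k L K K R
  refine ⟨χ.comp cb.toAlgHom, cb.symm.toAlgHom.toRingHom, ?_, cb.symm.bijective, ?_⟩
  · intro l r
    change χ (cb (1 ⊗ₜ (l ⊗ₜ r))) = _
    rw [Algebra.TensorProduct.cancelBaseChange_tmul, map_mul, hmk]
    have : ((l • (1 : K)) ⊗ₜ[k] r : K ⊗[k] R) = (l • (1 : K)) • (1 ⊗ₜ[k] r) := by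
      rw [TensorProduct.smul_tmul', smul_eq_mul, mul_one]
    rw [this, map_smul, smul_eq_mul, Algebra.smul_def, mul_one]
  · intro z
    change χ (cb (cb.symm z)) = χ z
    rw [cb.apply_symm_apply]

variable [Algebra.FiniteType k R]

instance : IsNoetherianRing (K ⊗[k] R) :=
  Algebra.FiniteType.isNoetherianRing K (K ⊗[k] R)

/-- If the local ring of `K ⊗ R` at a `K`-point is a "node" (embedding dimension two with a
nondegenerate quadratic relation), then the residue field of the image point of `R` (assumed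
closed) is separable over `k`. -/
theorem isSeparable_of_hasQuad [hmax : (pp χ).IsMaximal]
    (hfin : Module.finrank (ResidueField (Localization.AtPrime (PP χ)))
      (CotangentSpace (Localization.AtPrime (PP χ))) = 2)
    (hq : HasQuad (Localization.AtPrime (PP χ))) : Algebra.IsSeparable k (R ⧸ pp χ) := by
  classical
  by_contra hsep
  letI : Field (R ⧸ pp χ) := Ideal.Quotient.field (pp χ)
  haveI : Module.Finite k (R ⧸ pp χ) := finite_of_finite_type_of_isJacobsonRing k (R ⧸ pp χ)
  obtain ⟨δ, θ, hδθ⟩ := exists_derivation_of_not_isSeparable hsep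
  letI : Algebra (R ⧸ pp χ) K := (evBar χ).toRingHom.toAlgebra
  haveI : IsScalarTower k (R ⧸ pp χ) K :=
    IsScalarTower.of_algebraMap_eq (fun c => ((evBar χ).commutes c).symm)
  obtain ⟨χ₁, f, hχ₁, hfbij, hχf⟩ := exists_twoStep χ (R ⧸ pp χ) (Ideal.Quotient.mkₐ k (pp χ))
    (fun r => rfl)
  have hrat : ∀ t : (R ⧸ pp χ) ⊗[k] R, ∃ c : R ⧸ pp χ,
      χ₁ (1 ⊗ₜ t) = algebraMap (R ⧸ pp χ) K c := by
    intro t
    induction t using TensorProduct.induction_on with
    | zero => exact ⟨0, by rw [TensorProduct.tmul_zero, map_zero, map_zero]⟩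
    | tmul l r => exact ⟨_, hχ₁ l r⟩
    | add x y hx hy =>
      obtain ⟨c, hc⟩ := hx
      obtain ⟨d, hd⟩ := hy
      exact ⟨c + d, by rw [TensorProduct.tmul_add, map_add, hc, hd, map_add]⟩
  -- Noetherian instances
  haveI : Algebra.FiniteType (R ⧸ pp χ) ((R ⧸ pp χ) ⊗[k] R) := inferInstance
  haveI : IsNoetherianRing ((R ⧸ pp χ) ⊗[k] R) :=
    Algebra.FiniteType.isNoetherianRing (R ⧸ pp χ) ((R ⧸ pp χ) ⊗[k] R)
  haveI : IsNoetherianRing (K ⊗[R ⧸ pp χ] ((R ⧸ pp χ) ⊗[k] R)) :=
    Algebra.FiniteType.isNoetherianRing K (K ⊗[R ⧸ pp χ] ((R ⧸ pp χ) ⊗[k] R))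
  -- the local ring of `K ⊗ R` and of `K ⊗_L (L ⊗ R)`
  have hP : PP χ = (PP χ₁).comap f := by
    ext z
    rw [Ideal.mem_comap, mem_PP, mem_PP, hχf]
  have hflat1 : (Localization.localRingHom (PP χ) (PP χ₁) f hP).Flat :=
    RingHom.Flat.localRingHom (RingHom.Flat.of_bijective hfbij) _ _ hP
  have hle : PP χ₁ ≤ (PP χ).map f := by
    intro z hz
    obtain ⟨w, rfl⟩ := hfbij.2 z
    refine Ideal.mem_map_of_mem f ?_
    rw [mem_PP, ← hχf]
    exact hz
  have hm1 := map_localRingHom_maximalIdeal f (PP χ) (PP χ₁) hP hle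
  have hq1 : HasQuad (Localization.AtPrime (PP χ₁)) := hasQuad_ascend' _ hm1 hq
  have hfin1 : Module.finrank (ResidueField (Localization.AtPrime (PP χ₁)))
      (CotangentSpace (Localization.AtPrime (PP χ₁))) = 2 := by
    rw [finrank_cotangentSpace_eq_of_flat' _ hflat1 hm1, hfin]
  -- descend to `L ⊗ R`
  have hm2 := map_locHom_maximalIdeal_of_rational χ₁ hrat
  have hq2 : HasQuad (Localization.AtPrime (pp χ₁)) :=
    hasQuad_descend' _ (locHom_flat χ₁) hm2 hfin1 hq1
  have hfin2 : Module.finrank (ResidueField (Localization.AtPrime (pp χ₁)))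
      (CotangentSpace (Localization.AtPrime (pp χ₁))) = 2 := by
    rw [← finrank_cotangentSpace_eq_of_flat' _ (locHom_flat χ₁) hm2, hfin1]
  -- the derivation
  obtain ⟨D, hDdef⟩ : ∃ D : Derivation ℤ ((R ⧸ pp χ) ⊗[k] R) ((R ⧸ pp χ) ⊗[k] R),
      ∀ w, D w = tensorDerivation (R := R) δ w :=
    ⟨(tensorDerivation (R := R) δ).restrictScalars ℤ, fun _ => rfl⟩
  obtain ⟨D', hD'⟩ := exists_derivation_localization (pp χ₁).primeCompl
    (Localization.AtPrime (pp χ₁)) D
  obtain ⟨r₀, hr₀⟩ := Ideal.Quotient.mk_surjective θ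
  obtain ⟨z, hzdef⟩ : ∃ z : (R ⧸ pp χ) ⊗[k] R, z = θ ⊗ₜ 1 - 1 ⊗ₜ r₀ := ⟨_, rfl⟩
  have hz : z ∈ pp χ₁ := by
    rw [hzdef, mem_pp, TensorProduct.tmul_sub, map_sub, hχ₁, hχ₁, map_one, mul_one, one_mul]
    change algebraMap (R ⧸ pp χ) K θ - algebraMap (R ⧸ pp χ) K (Ideal.Quotient.mk _ r₀) = 0
    rw [hr₀, sub_self]
  have hDz : D z = 1 := by
    rw [hzdef, hDdef, map_sub, tensorDerivation_tmul, tensorDerivation_tmul, hδθ, Derivation.map_one_eq_zero,
      TensorProduct.zero_tmul, sub_zero]
    rfl
  have hzm : algebraMap _ (Localization.AtPrime (pp χ₁)) z ∈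
      maximalIdeal (Localization.AtPrime (pp χ₁)) := by
    rw [← Localization.AtPrime.map_eq_maximalIdeal]
    exact Ideal.mem_map_of_mem _ hz
  have h0 := derivation_mem hfin2 hq2 D' hzm
  have e : D' (algebraMap _ (Localization.AtPrime (pp χ₁)) z) = 1 := by
    rw [hD']
    exact (congrArg (algebraMap _ (Localization.AtPrime (pp χ₁))) hDz).trans (map_one _)
  have h1 : (1 : Localization.AtPrime (pp χ₁)) ∈ maximalIdeal (Localization.AtPrime (pp χ₁)) := by
    rwa [e] at h0
  exact (Ideal.ne_top_iff_one _).mp (maximalIdeal.isMaximal _).ne_top h1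

end TwoStep


end Groth.Agent.Lib.Helper20.NodeCrit
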