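import Mathlib
import Groth.Prelude
import Groth.Agent.Lib.Helper63.NodeAlgGlue
import Groth.Agent.Lib.Helper20.NodeCritBasic

/-!
# Node criterion and ordinary double points (helper20)

* `linEquiv`: invertible linear substitutions of `K[[X₀,X₁]]`; `exists_factor`: factorisation of a
  nondegenerate binary quadratic form over an algebraically closed field.
* `forward'`: helper63's structure theorem with reducedness replaced by a regular element.
* `nodeCrit_of_isOrdDoublePt`, `isOrdDoublePt_of_nodeCrit`: for a Noetherian local `K`-algebra with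
  residue field `K` algebraically closed, being an ordinary double point (`Curv2.IsOrdDoublePt`) is
  equivalent to the node criterion.
-/

set_option autoImplicit false
set_option linter.style.haveILetI false
universe u

namespace Groth.Agent.Lib.Helper20.NodeCrit


open MvPowerSeries

section LinSubst

variable {K : Type u} [Field K]

/-- linear substitution vector -/
noncomputable def linVec (α β γ δ : K) : Fin 2 → MvPowerSeries (Fin 2) K :=
  ![C α * X 0 + C β * X 1, C γ * X 0 + C δ * X 1]

lemma hasSubst_linVec (α β γ δ : K) : HasSubst (linVec α β γ δ) := by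
  apply hasSubst_of_constantCoeff_zero
  intro i
  fin_cases i <;> simp [linVec]

/-- the linear substitution as an algebra endomorphism -/
noncomputable def linHom (α β γ δ : K) :
    MvPowerSeries (Fin 2) K →ₐ[K] MvPowerSeries (Fin 2) K :=
  substAlgHom (hasSubst_linVec α β γ δ)

lemma linHom_X0 (α β γ δ : K) : linHom α β γ δ (X 0) = C α * X 0 + C β * X 1 := by
  rw [linHom, substAlgHom_X]; rfl

lemma linHom_X1 (α β γ δ : K) : linHom α β γ δ (X 1) = C γ * X 0 + C δ * X 1 := by
  rw [linHom, substAlgHom_X]; rfl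

lemma linHom_C (α β γ δ t : K) : linHom α β γ δ (C t) = C t := by
  have : (C t : MvPowerSeries (Fin 2) K) = algebraMap K _ t := rfl
  rw [this, AlgHom.commutes]

lemma linHom_comp (α β γ δ α' β' γ' δ' : K)
    (h1 : α' * α + β' * γ = 1) (h2 : α' * β + β' * δ = 0)
    (h3 : γ' * α + δ' * γ = 0) (h4 : γ' * β + δ' * δ = 1) :
    (linHom α β γ δ).comp (linHom α' β' γ' δ') = AlgHom.id K _ := by
  ext1 P
  rw [AlgHom.comp_apply, linHom, linHom, coe_substAlgHom, coe_substAlgHom,
    subst_comp_subst_apply (hasSubst_linVec α' β' γ' δ') (hasSubst_linVec α β γ δ),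
    AlgHom.id_apply]
  have : (fun s => subst (linVec α β γ δ) (linVec α' β' γ' δ' s)) =
      (X : Fin 2 → MvPowerSeries (Fin 2) K) := by
    funext s
    have e0 : subst (linVec α β γ δ) (X 0 : MvPowerSeries (Fin 2) K) =
        C α * X 0 + C β * X 1 := by
      rw [subst_X (hasSubst_linVec α β γ δ)]; rfl
    have e1 : subst (linVec α β γ δ) (X 1 : MvPowerSeries (Fin 2) K) =
        C γ * X 0 + C δ * X 1 := by
      rw [subst_X (hasSubst_linVec α β γ δ)]; rfl
    have eC : ∀ t : K, subst (linVec α β γ δ) (C t : MvPowerSeries (Fin 2) K) = C t := by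
      intro t
      have := linHom_C α β γ δ t
      rwa [linHom, coe_substAlgHom] at this
    fin_cases s
    · change subst (linVec α β γ δ) (C α' * X 0 + C β' * X 1) = X 0
      rw [subst_add (hasSubst_linVec α β γ δ), subst_mul (hasSubst_linVec α β γ δ),
        subst_mul (hasSubst_linVec α β γ δ), e0, e1, eC, eC]
      have : C α' * (C α * X 0 + C β * X 1) + C β' * (C γ * X 0 + C δ * X 1) =
          C (α' * α + β' * γ) * X 0 + C (α' * β + β' * δ) * (X 1 : MvPowerSeries (Fin 2) K) := by
        simp only [map_add, map_mul]; ring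
      rw [this, h1, h2, map_one, map_zero, one_mul, zero_mul, add_zero]
    · change subst (linVec α β γ δ) (C γ' * X 0 + C δ' * X 1) = X 1
      rw [subst_add (hasSubst_linVec α β γ δ), subst_mul (hasSubst_linVec α β γ δ),
        subst_mul (hasSubst_linVec α β γ δ), e0, e1, eC, eC]
      have : C γ' * (C α * X 0 + C β * X 1) + C δ' * (C γ * X 0 + C δ * X 1) =
          C (γ' * α + δ' * γ) * X 0 + C (γ' * β + δ' * δ) * (X 1 : MvPowerSeries (Fin 2) K) := by
        simp only [map_add, map_mul]; ring
      rw [this, h3, h4, map_one, map_zero, one_mul, zero_mul, zero_add]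
  rw [this, subst_self]
  rfl

lemma inv_identities (α β γ δ : K) (hdet : α * δ - β * γ ≠ 0) :
    (δ / (α * δ - β * γ)) * α + (-β / (α * δ - β * γ)) * γ = 1 ∧
    (δ / (α * δ - β * γ)) * β + (-β / (α * δ - β * γ)) * δ = 0 ∧
    (-γ / (α * δ - β * γ)) * α + (α / (α * δ - β * γ)) * γ = 0 ∧
    (-γ / (α * δ - β * γ)) * β + (α / (α * δ - β * γ)) * δ = 1 ∧
    α * (δ / (α * δ - β * γ)) + β * (-γ / (α * δ - β * γ)) = 1 ∧
    α * (-β / (α * δ - β * γ)) + β * (α / (α * δ - β * γ)) = 0 ∧
    γ * (δ / (α * δ - β * γ)) + δ * (-γ / (α * δ - β * γ)) = 0 ∧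
    γ * (-β / (α * δ - β * γ)) + δ * (α / (α * δ - β * γ)) = 1 := by
  obtain ⟨D, hD⟩ : ∃ D, D = α * δ - β * γ := ⟨_, rfl⟩
  rw [← hD] at hdet ⊢
  have e1 : δ * α - β * γ = D := by rw [hD]; ring
  refine ⟨?_, ?_, ?_, ?_, ?_, ?_, ?_, ?_⟩
  · field_simp; linear_combination e1
  · field_simp; ring
  · field_simp; ring
  · field_simp; linear_combination e1
  · field_simp; linear_combination e1
  · field_simp; ring
  · field_simp; ring
  · field_simp; linear_combination e1

/-- an invertible linear substitution is an algebra automorphism -/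
noncomputable def linEquiv (α β γ δ : K) (hdet : α * δ - β * γ ≠ 0) :
    MvPowerSeries (Fin 2) K ≃ₐ[K] MvPowerSeries (Fin 2) K :=
  AlgEquiv.ofAlgHom (linHom α β γ δ)
    (linHom (δ / (α * δ - β * γ)) (-β / (α * δ - β * γ)) (-γ / (α * δ - β * γ))
      (α / (α * δ - β * γ)))
    (linHom_comp _ _ _ _ _ _ _ _ (inv_identities α β γ δ hdet).1 (inv_identities α β γ δ hdet).2.1
      (inv_identities α β γ δ hdet).2.2.1 (inv_identities α β γ δ hdet).2.2.2.1)
    (linHom_comp _ _ _ _ _ _ _ _ (inv_identities α β γ δ hdet).2.2.2.2.1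
      (inv_identities α β γ δ hdet).2.2.2.2.2.1 (inv_identities α β γ δ hdet).2.2.2.2.2.2.1
      (inv_identities α β γ δ hdet).2.2.2.2.2.2.2)

lemma linEquiv_apply (α β γ δ : K) (hdet : α * δ - β * γ ≠ 0) (P : MvPowerSeries (Fin 2) K) :
    linEquiv α β γ δ hdet P = linHom α β γ δ P := rfl

/-- factorisation of a nondegenerate binary quadratic form over an algebraically closed field -/
theorem exists_factor [IsAlgClosed K] (a b c : K) (hdisc : 4 * a * c - b ^ 2 ≠ 0) :
    ∃ α β γ δ : K, a = α * γ ∧ b = α * δ + β * γ ∧ c = β * δ ∧ α * δ - β * γ ≠ 0 := by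
  have key : ∀ α β γ δ : K, a = α * γ → b = α * δ + β * γ → c = β * δ → α * δ - β * γ ≠ 0 := by
    intro α β γ δ ha hb hc h0
    apply hdisc
    have : 4 * a * c - b ^ 2 = -(α * δ - β * γ) ^ 2 := by rw [ha, hb, hc]; ring
    rw [this, h0]; ring
  by_cases ha : a = 0
  · exact ⟨0, 1, b, c, by rw [ha]; ring, by ring, by ring, key _ _ _ _ (by rw [ha]; ring)
      (by ring) (by ring)⟩
  · obtain ⟨r, hr⟩ := IsAlgClosed.exists_root (Polynomial.C a * Polynomial.X ^ 2 +
      Polynomial.C b * Polynomial.X + Polynomial.C c) (by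
        rw [Polynomial.degree_quadratic ha]; norm_num)
    simp only [Polynomial.IsRoot, Polynomial.eval_add, Polynomial.eval_mul, Polynomial.eval_C,
      Polynomial.eval_pow, Polynomial.eval_X] at hr
    have h2 : b = a * (-(-b / a - r)) + (-a * r) * 1 := by field_simp; ring
    have h3 : c = (-a * r) * (-(-b / a - r)) := by
      have : c = -(a * r ^ 2 + b * r) := by linear_combination hr
      rw [this]; field_simp; ring
    exact ⟨a, -a * r, 1, -(-b / a - r), by ring, h2, h3, key _ _ _ _ (by ring) h2 h3⟩

end LinSubst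



open IsLocalRing MvPowerSeries Groth.Agent.Lib.Helper63.NodeRed
  Groth.Agent.Lib.Helper63.NodeAlgConv Groth.Agent.Lib.Helper63.NodeAlgGlue

section Forward

variable (k : Type u) [Field k] (A : Type u) [CommRing A] [IsLocalRing A] [IsNoetherianRing A]
  [Algebra k A]

/-- helper63's `forward` with reducedness replaced by the existence of a regular element of `𝔪` -/
theorem forward' [Algebra.IsSeparable k (ResidueField A)]
    (hfin : Module.finrank (ResidueField A) (CotangentSpace A) = 2)
    (x y a b c : A) (hx : x ∈ maximalIdeal A) (hy : y ∈ maximalIdeal A)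
    (hspan : Ideal.span {x, y} ⊔ maximalIdeal A ^ 2 = maximalIdeal A)
    (hdisc : residue A (4 * a * c - b ^ 2) ≠ 0)
    (hq : a * x ^ 2 + b * x * y + c * y ^ 2 ∈ maximalIdeal A ^ 3)
    (s : A) (hs : s ∈ maximalIdeal A) (hsreg : ∀ w : A, s * w = 0 → w = 0) :
    ∃ a' b' c' : ResidueField A, 4 * a' * c' - b' ^ 2 ≠ 0 ∧
      ∃ e : AdicCompletion (maximalIdeal A) A ≃+*
          (MvPowerSeries (Fin 2) (ResidueField A) ⧸ Ideal.span {Qs a' b' c'}),
        ∀ t : k, e (algebraMap A _ (algebraMap k A t)) =
          Ideal.Quotient.mk _ (C (algebraMap A (ResidueField A) (algebraMap k A t))) := by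
  classical
  haveI hN : IsNoetherianRing (AdicCompletion (maximalIdeal A) A) :=
    Groth.Agent.S0543.result A (maximalIdeal A)
  haveI : Algebra.FormallyEtale k (ResidueField A) := Algebra.FormallyEtale.of_isSeparable k _
  haveI hsm : Algebra.FormallySmooth k (ResidueField A) := inferInstance
  -- the coefficient field
  let f₀ : ResidueField A →ₐ[k] A ⧸ maximalIdeal A := AlgHom.id k (ResidueField A)
  obtain ⟨g, hg⟩ := Algebra.FormallySmooth.exists_adicCompletionEvalOneₐ_comp_eq f₀
  have hg' : ∀ c : ResidueField A, AdicCompletion.evalOneₐ (maximalIdeal A) (g c) = c := by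
    intro c
    exact congr($hg c)
  have hmem : ∀ z : AdicCompletion (maximalIdeal A) A,
      AdicCompletion.evalOneₐ (maximalIdeal A) z = 0 →
        z ∈ maximalIdeal (AdicCompletion (maximalIdeal A) A) := by
    intro z hz
    rw [AdicCompletion.maximalIdeal_eq_map,
      ← AdicCompletion.ker_evalOneₐ_eq_map _ (maximalIdeal A).fg_of_isNoetherianRing]
    exact hz
  have hgres : ∀ r : A, g (residue A r) - algebraMap A (AdicCompletion (maximalIdeal A) A) r ∈
      maximalIdeal (AdicCompletion (maximalIdeal A) A) := by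
    intro r
    apply hmem
    rw [map_sub, sub_eq_zero, hg']
    rfl
  have hsurj : Function.Surjective
      ((residue (AdicCompletion (maximalIdeal A) A)).comp g.toRingHom) := by
    intro z
    obtain ⟨w, rfl⟩ := residue_surjective z
    refine ⟨AdicCompletion.evalOneₐ (maximalIdeal A) w, ?_⟩
    change residue _ (g (AdicCompletion.evalOneₐ (maximalIdeal A) w)) = residue _ w
    rw [← sub_eq_zero, ← map_sub, residue_eq_zero_iff]
    apply hmem
    have := hg' (AdicCompletion.evalOneₐ (maximalIdeal A) w : ResidueField A)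
    rw [map_sub, sub_eq_zero]
    exact this
  -- embedding dimension
  have hfr : (maximalIdeal (AdicCompletion (maximalIdeal A) A)).spanFinrank = 2 := by
    rw [AdicCompletion.spanFinrank_maximalIdeal_eq,
      spanFinrank_maximalIdeal_eq_finrank_cotangentSpace, hfin]
  -- generators
  have hmA : maximalIdeal A = Ideal.span {x, y} := by
    apply le_antisymm
    · refine Submodule.le_of_le_smul_of_le_jacobson_bot (IsNoetherian.noetherian _)
        (maximalIdeal_le_jacobson _) ?_
      rw [smul_eq_mul, ← pow_two, hspan]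
    · rw [Ideal.span_le]
      rintro z (rfl | rfl)
      · exact hx
      · exact hy
  set φ := algebraMap A (AdicCompletion (maximalIdeal A) A) with hφ
  have hxy : Ideal.span {φ x, φ y} = maximalIdeal (AdicCompletion (maximalIdeal A) A) := by
    have h1 : (maximalIdeal A).map φ = (Ideal.span {x, y}).map φ :=
      congrArg (fun I => Ideal.map φ I) hmA
    rw [AdicCompletion.maximalIdeal_eq_map, h1, Ideal.map_span, Set.image_pair]
  have hmaxmap : ∀ (n : ℕ) (r : A), r ∈ maximalIdeal A ^ n →
      φ r ∈ maximalIdeal (AdicCompletion (maximalIdeal A) A) ^ n := by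
    intro n r hr
    rw [AdicCompletion.maximalIdeal_eq_map, ← Ideal.map_pow]
    exact Ideal.mem_map_of_mem _ hr
  have hφx : φ x ∈ maximalIdeal (AdicCompletion (maximalIdeal A) A) := by
    have := hmaxmap 1 x (by rwa [pow_one]); rwa [pow_one] at this
  have hφy : φ y ∈ maximalIdeal (AdicCompletion (maximalIdeal A) A) := by
    have := hmaxmap 1 y (by rwa [pow_one]); rwa [pow_one] at this
  -- the quadratic relation
  have hq' : g.toRingHom (residue A a) * φ x ^ 2 + g.toRingHom (residue A b) * φ x * φ y +
      g.toRingHom (residue A c) * φ y ^ 2 ∈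
        maximalIdeal (AdicCompletion (maximalIdeal A) A) ^ 3 := by
    have h0 := hmaxmap 3 _ hq
    have e : g.toRingHom (residue A a) * φ x ^ 2 + g.toRingHom (residue A b) * φ x * φ y +
        g.toRingHom (residue A c) * φ y ^ 2 = φ (a * x ^ 2 + b * x * y + c * y ^ 2) +
        ((g (residue A a) - φ a) * (φ x * φ x) + (g (residue A b) - φ b) * (φ x * φ y) +
          (g (residue A c) - φ c) * (φ y * φ y)) := by
      simp only [map_add, map_mul, map_pow, AlgHom.toRingHom_eq_coe, RingHom.coe_coe]
      ring
    rw [e]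
    have h3 : ∀ (u v w : AdicCompletion (maximalIdeal A) A),
        u ∈ maximalIdeal (AdicCompletion (maximalIdeal A) A) →
        v ∈ maximalIdeal (AdicCompletion (maximalIdeal A) A) →
        w ∈ maximalIdeal (AdicCompletion (maximalIdeal A) A) →
        u * (v * w) ∈ maximalIdeal (AdicCompletion (maximalIdeal A) A) ^ 3 := by
      intro u v w hu hv hw
      rw [show (3 : ℕ) = 1 + 2 from rfl, pow_add, pow_one, pow_two]
      exact Ideal.mul_mem_mul hu (Ideal.mul_mem_mul hv hw)
    exact Ideal.add_mem _ h0 (Ideal.add_mem _ (Ideal.add_mem _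
      (h3 _ _ _ (hgres a) hφx hφx) (h3 _ _ _ (hgres b) hφx hφy)) (h3 _ _ _ (hgres c) hφy hφy))
  have hdisc' : 4 * residue A a * residue A c - residue A b ^ 2 ≠ 0 := by
    have : residue A (4 * a * c - b ^ 2) = 4 * residue A a * residue A c - residue A b ^ 2 := by
      rw [map_sub, map_mul, map_mul, map_pow, map_ofNat]
    rwa [this] at hdisc
  -- a regular element
  have hsreg' : ∀ w : AdicCompletion (maximalIdeal A) A, φ s * w = 0 → w = 0 := by
    have h1 : IsSMulRegular A s := by
      intro u v huv
      have : s * (u - v) = 0 := by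
        rw [mul_sub, sub_eq_zero]; exact huv
      exact sub_eq_zero.mp (hsreg _ this)
    have h2 : IsSMulRegular (AdicCompletion (maximalIdeal A) A) (φ s) := IsSMulRegular.of_flat h1
    intro w hw
    exact h2.right_eq_zero_of_smul hw
  have hφs : φ s ∈ maximalIdeal (AdicCompletion (maximalIdeal A) A) := by
    have := hmaxmap 1 s (by rwa [pow_one]); rwa [pow_one] at this
  obtain ⟨a', b', c', hd', e, he⟩ := Groth.Agent.Lib.Helper63.NodeAlg.core g.toRingHom hsurj hfr
    (φ x) (φ y) hxy (residue A a) (residue A b) (residue A c) hdisc' hq' (φ s) hφs hsreg'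
  refine ⟨a', b', c', hd', e, fun t => ?_⟩
  have h1 : φ (algebraMap k A t) = g (algebraMap k (ResidueField A) t) := by
    rw [AlgHom.commutes]
    rfl
  have h2 : algebraMap A (ResidueField A) (algebraMap k A t) =
      algebraMap k (ResidueField A) t := rfl
  rw [h2, h1]
  exact he _

end Forward



open IsLocalRing MvPowerSeries Groth.Agent.Lib.Helper63.NodeRed
  Groth.Agent.Lib.Helper63.NodeAlgConv Groth.Agent.Lib.Helper63.NodeAlgGlue

section LemmaA

variable (K : Type u) [Field K] (B : Type u) [CommRing B] [IsLocalRing B] [IsNoetherianRing B]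
  [Algebra K B]

lemma Qs_zero_one_zero : Qs (0 : K) 1 0 = X 0 * X 1 := by
  unfold Qs
  simp

/-- an ordinary double point satisfies the node criterion -/
theorem nodeCrit_of_isOrdDoublePt (h : Curv2.IsOrdDoublePt K B) :
    IsReduced B ∧ Module.finrank (ResidueField B) (CotangentSpace B) = 2 ∧ HasQuad B := by
  obtain ⟨e, -⟩ := h
  have hdisc : 4 * (0 : K) * 0 - 1 ^ 2 ≠ 0 := by norm_num
  have e' : AdicCompletion (maximalIdeal B) B ≃+*
      (MvPowerSeries (Fin 2) K ⧸ Ideal.span {Qs (0 : K) 1 0}) := by
    rw [Qs_zero_one_zero]; exact e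
  exact backward B hdisc e'

/-- the isomorphism of power series rings induced by an isomorphism of coefficient rings -/
noncomputable def mvMapEquiv (τ : Type*) {R R' : Type*} [CommRing R] [CommRing R']
    (σ : R ≃+* R') : MvPowerSeries τ R ≃+* MvPowerSeries τ R' :=
  RingEquiv.ofRingHom (MvPowerSeries.map (σ : R →+* R')) (MvPowerSeries.map (σ.symm : R' →+* R))
    (by rw [← MvPowerSeries.map_comp]; simp [MvPowerSeries.map_id])
    (by rw [← MvPowerSeries.map_comp]; simp [MvPowerSeries.map_id])

/-- a local `K`-algebra with residue field `K` algebraically closed satisfying the node criterion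
(with a regular element in the maximal ideal) is an ordinary double point -/
theorem isOrdDoublePt_of_nodeCrit [IsAlgClosed K]
    (hres : Function.Surjective ((residue B).comp (algebraMap K B)))
    (hfin : Module.finrank (ResidueField B) (CotangentSpace B) = 2) (hq : HasQuad B)
    (s : B) (hs : s ∈ maximalIdeal B) (hsreg : ∀ w : B, s * w = 0 → w = 0) :
    Curv2.IsOrdDoublePt K B := by
  classical
  -- the residue field is `K`
  let eK : K ≃ₐ[K] ResidueField B :=
    AlgEquiv.ofBijective (Algebra.ofId K (ResidueField B))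
      ⟨(algebraMap K (ResidueField B)).injective, hres⟩
  haveI : Algebra.IsSeparable K (ResidueField B) := AlgEquiv.Algebra.isSeparable eK
  obtain ⟨x, y, a, b, c, hx, hy, hspan, hdisc, hrel⟩ := hq
  obtain ⟨a', b', c', hd', e, he⟩ := forward' K B hfin x y a b c hx hy hspan hdisc hrel s hs hsreg
  let σ : ResidueField B ≃+* K := eK.symm.toRingEquiv
  have hσ : ∀ t : K, σ (algebraMap B (ResidueField B) (algebraMap K B t)) = t := by
    intro t
    exact eK.symm_apply_apply t
  -- change of coefficients
  let Θ₁ := Ideal.quotientEquiv (Ideal.span {Qs a' b' c'})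
    (Ideal.span {Qs (σ a') (σ b') (σ c')}) (mvMapEquiv (Fin 2) σ) (by
      rw [Ideal.map_span, Set.image_singleton]
      congr 2
      change _ = MvPowerSeries.map (σ : ResidueField B →+* K) _
      unfold Qs
      simp only [map_add, map_mul, map_pow, MvPowerSeries.map_C, MvPowerSeries.map_X]
      rfl)
  have hdσ : 4 * σ a' * σ c' - σ b' ^ 2 ≠ 0 := by
    have : 4 * σ a' * σ c' - σ b' ^ 2 = σ (4 * a' * c' - b' ^ 2) := by
      rw [map_sub, map_mul, map_mul, map_pow, map_ofNat]
    rw [this]
    exact (map_ne_zero_iff σ σ.injective).mpr hd'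
  -- linear change of variables
  obtain ⟨α, β, γ, δ, h1, h2, h3, hdet⟩ := exists_factor (σ a') (σ b') (σ c') hdσ
  let Λ := linEquiv α β γ δ hdet
  have hΛ : Λ (X 0 * X 1) = Qs (σ a') (σ b') (σ c') := by
    change linHom α β γ δ (X 0 * X 1) = _
    rw [map_mul, linHom_X0, linHom_X1]
    unfold Qs
    rw [h1, h2, h3]
    simp only [map_add, map_mul]
    ring
  let Θ₂ := Ideal.quotientEquiv (Ideal.span {(X 0 * X 1 : MvPowerSeries (Fin 2) K)})
    (Ideal.span {Qs (σ a') (σ b') (σ c')}) Λ.toRingEquiv (by
      rw [Ideal.map_span, Set.image_singleton]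
      congr 2
      exact hΛ.symm)
  refine ⟨(e.trans Θ₁).trans Θ₂.symm, fun t => ?_⟩
  rw [RingEquiv.trans_apply, RingEquiv.trans_apply, he, RingEquiv.symm_apply_eq]
  change Θ₁ (Ideal.Quotient.mk _ _) = Θ₂ (Ideal.Quotient.mk _ _)
  rw [Ideal.quotientEquiv_mk, Ideal.quotientEquiv_mk]
  congr 1
  change MvPowerSeries.map (σ : ResidueField B →+* K) _ = linHom α β γ δ (C t)
  rw [MvPowerSeries.map_C, linHom_C]
  congr 1
  exact hσ t

end LemmaA


end Groth.Agent.Lib.Helper20.NodeCrit
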