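import Groth.Prelude
import Groth.Agent.Lib.Helper47.CompletionIso
import Groth.Agent.Lib.Helper18.ComplMap

/-!
# Nodes and étale morphisms
-/

set_option autoImplicit false

universe u

namespace Groth.Agent.Lib.Helper20.NodeEtale

open CategoryTheory CategoryTheory.Limits AlgebraicGeometry IsLocalRing

section Algebra

variable (K : Type u) [Field K] (A B : Type u) [CommRing A] [CommRing B] [IsLocalRing A]
  [IsLocalRing B] [IsNoetherianRing A] [IsNoetherianRing B] [Algebra K A] [Algebra K B]

/-- The completion map of a flat local homomorphism with `𝔪_A B = 𝔪_B` and trivial residue field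
extension, as a ring isomorphism compatible with `A → B`. -/
theorem exists_completion_equiv (φ : A →+* B) [IsLocalHom φ] (hflat : φ.Flat)
    (hm : (maximalIdeal A).map φ = maximalIdeal B)
    (hk : Function.Bijective (ResidueField.map φ)) :
    ∃ ψ : AdicCompletion (maximalIdeal A) A ≃+* AdicCompletion (maximalIdeal B) B,
      ∀ a : A, ψ (algebraMap A _ a) = algebraMap B _ (φ a) := by
  algebraize [φ]
  have : IsLocalHom (algebraMap A B) := ‹IsLocalHom φ›
  let ψ₀ := FSch.complMap (maximalIdeal A) (maximalIdeal B) (algebraMap A B) hm.le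
  have hψ₀ : ∀ a : A, ψ₀ (algebraMap A _ a) = algebraMap B _ (algebraMap A B a) := fun a =>
    Groth.Agent.Lib.Helper18.complMap_of _ _ _ hm.le a
  have hbij : Function.Bijective ψ₀ :=
    Groth.Agent.Lib.Helper47.completion_map_bijective A B hm hk ψ₀ (RingHom.ext hψ₀)
  exact ⟨RingEquiv.ofBijective ψ₀ hbij, hψ₀⟩

variable {A B}

theorem isOrdDoublePt_iff (φ : A →+* B) [IsLocalHom φ]
    (hφK : φ.comp (algebraMap K A) = algebraMap K B) (hflat : φ.Flat)
    (hm : (maximalIdeal A).map φ = maximalIdeal B)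
    (hk : Function.Bijective (ResidueField.map φ)) :
    Curv2.IsOrdDoublePt K A ↔ Curv2.IsOrdDoublePt K B := by
  obtain ⟨ψ, hψ⟩ := exists_completion_equiv A B φ hflat hm hk
  have hK : ∀ c : K, φ (algebraMap K A c) = algebraMap K B c := fun c =>
    RingHom.congr_fun hφK c
  constructor
  · rintro ⟨e, he⟩
    refine ⟨ψ.symm.trans e, fun c => ?_⟩
    rw [RingEquiv.trans_apply, ← hK, ← hψ, RingEquiv.symm_apply_apply]
    exact he c
  · rintro ⟨e, he⟩
    refine ⟨ψ.trans e, fun c => ?_⟩
    rw [RingEquiv.trans_apply, hψ, hK]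
    exact he c

omit [IsNoetherianRing A] in
/-- The residue field of an ordinary double point over `K` is `K`. -/
theorem residue_algebraMap_surjective_of_isOrdDoublePt (h : Curv2.IsOrdDoublePt K A) :
    Function.Surjective ((residue A).comp (algebraMap K A)) := by
  obtain ⟨e, he⟩ := h
  intro r
  obtain ⟨a, rfl⟩ := residue_surjective r
  obtain ⟨p, hp⟩ := Ideal.Quotient.mk_surjective
    (e (algebraMap A (AdicCompletion (maximalIdeal A) A) a))
  let c : K := MvPowerSeries.constantCoeff p
  refine ⟨c, ?_⟩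
  rw [RingHom.comp_apply]
  by_contra hne
  have hu : IsUnit (a - algebraMap K A c) := by
    by_contra hnu
    apply hne
    have : residue A (a - algebraMap K A c) = 0 := by
      rw [residue_eq_zero_iff]; exact hnu
    rw [map_sub, sub_eq_zero] at this
    exact this.symm
  have hu2 : IsUnit (e (algebraMap A (AdicCompletion (maximalIdeal A) A) (a - algebraMap K A c))) :=
    (hu.map _).map e
  rw [map_sub, map_sub, he, ← hp, ← map_sub] at hu2
  -- `p - C c` is not a unit, and the quotient map is local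
  have hJ : Ideal.span {(MvPowerSeries.X 0 * MvPowerSeries.X 1 : MvPowerSeries (Fin 2) K)} ≠ ⊤ := by
    rw [Ne, Ideal.span_singleton_eq_top, MvPowerSeries.isUnit_iff_constantCoeff]
    simp
  have : Nontrivial (MvPowerSeries (Fin 2) K ⧸
      Ideal.span {(MvPowerSeries.X 0 * MvPowerSeries.X 1 : MvPowerSeries (Fin 2) K)}) :=
    Ideal.Quotient.nontrivial_iff.mpr hJ
  have hloc : IsLocalHom (Ideal.Quotient.mk
      (Ideal.span {(MvPowerSeries.X 0 * MvPowerSeries.X 1 : MvPowerSeries (Fin 2) K)})) :=
    IsLocalHom.of_surjective _ Ideal.Quotient.mk_surjective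
  have hu3 : IsUnit (p - MvPowerSeries.C c) := hloc.map_nonunit _ hu2
  rw [MvPowerSeries.isUnit_iff_constantCoeff, map_sub, MvPowerSeries.constantCoeff_C,
    sub_self] at hu3
  exact not_isUnit_zero hu3

end Algebra

section Scheme

variable (K : Type u) [Field K] {P Q : Scheme.{u}} (p : P ⟶ Spec (CommRingCat.of K))
  (q : Q ⟶ Spec (CommRingCat.of K)) (h : Q ⟶ P) (hq : h ≫ p = q)

include hq in
/-- Stalk maps are compatible with the structure maps from the base field. -/
theorem stalkMap_comp_stalkMap (z : Q) :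
    (h.stalkMap z).hom.comp (@Curv2.stalkMap K _ P ⟨p⟩ (h z)) = @Curv2.stalkMap K _ Q ⟨q⟩ z := by
  ext c
  show (h.stalkMap z).hom ((P.presheaf.germ ⊤ (h z) trivial).hom
      (p.appTop.hom ((Scheme.ΓSpecIso (CommRingCat.of K)).inv.hom c))) =
    (Q.presheaf.germ ⊤ z trivial).hom
      (q.appTop.hom ((Scheme.ΓSpecIso (CommRingCat.of K)).inv.hom c))
  have h1 := Scheme.Hom.germ_stalkMap_apply h ⊤ z trivial
    (p.appTop.hom ((Scheme.ΓSpecIso (CommRingCat.of K)).inv.hom c))
  have h2 : q.appTop = p.appTop ≫ h.appTop := by rw [← hq]; exact Scheme.Hom.comp_appTop h p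
  rw [h2]
  exact h1

variable [LocallyOfFiniteType p] [Etale h]

include hq in
theorem isOrdDoublePt_stalk_iff_of_residue_bijective (z : Q)
    (hk : Function.Bijective (ResidueField.map (h.stalkMap z).hom)) :
    @Curv2.IsOrdDoublePt K _ (P.presheaf.stalk (h z)) _ (@Curv2.stalkAlgebra K _ P ⟨p⟩ (h z)) _ ↔
    @Curv2.IsOrdDoublePt K _ (Q.presheaf.stalk z) _ (@Curv2.stalkAlgebra K _ Q ⟨q⟩ z) _ := by
  have hP : IsLocallyNoetherian P := LocallyOfFiniteType.isLocallyNoetherian p
  have hQ : IsLocallyNoetherian Q := LocallyOfFiniteType.isLocallyNoetherian h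
  letI a1 := @Curv2.stalkAlgebra K _ P ⟨p⟩ (h z)
  letI a2 := @Curv2.stalkAlgebra K _ Q ⟨q⟩ z
  have hφK : (h.stalkMap z).hom.comp (algebraMap K (P.presheaf.stalk (h z))) =
      algebraMap K (Q.presheaf.stalk z) := stalkMap_comp_stalkMap K p q h hq z
  have hflat : (h.stalkMap z).hom.Flat := Flat.stalkMap h z
  have hm : (maximalIdeal (P.presheaf.stalk (h z))).map (h.stalkMap z).hom =
      maximalIdeal (Q.presheaf.stalk z) := by
    algebraize [(h.stalkMap z).hom]
    have : IsLocalHom (algebraMap (P.presheaf.stalk (h z)) (Q.presheaf.stalk z)) :=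
      inferInstanceAs <| IsLocalHom (h.stalkMap z).hom
    have : Algebra.EssFiniteType (P.presheaf.stalk (h z)) (Q.presheaf.stalk z) := by
      rw [← RingHom.essFiniteType_algebraMap, RingHom.algebraMap_toAlgebra]
      exact LocallyOfFiniteType.stalkMap h z
    have : Algebra.FormallyUnramified (P.presheaf.stalk (h z)) (Q.presheaf.stalk z) := by
      rw [← RingHom.formallyUnramified_algebraMap, RingHom.algebraMap_toAlgebra]
      exact FormallyUnramified.stalkMap h z
    exact Algebra.FormallyUnramified.map_maximalIdeal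
  exact isOrdDoublePt_iff K (h.stalkMap z).hom hφK hflat hm hk

/-- The residue field extension of an étale morphism is integral. -/
theorem residueField_map_stalkMap_isIntegral (z : Q) :
    (ResidueField.map (h.stalkMap z).hom).IsIntegral := by
  algebraize [(h.stalkMap z).hom]
  have : IsLocalHom (algebraMap (P.presheaf.stalk (h z)) (Q.presheaf.stalk z)) :=
    inferInstanceAs <| IsLocalHom (h.stalkMap z).hom
  have : Algebra.EssFiniteType (P.presheaf.stalk (h z)) (Q.presheaf.stalk z) := by
    rw [← RingHom.essFiniteType_algebraMap, RingHom.algebraMap_toAlgebra]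
    exact LocallyOfFiniteType.stalkMap h z
  have : Algebra.FormallyUnramified (P.presheaf.stalk (h z)) (Q.presheaf.stalk z) := by
    rw [← RingHom.formallyUnramified_algebraMap, RingHom.algebraMap_toAlgebra]
    exact FormallyUnramified.stalkMap h z
  have hfin : Module.Finite (ResidueField (P.presheaf.stalk (h z)))
      (ResidueField (Q.presheaf.stalk z)) := inferInstance
  have hint : Algebra.IsIntegral (ResidueField (P.presheaf.stalk (h z)))
      (ResidueField (Q.presheaf.stalk z)) := inferInstance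
  exact fun x => hint.isIntegral x

include hq in
theorem isOrdDoublePt_stalk_of_isOrdDoublePt_image [IsAlgClosed K] (z : Q)
    (hnode : @Curv2.IsOrdDoublePt K _ (P.presheaf.stalk (h z)) _
      (@Curv2.stalkAlgebra K _ P ⟨p⟩ (h z)) _) :
    @Curv2.IsOrdDoublePt K _ (Q.presheaf.stalk z) _ (@Curv2.stalkAlgebra K _ Q ⟨q⟩ z) _ := by
  refine (isOrdDoublePt_stalk_iff_of_residue_bijective K p q h hq z ?_).mp hnode
  letI a1 := @Curv2.stalkAlgebra K _ P ⟨p⟩ (h z)
  refine ⟨(ResidueField.map (h.stalkMap z).hom).injective, ?_⟩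
  have hs := residue_algebraMap_surjective_of_isOrdDoublePt K hnode
  have hint : ((ResidueField.map (h.stalkMap z).hom).comp
      ((residue (P.presheaf.stalk (h z))).comp
        (algebraMap K (P.presheaf.stalk (h z))))).IsIntegral :=
    RingHom.IsIntegral.trans _ _ (RingHom.isIntegral_of_surjective _ hs)
      (residueField_map_stalkMap_isIntegral h z)
  have hbij := IsAlgClosed.ringHom_bijective_of_isIntegral _ hint
  intro r
  obtain ⟨c, hc⟩ := hbij.2 r
  exact ⟨((residue (P.presheaf.stalk (h z))).comp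
    (algebraMap K (P.presheaf.stalk (h z)))) c, hc⟩

include hq in
theorem isOrdDoublePt_image_of_isOrdDoublePt_stalk (z : Q)
    (hnode : @Curv2.IsOrdDoublePt K _ (Q.presheaf.stalk z) _
      (@Curv2.stalkAlgebra K _ Q ⟨q⟩ z) _) :
    @Curv2.IsOrdDoublePt K _ (P.presheaf.stalk (h z)) _
      (@Curv2.stalkAlgebra K _ P ⟨p⟩ (h z)) _ := by
  refine (isOrdDoublePt_stalk_iff_of_residue_bijective K p q h hq z ?_).mpr hnode
  letI a1 := @Curv2.stalkAlgebra K _ P ⟨p⟩ (h z)
  letI a2 := @Curv2.stalkAlgebra K _ Q ⟨q⟩ z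
  refine ⟨(ResidueField.map (h.stalkMap z).hom).injective, ?_⟩
  have hs := residue_algebraMap_surjective_of_isOrdDoublePt K hnode
  have hφK : (h.stalkMap z).hom.comp (algebraMap K (P.presheaf.stalk (h z))) =
      algebraMap K (Q.presheaf.stalk z) := stalkMap_comp_stalkMap K p q h hq z
  intro r
  obtain ⟨c, hc⟩ := hs r
  refine ⟨residue _ (algebraMap K (P.presheaf.stalk (h z)) c), ?_⟩
  rw [ResidueField.map_residue, ← hc, RingHom.comp_apply, ← hφK]
  rfl

end Scheme

section Node

variable (k : Type u) [Field k] (X : Scheme.{u}) [X.Over (Spec (CommRingCat.of k))]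
  {Y : Scheme.{u}} (π : Y ⟶ X)

/-- `Spec k̄ ⟶ Spec k`. -/
noncomputable abbrev ι : Spec (CommRingCat.of (AlgebraicClosure k)) ⟶ Spec (CommRingCat.of k) :=
  Spec.map (CommRingCat.ofHom (algebraMap k (AlgebraicClosure k)))

/-- The base change of `π` to the algebraic closure. -/
noncomputable def barMap :
    pullback (π ≫ (X ↘ Spec (CommRingCat.of k))) (ι k) ⟶
      pullback (X ↘ Spec (CommRingCat.of k)) (ι k) :=
  pullback.map (π ≫ (X ↘ Spec (CommRingCat.of k))) _ (X ↘ Spec (CommRingCat.of k)) _ π (𝟙 _) (𝟙 _)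
    (by simp) (by simp)

lemma barMap_fst : barMap k X π ≫ pullback.fst (X ↘ Spec (CommRingCat.of k)) (ι k) =
    pullback.fst (π ≫ (X ↘ Spec (CommRingCat.of k))) (ι k) ≫ π := by
  unfold barMap
  exact pullback.lift_fst _ _ _

lemma barMap_snd : barMap k X π ≫ pullback.snd (X ↘ Spec (CommRingCat.of k)) (ι k) =
    pullback.snd (π ≫ (X ↘ Spec (CommRingCat.of k))) (ι k) := by
  unfold barMap
  rw [pullback.lift_snd]
  exact Category.comp_id _

lemma barMap_isPullback : IsPullback (barMap k X π)
    (pullback.fst (π ≫ (X ↘ Spec (CommRingCat.of k))) (ι k))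
    (pullback.fst (X ↘ Spec (CommRingCat.of k)) (ι k)) π := by
  refine IsPullback.of_right ?_ (barMap_fst k X π)
    (IsPullback.of_hasPullback (X ↘ Spec (CommRingCat.of k)) (ι k)).flip
  have h := (IsPullback.of_hasPullback (π ≫ (X ↘ Spec (CommRingCat.of k))) (ι k)).flip
  rw [barMap_snd]
  exact h

variable [LocallyOfFiniteType (X ↘ Spec (CommRingCat.of k))] [Etale π]

instance : Etale (barMap k X π) :=
  MorphismProperty.of_isPullback (P := @Etale) (barMap_isPullback k X π).flip inferInstance

omit [X.Over (Spec (CommRingCat.of k))] [LocallyOfFiniteType (X ↘ Spec (CommRingCat.of k))] in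
/-- An étale morphism is locally quasi-finite. -/
theorem locallyQuasiFinite_of_etale : LocallyQuasiFinite π := by
  rw [HasRingHomProperty.iff_appLE (P := @LocallyQuasiFinite)]
  intro U V e
  have h1 : (π.appLE U V e).hom.FiniteType := π.finiteType_appLE U.2 V.2 e
  have h2 : (π.appLE U V e).hom.FormallyUnramified :=
    HasRingHomProperty.appLE (P := @FormallyUnramified) π inferInstance U V e
  algebraize [(π.appLE U V e).hom]
  rw [RingHom.QuasiFinite]
  infer_instance

omit [LocallyOfFiniteType (X ↘ Spec (CommRingCat.of k))] in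
/-- Points of the fibre of an étale morphism over a closed point are closed. -/
lemma isClosed_singleton_of_etale (y : Y) (hx : IsClosed ({π y} : Set X)) :
    IsClosed ({y} : Set Y) := by
  have := locallyQuasiFinite_of_etale X π
  have hd : _root_.IsDiscrete (π ⁻¹' {π y}) := Scheme.Hom.isDiscrete_preimage_singleton π (π y)
  have hc : IsClosed (π ⁻¹' {π y}) := hx.preimage π.continuous
  have hd' : DiscreteTopology ↥(π ⁻¹' {π y}) := hd.to_subtype
  have h1 : IsClosed ({⟨y, rfl⟩} : Set ↥(π ⁻¹' {π y})) := isClosed_discrete _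
  have h2 := hc.isClosedEmbedding_subtypeVal.isClosedMap _ h1
  simpa using h2

theorem isNode_iff_of_etale (y : Y) :
    Curv2.IsNode k X (π y) ↔
      @Curv2.IsNode k _ Y ⟨π ≫ (X ↘ Spec (CommRingCat.of k))⟩ y := by
  have hJ0 : JacobsonSpace (Spec (CommRingCat.of k)) := inferInstance
  have hJ : JacobsonSpace X := LocallyOfFiniteType.jacobsonSpace (X ↘ Spec (CommRingCat.of k))
  have hq := barMap_snd k X π
  constructor
  · rintro ⟨hcl, xb, hxb, hnode⟩
    refine ⟨isClosed_singleton_of_etale X π y hcl, ?_⟩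
    obtain ⟨yb, hyb1, hyb2⟩ := Scheme.exists_preimage_of_isPullback
      (barMap_isPullback k X π) xb y hxb
    refine ⟨yb, hyb2, ?_⟩
    subst hyb1
    exact isOrdDoublePt_stalk_of_isOrdDoublePt_image (AlgebraicClosure k)
      (pullback.snd (X ↘ Spec (CommRingCat.of k)) (ι k))
      (pullback.snd (π ≫ (X ↘ Spec (CommRingCat.of k))) (ι k)) (barMap k X π) hq yb hnode
  · rintro ⟨hcl, yb, hyb, hnode⟩
    have hcl' : IsClosed ({π y} : Set X) :=
      π.closePoints_subset_preimage_closedPoints (mem_closedPoints_iff.mpr hcl)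
    refine ⟨hcl', barMap k X π yb, ?_, ?_⟩
    · have := congrArg (fun f => f.base yb) (barMap_fst k X π)
      simp only [Scheme.Hom.comp_base, TopCat.comp_app] at this
      rw [← hyb]
      exact this
    · exact isOrdDoublePt_image_of_isOrdDoublePt_stalk (AlgebraicClosure k)
        (pullback.snd (X ↘ Spec (CommRingCat.of k)) (ι k))
        (pullback.snd (π ≫ (X ↘ Spec (CommRingCat.of k))) (ι k)) (barMap k X π) hq yb hnode

end Node

end Groth.Agent.Lib.Helper20.NodeEtale
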