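import Mathlib
import Groth.Prelude
import Groth.Agent.Lib.Helper20.NodeCritField
import Groth.Agent.Lib.Helper20.NodeCritODP
import Groth.Agent.Lib.Helper20.NodeEtale

/-!
# Node criterion: the algebraic theorem over a field (helper20)

* `isOrdDoublePt_iff_nodeCrit`: for a `k`-algebra of finite type `R`, an algebraically closed
  extension `K / k` and a `K`-point `χ` of `K ⊗ R` over a closed point `𝔭` of `R`: the local ring of
  `K ⊗ R` at `χ` is an ordinary double point iff `κ(𝔭) / k` is separable and `R_𝔭` is reduced of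
  embedding dimension two with a nondegenerate quadratic relation modulo `𝔪³`.
* `exists_chi`: primes of `K ⊗ R` over closed points are kernels of `K`-points.
* transport of the node criterion, separability and `IsOrdDoublePt` along ring isomorphisms.
-/

set_option autoImplicit false
set_option linter.style.haveILetI false
universe u

open TensorProduct IsLocalRing

namespace Groth.Agent.Lib.Helper20.NodeCrit


section ALG

variable {k : Type u} [Field k] {R : Type u} [CommRing R] [Algebra k R] [Algebra.FiniteType k R]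
  {K : Type u} [Field K] [Algebra k K] (χ : K ⊗[k] R →ₐ[K] K)

/-- the residue field of `R_𝔭` is `R ⧸ 𝔭` -/
noncomputable def resEquiv [hmax : (pp χ).IsMaximal] :
    (R ⧸ pp χ) ≃ₐ[k] ResidueField (Localization.AtPrime (pp χ)) :=
  AlgEquiv.ofRingEquiv
    (f := IsLocalization.AtPrime.equivQuotMaximalIdeal (pp χ) (Localization.AtPrime (pp χ)))
    (fun c => by
      change IsLocalization.AtPrime.equivQuotMaximalIdeal (pp χ) (Localization.AtPrime (pp χ))
        (Ideal.Quotient.mk _ (algebraMap k R c)) = _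
      rw [IsLocalization.AtPrime.equivQuotMaximalIdeal_apply_mk]
      rfl)

omit [Algebra.FiniteType k R] in
/-- the residue field of `(K ⊗ R)_𝔓` is `K` -/
theorem residue_algebraMap_surjective :
    Function.Surjective ((residue (Localization.AtPrime (PP χ))).comp
      (algebraMap K (Localization.AtPrime (PP χ)))) := by
  intro r
  obtain ⟨b, rfl⟩ := residue_surjective r
  obtain ⟨z, s, rfl⟩ := IsLocalization.exists_mk'_eq (PP χ).primeCompl b
  have hs : χ (s : K ⊗[k] R) ≠ 0 := fun h => s.2 ((mem_PP χ _).mpr h)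
  refine ⟨χ z / χ s, ?_⟩
  rw [RingHom.comp_apply, ← sub_eq_zero, ← map_sub, residue_eq_zero_iff]
  have hunit : IsUnit (algebraMap (K ⊗[k] R) (Localization.AtPrime (PP χ)) s) :=
    IsLocalization.map_units _ s
  rw [← Ideal.unit_mul_mem_iff_mem _ hunit, mul_sub, IsLocalization.mul_mk'_eq_mk'_of_mul,
    IsLocalization.mk'_mul_cancel_left,
    IsScalarTower.algebraMap_apply K (K ⊗[k] R) (Localization.AtPrime (PP χ)), ← map_mul,
    ← map_sub, ← Localization.AtPrime.map_eq_maximalIdeal]
  refine Ideal.mem_map_of_mem _ ?_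
  rw [mem_PP, map_sub, map_mul, AlgHom.commutes, Algebra.algebraMap_self, RingHom.id_apply,
    mul_div_cancel₀ _ hs, sub_self]

variable [IsAlgClosed K] [hmax : (pp χ).IsMaximal]

/-- **Algebraic form of the node criterion over a field.** -/
theorem isOrdDoublePt_iff_nodeCrit :
    Curv2.IsOrdDoublePt K (Localization.AtPrime (PP χ)) ↔
      (Algebra.IsSeparable k (ResidueField (Localization.AtPrime (pp χ))) ∧
        IsReduced (Localization.AtPrime (pp χ)) ∧
        Module.finrank (ResidueField (Localization.AtPrime (pp χ)))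
          (CotangentSpace (Localization.AtPrime (pp χ))) = 2 ∧
        HasQuad (Localization.AtPrime (pp χ))) := by
  haveI : Module.Finite k (R ⧸ pp χ) := by
    letI : Field (R ⧸ pp χ) := Ideal.Quotient.field (pp χ)
    exact finite_of_finite_type_of_isJacobsonRing k (R ⧸ pp χ)
  haveI : IsNoetherianRing R := Algebra.FiniteType.isNoetherianRing k R
  constructor
  · intro h
    obtain ⟨hred, hfinB, hqB⟩ := nodeCrit_of_isOrdDoublePt K _ h
    haveI hsep : Algebra.IsSeparable k (R ⧸ pp χ) := isSeparable_of_hasQuad χ hfinB hqB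
    have hm := map_locHom_maximalIdeal_of_isSeparable χ
    refine ⟨AlgEquiv.Algebra.isSeparable (resEquiv χ), isReduced_of_flat_local _ (locHom_flat χ),
      ?_, hasQuad_descend' _ (locHom_flat χ) hm hfinB hqB⟩
    rw [← finrank_cotangentSpace_eq_of_flat' _ (locHom_flat χ) hm, hfinB]
  · rintro ⟨hsep, hred, hfinA, hqA⟩
    haveI : Algebra.IsSeparable k (R ⧸ pp χ) := AlgEquiv.Algebra.isSeparable (resEquiv χ).symm
    have hm := map_locHom_maximalIdeal_of_isSeparable χ
    have hfinB : Module.finrank (ResidueField (Localization.AtPrime (PP χ)))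
        (CotangentSpace (Localization.AtPrime (PP χ))) = 2 := by
      rw [finrank_cotangentSpace_eq_of_flat' _ (locHom_flat χ) hm, hfinA]
    have hqB : HasQuad (Localization.AtPrime (PP χ)) := hasQuad_ascend' _ hm hqA
    -- a regular element
    have hm0 : maximalIdeal (Localization.AtPrime (pp χ)) ≠ ⊥ := by
      intro h0
      have hf : IsField (Localization.AtPrime (pp χ)) := isField_iff_maximalIdeal_eq.mpr h0
      have := (subsingleton_cotangentSpace_iff (R := Localization.AtPrime (pp χ))).mpr hf
      rw [Module.finrank_zero_of_subsingleton] at hfinA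
      exact absurd hfinA (by norm_num)
    obtain ⟨s, hs, hsreg⟩ :=
      Groth.Agent.Lib.Helper63.NodeAlgGlue.exists_regular_of_isReduced hm0
    have hsreg' : ∀ w : Localization.AtPrime (PP χ), locHom χ s * w = 0 → w = 0 := by
      letI := (locHom χ).toAlgebra
      haveI : Module.Flat (Localization.AtPrime (pp χ)) (Localization.AtPrime (PP χ)) :=
        locHom_flat χ
      have h1 : IsSMulRegular (Localization.AtPrime (pp χ)) s := by
        intro u v huv
        have : s * (u - v) = 0 := by
          rw [mul_sub, sub_eq_zero]; exact huv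
        exact sub_eq_zero.mp (hsreg _ this)
      have h2 : IsSMulRegular (Localization.AtPrime (PP χ))
          (algebraMap (Localization.AtPrime (pp χ)) (Localization.AtPrime (PP χ)) s) :=
        IsSMulRegular.of_flat h1
      intro w hw
      exact h2.right_eq_zero_of_smul hw
    have hs' : locHom χ s ∈ maximalIdeal (Localization.AtPrime (PP χ)) := by
      rw [← hm]
      exact Ideal.mem_map_of_mem _ hs
    exact isOrdDoublePt_of_nodeCrit K _ (residue_algebraMap_surjective χ) hfinB hqB _ hs' hsreg'

end ALG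



section Chi

variable {k : Type u} [Field k] {R : Type u} [CommRing R] [Algebra k R] [Algebra.FiniteType k R]
  {K : Type u} [Field K] [Algebra k K] [IsAlgClosed K]

/-- over an algebraically closed field, a prime of `K ⊗ R` over a closed point of `R` is the kernel
of a `K`-point -/
theorem exists_chi (𝔓 : Ideal (K ⊗[k] R)) [𝔓.IsPrime]
    (hmax : (𝔓.comap (inc k R K)).IsMaximal) : ∃ χ : K ⊗[k] R →ₐ[K] K, PP χ = 𝔓 := by
  classical
  set 𝔭 := 𝔓.comap (inc k R K) with h𝔭
  letI : Field (R ⧸ 𝔭) := Ideal.Quotient.field 𝔭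
  haveI : Module.Finite k (R ⧸ 𝔭) := finite_of_finite_type_of_isJacobsonRing k (R ⧸ 𝔭)
  -- the quotient is finite over `K`
  let g₀ : R ⧸ 𝔭 →ₐ[k] (K ⊗[k] R) ⧸ 𝔓 :=
    Ideal.Quotient.liftₐ 𝔭 (((Ideal.Quotient.mkₐ K 𝔓).restrictScalars k).comp
      (Algebra.TensorProduct.includeRight : R →ₐ[k] K ⊗[k] R)) (by
        intro a ha
        change Ideal.Quotient.mk 𝔓 (1 ⊗ₜ a) = 0
        rw [Ideal.Quotient.eq_zero_iff_mem]
        exact ha)
  let g : K ⊗[k] (R ⧸ 𝔭) →ₐ[K] (K ⊗[k] R) ⧸ 𝔓 :=
    Algebra.TensorProduct.productLeftAlgHom (Algebra.ofId K _) g₀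
  have hg : Function.Surjective g := by
    intro w
    obtain ⟨z, rfl⟩ := Ideal.Quotient.mk_surjective w
    induction z using TensorProduct.induction_on with
    | zero => exact ⟨0, by rw [map_zero, map_zero]⟩
    | tmul c r =>
      refine ⟨c ⊗ₜ Ideal.Quotient.mk 𝔭 r, ?_⟩
      change Algebra.ofId K _ c * g₀ (Ideal.Quotient.mk 𝔭 r) = _
      change Ideal.Quotient.mk 𝔓 (algebraMap K (K ⊗[k] R) c) * Ideal.Quotient.mk 𝔓 (1 ⊗ₜ r) = _
      rw [← map_mul, Algebra.TensorProduct.algebraMap_apply,
        Algebra.TensorProduct.tmul_mul_tmul, one_mul, Algebra.algebraMap_self, RingHom.id_apply,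
        mul_one]
    | add x y hx hy =>
      obtain ⟨x', hx'⟩ := hx
      obtain ⟨y', hy'⟩ := hy
      exact ⟨x' + y', by rw [map_add, hx', hy', map_add]⟩
  haveI : Module.Finite K ((K ⊗[k] R) ⧸ 𝔓) := Module.Finite.of_surjective g.toLinearMap hg
  haveI : Algebra.IsIntegral K ((K ⊗[k] R) ⧸ 𝔓) := Algebra.IsIntegral.of_finite K _
  have hbij : Function.Bijective (algebraMap K ((K ⊗[k] R) ⧸ 𝔓)) :=
    IsAlgClosed.algebraMap_bijective_of_isIntegral
  let e : K ≃ₐ[K] (K ⊗[k] R) ⧸ 𝔓 := AlgEquiv.ofBijective (Algebra.ofId K _) hbij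
  refine ⟨e.symm.toAlgHom.comp (Ideal.Quotient.mkₐ K 𝔓), ?_⟩
  ext z
  rw [mem_PP]
  change e.symm (Ideal.Quotient.mk 𝔓 z) = 0 ↔ _
  rw [map_eq_zero_iff _ e.symm.injective, Ideal.Quotient.eq_zero_iff_mem]

end Chi

section Transport

variable {A A' : Type u} [CommRing A] [CommRing A'] [IsLocalRing A] [IsLocalRing A']

lemma ringEquiv_flat (e : A ≃+* A') : (e : A →+* A').Flat := RingHom.Flat.of_bijective e.bijective

lemma ringEquiv_map_maximalIdeal (e : A ≃+* A') :
    (maximalIdeal A).map (e : A →+* A') = maximalIdeal A' :=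
  map_ringEquiv_maximalIdeal e

variable [IsNoetherianRing A] [IsNoetherianRing A']

/-- the node criterion is invariant under ring isomorphisms -/
theorem nodeCrit_of_ringEquiv (e : A ≃+* A')
    (h : IsReduced A ∧ Module.finrank (ResidueField A) (CotangentSpace A) = 2 ∧ HasQuad A) :
    IsReduced A' ∧ Module.finrank (ResidueField A') (CotangentSpace A') = 2 ∧ HasQuad A' := by
  obtain ⟨hred, hfin, hq⟩ := h
  refine ⟨?_, ?_, ?_⟩
  · exact isReduced_of_injective (e.symm : A' →+* A) e.symm.injective
  · rw [finrank_cotangentSpace_eq_of_flat' (e : A →+* A') (ringEquiv_flat e)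
      (ringEquiv_map_maximalIdeal e), hfin]
  · exact hasQuad_ascend' (e : A →+* A') (ringEquiv_map_maximalIdeal e) hq

omit [IsNoetherianRing A] [IsNoetherianRing A'] in
/-- separability of the residue field is invariant under isomorphisms of local `k`-algebras -/
theorem isSeparable_residueField_of_ringEquiv (e : A ≃+* A') (k : Type u) [Field k]
    [Algebra k A] [Algebra k A']
    (he : ∀ c : k, e (algebraMap k A c) = algebraMap k A' c)
    [Algebra.IsSeparable k (ResidueField A)] : Algebra.IsSeparable k (ResidueField A') := by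
  let ē : ResidueField A ≃ₐ[k] ResidueField A' :=
    AlgEquiv.ofRingEquiv (f := ResidueField.mapEquiv e) (fun c => by
      change ResidueField.mapEquiv e (residue A (algebraMap k A c)) = residue A' (algebraMap k A' c)
      rw [← he]
      rfl)
  exact AlgEquiv.Algebra.isSeparable ē

/-- being an ordinary double point is invariant under isomorphisms of local `K`-algebras -/
theorem isOrdDoublePt_of_ringEquiv' (e : A ≃+* A') (K : Type u) [Field K] [Algebra K A]
    [Algebra K A']
    (he : ∀ c : K, e (algebraMap K A c) = algebraMap K A' c) (h : Curv2.IsOrdDoublePt K A) :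
    Curv2.IsOrdDoublePt K A' := by
  refine (Groth.Agent.Lib.Helper20.NodeEtale.isOrdDoublePt_iff K (e : A →+* A')
    (RingHom.ext he) (ringEquiv_flat e) (ringEquiv_map_maximalIdeal e) ?_).mp h
  exact (ResidueField.mapEquiv e).bijective

end Transport

section Comm

variable {k : Type u} [Field k] {R : Type u} [CommRing R] [Algebra k R]
  {K : Type u} [Field K] [Algebra k K]

/-- localizations at equal primes -/
theorem exists_locEquiv_of_eq {S : Type u} [CommRing S] {I J : Ideal S} [I.IsPrime] [J.IsPrime]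
    (h : I = J) : ∃ e : Localization.AtPrime I ≃+* Localization.AtPrime J,
      ∀ s : S, e (algebraMap S _ s) = algebraMap S _ s := by
  subst h
  exact ⟨RingEquiv.refl _, fun _ => rfl⟩

/-- passing from `R ⊗ K` to `K ⊗ R` -/
theorem exists_comm_model (𝔓₀ : Ideal (R ⊗[k] K)) [𝔓₀.IsPrime] :
    ∃ (𝔓 : Ideal (K ⊗[k] R)) (_ : 𝔓.IsPrime),
      𝔓.comap (inc k R K) = 𝔓₀.comap Algebra.TensorProduct.includeLeftRingHom ∧
      ∃ Θ : Localization.AtPrime 𝔓₀ ≃+* Localization.AtPrime 𝔓,
        ∀ z : R ⊗[k] K, Θ (algebraMap _ _ z) =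
          algebraMap _ _ (Algebra.TensorProduct.comm k R K z) := by
  let c := Algebra.TensorProduct.comm k R K
  let 𝔓 : Ideal (K ⊗[k] R) := 𝔓₀.comap (c.symm : K ⊗[k] R →+* R ⊗[k] K)
  haveI : 𝔓.IsPrime := Ideal.comap_isPrime _ _
  refine ⟨𝔓, inferInstance, ?_, ?_⟩
  · ext r
    simp only [Ideal.mem_comap]
    rfl
  · have H : 𝔓₀.primeCompl.map (c.toRingEquiv : R ⊗[k] K →* K ⊗[k] R) = 𝔓.primeCompl := by
      ext z
      simp only [Submonoid.mem_map, Ideal.mem_primeCompl_iff]
      constructor
      · rintro ⟨w, hw, rfl⟩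
        intro hz
        apply hw
        have : c.symm (c w) ∈ 𝔓₀ := hz
        rwa [c.symm_apply_apply] at this
      · intro hz
        exact ⟨c.symm z, hz, c.apply_symm_apply z⟩
    refine ⟨IsLocalization.ringEquivOfRingEquiv (Localization.AtPrime 𝔓₀)
      (Localization.AtPrime 𝔓) c.toRingEquiv H, fun z => ?_⟩
    rw [IsLocalization.ringEquivOfRingEquiv_eq]
    rfl

end Comm


end Groth.Agent.Lib.Helper20.NodeCrit
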