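import Mathlib
import Groth.Prelude
import Groth.Agent.Lib.Helper20.NodeCritAlg

/-!
# Node criterion and field extensions: algebra (helper20)

* `exists_derivation_ne_zero`: a field extension essentially of finite type which is not separable
  algebraic has a nonzero derivation.
* `exists_derivation_localization'`: derivations `S → T` into a localization extend to `T`.
* `exists_derivation_extend`: a `k`-derivation of `R_𝔭` extends `K`-linearly to `(K ⊗ R)_𝔓`.
* `isMaximal_comap_of_hasQuad`: if `R_𝔭` is a field and `(K ⊗ R)_𝔓` satisfies the node criterion with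
  separable residue field then `𝔭` is maximal.
* `isMaximal_of_comap_isMaximal`: primes of `K ⊗ R` over maximal ideals of `R` are maximal.
-/

set_option autoImplicit false
set_option linter.style.haveILetI false
universe u

open TensorProduct IsLocalRing

namespace Groth.Agent.Lib.Helper20.NodeCrit

section DerivGen

/-- a field extension essentially of finite type which is not separable algebraic has a nonzero
derivation -/
theorem exists_derivation_ne_zero {k L : Type u} [Field k] [Field L] [Algebra k L]
    [Algebra.EssFiniteType k L]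
    (h : ¬ Algebra.IsSeparable k L) : ∃ (δ : Derivation k L L) (θ : L), δ θ ≠ 0 := by
  have h1 : ¬ Algebra.FormallyUnramified k L := fun hu =>
    h ((Algebra.FormallyUnramified.iff_isSeparable k L).mp hu)
  have h1' : Nontrivial Ω[L⁄k] := by
    rw [← not_subsingleton_iff_nontrivial]
    exact fun hs => h1 ⟨hs⟩
  obtain ⟨ω, hω⟩ := exists_ne (0 : Ω[L⁄k])
  have h2 : ¬ ∀ φ : Module.Dual L Ω[L⁄k], φ ω = 0 := fun hall =>
    hω ((Module.forall_dual_apply_eq_zero_iff L ω).mp hall)
  push Not at h2
  obtain ⟨φ, hφ⟩ := h2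
  let δ : Derivation k L L := φ.compDer (KaehlerDifferential.D k L)
  refine ⟨δ, ?_⟩
  by_contra hcon
  push Not at hcon
  apply hφ
  have hspan := KaehlerDifferential.span_range_derivation k L
  have hall : ∀ x ∈ Submodule.span L (Set.range (KaehlerDifferential.D k L)), φ x = 0 := by
    intro x hx
    induction hx using Submodule.span_induction with
    | mem x hx =>
      obtain ⟨θ, rfl⟩ := hx
      exact hcon θ
    | zero => exact map_zero φ
    | add x y _ _ hx hy => rw [map_add, hx, hy, add_zero]
    | smul c x _ hx => rw [map_smul, hx, smul_zero]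
  exact hall ω (by rw [hspan]; trivial)

end DerivGen

section DerivLoc2

variable {S : Type u} [CommRing S] (M : Submonoid S) (T : Type u) [CommRing T] [Algebra S T]
  [IsLocalization M T] {R₀ : Type u} [CommRing R₀] [Algebra R₀ S] [Algebra R₀ T]
  [IsScalarTower R₀ S T]

/-- the ring map `s ↦ s + D s ε` to the dual numbers over a localization, for a derivation with
values in the localization -/
noncomputable def derivHom' (D : Derivation R₀ S T) : S →+* TrivSqZeroExt T T where
  toFun s := TrivSqZeroExt.inl (algebraMap S T s) + TrivSqZeroExt.inr (D s)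
  map_one' := by
    rw [Derivation.map_one_eq_zero, map_one, TrivSqZeroExt.inr_zero, add_zero]
    rfl
  map_zero' := by
    rw [map_zero, map_zero, TrivSqZeroExt.inr_zero, add_zero, TrivSqZeroExt.inl_zero]
  map_add' a b := by
    rw [map_add, map_add, TrivSqZeroExt.inl_add, TrivSqZeroExt.inr_add]
    abel
  map_mul' a b := by
    ext
    · simp
    · simp only [TrivSqZeroExt.snd_add, TrivSqZeroExt.snd_inl, TrivSqZeroExt.snd_inr, zero_add,
        TrivSqZeroExt.snd_mul, TrivSqZeroExt.fst_add, TrivSqZeroExt.fst_inl,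
        TrivSqZeroExt.fst_inr, add_zero, Derivation.leibniz, smul_eq_mul, map_mul,
        MulOpposite.smul_eq_mul_unop, MulOpposite.unop_op, Algebra.smul_def]
      ring

include M in
/-- Derivations into a localization extend to the localization. -/
theorem exists_derivation_localization' (D : Derivation R₀ S T) :
    ∃ D' : Derivation R₀ T T, ∀ s, D' (algebraMap S T s) = D s := by
  have hunit : ∀ y : M, IsUnit (derivHom' T D y) := by
    intro y
    rw [TrivSqZeroExt.isUnit_iff_isUnit_fst]
    have : (derivHom' T D y).fst = algebraMap S T y := by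
      simp [derivHom']
    rw [this]
    exact IsLocalization.map_units T y
  let Ψ : T →+* TrivSqZeroExt T T := IsLocalization.lift hunit
  have hΨ : ∀ s, Ψ (algebraMap S T s) = derivHom' T D s := fun s => IsLocalization.lift_eq hunit s
  have hfst : ∀ t, (Ψ t).fst = t := by
    have : (TrivSqZeroExt.fstHom T T T).toRingHom.comp Ψ = RingHom.id T := by
      apply IsLocalization.ringHom_ext M
      ext s
      simp [hΨ, derivHom']
    intro t
    exact congr($this t)
  have hsnd : ∀ s, (Ψ (algebraMap S T s)).snd = D s := by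
    intro s
    rw [hΨ]
    simp only [derivHom', RingHom.coe_mk, MonoidHom.coe_mk, OneHom.coe_mk, TrivSqZeroExt.snd_add,
      TrivSqZeroExt.snd_inl, TrivSqZeroExt.snd_inr, zero_add]
  have hleib : ∀ a b : T, (Ψ (a * b)).snd = a * (Ψ b).snd + b * (Ψ a).snd := by
    intro a b
    rw [map_mul, TrivSqZeroExt.snd_mul, hfst, hfst]
    simp [mul_comm]
  have hR₀ : ∀ c : R₀, (Ψ (algebraMap R₀ T c)).snd = 0 := by
    intro c
    rw [IsScalarTower.algebraMap_apply R₀ S T, hsnd, Derivation.map_algebraMap]
  let L : T →ₗ[R₀] T :=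
    { toFun := fun t => (Ψ t).snd
      map_add' := fun a b => by simp
      map_smul' := fun c t => by
        rw [RingHom.id_apply, Algebra.smul_def, hleib, hR₀, mul_zero, add_zero, Algebra.smul_def] }
  refine ⟨Derivation.mk' L ?_, hsnd⟩
  intro a b
  change (Ψ (a * b)).snd = a • (Ψ b).snd + b • (Ψ a).snd
  rw [hleib, smul_eq_mul, smul_eq_mul]

end DerivLoc2

section DerivMem

variable {A : Type u} [CommRing A] [IsLocalRing A]

/-- `derivation_mem` for derivations over an arbitrary base -/
theorem derivation_mem' {R₀ : Type u} [CommRing R₀] [Algebra R₀ A]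
    (hfin : Module.finrank (ResidueField A) (CotangentSpace A) = 2)
    (h : HasQuad A) (D : Derivation R₀ A A) {z : A} (hz : z ∈ maximalIdeal A) :
    D z ∈ maximalIdeal A :=
  derivation_mem hfin h (D.restrictScalars ℤ) hz

end DerivMem

section Extend

variable {k : Type u} [Field k] {R : Type u} [CommRing R] [Algebra k R]
  {K : Type u} [Field K] [Algebra k K] (𝔓 : Ideal (K ⊗[k] R)) [𝔓.IsPrime]

/-- the local homomorphism `R_𝔭 → (K ⊗ R)_𝔓` -/
noncomputable def locHom' : Localization.AtPrime (𝔓.comap (inc k R K)) →+*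
    Localization.AtPrime 𝔓 :=
  Localization.localRingHom (𝔓.comap (inc k R K)) 𝔓 (inc k R K) rfl

lemma locHom'_algebraMap (r : R) : locHom' 𝔓 (algebraMap R _ r) =
    algebraMap (K ⊗[k] R) (Localization.AtPrime 𝔓) (1 ⊗ₜ r) :=
  Localization.localRingHom_to_map _ _ _ _ r

lemma locHom'_smul (c : k) (a : Localization.AtPrime (𝔓.comap (inc k R K))) :
    locHom' 𝔓 (c • a) = c • locHom' 𝔓 a := by
  rw [Algebra.smul_def, Algebra.smul_def, map_mul,
    IsScalarTower.algebraMap_apply k R (Localization.AtPrime (𝔓.comap (inc k R K))),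
    locHom'_algebraMap,
    IsScalarTower.algebraMap_apply k (K ⊗[k] R) (Localization.AtPrime 𝔓)]
  congr 2
  rw [Algebra.algebraMap_eq_smul_one, Algebra.algebraMap_eq_smul_one,
    Algebra.TensorProduct.one_def, TensorProduct.tmul_smul]

/-- **A `k`-derivation of `R_𝔭` extends `K`-linearly to `(K ⊗ R)_𝔓`.** -/
theorem exists_derivation_extend
    (δ : Derivation k (Localization.AtPrime (𝔓.comap (inc k R K)))
      (Localization.AtPrime (𝔓.comap (inc k R K)))) :
    ∃ D : Derivation K (Localization.AtPrime 𝔓) (Localization.AtPrime 𝔓),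
      ∀ r : R, D (algebraMap (K ⊗[k] R) (Localization.AtPrime 𝔓) (1 ⊗ₜ r)) =
        locHom' 𝔓 (δ (algebraMap R _ r)) := by
  set A := Localization.AtPrime (𝔓.comap (inc k R K)) with hA
  set B := Localization.AtPrime 𝔓 with hB
  let d : R →ₗ[k] B :=
    { toFun := fun r => locHom' 𝔓 (δ (algebraMap R A r))
      map_add' := fun a b => by rw [map_add, map_add, map_add]
      map_smul' := fun c r => by
        have e : algebraMap R A (c • r) = c • algebraMap R A r := by
          rw [Algebra.smul_def, map_mul, ← IsScalarTower.algebraMap_apply, ← Algebra.smul_def]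
        rw [RingHom.id_apply, ← locHom'_smul, ← Derivation.map_smul, e] }
  let D₀ : K ⊗[k] R →ₗ[K] B := d.liftBaseChange K
  have hD₀ : ∀ (c : K) (r : R), D₀ (c ⊗ₜ r) = c • locHom' 𝔓 (δ (algebraMap R A r)) :=
    fun c r => rfl
  have halg : ∀ (c : K) (r : R), algebraMap (K ⊗[k] R) B (c ⊗ₜ r) =
      c • locHom' 𝔓 (algebraMap R A r) := by
    intro c r
    rw [locHom'_algebraMap, Algebra.smul_def,
      IsScalarTower.algebraMap_apply K (K ⊗[k] R) B, ← map_mul,
      Algebra.TensorProduct.algebraMap_apply, Algebra.TensorProduct.tmul_mul_tmul, one_mul,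
      Algebra.algebraMap_self, RingHom.id_apply, mul_one]
  have hleib : ∀ a b : K ⊗[k] R, D₀ (a * b) = a • D₀ b + b • D₀ a := by
    intro a b
    induction a using TensorProduct.induction_on with
    | zero => simp
    | tmul c r =>
      induction b using TensorProduct.induction_on with
      | zero => simp
      | tmul c' r' =>
        rw [Algebra.TensorProduct.tmul_mul_tmul, hD₀, hD₀, hD₀, Algebra.smul_def (c ⊗ₜ[k] r),
          Algebra.smul_def (c' ⊗ₜ[k] r'), halg, halg, map_mul, Derivation.leibniz, map_add,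
          smul_eq_mul, smul_eq_mul, map_mul, map_mul]
        simp only [Algebra.smul_def, map_mul]
        ring
      | add x y hx hy =>
        rw [mul_add, map_add, hx, hy, map_add, add_smul, smul_add]
        abel
    | add x y hx hy =>
      rw [add_mul, map_add, hx, hy, map_add, add_smul, smul_add]
      abel
  let D₁ : Derivation K (K ⊗[k] R) B := Derivation.mk' D₀ hleib
  obtain ⟨D', hD'⟩ := exists_derivation_localization' 𝔓.primeCompl B D₁
  refine ⟨D', fun r => ?_⟩
  rw [hD']
  change D₀ _ = _
  rw [hD₀, one_smul]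

end Extend

section AlgC2

/-- variant of `exists_derivation_ne_zero` for a ring which is a field -/
theorem exists_derivation_ne_zero' {k L : Type u} [Field k] [CommRing L] [Algebra k L]
    [Algebra.EssFiniteType k L] (hL : IsField L)
    (h : ¬ Algebra.IsAlgebraic k L) : ∃ (δ : Derivation k L L) (θ : L), δ θ ≠ 0 := by
  letI : Field L := hL.toField
  exact exists_derivation_ne_zero (fun hs => h inferInstance)

variable {k : Type u} [Field k] {R : Type u} [CommRing R] [Algebra k R] [Algebra.FiniteType k R]
  {K : Type u} [Field K] [Algebra k K] (𝔓 : Ideal (K ⊗[k] R)) [𝔓.IsPrime]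

/-- **If `R_𝔭` is a field and `(K ⊗ R)_𝔓` satisfies the node criterion with separable residue
field, then `𝔭` is a maximal ideal.** -/
theorem isMaximal_comap_of_hasQuad
    (hfield : IsField (Localization.AtPrime (𝔓.comap (inc k R K))))
    [Algebra.IsSeparable K (ResidueField (Localization.AtPrime 𝔓))]
    (hfin : Module.finrank (ResidueField (Localization.AtPrime 𝔓))
      (CotangentSpace (Localization.AtPrime 𝔓)) = 2)
    (hq : HasQuad (Localization.AtPrime 𝔓)) :
    (𝔓.comap (inc k R K)).IsMaximal := by
  classical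
  by_contra hmax
  have hm0 : maximalIdeal (Localization.AtPrime (𝔓.comap (inc k R K))) = ⊥ :=
    isField_iff_maximalIdeal_eq.mp hfield
  -- `R_𝔭` is not algebraic over `k`
  have hna : ¬ Algebra.IsAlgebraic k (Localization.AtPrime (𝔓.comap (inc k R K))) := by
    intro halg
    apply hmax
    haveI : Algebra.IsIntegral k (Localization.AtPrime (𝔓.comap (inc k R K))) :=
      Algebra.IsAlgebraic.isIntegral
    haveI : Algebra.IsIntegral R (Localization.AtPrime (𝔓.comap (inc k R K))) :=
      Algebra.IsIntegral.tower_top k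
    have := Ideal.isMaximal_comap_of_isIntegral_of_isMaximal (R := R)
      (maximalIdeal (Localization.AtPrime (𝔓.comap (inc k R K))))
    have e : (maximalIdeal (Localization.AtPrime (𝔓.comap (inc k R K)))).comap
        (algebraMap R (Localization.AtPrime (𝔓.comap (inc k R K)))) = 𝔓.comap (inc k R K) :=
      Localization.AtPrime.under_maximalIdeal
    rwa [e] at this
  obtain ⟨δ, θ, hδθ⟩ := exists_derivation_ne_zero' hfield hna
  -- an element of `R` with nonzero derivative
  have hr : ∃ r : R, δ (algebraMap R _ r) ≠ 0 := by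
    by_contra hcon
    push Not at hcon
    obtain ⟨r, s, hrs⟩ := IsLocalization.exists_mk'_eq (𝔓.comap (inc k R K)).primeCompl θ
    have h1 := IsLocalization.mk'_spec (Localization.AtPrime (𝔓.comap (inc k R K))) r s
    rw [hrs] at h1
    have h2 := congrArg δ h1
    rw [Derivation.leibniz, hcon, hcon, smul_zero, zero_add, smul_eq_mul] at h2
    have hunit : IsUnit (algebraMap R (Localization.AtPrime (𝔓.comap (inc k R K))) s) :=
      IsLocalization.map_units _ s
    exact hδθ ((hunit.mul_right_eq_zero).mp h2)
  obtain ⟨r, hr⟩ := hr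
  obtain ⟨v, hv⟩ := hfield.mul_inv_cancel hr
  have hu : IsUnit (locHom' 𝔓 (δ (algebraMap R _ r))) :=
    (IsUnit.of_mul_eq_one _ hv).map (locHom' 𝔓)
  obtain ⟨D, hD⟩ := exists_derivation_extend 𝔓 δ
  obtain ⟨t, ht⟩ : ∃ t : Localization.AtPrime 𝔓,
      t = algebraMap (K ⊗[k] R) (Localization.AtPrime 𝔓) (1 ⊗ₜ r) := ⟨_, rfl⟩
  replace hD := hD r
  rw [← ht] at hD
  have hsepP : (minpoly K (residue (Localization.AtPrime 𝔓) t)).Separable :=
    Algebra.IsSeparable.isSeparable K (residue (Localization.AtPrime 𝔓) t)
  have hres : ∀ Q : Polynomial K, residue (Localization.AtPrime 𝔓) (Polynomial.aeval t Q) =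
      Polynomial.aeval (residue (Localization.AtPrime 𝔓) t) Q := fun Q =>
    (Polynomial.aeval_algebraMap_apply (ResidueField (Localization.AtPrime 𝔓)) t Q).symm
  have hz : Polynomial.aeval t (minpoly K (residue (Localization.AtPrime 𝔓) t)) ∈
      maximalIdeal (Localization.AtPrime 𝔓) := by
    rw [← residue_eq_zero_iff, hres, minpoly.aeval]
  have h0 := derivation_mem' hfin hq D hz
  rw [Derivation.map_aeval, smul_eq_mul, hD] at h0
  have hu2 : IsUnit (Polynomial.aeval t
      (Polynomial.derivative (minpoly K (residue (Localization.AtPrime 𝔓) t)))) := by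
    rw [← notMem_maximalIdeal, ← residue_eq_zero_iff, hres]
    exact hsepP.aeval_derivative_ne_zero (minpoly.aeval K _)
  exact (notMem_maximalIdeal.mpr (hu2.mul hu)) h0

/-- primes of `K ⊗ R` over maximal ideals of `R` are maximal -/
theorem isMaximal_of_comap_isMaximal (hmax : (𝔓.comap (inc k R K)).IsMaximal) :
    𝔓.IsMaximal := by
  classical
  set 𝔭 := 𝔓.comap (inc k R K) with h𝔭
  letI : Field (R ⧸ 𝔭) := Ideal.Quotient.field 𝔭
  haveI : Module.Finite k (R ⧸ 𝔭) := finite_of_finite_type_of_isJacobsonRing k (R ⧸ 𝔭)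
  let g₀ : R ⧸ 𝔭 →ₐ[k] (K ⊗[k] R) ⧸ 𝔓 :=
    Ideal.Quotient.liftₐ 𝔭 (((Ideal.Quotient.mkₐ K 𝔓).restrictScalars k).comp
      (Algebra.TensorProduct.includeRight : R →ₐ[k] K ⊗[k] R)) (by
        intro a ha
        change Ideal.Quotient.mk 𝔓 (1 ⊗ₜ a) = 0
        rw [Ideal.Quotient.eq_zero_iff_mem]
        exact ha)
  let g : K ⊗[k] (R ⧸ 𝔭) →ₐ[K] (K ⊗[k] R) ⧸ 𝔓 :=
    Algebra.TensorProduct.productLeftAlgHom (Algebra.ofId K _) g₀
  have hg : Function.Surjective g := by
    intro w
    obtain ⟨z, rfl⟩ := Ideal.Quotient.mk_surjective w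
    induction z using TensorProduct.induction_on with
    | zero => exact ⟨0, by rw [map_zero, map_zero]⟩
    | tmul c r =>
      refine ⟨c ⊗ₜ Ideal.Quotient.mk 𝔭 r, ?_⟩
      change Algebra.ofId K _ c * g₀ (Ideal.Quotient.mk 𝔭 r) = _
      change Ideal.Quotient.mk 𝔓 (algebraMap K (K ⊗[k] R) c) * Ideal.Quotient.mk 𝔓 (1 ⊗ₜ r) = _
      rw [← map_mul, Algebra.TensorProduct.algebraMap_apply,
        Algebra.TensorProduct.tmul_mul_tmul, one_mul, Algebra.algebraMap_self, RingHom.id_apply,
        mul_one]
    | add x y hx hy =>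
      obtain ⟨x', hx'⟩ := hx
      obtain ⟨y', hy'⟩ := hy
      exact ⟨x' + y', by rw [map_add, hx', hy', map_add]⟩
  haveI : Module.Finite K ((K ⊗[k] R) ⧸ 𝔓) := Module.Finite.of_surjective g.toLinearMap hg
  haveI : Algebra.IsIntegral K ((K ⊗[k] R) ⧸ 𝔓) := Algebra.IsIntegral.of_finite K _
  exact Ideal.Quotient.maximal_of_isField _
    (isField_of_isIntegral_of_isField' (R := K) (Field.toIsField K))

end AlgC2

end Groth.Agent.Lib.Helper20.NodeCrit
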