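import Mathlib
import Groth.Prelude
import Groth.Agent.Lib.Helper55.PullbackChart
import Groth.Agent.Lib.Helper50.FiberBC
import Groth.Agent.Lib.Helper20.NodeEtale

/-!
# Affine models of local rings of a base change `X_K` (helper20)

`exists_model`: for `X` locally of finite type over `k`, `K / k` a field extension and `y ∈ X_K`
there are a `k`-algebra of finite type `R`, a prime `𝔓` of `R ⊗[k] K` and isomorphisms
`O_{X_K,y} ≅ (R ⊗ K)_𝔓`, `O_{X,x} ≅ R_{𝔓 ∩ R}` compatible with the structure maps from `K`, `k`.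
-/

set_option autoImplicit false
set_option linter.style.haveILetI false
universe u

open CategoryTheory CategoryTheory.Limits AlgebraicGeometry TensorProduct IsLocalRing

namespace Groth.Agent.Lib.Helper20.NodeCrit


section Model

/-- the local ring of `Spec S` at a prime, with the structure map from a base field -/
theorem spec_stalk_model (K : Type u) [Field K] (S : Type u) [CommRing S] (φ : K →+* S)
    (𝔓 : PrimeSpectrum S) :
    ∃ e : (Spec (CommRingCat.of S)).presheaf.stalk 𝔓 ≃+* Localization.AtPrime 𝔓.asIdeal,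
      ∀ c : K, e (@Curv2.stalkMap K _ (Spec (CommRingCat.of S))
        ⟨Spec.map (CommRingCat.ofHom φ)⟩ 𝔓 c) = algebraMap S _ (φ c) := by
  have h : IsLocalization.AtPrime ((Spec.structureSheaf S).presheaf.stalk 𝔓) 𝔓.asIdeal :=
    StructureSheaf.IsLocalization.to_stalk S 𝔓
  let e2 := IsLocalization.algEquiv 𝔓.asIdeal.primeCompl
    ((Spec.structureSheaf S).presheaf.stalk 𝔓) (Localization.AtPrime 𝔓.asIdeal)
  refine ⟨e2.toRingEquiv, fun c => ?_⟩
  have h1 := @Groth.Agent.Lib.Helper50.specMap_stalkMap_eq (Spec (CommRingCat.of S)) K _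
    ⟨Spec.map (CommRingCat.ofHom φ)⟩ 𝔓
  have h2 : Spec.map (CommRingCat.ofHom (@Curv2.stalkMap K _ (Spec (CommRingCat.of S))
      ⟨Spec.map (CommRingCat.ofHom φ)⟩ 𝔓)) =
      Spec.map (CommRingCat.ofHom φ ≫ StructureSheaf.toStalk S 𝔓) := by
    rw [h1, Spec.map_comp]
    have h5 := Spec.fromSpecStalk_eq' (CommRingCat.of S) 𝔓
    rw [← h5]
    rfl
  have h3 := Spec.map_injective h2
  have h4 : @Curv2.stalkMap K _ (Spec (CommRingCat.of S)) ⟨Spec.map (CommRingCat.ofHom φ)⟩ 𝔓 c =
      (StructureSheaf.toStalk S 𝔓).hom (φ c) := by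
    have := congrArg (fun f => f.hom c) h3
    exact this
  rw [h4]
  exact e2.commutes (φ c)

/-- the local ring at a point of an affine open chart, with the structure map from a base
field -/
theorem chart_stalk_model (K : Type u) [Field K] {W : Scheme.{u}} (p : W ⟶ Spec (CommRingCat.of K))
    (S : Type u) [CommRing S] (φ : K →+* S) (j : Spec (CommRingCat.of S) ⟶ W) [IsOpenImmersion j]
    (hj : j ≫ p = Spec.map (CommRingCat.ofHom φ)) (𝔓 : PrimeSpectrum S) :
    ∃ e : W.presheaf.stalk (j 𝔓) ≃+* Localization.AtPrime 𝔓.asIdeal,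
      ∀ c : K, e (@Curv2.stalkMap K _ W ⟨p⟩ (j 𝔓) c) = algebraMap S _ (φ c) := by
  obtain ⟨e0, he0⟩ := spec_stalk_model K S φ 𝔓
  let e1 : W.presheaf.stalk (j 𝔓) ≃+* (Spec (CommRingCat.of S)).presheaf.stalk 𝔓 :=
    (asIso (j.stalkMap 𝔓)).commRingCatIsoToRingEquiv
  refine ⟨e1.trans e0, fun c => ?_⟩
  have h1 := Groth.Agent.Lib.Helper20.NodeEtale.stalkMap_comp_stalkMap K p
    (Spec.map (CommRingCat.ofHom φ)) j hj 𝔓
  rw [RingEquiv.trans_apply, ← he0 c, ← h1]
  rfl

end Model



open Groth.Agent.Lib.Helper55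

section Model2

variable (k : Type u) [Field k] (X : Scheme.{u}) [X.Over (Spec (CommRingCat.of k))]
  [LocallyOfFiniteType (X ↘ Spec (CommRingCat.of k))] (K : Type u) [Field K] [Algebra k K]

/-- **Affine model of the base change of a `k`-scheme around a point.** -/
theorem exists_model (y : ↥(Curv2.bc k X K)) :
    ∃ (R : Type u) (_ : CommRing R) (_ : Algebra k R) (_ : Algebra.FiniteType k R)
      (𝔓 : Ideal (R ⊗[k] K)) (_ : 𝔓.IsPrime),
      (∃ eB : (Curv2.bc k X K).presheaf.stalk y ≃+* Localization.AtPrime 𝔓,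
        ∀ c : K, eB (@Curv2.stalkMap K _ (Curv2.bc k X K) ⟨Curv2.bcSnd k X K⟩ y c) =
          algebraMap (R ⊗[k] K) _ (1 ⊗ₜ c)) ∧
      (∃ eA : X.presheaf.stalk (Curv2.bcFst k X K y) ≃+*
          Localization.AtPrime (𝔓.comap (Algebra.TensorProduct.includeLeftRingHom :
            R →+* R ⊗[k] K)),
        ∀ c : k, eA (Curv2.stalkMap k X (Curv2.bcFst k X K y) c) =
          algebraMap R _ (algebraMap k R c)) ∧
      (IsClosed ({Curv2.bcFst k X K y} : Set X) →
        (𝔓.comap (Algebra.TensorProduct.includeLeftRingHom : R →+* R ⊗[k] K)).IsMaximal) := by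
  let q := X ↘ Spec (CommRingCat.of k)
  let g := Spec.map (CommRingCat.ofHom (algebraMap k K))
  obtain ⟨U, hU, hxU, -⟩ :=
    exists_isAffineOpen_mem_and_subset (x := Curv2.bcFst k X K y) (U := ⊤) trivial
  let φA : CommRingCat.of k ⟶ Γ(X, U) := Spec.preimage (hU.fromSpec ≫ q)
  letI : Algebra k Γ(X, U) := φA.hom.toAlgebra
  have ha : hU.fromSpec ≫ q = Spec.map (CommRingCat.ofHom (algebraMap k Γ(X, U))) :=
    (Spec.map_preimage _).symm
  have hb : 𝟙 (Spec (CommRingCat.of K)) ≫ g = Spec.map (CommRingCat.ofHom (algebraMap k K)) :=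
    Category.id_comp _
  have hft : Algebra.FiniteType k Γ(X, U) := by
    have h1 : LocallyOfFiniteType (hU.fromSpec ≫ q) := inferInstance
    rw [ha, HasRingHomProperty.Spec_iff (P := @LocallyOfFiniteType)] at h1
    exact h1
  set c := pullbackChart q g hU.fromSpec (𝟙 (Spec (CommRingCat.of K))) ha hb with hc
  have hzc : y ∈ Set.range c := by
    rw [hc, range_pullbackChart, hU.range_fromSpec]
    refine ⟨hxU, ?_⟩
    simp
  obtain ⟨𝔓, rfl⟩ := hzc
  have hfst : Curv2.bcFst k X K (c 𝔓) =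
      hU.fromSpec (Spec.map (CommRingCat.ofHom (Algebra.TensorProduct.includeLeftRingHom :
        Γ(X, U) →+* Γ(X, U) ⊗[k] K)) 𝔓) := by
    have := congr(($(pullbackChart_fst q g hU.fromSpec (𝟙 (Spec (CommRingCat.of K))) ha hb)) 𝔓)
    exact this
  have hsnd : c ≫ Curv2.bcSnd k X K = Spec.map (CommRingCat.ofHom
      ((Algebra.TensorProduct.includeRight : K →ₐ[k] Γ(X, U) ⊗[k] K) : K →+* Γ(X, U) ⊗[k] K)) := by
    have := pullbackChart_snd q g hU.fromSpec (𝟙 (Spec (CommRingCat.of K))) ha hb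
    rw [Category.comp_id] at this
    exact this
  refine ⟨Γ(X, U), inferInstance, inferInstance, hft, 𝔓.asIdeal, 𝔓.2, ?_, ?_, ?_⟩
  · obtain ⟨e, he⟩ := chart_stalk_model K (Curv2.bcSnd k X K) (Γ(X, U) ⊗[k] K)
      ((Algebra.TensorProduct.includeRight : K →ₐ[k] Γ(X, U) ⊗[k] K) : K →+* Γ(X, U) ⊗[k] K)
      c hsnd 𝔓
    exact ⟨e, fun t => he t⟩
  · rw [hfst]
    obtain ⟨e, he⟩ := chart_stalk_model k q Γ(X, U) (algebraMap k Γ(X, U)) hU.fromSpec ha
      (Spec.map (CommRingCat.ofHom (Algebra.TensorProduct.includeLeftRingHom :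
        Γ(X, U) →+* Γ(X, U) ⊗[k] K)) 𝔓)
    exact ⟨e, fun t => he t⟩
  · intro hcl
    rw [hfst] at hcl
    have h1 : IsClosed ({Spec.map (CommRingCat.ofHom (Algebra.TensorProduct.includeLeftRingHom :
        Γ(X, U) →+* Γ(X, U) ⊗[k] K)) 𝔓} : Set (Spec (CommRingCat.of Γ(X, U)))) := by
      have h2 := hcl.preimage hU.fromSpec.continuous
      have h3 : hU.fromSpec ⁻¹' {hU.fromSpec (Spec.map (CommRingCat.ofHom
          (Algebra.TensorProduct.includeLeftRingHom : Γ(X, U) →+* Γ(X, U) ⊗[k] K)) 𝔓)} =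
          {Spec.map (CommRingCat.ofHom (Algebra.TensorProduct.includeLeftRingHom :
            Γ(X, U) →+* Γ(X, U) ⊗[k] K)) 𝔓} := by
        ext w
        simp only [Set.mem_preimage, Set.mem_singleton_iff]
        exact hU.fromSpec.isOpenEmbedding.injective.eq_iff
      rwa [h3] at h2
    exact (PrimeSpectrum.isClosed_singleton_iff_isMaximal _).mp h1

end Model2


end Groth.Agent.Lib.Helper20.NodeCrit
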