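import Mathlib
import Groth.Prelude
import Groth.Agent.Lib.Helper20.NodeCritAlg
import Groth.Agent.Lib.Helper20.NodeCritModel

/-!
# Nodes of curves over a field via the algebraic node criterion (helper20)

`isNode_iff_nodeCrit`: a closed point `x` of a scheme locally of finite type over a field `k` is a
node (`Curv2.IsNode`) iff `κ(x) / k` is separable and `O_{X,x}` is reduced of embedding dimension
two with a nondegenerate quadratic relation modulo `𝔪³`.
-/

set_option autoImplicit false
set_option linter.style.haveILetI false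
universe u

open CategoryTheory CategoryTheory.Limits AlgebraicGeometry TensorProduct IsLocalRing

attribute [local instance] Curv2.stalkAlgebra

namespace Groth.Agent.Lib.Helper20.NodeCrit

section Main

variable (k : Type u) [Field k] (X : Scheme.{u}) [X.Over (Spec (CommRingCat.of k))]
  [LocallyOfFiniteType (X ↘ Spec (CommRingCat.of k))]

/-- the algebraic model of the local rings at a closed point `x` and a point `xb` of the base change
to an algebraically closed field lying over it -/
theorem exists_model_chi (K : Type u) [Field K] [Algebra k K] [IsAlgClosed K]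
    (xb : ↥(Curv2.bc k X K)) (hcl : IsClosed ({Curv2.bcFst k X K xb} : Set X)) :
    ∃ (R : Type u) (_ : CommRing R) (_ : Algebra k R) (_ : Algebra.FiniteType k R)
      (χ : K ⊗[k] R →ₐ[K] K) (_ : (pp χ).IsMaximal),
      (∃ EB : (Curv2.bc k X K).presheaf.stalk xb ≃+* Localization.AtPrime (PP χ),
        ∀ c : K, EB (@Curv2.stalkMap K _ (Curv2.bc k X K) ⟨Curv2.bcSnd k X K⟩ xb c) =
          algebraMap K _ c) ∧
      (∃ EA : X.presheaf.stalk (Curv2.bcFst k X K xb) ≃+* Localization.AtPrime (pp χ),
        ∀ c : k, EA (Curv2.stalkMap k X (Curv2.bcFst k X K xb) c) = algebraMap k _ c) := by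
  obtain ⟨R, _, _, hft, 𝔓₀, _, ⟨eB, heB⟩, ⟨eA, heA⟩, hmaxcl⟩ := exists_model k X K xb
  have hmax₀ := hmaxcl hcl
  obtain ⟨𝔓, _, h𝔭, Θ, hΘ⟩ := exists_comm_model (k := k) (R := R) (K := K) 𝔓₀
  have hmax : (𝔓.comap (inc k R K)).IsMaximal := by rw [h𝔭]; exact hmax₀
  obtain ⟨χ, hχ⟩ := exists_chi 𝔓 hmax
  subst hχ
  obtain ⟨ε, hε⟩ := exists_locEquiv_of_eq (I := pp χ)
    (J := 𝔓₀.comap (Algebra.TensorProduct.includeLeftRingHom : R →+* R ⊗[k] K)) h𝔭
  refine ⟨R, inferInstance, inferInstance, hft, χ, hmax, ⟨eB.trans Θ, fun c => ?_⟩,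
    ⟨eA.trans ε.symm, fun c => ?_⟩⟩
  · rw [RingEquiv.trans_apply, heB, hΘ,
      IsScalarTower.algebraMap_apply K (K ⊗[k] R) (Localization.AtPrime (PP χ))]
    rfl
  · rw [RingEquiv.trans_apply, heA, RingEquiv.symm_apply_eq,
      IsScalarTower.algebraMap_apply k R (Localization.AtPrime (pp χ)), hε]

end Main

end Groth.Agent.Lib.Helper20.NodeCrit

namespace Groth.Agent.Lib.Helper20.NodeCrit

section Main2

variable (k : Type u) [Field k] (X : Scheme.{u}) [X.Over (Spec (CommRingCat.of k))]
  [LocallyOfFiniteType (X ↘ Spec (CommRingCat.of k))]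

/-- **A closed point of a scheme locally of finite type over a field is a node iff its residue
field is separable and its local ring satisfies the algebraic node criterion.** -/
theorem isNode_iff_nodeCrit (x : X) (hx : IsClosed ({x} : Set X)) :
    Curv2.IsNode k X x ↔
      (Algebra.IsSeparable k (ResidueField (X.presheaf.stalk x)) ∧
        IsReduced (X.presheaf.stalk x) ∧
        Module.finrank (ResidueField (X.presheaf.stalk x))
          (CotangentSpace (X.presheaf.stalk x)) = 2 ∧
        HasQuad (X.presheaf.stalk x)) := by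
  haveI : IsLocallyNoetherian X :=
    LocallyOfFiniteType.isLocallyNoetherian (X ↘ Spec (CommRingCat.of k))
  constructor
  · rintro ⟨-, xb, hxb, hodp⟩
    subst hxb
    obtain ⟨R, _, _, hft, χ, hmax, ⟨EB, hEB⟩, ⟨EA, hEA⟩⟩ :=
      exists_model_chi k X (AlgebraicClosure k) xb hx
    haveI : IsNoetherianRing R := Algebra.FiniteType.isNoetherianRing k R
    haveI : IsLocallyNoetherian (Curv2.bc k X (AlgebraicClosure k)) :=
      LocallyOfFiniteType.isLocallyNoetherian (Curv2.bcSnd k X (AlgebraicClosure k))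
    letI : (Curv2.bc k X (AlgebraicClosure k)).Over (Spec (CommRingCat.of (AlgebraicClosure k))) :=
      ⟨Curv2.bcSnd k X (AlgebraicClosure k)⟩
    have h1 : Curv2.IsOrdDoublePt (AlgebraicClosure k) (Localization.AtPrime (PP χ)) :=
      isOrdDoublePt_of_ringEquiv' EB (AlgebraicClosure k) hEB hodp
    obtain ⟨hsep, hnc⟩ := (isOrdDoublePt_iff_nodeCrit χ).mp h1
    have hEA' : ∀ c : k, EA.symm (algebraMap k (Localization.AtPrime (pp χ)) c) =
        algebraMap k (X.presheaf.stalk (Curv2.bcFst k X (AlgebraicClosure k) xb)) c := by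
      intro c
      rw [RingEquiv.symm_apply_eq]
      exact (hEA c).symm
    exact ⟨isSeparable_residueField_of_ringEquiv EA.symm k hEA', nodeCrit_of_ringEquiv EA.symm hnc⟩
  · rintro ⟨hsep, hnc⟩
    have hsurj : Surjective (Spec.map (CommRingCat.ofHom (algebraMap k (AlgebraicClosure k)))) :=
      ⟨fun _ => ⟨IsLocalRing.closedPoint (AlgebraicClosure k), Subsingleton.elim _ _⟩⟩
    have hsurj' : Surjective (Curv2.bcFst k X (AlgebraicClosure k)) :=
      MorphismProperty.pullback_fst (P := @Surjective) _ _ hsurj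
    obtain ⟨xb, hxb⟩ := (Curv2.bcFst k X (AlgebraicClosure k)).surjective x
    subst hxb
    obtain ⟨R, _, _, hft, χ, hmax, ⟨EB, hEB⟩, ⟨EA, hEA⟩⟩ :=
      exists_model_chi k X (AlgebraicClosure k) xb hx
    haveI : IsNoetherianRing R := Algebra.FiniteType.isNoetherianRing k R
    haveI : IsLocallyNoetherian (Curv2.bc k X (AlgebraicClosure k)) :=
      LocallyOfFiniteType.isLocallyNoetherian (Curv2.bcSnd k X (AlgebraicClosure k))
    letI : (Curv2.bc k X (AlgebraicClosure k)).Over (Spec (CommRingCat.of (AlgebraicClosure k))) :=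
      ⟨Curv2.bcSnd k X (AlgebraicClosure k)⟩
    haveI := hsep
    have h1 : Curv2.IsOrdDoublePt (AlgebraicClosure k) (Localization.AtPrime (PP χ)) :=
      (isOrdDoublePt_iff_nodeCrit χ).mpr
        ⟨isSeparable_residueField_of_ringEquiv EA k hEA, nodeCrit_of_ringEquiv EA hnc⟩
    have hEB' : ∀ c : AlgebraicClosure k,
        EB.symm (algebraMap (AlgebraicClosure k) (Localization.AtPrime (PP χ)) c) =
        algebraMap (AlgebraicClosure k)
          ((Curv2.bc k X (AlgebraicClosure k)).presheaf.stalk xb) c := by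
      intro c
      rw [RingEquiv.symm_apply_eq]
      exact (hEB c).symm
    exact ⟨hx, xb, rfl, isOrdDoublePt_of_ringEquiv' EB.symm (AlgebraicClosure k) hEB' h1⟩

end Main2

end Groth.Agent.Lib.Helper20.NodeCrit
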