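import Mathlib
import Groth.Prelude
import Groth.Agent.Lib.Helper20.NodeCritMain
import Groth.Agent.Lib.Helper20.NodeCritExt

/-!
# Nodes and extension of the base field (helper20)
-/

set_option autoImplicit false
set_option linter.style.haveILetI false
universe u

open CategoryTheory CategoryTheory.Limits AlgebraicGeometry TensorProduct IsLocalRing

attribute [local instance] Curv2.stalkAlgebra

namespace Groth.Agent.Lib.Helper20.NodeCrit

open Groth.Agent.Lib.Helper55

section Closed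

/-- closedness of points is detected on open subschemes of Jacobson schemes -/
theorem isClosed_singleton_iff_of_isOpenImmersion {V W : Scheme.{u}} (j : V ⟶ W)
    [IsOpenImmersion j] [JacobsonSpace W] (v : V) :
    IsClosed ({j v} : Set W) ↔ IsClosed ({v} : Set V) := by
  have h := j.isOpenEmbedding.preimage_closedPoints
  rw [← mem_closedPoints_iff, ← mem_closedPoints_iff, ← h]
  rfl

end Closed

section Model3

variable (k : Type u) [Field k] (X : Scheme.{u}) [X.Over (Spec (CommRingCat.of k))]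
  [LocallyOfFiniteType (X ↘ Spec (CommRingCat.of k))] (K : Type u) [Field K] [Algebra k K]

/-- **Affine model of the base change of a `k`-scheme around a point, with closedness.** -/
theorem exists_model' (y : ↥(Curv2.bc k X K)) :
    ∃ (R : Type u) (_ : CommRing R) (_ : Algebra k R) (_ : Algebra.FiniteType k R)
      (𝔓 : Ideal (R ⊗[k] K)) (_ : 𝔓.IsPrime),
      (∃ eB : (Curv2.bc k X K).presheaf.stalk y ≃+* Localization.AtPrime 𝔓,
        ∀ c : K, eB (@Curv2.stalkMap K _ (Curv2.bc k X K) ⟨Curv2.bcSnd k X K⟩ y c) =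
          algebraMap (R ⊗[k] K) _ (1 ⊗ₜ c)) ∧
      (∃ eA : X.presheaf.stalk (Curv2.bcFst k X K y) ≃+*
          Localization.AtPrime (𝔓.comap (Algebra.TensorProduct.includeLeftRingHom :
            R →+* R ⊗[k] K)),
        ∀ c : k, eA (Curv2.stalkMap k X (Curv2.bcFst k X K y) c) =
          algebraMap R _ (algebraMap k R c)) ∧
      (IsClosed ({Curv2.bcFst k X K y} : Set X) ↔
        (𝔓.comap (Algebra.TensorProduct.includeLeftRingHom : R →+* R ⊗[k] K)).IsMaximal) ∧
      (IsClosed ({y} : Set ↥(Curv2.bc k X K)) ↔ 𝔓.IsMaximal) := by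
  haveI : JacobsonSpace X := LocallyOfFiniteType.jacobsonSpace (X ↘ Spec (CommRingCat.of k))
  haveI : JacobsonSpace ↥(Curv2.bc k X K) :=
    LocallyOfFiniteType.jacobsonSpace (Curv2.bcSnd k X K)
  let q := X ↘ Spec (CommRingCat.of k)
  let g := Spec.map (CommRingCat.ofHom (algebraMap k K))
  obtain ⟨U, hU, hxU, -⟩ :=
    exists_isAffineOpen_mem_and_subset (x := Curv2.bcFst k X K y) (U := ⊤) trivial
  let φA : CommRingCat.of k ⟶ Γ(X, U) := Spec.preimage (hU.fromSpec ≫ q)
  letI : Algebra k Γ(X, U) := φA.hom.toAlgebra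
  have ha : hU.fromSpec ≫ q = Spec.map (CommRingCat.ofHom (algebraMap k Γ(X, U))) :=
    (Spec.map_preimage _).symm
  have hb : 𝟙 (Spec (CommRingCat.of K)) ≫ g = Spec.map (CommRingCat.ofHom (algebraMap k K)) :=
    Category.id_comp _
  have hft : Algebra.FiniteType k Γ(X, U) := by
    have h1 : LocallyOfFiniteType (hU.fromSpec ≫ q) := inferInstance
    rw [ha, HasRingHomProperty.Spec_iff (P := @LocallyOfFiniteType)] at h1
    exact h1
  set c := pullbackChart q g hU.fromSpec (𝟙 (Spec (CommRingCat.of K))) ha hb with hc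
  have hzc : y ∈ Set.range c := by
    rw [hc, range_pullbackChart, hU.range_fromSpec]
    refine ⟨hxU, ?_⟩
    simp
  obtain ⟨𝔓, rfl⟩ := hzc
  have hfst : Curv2.bcFst k X K (c 𝔓) =
      hU.fromSpec (Spec.map (CommRingCat.ofHom (Algebra.TensorProduct.includeLeftRingHom :
        Γ(X, U) →+* Γ(X, U) ⊗[k] K)) 𝔓) := by
    have := congr(($(pullbackChart_fst q g hU.fromSpec (𝟙 (Spec (CommRingCat.of K))) ha hb)) 𝔓)
    exact this
  have hsnd : c ≫ Curv2.bcSnd k X K = Spec.map (CommRingCat.ofHom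
      ((Algebra.TensorProduct.includeRight : K →ₐ[k] Γ(X, U) ⊗[k] K) : K →+* Γ(X, U) ⊗[k] K)) := by
    have := pullbackChart_snd q g hU.fromSpec (𝟙 (Spec (CommRingCat.of K))) ha hb
    rw [Category.comp_id] at this
    exact this
  refine ⟨Γ(X, U), inferInstance, inferInstance, hft, 𝔓.asIdeal, 𝔓.2, ?_, ?_, ?_, ?_⟩
  · obtain ⟨e, he⟩ := chart_stalk_model K (Curv2.bcSnd k X K) (Γ(X, U) ⊗[k] K)
      ((Algebra.TensorProduct.includeRight : K →ₐ[k] Γ(X, U) ⊗[k] K) : K →+* Γ(X, U) ⊗[k] K)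
      c hsnd 𝔓
    exact ⟨e, fun t => he t⟩
  · rw [hfst]
    obtain ⟨e, he⟩ := chart_stalk_model k q Γ(X, U) (algebraMap k Γ(X, U)) hU.fromSpec ha
      (Spec.map (CommRingCat.ofHom (Algebra.TensorProduct.includeLeftRingHom :
        Γ(X, U) →+* Γ(X, U) ⊗[k] K)) 𝔓)
    exact ⟨e, fun t => he t⟩
  · rw [hfst, isClosed_singleton_iff_of_isOpenImmersion hU.fromSpec]
    exact PrimeSpectrum.isClosed_singleton_iff_isMaximal _
  · rw [isClosed_singleton_iff_of_isOpenImmersion c]
    exact PrimeSpectrum.isClosed_singleton_iff_isMaximal _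

end Model3

section Comm2

variable {k : Type u} [Field k] {R : Type u} [CommRing R] [Algebra k R]
  {K : Type u} [Field K] [Algebra k K]

/-- passing from `R ⊗ K` to `K ⊗ R`, keeping track of maximality -/
theorem exists_comm_model' (𝔓₀ : Ideal (R ⊗[k] K)) [𝔓₀.IsPrime] :
    ∃ (𝔓 : Ideal (K ⊗[k] R)) (_ : 𝔓.IsPrime),
      𝔓.comap (inc k R K) = 𝔓₀.comap Algebra.TensorProduct.includeLeftRingHom ∧
      (𝔓.IsMaximal ↔ 𝔓₀.IsMaximal) ∧
      ∃ Θ : Localization.AtPrime 𝔓₀ ≃+* Localization.AtPrime 𝔓,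
        ∀ z : R ⊗[k] K, Θ (algebraMap _ _ z) =
          algebraMap _ _ (Algebra.TensorProduct.comm k R K z) := by
  let c := Algebra.TensorProduct.comm k R K
  let 𝔓 : Ideal (K ⊗[k] R) := 𝔓₀.comap (c.symm : K ⊗[k] R →+* R ⊗[k] K)
  haveI : 𝔓.IsPrime := Ideal.comap_isPrime _ _
  have h𝔓₀ : 𝔓₀ = 𝔓.comap (c : R ⊗[k] K →+* K ⊗[k] R) := by
    ext z
    simp only [𝔓, Ideal.mem_comap]
    change z ∈ 𝔓₀ ↔ c.symm (c z) ∈ 𝔓₀
    rw [c.symm_apply_apply]
  refine ⟨𝔓, inferInstance, ?_, ?_, ?_⟩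
  · ext r
    simp only [Ideal.mem_comap]
    rfl
  · constructor
    · intro h
      rw [h𝔓₀]
      exact Ideal.comap_isMaximal_of_surjective _ c.surjective
    · intro h
      exact Ideal.comap_isMaximal_of_surjective _ c.symm.surjective
  · have H : 𝔓₀.primeCompl.map (c.toRingEquiv : R ⊗[k] K →* K ⊗[k] R) = 𝔓.primeCompl := by
      ext z
      simp only [Submonoid.mem_map, Ideal.mem_primeCompl_iff]
      constructor
      · rintro ⟨w, hw, rfl⟩
        intro hz
        apply hw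
        have : c.symm (c w) ∈ 𝔓₀ := hz
        rwa [c.symm_apply_apply] at this
      · intro hz
        exact ⟨c.symm z, hz, c.apply_symm_apply z⟩
    refine ⟨IsLocalization.ringEquivOfRingEquiv (Localization.AtPrime 𝔓₀)
      (Localization.AtPrime 𝔓) c.toRingEquiv H, fun z => ?_⟩
    rw [IsLocalization.ringEquivOfRingEquiv_eq]
    rfl

end Comm2

section Model4

variable (k : Type u) [Field k] (X : Scheme.{u}) [X.Over (Spec (CommRingCat.of k))]
  [LocallyOfFiniteType (X ↘ Spec (CommRingCat.of k))] (K : Type u) [Field K] [Algebra k K]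

/-- **Affine model of the base change of a `k`-scheme around a point (`K ⊗ R` form), with
closedness.** -/
theorem exists_model_comm (y : ↥(Curv2.bc k X K)) :
    ∃ (R : Type u) (_ : CommRing R) (_ : Algebra k R) (_ : Algebra.FiniteType k R)
      (𝔓 : Ideal (K ⊗[k] R)) (_ : 𝔓.IsPrime),
      (∃ EB : (Curv2.bc k X K).presheaf.stalk y ≃+* Localization.AtPrime 𝔓,
        ∀ c : K, EB (@Curv2.stalkMap K _ (Curv2.bc k X K) ⟨Curv2.bcSnd k X K⟩ y c) =
          algebraMap K _ c) ∧
      (∃ EA : X.presheaf.stalk (Curv2.bcFst k X K y) ≃+*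
          Localization.AtPrime (𝔓.comap (inc k R K)),
        ∀ c : k, EA (Curv2.stalkMap k X (Curv2.bcFst k X K y) c) = algebraMap k _ c) ∧
      (IsClosed ({Curv2.bcFst k X K y} : Set X) ↔ (𝔓.comap (inc k R K)).IsMaximal) ∧
      (IsClosed ({y} : Set ↥(Curv2.bc k X K)) ↔ 𝔓.IsMaximal) := by
  obtain ⟨R, _, _, hft, 𝔓₀, _, ⟨eB, heB⟩, ⟨eA, heA⟩, hclx, hcly⟩ := exists_model' k X K y
  obtain ⟨𝔓, _, h𝔭, hmaxiff, Θ, hΘ⟩ := exists_comm_model' (k := k) (R := R) (K := K) 𝔓₀
  obtain ⟨ε, hε⟩ := exists_locEquiv_of_eq (I := 𝔓.comap (inc k R K))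
    (J := 𝔓₀.comap (Algebra.TensorProduct.includeLeftRingHom : R →+* R ⊗[k] K)) h𝔭
  refine ⟨R, inferInstance, inferInstance, hft, 𝔓, inferInstance, ⟨eB.trans Θ, fun c => ?_⟩,
    ⟨eA.trans ε.symm, fun c => ?_⟩, ?_, ?_⟩
  · rw [RingEquiv.trans_apply, heB, hΘ,
      IsScalarTower.algebraMap_apply K (K ⊗[k] R) (Localization.AtPrime 𝔓)]
    rfl
  · rw [RingEquiv.trans_apply, heA, RingEquiv.symm_apply_eq,
      IsScalarTower.algebraMap_apply k R (Localization.AtPrime (𝔓.comap (inc k R K))), hε]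
  · rw [hclx, h𝔭]
  · rw [hcly, hmaxiff]

end Model4

section LemmaG

variable (k : Type u) [Field k] (X : Scheme.{u}) [X.Over (Spec (CommRingCat.of k))]
  [LocallyOfFiniteType (X ↘ Spec (CommRingCat.of k))]
  (Ω : Type u) [Field Ω] [Algebra k Ω] [IsAlgClosed Ω]

/-- **For any algebraically closed extension `Ω / k` and any point `xb` of `X_Ω` over a closed point
`x` of `X`: the local ring at `xb` is an ordinary double point iff `κ(x) / k` is separable and
`O_{X,x}` satisfies the algebraic node criterion.** -/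
theorem isOrdDoublePt_stalk_iff_nodeCrit (xb : ↥(Curv2.bc k X Ω))
    (hx : IsClosed ({Curv2.bcFst k X Ω xb} : Set X)) :
    @Curv2.IsOrdDoublePt Ω _ ((Curv2.bc k X Ω).presheaf.stalk xb) _
      (@Curv2.stalkAlgebra Ω _ (Curv2.bc k X Ω) ⟨Curv2.bcSnd k X Ω⟩ xb) _ ↔
      (Algebra.IsSeparable k (ResidueField (X.presheaf.stalk (Curv2.bcFst k X Ω xb))) ∧
        IsReduced (X.presheaf.stalk (Curv2.bcFst k X Ω xb)) ∧
        Module.finrank (ResidueField (X.presheaf.stalk (Curv2.bcFst k X Ω xb)))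
          (CotangentSpace (X.presheaf.stalk (Curv2.bcFst k X Ω xb))) = 2 ∧
        HasQuad (X.presheaf.stalk (Curv2.bcFst k X Ω xb))) := by
  haveI : IsLocallyNoetherian X :=
    LocallyOfFiniteType.isLocallyNoetherian (X ↘ Spec (CommRingCat.of k))
  obtain ⟨R, _, _, hft, χ, hmax, ⟨EB, hEB⟩, ⟨EA, hEA⟩⟩ := exists_model_chi k X Ω xb hx
  haveI : IsNoetherianRing R := Algebra.FiniteType.isNoetherianRing k R
  haveI : IsLocallyNoetherian (Curv2.bc k X Ω) :=
    LocallyOfFiniteType.isLocallyNoetherian (Curv2.bcSnd k X Ω)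
  letI : (Curv2.bc k X Ω).Over (Spec (CommRingCat.of Ω)) := ⟨Curv2.bcSnd k X Ω⟩
  constructor
  · intro hodp
    have h1 : Curv2.IsOrdDoublePt Ω (Localization.AtPrime (PP χ)) :=
      isOrdDoublePt_of_ringEquiv' EB Ω hEB hodp
    obtain ⟨hsep, hnc⟩ := (isOrdDoublePt_iff_nodeCrit χ).mp h1
    have hEA' : ∀ c : k, EA.symm (algebraMap k (Localization.AtPrime (pp χ)) c) =
        algebraMap k (X.presheaf.stalk (Curv2.bcFst k X Ω xb)) c := by
      intro c
      rw [RingEquiv.symm_apply_eq]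
      exact (hEA c).symm
    exact ⟨isSeparable_residueField_of_ringEquiv EA.symm k hEA', nodeCrit_of_ringEquiv EA.symm hnc⟩
  · rintro ⟨hsep, hnc⟩
    haveI := hsep
    have h1 : Curv2.IsOrdDoublePt Ω (Localization.AtPrime (PP χ)) :=
      (isOrdDoublePt_iff_nodeCrit χ).mpr
        ⟨isSeparable_residueField_of_ringEquiv EA k hEA, nodeCrit_of_ringEquiv EA hnc⟩
    have hEB' : ∀ c : Ω, EB.symm (algebraMap Ω (Localization.AtPrime (PP χ)) c) =
        algebraMap Ω ((Curv2.bc k X Ω).presheaf.stalk xb) c := by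
      intro c
      rw [RingEquiv.symm_apply_eq]
      exact (hEB c).symm
    exact isOrdDoublePt_of_ringEquiv' EB.symm Ω hEB' h1

end LemmaG

section Dim

theorem krullDim_scheme_eq (X : Scheme.{u}) : Order.krullDim X = topologicalKrullDim X := by
  letI := specializationOrder X
  exact (Order.krullDim_eq_of_orderIso (irreducibleSetEquivPoints (α := X))).symm

/-- a non-closed point of a scheme of dimension at most one has codimension zero -/
theorem coheight_eq_zero_of_not_isClosed {X : Scheme.{u}} (hdim : topologicalKrullDim X ≤ 1)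
    (x : X) (hx : ¬ IsClosed ({x} : Set X)) : Order.coheight x = 0 := by
  have hne : closure ({x} : Set X) ≠ {x} := fun h => hx (h ▸ isClosed_closure)
  obtain ⟨x', hx', hxx'⟩ : ∃ x' ∈ closure ({x} : Set X), x' ≠ x := by
    by_contra hcon
    push Not at hcon
    apply hne
    apply Set.Subset.antisymm
    · intro z hz
      exact hcon z hz
    · exact subset_closure
  have hsp : x ⤳ x' := specializes_iff_mem_closure.mpr hx'
  have hlt : x' < x := by
    refine lt_of_le_not_ge hsp ?_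
    intro h
    exact hxx' (Specializes.antisymm h hsp).eq
  have h1 := Order.coheight_add_one_le hlt
  have h2 : (Order.coheight x' : WithBot ℕ∞) ≤ 1 :=
    (Order.coheight_le_krullDim x').trans ((krullDim_scheme_eq X).le.trans hdim)
  have h3 : Order.coheight x' ≤ 1 := by exact_mod_cast h2
  have h4 : Order.coheight x + 1 ≤ 1 := h1.trans h3
  have h5 : Order.coheight x + 1 ≤ 0 + 1 := by simpa using h4
  have h6 := (ENat.add_le_add_iff_right (by simp)).mp h5
  exact le_antisymm h6 (by simp)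

/-- a reduced local ring at a non-closed point of a scheme of dimension at most one is a field -/
theorem isField_stalk_of_not_isClosed {X : Scheme.{u}} (hdim : topologicalKrullDim X ≤ 1)
    (x : X) (hx : ¬ IsClosed ({x} : Set X)) [IsReduced (X.presheaf.stalk x)] :
    IsField (X.presheaf.stalk x) := by
  have h0 := coheight_eq_zero_of_not_isClosed hdim x hx
  haveI : Ring.KrullDimLE 0 (X.presheaf.stalk x) :=
    krullDimLE_of_coheight_le (by rw [h0]; rfl)
  exact Ring.KrullDimLE.isField_of_isReduced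

end Dim

section Trans

variable (k : Type u) [Field k] (X : Scheme.{u}) [X.Over (Spec (CommRingCat.of k))]
  (K : Type u) [Field K] [Algebra k K] (Ω : Type u) [Field Ω] [Algebra K Ω] [Algebra k Ω]
  [IsScalarTower k K Ω]

lemma specMap_comp_algebraMap :
    Spec.map (CommRingCat.ofHom (algebraMap K Ω)) ≫ Spec.map (CommRingCat.ofHom (algebraMap k K)) =
      Spec.map (CommRingCat.ofHom (algebraMap k Ω)) := by
  rw [← Spec.map_comp, ← CommRingCat.ofHom_comp, ← IsScalarTower.algebraMap_eq]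

/-- transitivity of base change: `(X_K)_Ω ≅ X_Ω` -/
noncomputable def bcTrans :
    @Curv2.bc K _ (Curv2.bc k X K) ⟨Curv2.bcSnd k X K⟩ Ω _ _ ≅ Curv2.bc k X Ω :=
  pullbackLeftPullbackSndIso (X ↘ Spec (CommRingCat.of k))
      (Spec.map (CommRingCat.ofHom (algebraMap k K)))
      (Spec.map (CommRingCat.ofHom (algebraMap K Ω))) ≪≫
    pullback.congrHom rfl (specMap_comp_algebraMap k K Ω)

lemma bcTrans_hom_fst : (bcTrans k X K Ω).hom ≫ Curv2.bcFst k X Ω =
    @Curv2.bcFst K _ (Curv2.bc k X K) ⟨Curv2.bcSnd k X K⟩ Ω _ _ ≫ Curv2.bcFst k X K := by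
  unfold bcTrans
  rw [Iso.trans_hom, Category.assoc]
  change _ ≫ _ ≫ pullback.fst _ _ = pullback.fst _ _ ≫ pullback.fst _ _
  rw [pullback.congrHom_hom, pullback.lift_fst, Category.comp_id]
  exact pullbackLeftPullbackSndIso_hom_fst _ _ _

lemma bcTrans_hom_snd : (bcTrans k X K Ω).hom ≫ Curv2.bcSnd k X Ω =
    @Curv2.bcSnd K _ (Curv2.bc k X K) ⟨Curv2.bcSnd k X K⟩ Ω _ _ := by
  unfold bcTrans
  rw [Iso.trans_hom, Category.assoc]
  change _ ≫ _ ≫ pullback.snd _ _ = pullback.snd _ _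
  rw [pullback.congrHom_hom, pullback.lift_snd, Category.comp_id]
  exact pullbackLeftPullbackSndIso_hom_snd _ _ _

end Trans

section Main

variable (k : Type u) [Field k] (X : Scheme.{u}) [X.Over (Spec (CommRingCat.of k))]
  [LocallyOfFiniteType (X ↘ Spec (CommRingCat.of k))]
  (K : Type u) [Field K] [Algebra k K]

/-- variant of `isOrdDoublePt_stalk_iff_nodeCrit` with a free image point -/
theorem isOrdDoublePt_stalk_iff_nodeCrit' (Ω : Type u) [Field Ω] [Algebra k Ω] [IsAlgClosed Ω]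
    (x : X) (xb : ↥(Curv2.bc k X Ω)) (hxb : Curv2.bcFst k X Ω xb = x)
    (hx : IsClosed ({x} : Set X)) :
    @Curv2.IsOrdDoublePt Ω _ ((Curv2.bc k X Ω).presheaf.stalk xb) _
      (@Curv2.stalkAlgebra Ω _ (Curv2.bc k X Ω) ⟨Curv2.bcSnd k X Ω⟩ xb) _ ↔
      (Algebra.IsSeparable k (ResidueField (X.presheaf.stalk x)) ∧
        IsReduced (X.presheaf.stalk x) ∧
        Module.finrank (ResidueField (X.presheaf.stalk x))
          (CotangentSpace (X.presheaf.stalk x)) = 2 ∧
        HasQuad (X.presheaf.stalk x)) := by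
  subst hxb
  exact isOrdDoublePt_stalk_iff_nodeCrit k X Ω xb hx

variable (Ω : Type u) [Field Ω] [Algebra K Ω] [Algebra k Ω] [IsScalarTower k K Ω]

/-- ordinary double points correspond under `(X_K)_Ω ≅ X_Ω` -/
theorem isOrdDoublePt_bcTrans
    (yb : ↥(@Curv2.bc K _ (Curv2.bc k X K) ⟨Curv2.bcSnd k X K⟩ Ω _ _)) :
    @Curv2.IsOrdDoublePt Ω _ ((Curv2.bc k X Ω).presheaf.stalk ((bcTrans k X K Ω).hom yb)) _
      (@Curv2.stalkAlgebra Ω _ (Curv2.bc k X Ω) ⟨Curv2.bcSnd k X Ω⟩
        ((bcTrans k X K Ω).hom yb)) _ ↔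
    @Curv2.IsOrdDoublePt Ω _
      ((@Curv2.bc K _ (Curv2.bc k X K) ⟨Curv2.bcSnd k X K⟩ Ω _ _).presheaf.stalk yb) _
      (@Curv2.stalkAlgebra Ω _ (@Curv2.bc K _ (Curv2.bc k X K) ⟨Curv2.bcSnd k X K⟩ Ω _ _)
        ⟨@Curv2.bcSnd K _ (Curv2.bc k X K) ⟨Curv2.bcSnd k X K⟩ Ω _ _⟩ yb) _ := by
  refine Groth.Agent.Lib.Helper20.NodeEtale.isOrdDoublePt_stalk_iff_of_residue_bijective Ω
    (Curv2.bcSnd k X Ω) (@Curv2.bcSnd K _ (Curv2.bc k X K) ⟨Curv2.bcSnd k X K⟩ Ω _ _)
    (bcTrans k X K Ω).hom (bcTrans_hom_snd k X K Ω) yb ?_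
  exact (ResidueField.mapEquiv
    (asIso ((bcTrans k X K Ω).hom.stalkMap yb)).commRingCatIsoToRingEquiv).bijective

end Main

section Main2

variable (k : Type u) [Field k] (X : Scheme.{u}) [X.Over (Spec (CommRingCat.of k))]
  [LocallyOfFiniteType (X ↘ Spec (CommRingCat.of k))]
  (K : Type u) [Field K] [Algebra k K]

/-- **Nodes and extension of the base field**: for `X` locally of finite type over `k` of dimension
at most one, a point `y` of `X_K` is a node iff its image in `X` is a node. -/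
theorem isNode_bcFst_iff (hdim : topologicalKrullDim X ≤ 1) (y : ↥(Curv2.bc k X K)) :
    Curv2.IsNode k X (Curv2.bcFst k X K y) ↔
      @Curv2.IsNode K _ (Curv2.bc k X K) ⟨Curv2.bcSnd k X K⟩ y := by
  letI ovK : (Curv2.bc k X K).Over (Spec (CommRingCat.of K)) := ⟨Curv2.bcSnd k X K⟩
  haveI lftK : LocallyOfFiniteType (Curv2.bc k X K ↘ Spec (CommRingCat.of K)) :=
    (inferInstance : LocallyOfFiniteType (Curv2.bcSnd k X K))
  haveI : IsLocallyNoetherian X :=
    LocallyOfFiniteType.isLocallyNoetherian (X ↘ Spec (CommRingCat.of k))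
  haveI : IsLocallyNoetherian (Curv2.bc k X K) :=
    LocallyOfFiniteType.isLocallyNoetherian (Curv2.bcSnd k X K)
  obtain ⟨R, _, _, hft, 𝔓, _, ⟨EB, hEB⟩, ⟨EA, hEA⟩, hclx, hcly⟩ := exists_model_comm k X K y
  haveI : IsNoetherianRing R := Algebra.FiniteType.isNoetherianRing k R
  -- the transitivity isomorphism and points over `y`
  have hsurj : Surjective (Spec.map (CommRingCat.ofHom (algebraMap K (AlgebraicClosure K)))) :=
    ⟨fun _ => ⟨IsLocalRing.closedPoint (AlgebraicClosure K), Subsingleton.elim _ _⟩⟩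
  have hsurj' : Surjective (Curv2.bcFst K (Curv2.bc k X K) (AlgebraicClosure K)) :=
    MorphismProperty.pullback_fst (P := @Surjective) _ _ hsurj
  have hfst : ∀ yb : ↥(Curv2.bc K (Curv2.bc k X K) (AlgebraicClosure K)),
      Curv2.bcFst K (Curv2.bc k X K) (AlgebraicClosure K) yb = y →
      Curv2.bcFst k X (AlgebraicClosure K) ((bcTrans k X K (AlgebraicClosure K)).hom yb) =
        Curv2.bcFst k X K y := by
    intro yb hyb
    have := congr(($(bcTrans_hom_fst k X K (AlgebraicClosure K))) yb)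
    rw [← hyb]
    exact this
  constructor
  · intro hnode
    have hx := hnode.1
    have hy : IsClosed ({y} : Set ↥(Curv2.bc k X K)) :=
      hcly.mpr (isMaximal_of_comap_isMaximal 𝔓 (hclx.mp hx))
    have hnc := (isNode_iff_nodeCrit k X _ hx).mp hnode
    obtain ⟨yb, hyb⟩ := (Curv2.bcFst K (Curv2.bc k X K) (AlgebraicClosure K)).surjective y
    refine ⟨hy, yb, hyb, ?_⟩
    have h1 := (isOrdDoublePt_stalk_iff_nodeCrit' k X (AlgebraicClosure K) _ _
      (hfst yb hyb) hx).mpr hnc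
    exact (isOrdDoublePt_bcTrans k X K (AlgebraicClosure K) yb).mp h1
  · rintro ⟨hy, yb, hyb, hodp⟩
    have hx : IsClosed ({Curv2.bcFst k X K y} : Set X) := by
      by_contra hx
      obtain ⟨hsepB, hredB, hfinB, hqB⟩ :=
        (isNode_iff_nodeCrit K (Curv2.bc k X K) y hy).mp ⟨hy, yb, hyb, hodp⟩
      haveI := hsepB
      obtain ⟨hred', hfin', hq'⟩ := nodeCrit_of_ringEquiv EB ⟨hredB, hfinB, hqB⟩
      haveI : Algebra.IsSeparable K (ResidueField (Localization.AtPrime 𝔓)) :=
        isSeparable_residueField_of_ringEquiv EB K hEB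
      have hflat : (locHom' 𝔓).Flat :=
        RingHom.Flat.localRingHom (inc_flat k R K) 𝔓 (𝔓.comap (inc k R K)) rfl
      haveI : IsLocalHom (locHom' 𝔓) := Localization.isLocalHom_localRingHom _ _ _ _
      haveI := hred'
      haveI : IsReduced (Localization.AtPrime (𝔓.comap (inc k R K))) :=
        isReduced_of_flat_local (locHom' 𝔓) hflat
      haveI : IsReduced (X.presheaf.stalk (Curv2.bcFst k X K y)) :=
        isReduced_of_injective (EA : _ →+* Localization.AtPrime (𝔓.comap (inc k R K)))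
          EA.injective
      have hf := isField_stalk_of_not_isClosed hdim _ hx
      have hf' : IsField (Localization.AtPrime (𝔓.comap (inc k R K))) :=
        EA.symm.toMulEquiv.isField hf
      exact hx (hclx.mpr (isMaximal_comap_of_hasQuad 𝔓 hf' hfin' hq'))
    have h1 := (isOrdDoublePt_bcTrans k X K (AlgebraicClosure K) yb).mpr hodp
    have hnc := (isOrdDoublePt_stalk_iff_nodeCrit' k X (AlgebraicClosure K) _ _
      (hfst yb hyb) hx).mp h1
    exact (isNode_iff_nodeCrit k X _ hx).mpr hnc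

end Main2

end Groth.Agent.Lib.Helper20.NodeCrit
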