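import Mathlib
import Groth.Prelude
import Groth.Agent.Lib.Helper20.NodeCritExtGeom
import Groth.Agent.Lib.Helper20.NodalFamEtale
import Groth.Agent.Lib.Helper38.GRSm
import Groth.Agent.Lib.Helper55.DimSup
import Groth.Agent.Lib.Helper89.DenseOpenDim
import Groth.Agent.S1589
import Groth.Agent.S4673

/-!
# At-worst-nodal curves and families under base change (helper20)
-/

set_option autoImplicit false
set_option linter.style.haveILetI false
universe u

open CategoryTheory CategoryTheory.Limits AlgebraicGeometry TensorProduct IsLocalRing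

namespace Groth.Agent.Lib.Helper20.NodalBC

open Groth.Agent.Lib.Helper20.NodeCrit

section Top

/-- the dimension of a sober space is bounded by the dimensions of its irreducible components -/
theorem topologicalKrullDim_le_of_irreducibleComponents {X : Type*} [TopologicalSpace X]
    [QuasiSober X] [T0Space X] (d : WithBot ℕ∞)
    (h : ∀ Z ∈ irreducibleComponents X, topologicalKrullDim Z ≤ d) :
    topologicalKrullDim X ≤ d := by
  rw [Groth.Agent.Lib.Helper55.topologicalKrullDim_eq_iSup_closure]
  refine iSup_le fun x => ?_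
  obtain ⟨Z, hZ, hxZ⟩ := exists_mem_irreducibleComponents_subset_of_isIrreducible
    (closure ({x} : Set X)) isIrreducible_singleton.closure
  exact ((Topology.IsEmbedding.inclusion hxZ).isInducing.topologicalKrullDim_le).trans (h Z hZ)

end Top

section Field

variable (k : Type u) [Field k] (F : Scheme.{u}) [F.Over (Spec (CommRingCat.of k))]
  [LocallyOfFiniteType (F ↘ Spec (CommRingCat.of k))]

/-- on an at-worst-nodal curve every point has a smooth neighbourhood or is a (closed) node -/
theorem smooth_or_node
    (hequi : ∀ Z ∈ irreducibleComponents (F : Type u), topologicalKrullDim Z = 1)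
    (hnod : Curv2.AtWorstNodal k F) (x : F) :
    (∃ U : F.Opens, x ∈ U ∧ Smooth (U.ι ≫ (F ↘ Spec (CommRingCat.of k)))) ∨
      Curv2.IsNode k F x := by
  by_cases hx : IsClosed ({x} : Set F)
  · exact hnod x hx
  · left
    haveI : IsLocallyNoetherian F :=
      LocallyOfFiniteType.isLocallyNoetherian (F ↘ Spec (CommRingCat.of k))
    have hlfp : LocallyOfFinitePresentation (F ↘ Spec (CommRingCat.of k)) := inferInstance
    haveI hgr : GeometricallyReduced (F ↘ Spec (CommRingCat.of k)) :=
      (Groth.Agent.S1589.result k F hequi hnod).2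
    haveI : IsReduced F :=
      GeometricallyReduced.isReduced_of_flat_of_isLocallyNoetherian
        (F ↘ Spec (CommRingCat.of k))
    have hdense := Groth.Agent.Lib.Helper38.GRSm.dense_smoothLocus (F ↘ Spec (CommRingCat.of k))
    have hdim : topologicalKrullDim F ≤ 1 :=
      topologicalKrullDim_le_of_irreducibleComponents 1 fun Z hZ => (hequi Z hZ).le
    have hco := coheight_eq_zero_of_not_isClosed hdim x hx
    have hmax : IsMax x := Order.coheight_eq_zero.mp hco
    have hmax' : ∀ ξ : F, ξ ⤳ x → ξ = x := by
      intro ξ hξ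
      have h1 : x ≤ ξ := hξ
      have h2 : ξ ≤ x := hmax h1
      exact (Specializes.antisymm hξ h2).eq
    have hmem : x ∈ ((F ↘ Spec (CommRingCat.of k)).smoothLocus : Set F) :=
      Groth.Agent.Lib.Helper89.DenseOpenDim.mem_of_dense_of_maximal F _
        (F ↘ Spec (CommRingCat.of k)).smoothLocus.isOpen hdense x hmax'
    refine ⟨(F ↘ Spec (CommRingCat.of k)).smoothLocus, hmem, ?_⟩
    rw [← Scheme.Hom.smoothLocus_eq_top_iff, ← Scheme.Hom.preimage_smoothLocus_eq]
    exact Scheme.Opens.ι_preimage_self _

end Field

section BC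

variable (k : Type u) [Field k] (F : Scheme.{u}) [F.Over (Spec (CommRingCat.of k))]
  [LocallyOfFiniteType (F ↘ Spec (CommRingCat.of k))] (K : Type u) [Field K] [Algebra k K]

omit [LocallyOfFiniteType (F ↘ Spec (CommRingCat.of k))] in
/-- a smooth open pulls back to a smooth open of the base change -/
theorem smooth_preimage_bc (U : F.Opens) (hU : Smooth (U.ι ≫ (F ↘ Spec (CommRingCat.of k)))) :
    Smooth ((Curv2.bcFst k F K ⁻¹ᵁ U).ι ≫ Curv2.bcSnd k F K) := by
  have top := isPullback_morphismRestrict (Curv2.bcFst k F K) U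
  have bot : IsPullback (Curv2.bcFst k F K) (Curv2.bcSnd k F K) (F ↘ Spec (CommRingCat.of k))
      (Spec.map (CommRingCat.ofHom (algebraMap k K))) := IsPullback.of_hasPullback _ _
  exact MorphismProperty.of_isPullback (P := @Smooth) (top.paste_vert bot) hU

/-- **At-worst-nodal curves stay at-worst-nodal after extension of the base field.** -/
theorem atWorstNodal_bc
    (hequi : ∀ Z ∈ irreducibleComponents (F : Type u), topologicalKrullDim Z = 1)
    (hnod : Curv2.AtWorstNodal k F) :
    @Curv2.AtWorstNodal K _ (Curv2.bc k F K) ⟨Curv2.bcSnd k F K⟩ := by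
  have hdim : topologicalKrullDim F ≤ 1 :=
    topologicalKrullDim_le_of_irreducibleComponents 1 fun Z hZ => (hequi Z hZ).le
  intro y hy
  rcases smooth_or_node k F hequi hnod (Curv2.bcFst k F K y) with ⟨U, hxU, hU⟩ | hnode
  · left
    exact ⟨Curv2.bcFst k F K ⁻¹ᵁ U, hxU, smooth_preimage_bc k F K U hU⟩
  · right
    exact (isNode_bcFst_iff k F K hdim y).mp hnode

/-- the irreducible components of the base change of an equidimensional curve have dimension
one -/
theorem equidim_bc
    (hequi : ∀ Z ∈ irreducibleComponents (F : Type u), topologicalKrullDim Z = 1) :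
    ∀ Z ∈ irreducibleComponents (Curv2.bc k F K : Type u), topologicalKrullDim Z = 1 := by
  intro Z hZ
  have h := Groth.Agent.S4673.result (k := k) (K := K) (F ↘ Spec (CommRingCat.of k))
  have h1 : topologicalKrullDim ↥Z ∈ (fun Z : Set ↥F => topologicalKrullDim ↥Z) ''
      irreducibleComponents ↥F := by
    rw [← h]
    exact ⟨Z, hZ, rfl⟩
  obtain ⟨W, hW, hWZ⟩ := h1
  rw [← hWZ]
  exact hequi W hW

end BC

section Family

/-- the fibre of a base change is the base change of the fibre -/
theorem exists_fiber_iso {X S S' T T' : Scheme.{u}} (f : X ⟶ S) (g : S' ⟶ S) (σ : T ⟶ S)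
    (σ' : T' ⟶ S') (r : T' ⟶ T) (w : σ' ≫ g = r ≫ σ) :
    ∃ Ψ : pullback (pullback.snd f g) σ' ≅ pullback (pullback.snd f σ) r,
      Ψ.hom ≫ pullback.snd (pullback.snd f σ) r = pullback.snd (pullback.snd f g) σ' := by
  refine ⟨pullbackLeftPullbackSndIso f g σ' ≪≫ pullback.congrHom rfl w ≪≫
    (pullbackLeftPullbackSndIso f σ r).symm, ?_⟩
  rw [Iso.trans_hom, Iso.trans_hom, Iso.symm_hom, Category.assoc, Category.assoc,
    pullbackLeftPullbackSndIso_inv_snd_snd, pullback.congrHom_hom, pullback.lift_snd,
    Category.comp_id, pullbackLeftPullbackSndIso_hom_snd]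

/-- **At-worst-nodal families of curves are stable under base change.** -/
theorem isNodalFamily_pullback_snd {X S S' : Scheme.{u}} (f : X ⟶ S) (g : S' ⟶ S)
    (hf : Curv2.IsNodalFamily f) : Curv2.IsNodalFamily (pullback.snd f g) := by
  obtain ⟨hfl, hfp, hfib⟩ := hf
  refine ⟨inferInstance, inferInstance, fun s' => ?_⟩
  obtain ⟨hdimF, hnodF⟩ := hfib (g s')
  letI alg : Algebra (S.residueField (g s')) (S'.residueField s') :=
    (g.residueFieldMap s').hom.toAlgebra
  have w : S'.fromSpecResidueField s' ≫ g =
      Spec.map (CommRingCat.ofHom (algebraMap (S.residueField (g s')) (S'.residueField s'))) ≫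
        S.fromSpecResidueField (g s') :=
    (Scheme.Hom.SpecMap_residueFieldMap_fromSpecResidueField g s').symm
  letI ovF : (pullback f (S.fromSpecResidueField (g s'))).Over
      (Spec (CommRingCat.of ↑(S.residueField (g s')))) :=
    ⟨pullback.snd f (S.fromSpecResidueField (g s'))⟩
  have lftF : LocallyOfFiniteType (pullback f (S.fromSpecResidueField (g s')) ↘
      Spec (CommRingCat.of ↑(S.residueField (g s')))) :=
    (inferInstance : LocallyOfFiniteType (pullback.snd f (S.fromSpecResidueField (g s'))))
  obtain ⟨Ψ, hΨ⟩ := exists_fiber_iso f g (S.fromSpecResidueField (g s'))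
    (S'.fromSpecResidueField s')
    (Spec.map (CommRingCat.ofHom (algebraMap (S.residueField (g s')) (S'.residueField s')))) w
  have hlft : LocallyOfFiniteType (Curv2.bcSnd (S.residueField (g s'))
      (pullback f (S.fromSpecResidueField (g s'))) (S'.residueField s')) := inferInstance
  constructor
  · exact Groth.Agent.Lib.Helper20.NodalFamEtale.dim_irreducibleComponents_of_etale
      (S'.residueField s')
      (Curv2.bcSnd (S.residueField (g s')) (pullback f (S.fromSpecResidueField (g s')))
        (S'.residueField s'))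
      (pullback.snd (pullback.snd f g) (S'.fromSpecResidueField s')) Ψ.hom hΨ 1
      (equidim_bc _ _ _ hdimF)
  · exact Groth.Agent.Lib.Helper20.NodalFamEtale.atWorstNodal_of_etale
      (S'.residueField s')
      (Curv2.bcSnd (S.residueField (g s')) (pullback f (S.fromSpecResidueField (g s')))
        (S'.residueField s'))
      (pullback.snd (pullback.snd f g) (S'.fromSpecResidueField s')) Ψ.hom hΨ
      (atWorstNodal_bc _ _ _ hdimF hnodF)

end Family

end Groth.Agent.Lib.Helper20.NodalBC
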