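import Mathlib
import Groth.Prelude
import Groth.Agent.Lib.Helper20.NodalBC
import Groth.Agent.Lib.Helper14.SmoothFlatDescent
import Groth.Agent.Lib.Helper58.FpqcLocal
import Groth.Agent.Lib.Helper24.SmoothLocusField

/-!
# Descent of at-worst-nodal curves and families (helper20)
-/

set_option autoImplicit false
set_option linter.style.haveILetI false
universe u

open CategoryTheory CategoryTheory.Limits AlgebraicGeometry TensorProduct IsLocalRing

namespace Groth.Agent.Lib.Helper20.NodalDesc

open Groth.Agent.Lib.Helper20.NodeCrit Groth.Agent.Lib.Helper20.NodalBC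

section Field

variable (k : Type u) [Field k] (F : Scheme.{u}) [F.Over (Spec (CommRingCat.of k))]
  [LocallyOfFiniteType (F ↘ Spec (CommRingCat.of k))] (K : Type u) [Field K] [Algebra k K]

/-- the irreducible components of `F` have dimension one if those of `F_K` do -/
theorem equidim_of_bc
    (hequi : ∀ Z ∈ irreducibleComponents (Curv2.bc k F K : Type u), topologicalKrullDim Z = 1) :
    ∀ Z ∈ irreducibleComponents (F : Type u), topologicalKrullDim Z = 1 := by
  intro Z hZ
  have h := Groth.Agent.S4673.result (k := k) (K := K) (F ↘ Spec (CommRingCat.of k))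
  have h1 : topologicalKrullDim ↥Z ∈ (fun Z : Set ↥(FBase.bc (F ↘ Spec (CommRingCat.of k)) K) =>
      topologicalKrullDim ↥Z) '' irreducibleComponents ↥(FBase.bc (F ↘ Spec (CommRingCat.of k)) K) := by
    rw [h]
    exact ⟨Z, hZ, rfl⟩
  obtain ⟨W, hW, hWZ⟩ := h1
  rw [← hWZ]
  exact hequi W hW

/-- **At-worst-nodal singularities descend along extension of the base field.** -/
theorem atWorstNodal_of_bc (hdim : topologicalKrullDim F ≤ 1)
    (hnod : @Curv2.AtWorstNodal K _ (Curv2.bc k F K) ⟨Curv2.bcSnd k F K⟩) :
    Curv2.AtWorstNodal k F := by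
  intro x hx
  haveI : JacobsonSpace ↥(Curv2.bc k F K) :=
    LocallyOfFiniteType.jacobsonSpace (Curv2.bcSnd k F K)
  have hlfp : LocallyOfFinitePresentation (F ↘ Spec (CommRingCat.of k)) := inferInstance
  have hlfp' : LocallyOfFinitePresentation (Curv2.bcSnd k F K) := inferInstance
  have hsurj : Surjective (Spec.map (CommRingCat.ofHom (algebraMap k K))) :=
    ⟨fun _ => ⟨IsLocalRing.closedPoint K, Subsingleton.elim _ _⟩⟩
  have hsurj' : Surjective (Curv2.bcFst k F K) :=
    MorphismProperty.pullback_fst (P := @Surjective) _ _ hsurj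
  -- a closed point over `x`
  have hne : ((Curv2.bcFst k F K) ⁻¹' {x}).Nonempty := by
    obtain ⟨y, hy⟩ := (Curv2.bcFst k F K).surjective x
    exact ⟨y, hy⟩
  have hcl : IsClosed ((Curv2.bcFst k F K) ⁻¹' {x}) := hx.preimage (Curv2.bcFst k F K).continuous
  obtain ⟨y, hyx, hyc⟩ := nonempty_inter_closedPoints hne hcl.isLocallyClosed
  have hyx' : Curv2.bcFst k F K y = x := hyx
  subst hyx'
  rcases hnod y (mem_closedPoints_iff.mp hyc) with ⟨V, hyV, hV⟩ | hnode
  · left
    have hmem : y ∈ (Curv2.bcSnd k F K).smoothLocus :=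
      Groth.Agent.Lib.Helper24.le_smoothLocus_of_smooth (Curv2.bcSnd k F K) V hV hyV
    have hflat : ((Spec.map (CommRingCat.ofHom (algebraMap k K))).stalkMap
        (Curv2.bcSnd k F K y)).hom.Flat := by
      haveI : Flat (Spec.map (CommRingCat.ofHom (algebraMap k K))) := inferInstance
      exact Flat.stalkMap _ _
    have hx' : Curv2.bcFst k F K y ∈ (F ↘ Spec (CommRingCat.of k)).smoothLocus :=
      Groth.Agent.Lib.Helper14.mem_smoothLocus_fst_of_isPullback
        (IsPullback.of_hasPullback (F ↘ Spec (CommRingCat.of k))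
          (Spec.map (CommRingCat.ofHom (algebraMap k K)))) y hflat hmem
    exact ⟨_, hx', Groth.Agent.Lib.Helper24.smooth_ι_comp_of_le_smoothLocus _ _ le_rfl⟩
  · right
    exact (isNode_bcFst_iff k F K hdim y).mpr hnode

end Field

section Family

/-- **At-worst-nodal families descend along fpqc base change.** -/
theorem isNodalFamily_of_pullback_snd {X S S' : Scheme.{u}} (f : X ⟶ S) (g : S' ⟶ S)
    [Flat g] [QuasiCompact g] [Surjective g]
    (h : Curv2.IsNodalFamily (pullback.snd f g)) : Curv2.IsNodalFamily f := by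
  obtain ⟨hfl', hfp', hfib'⟩ := h
  have hQ : (@Surjective ⊓ @Flat ⊓ @QuasiCompact : MorphismProperty Scheme.{u}) g :=
    ⟨⟨inferInstance, inferInstance⟩, inferInstance⟩
  haveI := Groth.Agent.Lib.Helper58.FpqcLocal.flat_descendsAlong.{u}
  have hfl : Flat f :=
    MorphismProperty.of_pullback_snd_of_descendsAlong (P := @Flat)
      (Q := @Surjective ⊓ @Flat ⊓ @QuasiCompact) hQ hfl'
  have hfp : LocallyOfFinitePresentation f :=
    MorphismProperty.of_pullback_snd_of_descendsAlong (P := @LocallyOfFinitePresentation)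
      (Q := @Surjective ⊓ @Flat ⊓ @QuasiCompact) hQ hfp'
  refine ⟨hfl, hfp, fun s => ?_⟩
  obtain ⟨s', rfl⟩ := g.surjective s
  obtain ⟨hdimF', hnodF'⟩ := hfib' s'
  letI alg : Algebra (S.residueField (g s')) (S'.residueField s') :=
    (g.residueFieldMap s').hom.toAlgebra
  have w : S'.fromSpecResidueField s' ≫ g =
      Spec.map (CommRingCat.ofHom (algebraMap (S.residueField (g s')) (S'.residueField s'))) ≫
        S.fromSpecResidueField (g s') :=
    (Scheme.Hom.SpecMap_residueFieldMap_fromSpecResidueField g s').symm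
  letI ovF : (pullback f (S.fromSpecResidueField (g s'))).Over
      (Spec (CommRingCat.of ↑(S.residueField (g s')))) :=
    ⟨pullback.snd f (S.fromSpecResidueField (g s'))⟩
  have lftF : LocallyOfFiniteType (pullback f (S.fromSpecResidueField (g s')) ↘
      Spec (CommRingCat.of ↑(S.residueField (g s')))) :=
    (inferInstance : LocallyOfFiniteType (pullback.snd f (S.fromSpecResidueField (g s'))))
  obtain ⟨Ψ, hΨ⟩ := exists_fiber_iso f g (S.fromSpecResidueField (g s'))
    (S'.fromSpecResidueField s')
    (Spec.map (CommRingCat.ofHom (algebraMap (S.residueField (g s')) (S'.residueField s')))) w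
  have hΨ' : Ψ.inv ≫ pullback.snd (pullback.snd f g) (S'.fromSpecResidueField s') =
      Curv2.bcSnd (S.residueField (g s')) (pullback f (S.fromSpecResidueField (g s')))
        (S'.residueField s') := by
    rw [Iso.inv_comp_eq]
    exact hΨ.symm
  have hlft : LocallyOfFiniteType
      (pullback.snd (pullback.snd f g) (S'.fromSpecResidueField s')) := inferInstance
  have hdimBC := Groth.Agent.Lib.Helper20.NodalFamEtale.dim_irreducibleComponents_of_etale
    (S'.residueField s') (pullback.snd (pullback.snd f g) (S'.fromSpecResidueField s'))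
    (Curv2.bcSnd (S.residueField (g s')) (pullback f (S.fromSpecResidueField (g s')))
      (S'.residueField s')) Ψ.inv hΨ' 1 hdimF'
  have hnodBC := Groth.Agent.Lib.Helper20.NodalFamEtale.atWorstNodal_of_etale
    (S'.residueField s') (pullback.snd (pullback.snd f g) (S'.fromSpecResidueField s'))
    (Curv2.bcSnd (S.residueField (g s')) (pullback f (S.fromSpecResidueField (g s')))
      (S'.residueField s')) Ψ.inv hΨ' hnodF'
  have hdimF := equidim_of_bc _ _ _ hdimBC
  have hdim : topologicalKrullDim ↥(pullback f (S.fromSpecResidueField (g s'))) ≤ 1 :=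
    topologicalKrullDim_le_of_irreducibleComponents 1 fun Z hZ => (hdimF Z hZ).le
  exact ⟨hdimF, atWorstNodal_of_bc (S.residueField (g s'))
    (pullback f (S.fromSpecResidueField (g s'))) (S'.residueField s') hdim hnodBC⟩

end Family

end Groth.Agent.Lib.Helper20.NodalDesc
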