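import Groth.Agent.Lib.Helper20.NodalFamEtale
import Groth.Agent.Lib.Helper7.FlatDescent
import Groth.Agent.H52.SmoothSource
import Groth.Agent.H53.FppfSource

/-!
# At-worst-nodal families: étale covers of the source
-/

set_option autoImplicit false

universe u

namespace Groth.Agent.Lib.Helper20.NodalFamCover

open CategoryTheory CategoryTheory.Limits AlgebraicGeometry IsLocalRing

section Dim

variable (k : Type u) [Field k] {P Q : Scheme.{u}} (p : P ⟶ Spec (CommRingCat.of k))
  (q : Q ⟶ Spec (CommRingCat.of k)) (h : Q ⟶ P) (hq : h ≫ p = q) [LocallyOfFiniteType p] [Etale h]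

include hq in
/-- If all irreducible components of `Q` have dimension `d`, `h : Q ⟶ P` is étale over a field and
the generic point of a component `Z` of `P` is in the image of `h`, then `Z` has dimension `d`. -/
theorem dim_eq_of_mem_range (d : WithBot ℕ∞)
    (hQ : ∀ Z ∈ irreducibleComponents (Q : Type u), topologicalKrullDim Z = d)
    (Z : Set P) (hZ : Z ∈ irreducibleComponents (P : Type u)) (ξ : P) (hξ : closure {ξ} = Z)
    (z : Q) (hz : h z = ξ) : topologicalKrullDim Z = d := by
  have hZ' : irreducibleComponent z ∈ irreducibleComponents (Q : Type u) :=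
    irreducibleComponent_mem_irreducibleComponents z
  obtain ⟨η, hη⟩ := QuasiSober.sober hZ'.1 (isClosed_of_mem_irreducibleComponents _ hZ')
  have hcl : closure {η} = irreducibleComponent z := hη.def
  have h1 : η ⤳ z := by
    rw [specializes_iff_mem_closure, hcl]
    exact mem_irreducibleComponent
  have h2 : h η ⤳ ξ := hz ▸ h1.map h.continuous
  have h3 : Z ⊆ closure {h η} := by
    rw [← hξ]
    exact closure_minimal (Set.singleton_subset_iff.mpr (specializes_iff_mem_closure.mp h2))
      isClosed_closure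
  have h4 : closure {h η} = Z := (hZ.2 isIrreducible_singleton.closure h3).antisymm h3
  rw [← h4, ← NodalFamEtale.dim_closure_eq_of_etale k p q h hq η, hcl]
  exact hQ _ hZ'

omit [LocallyOfFiniteType p] in
include hq in
/-- A smooth neighbourhood upstairs gives a smooth neighbourhood of the image. -/
theorem smooth_nbhd_of_etale (z : Q) (U' : Q.Opens) (hz : z ∈ U') (hsm : Smooth (U'.ι ≫ q)) :
    ∃ V : P.Opens, h z ∈ V ∧ Smooth (V.ι ≫ p) := by
  let V : P.Opens := ⟨h '' (U' : Set Q), h.isOpenMap _ U'.2⟩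
  have hle : U' ≤ h ⁻¹ᵁ V := fun w hw => ⟨w, hw, rfl⟩
  refine ⟨V, ⟨z, hz, rfl⟩, ?_⟩
  let a : U'.toScheme ⟶ V.toScheme := h.resLE V U' hle
  have ha : a ≫ V.ι = U'.ι ≫ h := Scheme.Hom.resLE_comp_ι _ _
  have hae : Etale a := inferInstance
  have has : Surjective a := ⟨fun v => by
    obtain ⟨w, hw, hwv⟩ := v.2
    refine ⟨⟨w, hw⟩, V.ι.injective ?_⟩
    rw [← Scheme.Hom.comp_apply, ha]
    exact hwv⟩
  apply H52.smooth_of_comp_etale_surjective a (V.ι ≫ p)
  rw [← Category.assoc, ha, Category.assoc, hq]
  exact hsm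

include hq in
/-- "Smooth near or a node" descends along an étale morphism over a field. -/
theorem smooth_or_node_of_etale (z : Q)
    (hz : (∃ U' : Q.Opens, z ∈ U' ∧ Smooth (U'.ι ≫ q)) ∨ @Curv2.IsNode k _ Q ⟨q⟩ z) :
    (∃ V : P.Opens, h z ∈ V ∧ Smooth (V.ι ≫ p)) ∨ @Curv2.IsNode k _ P ⟨p⟩ (h z) := by
  rcases hz with ⟨U', hzU', hU'⟩ | hnode
  · left
    exact smooth_nbhd_of_etale k p q h hq z U' hzU' hU'
  · right
    subst hq
    letI : P.Over (Spec (CommRingCat.of k)) := ⟨p⟩
    have hp : LocallyOfFiniteType (P ↘ Spec (CommRingCat.of k)) := ‹LocallyOfFiniteType p›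
    exact (NodeEtale.isNode_iff_of_etale k P h z).mpr hnode

end Dim

section Fib

variable {X Y S : Scheme.{u}} (f : X ⟶ S) (g : Y ⟶ X) (s : S)

/-- The map on fibres induced by `g : Y ⟶ X` over `S`. -/
noncomputable def fibMap : pullback (g ≫ f) (S.fromSpecResidueField s) ⟶
    pullback f (S.fromSpecResidueField s) :=
  pullback.map (g ≫ f) (S.fromSpecResidueField s) f (S.fromSpecResidueField s) g (𝟙 _) (𝟙 _)
    (by simp) (by simp)

lemma fibMap_fst : fibMap f g s ≫ pullback.fst f (S.fromSpecResidueField s) =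
    pullback.fst (g ≫ f) (S.fromSpecResidueField s) ≫ g := by
  unfold fibMap
  exact pullback.lift_fst _ _ _

lemma fibMap_snd : fibMap f g s ≫ pullback.snd f (S.fromSpecResidueField s) =
    pullback.snd (g ≫ f) (S.fromSpecResidueField s) := by
  unfold fibMap
  rw [pullback.lift_snd]
  exact Category.comp_id _

lemma fibMap_isPullback : IsPullback (fibMap f g s)
    (pullback.fst (g ≫ f) (S.fromSpecResidueField s))
    (pullback.fst f (S.fromSpecResidueField s)) g := by
  refine IsPullback.of_right ?_ (fibMap_fst f g s)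
    (IsPullback.of_hasPullback f (S.fromSpecResidueField s)).flip
  have h := (IsPullback.of_hasPullback (g ≫ f) (S.fromSpecResidueField s)).flip
  rw [fibMap_snd]
  exact h

instance [Etale g] : Etale (fibMap f g s) :=
  MorphismProperty.of_isPullback (P := @Etale) (fibMap_isPullback f g s).flip inferInstance

end Fib

section Main

theorem isNodalFamily_of_etale_cover {X S : Scheme.{u}} (f : X ⟶ S) (ι : Type u)
    (U : ι → Scheme.{u}) (g : ∀ i, U i ⟶ X) [∀ i, Etale (g i)]
    (hsurj : ∀ x : X, ∃ i, x ∈ Set.range (g i).base)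
    (h : ∀ i, Curv2.IsNodalFamily (g i ≫ f)) : Curv2.IsNodalFamily f := by
  have hflat : Flat f := by
    rw [Flat.iff_flat_stalkMap]
    intro y
    obtain ⟨i, x, rfl⟩ := hsurj y
    have := (h i).1
    have h1 : ((g i ≫ f).stalkMap x).hom.Flat := Flat.stalkMap (g i ≫ f) x
    rw [Scheme.Hom.stalkMap_comp] at h1
    have h3 : ((g i).stalkMap x).hom.FaithfullyFlat := by
      algebraize [((g i).stalkMap x).hom]
      have : IsLocalHom (algebraMap (X.presheaf.stalk ((g i) x)) ((U i).presheaf.stalk x)) :=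
        inferInstanceAs (IsLocalHom ((g i).stalkMap x).hom)
      have : Module.Flat (X.presheaf.stalk ((g i) x)) ((U i).presheaf.stalk x) :=
        Flat.stalkMap (g i) x
      exact Module.FaithfullyFlat.of_flat_of_isLocalHom
    exact Groth.Agent.Lib.Helper7.ringHom_flat_of_comp_of_faithfullyFlat _ _ h3 h1
  have hlfp : LocallyOfFinitePresentation f :=
    Groth.Agent.H53.FppfSource.lfp_of_fppf_family U g f (fun i => ⟨inferInstance, inferInstance⟩)
      hsurj (fun i => (h i).2.1)
  refine ⟨hflat, hlfp, fun s => ?_⟩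
  have hlft : LocallyOfFiniteType (pullback.snd f (S.fromSpecResidueField s)) := inferInstance
  have key : ∀ x : ↥(pullback f (S.fromSpecResidueField s)),
      ∃ (i : ι) (z : ↥(pullback (g i ≫ f) (S.fromSpecResidueField s))), fibMap f (g i) s z = x := by
    intro x
    obtain ⟨i, u, hu⟩ := hsurj (pullback.fst f (S.fromSpecResidueField s) x)
    obtain ⟨z, hz1, -⟩ := Scheme.exists_preimage_of_isPullback (fibMap_isPullback f (g i) s) x u
      hu.symm
    exact ⟨i, z, hz1⟩
  constructor
  · intro Z hZ
    obtain ⟨ξ, hξ⟩ := QuasiSober.sober hZ.1 (isClosed_of_mem_irreducibleComponents Z hZ)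
    obtain ⟨i, z, hz⟩ := key ξ
    exact dim_eq_of_mem_range (S.residueField s) (pullback.snd f (S.fromSpecResidueField s))
      (pullback.snd (g i ≫ f) (S.fromSpecResidueField s)) (fibMap f (g i) s)
      (fibMap_snd f (g i) s) 1 ((h i).2.2 s).1 Z hZ ξ hξ.def z hz
  · intro x hx
    obtain ⟨i, z, rfl⟩ := key x
    have hzc : IsClosed ({z} : Set ↥(pullback (g i ≫ f) (S.fromSpecResidueField s))) :=
      NodeEtale.isClosed_singleton_of_etale _ (fibMap f (g i) s) z hx
    exact smooth_or_node_of_etale (S.residueField s) (pullback.snd f (S.fromSpecResidueField s))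
      (pullback.snd (g i ≫ f) (S.fromSpecResidueField s)) (fibMap f (g i) s)
      (fibMap_snd f (g i) s) z (((h i).2.2 s).2 z hzc)

end Main

end Groth.Agent.Lib.Helper20.NodalFamCover
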