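import Groth.Agent.Lib.Helper20.NodeSepExt
import Groth.Agent.Lib.Helper20.NodalFamCover

/-!
# At-worst-nodal families: post-composition with an étale morphism of the base
-/

set_option autoImplicit false

universe u

namespace Groth.Agent.Lib.Helper20.NodalFamBase

open CategoryTheory CategoryTheory.Limits AlgebraicGeometry IsLocalRing

section Res

variable {S' S : Scheme.{u}} (e : S' ⟶ S) [Etale e] (s' : S')

/-- The residue field extension of an étale morphism is finite. -/
theorem finite_residueFieldMap :
    letI : Algebra (S.residueField (e s')) (S'.residueField s') :=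
      (e.residueFieldMap s').hom.toAlgebra
    Module.Finite (S.residueField (e s')) (S'.residueField s') := by
  algebraize [(e.stalkMap s').hom]
  have : IsLocalHom (algebraMap (S.presheaf.stalk (e s')) (S'.presheaf.stalk s')) :=
    inferInstanceAs <| IsLocalHom (e.stalkMap s').hom
  have : Algebra.EssFiniteType (S.presheaf.stalk (e s')) (S'.presheaf.stalk s') := by
    rw [← RingHom.essFiniteType_algebraMap, RingHom.algebraMap_toAlgebra]
    exact LocallyOfFiniteType.stalkMap e s'
  have : Algebra.FormallyUnramified (S.presheaf.stalk (e s')) (S'.presheaf.stalk s') := by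
    rw [← RingHom.formallyUnramified_algebraMap, RingHom.algebraMap_toAlgebra]
    exact FormallyUnramified.stalkMap e s'
  have hfin : Module.Finite (ResidueField (S.presheaf.stalk (e s')))
      (ResidueField (S'.presheaf.stalk s')) := inferInstance
  have h1 : (algebraMap (ResidueField (S.presheaf.stalk (e s')))
      (ResidueField (S'.presheaf.stalk s'))).Finite := RingHom.finite_algebraMap.mpr hfin
  have h2 : algebraMap (ResidueField (S.presheaf.stalk (e s')))
      (ResidueField (S'.presheaf.stalk s')) = (e.residueFieldMap s').hom := by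
    ext x
    obtain ⟨x, rfl⟩ := IsLocalRing.residue_surjective x
    rfl
  rw [h2] at h1
  exact h1

end Res

section Main

variable {X S S' : Scheme.{u}} (e : S' ⟶ S) [Etale e] (f : X ⟶ S')

theorem fiber_aux (hf : Curv2.IsNodalFamily f) (s' : S') (s : S) (hs : e s' = s) :
    (∀ Z ∈ irreducibleComponents ↥(pullback (f ≫ e) (S.fromSpecResidueField s)),
      ∀ ξ, closure {ξ} = Z → f (pullback.fst (f ≫ e) (S.fromSpecResidueField s) ξ) = s' →
        topologicalKrullDim Z = 1) ∧
    (∀ x : ↥(pullback (f ≫ e) (S.fromSpecResidueField s)), IsClosed ({x} : Set _) →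
      f (pullback.fst (f ≫ e) (S.fromSpecResidueField s) x) = s' →
      (∃ V : (pullback (f ≫ e) (S.fromSpecResidueField s)).Opens, x ∈ V ∧
        Smooth (V.ι ≫ pullback.snd (f ≫ e) (S.fromSpecResidueField s))) ∨
      @Curv2.IsNode (S.residueField s) _ (pullback (f ≫ e) (S.fromSpecResidueField s))
        ⟨pullback.snd (f ≫ e) (S.fromSpecResidueField s)⟩ x) := by
  subst hs
  obtain ⟨hfl, hfp, hfib⟩ := hf
  letI alg : Algebra (S.residueField (e s')) (S'.residueField s') :=
    (e.residueFieldMap s').hom.toAlgebra
  have hsep : Algebra.IsSeparable (S.residueField (e s')) (S'.residueField s') := inferInstance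
  have hfin : Module.Finite (S.residueField (e s')) (S'.residueField s') :=
    finite_residueFieldMap e s'
  let r : Spec (S'.residueField s') ⟶ Spec (S.residueField (e s')) :=
    Spec.map (CommRingCat.ofHom (algebraMap (S.residueField (e s')) (S'.residueField s')))
  have hr : Etale r := NodeSepExt.etale_SpecMap_of_isSeparable ↑(S.residueField (e s'))
    ↑(S'.residueField s')
  have w : S'.fromSpecResidueField s' ≫ e = r ≫ S.fromSpecResidueField (e s') :=
    (Scheme.Hom.SpecMap_residueFieldMap_fromSpecResidueField e s').symm
  let J := NodeSepExt.jMap f e (S.fromSpecResidueField (e s')) (S'.fromSpecResidueField s') r w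
  have hJ : Etale J := NodeSepExt.jMap_etale _ _ _ _ _ _
  have hJfst : J ≫ pullback.fst (f ≫ e) (S.fromSpecResidueField (e s')) =
      pullback.fst f (S'.fromSpecResidueField s') := NodeSepExt.jMap_fst f e _ _ r w
  have hq : J ≫ pullback.snd (f ≫ e) (S.fromSpecResidueField (e s')) =
      pullback.snd f (S'.fromSpecResidueField s') ≫ r := NodeSepExt.jMap_snd f e _ _ r w
  have key : ∀ x : ↥(pullback (f ≫ e) (S.fromSpecResidueField (e s'))),
      f (pullback.fst (f ≫ e) (S.fromSpecResidueField (e s')) x) = s' → ∃ z, J z = x := by
    intro x hx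
    obtain ⟨z, hz1, -⟩ := Scheme.exists_preimage_of_isPullback
      (IsPullback.of_hasPullback f (S'.fromSpecResidueField s'))
      (pullback.fst (f ≫ e) (S.fromSpecResidueField (e s')) x)
      (IsLocalRing.closedPoint (S'.residueField s'))
      (by rw [hx]; exact (Scheme.fromSpecResidueField_apply s' _).symm)
    refine ⟨z, ((f ≫ e).fiberι (e s')).isEmbedding.injective ?_⟩
    show (pullback.fst (f ≫ e) (S.fromSpecResidueField (e s'))) (J z) =
      pullback.fst (f ≫ e) (S.fromSpecResidueField (e s')) x
    rw [← hz1, ← Scheme.Hom.comp_apply, hJfst]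
  have hlft : LocallyOfFiniteType (pullback.snd (f ≫ e) (S.fromSpecResidueField (e s'))) :=
    inferInstance
  constructor
  · intro Z hZ ξ hξ hξs
    obtain ⟨z, hz⟩ := key ξ hξs
    exact NodalFamCover.dim_eq_of_mem_range (S.residueField (e s'))
      (pullback.snd (f ≫ e) (S.fromSpecResidueField (e s')))
      (pullback.snd f (S'.fromSpecResidueField s') ≫ r) J hq 1 (hfib s').1 Z hZ ξ hξ z hz
  · intro x hx hxs
    obtain ⟨z, rfl⟩ := key x hxs
    have hzc : IsClosed ({z} : Set ↥(pullback f (S'.fromSpecResidueField s'))) :=
      NodeEtale.isClosed_singleton_of_etale _ J z hx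
    refine NodalFamCover.smooth_or_node_of_etale (S.residueField (e s'))
      (pullback.snd (f ≫ e) (S.fromSpecResidueField (e s')))
      (pullback.snd f (S'.fromSpecResidueField s') ≫ r) J hq z ?_
    rcases (hfib s').2 z hzc with ⟨U', hzU', hU'⟩ | hnode
    · left
      refine ⟨U', hzU', ?_⟩
      have : Smooth (U'.ι ≫ pullback.snd f (S'.fromSpecResidueField s')) := hU'
      rw [← Category.assoc]
      have hrs : Smooth r := inferInstance
      exact MorphismProperty.comp_mem _ _ _ this hrs
    · right
      letI : (pullback f (S'.fromSpecResidueField s')).Over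
          (Spec (CommRingCat.of ↑(S'.residueField s'))) := ⟨pullback.snd f _⟩
      have : LocallyOfFiniteType (pullback f (S'.fromSpecResidueField s') ↘
          Spec (CommRingCat.of ↑(S'.residueField s'))) :=
        (inferInstance : LocallyOfFiniteType (pullback.snd f (S'.fromSpecResidueField s')))
      exact NodeSepExt.isNode_of_isNode_sepExt (S.residueField (e s')) (S'.residueField s') _ z
        hnode

theorem isNodalFamily_comp_etale_base (hf : Curv2.IsNodalFamily f) :
    Curv2.IsNodalFamily (f ≫ e) := by
  have hfl : Flat f := hf.1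
  have hfp : LocallyOfFinitePresentation f := hf.2.1
  refine ⟨inferInstance, inferInstance, fun s => ?_⟩
  have hpt : ∀ x : ↥(pullback (f ≫ e) (S.fromSpecResidueField s)),
      e (f (pullback.fst (f ≫ e) (S.fromSpecResidueField s) x)) = s := by
    intro x
    have h1 := congrArg (fun g => g.base x)
      (pullback.condition (f := f ≫ e) (g := S.fromSpecResidueField s))
    simp only [Scheme.Hom.comp_base, TopCat.comp_app] at h1
    rw [Scheme.fromSpecResidueField_apply] at h1
    exact h1
  constructor
  · intro Z hZ
    obtain ⟨ξ, hξ⟩ := QuasiSober.sober hZ.1 (isClosed_of_mem_irreducibleComponents Z hZ)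
    exact (fiber_aux e f hf _ s (hpt ξ)).1 Z hZ ξ hξ.def rfl
  · intro x hx
    exact (fiber_aux e f hf _ s (hpt x)).2 x hx rfl

end Main

end Groth.Agent.Lib.Helper20.NodalFamBase
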