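import Groth.Agent.Lib.Helper20.NodeCritBasic
import Groth.Agent.Lib.Helper85.RegularLocal

/-!
# A regular local ring of embedding dimension two carries no nondegenerate quadratic relation
-/

set_option autoImplicit false
universe u

namespace Groth.Agent.Lib.Helper20.NodeCrit

open IsLocalRing

variable {A : Type u} [CommRing A]

/-- in a regular local ring of embedding dimension two with `𝔪 = (x, y) + 𝔪²`, a quadratic form
in `x, y` lying in `𝔪³` has its `x²`-coefficient in `𝔪`. -/
theorem coeff_mem_of_regular [IsRegularLocalRing A]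
    (hfin : Module.finrank (ResidueField A) (CotangentSpace A) = 2)
    {x y a b c : A} (hx : x ∈ maximalIdeal A) (hy : y ∈ maximalIdeal A)
    (hspan : Ideal.span {x, y} ⊔ maximalIdeal A ^ 2 = maximalIdeal A)
    (h : a * x ^ 2 + b * x * y + c * y ^ 2 ∈ maximalIdeal A ^ 3) : a ∈ maximalIdeal A := by
  -- `y ∉ 𝔪²`
  have hy2 : y ∉ maximalIdeal A ^ 2 := by
    intro hy2
    have := (mem_of_lincomb_mem_sq hfin hx hy hspan 0 1 (by simpa using hy2)).2
    exact (maximalIdeal.isMaximal A).ne_top ((Ideal.eq_top_iff_one _).mpr this)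
  -- `𝔪 = (x, y)`
  have hm : maximalIdeal A = Ideal.span {x, y} := by
    apply le_antisymm
    · apply Submodule.le_of_le_smul_of_le_jacobson_bot (I := maximalIdeal A)
        (maximalIdeal A).fg_of_isNoetherianRing
        (IsLocalRing.jacobson_eq_maximalIdeal _ bot_ne_top).ge
      rw [smul_eq_mul, ← pow_two]
      exact hspan.ge
    · rw [Ideal.span_le]
      rintro z (rfl | rfl)
      · exact hx
      · exact hy
  obtain ⟨hreg, -⟩ := Groth.Agent.Lib.Helper85.isRegularLocalRing_quotient_span_singleton y hy hy2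
  haveI : IsDomain (A ⧸ Ideal.span ({y} : Set A)) :=
    Groth.Agent.Lib.Helper85.isDomain_of_isRegularLocalRing _
  set π := Ideal.Quotient.mk (Ideal.span ({y} : Set A)) with hπ
  have hπy : π y = 0 := Ideal.Quotient.eq_zero_iff_mem.mpr (Ideal.mem_span_singleton_self y)
  -- the image of `𝔪³`
  have himg : (maximalIdeal A ^ 3).map π = Ideal.span {π x ^ 3} := by
    rw [Ideal.map_pow, hm, Ideal.map_span, Set.image_pair, hπy, Ideal.span_pair_comm,
      Ideal.span_insert_zero, Ideal.span_singleton_pow]
  have h1 : π (a * x ^ 2 + b * x * y + c * y ^ 2) ∈ Ideal.span {π x ^ 3} := by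
    rw [← himg]
    exact Ideal.mem_map_of_mem _ h
  obtain ⟨d, hd⟩ := Ideal.mem_span_singleton'.mp h1
  obtain ⟨d, rfl⟩ := Ideal.Quotient.mk_surjective d
  have h2 : π x ^ 2 * (π a - π d * π x) = 0 := by
    have : π (a * x ^ 2 + b * x * y + c * y ^ 2) = π a * π x ^ 2 := by
      simp only [map_add, map_mul, map_pow, hπy]
      ring
    rw [this] at hd
    linear_combination -hd
  rcases mul_eq_zero.mp h2 with h3 | h3
  · -- `x ∈ (y)`: impossible
    exfalso
    have hx0 : π x = 0 := pow_eq_zero_iff (two_ne_zero) |>.mp h3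
    obtain ⟨t, ht⟩ := Ideal.mem_span_singleton'.mp (Ideal.Quotient.eq_zero_iff_mem.mp hx0)
    have := (mem_of_lincomb_mem_sq hfin hx hy hspan 1 (-t) (by
      rw [← ht]; ring_nf; exact zero_mem _)).1
    exact (maximalIdeal.isMaximal A).ne_top ((Ideal.eq_top_iff_one _).mpr this)
  · have h4 : a - d * x ∈ Ideal.span ({y} : Set A) := by
      apply Ideal.Quotient.eq_zero_iff_mem.mp
      rw [map_sub, map_mul]
      exact h3
    have h5 : a - d * x ∈ maximalIdeal A :=
      (Ideal.span_singleton_le_iff_mem _).mpr hy h4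
    have := Ideal.add_mem _ h5 (Ideal.mul_mem_left _ d hx)
    rwa [sub_add_cancel] at this

/-- **A regular local ring with two-dimensional cotangent space carries no nondegenerate
quadratic relation modulo `𝔪³`.** -/
theorem not_hasQuad_of_regular [IsRegularLocalRing A]
    (hfin : Module.finrank (ResidueField A) (CotangentSpace A) = 2) (hq : HasQuad A) : False := by
  obtain ⟨x, y, a, b, c, hx, hy, hspan, hdisc, hrel⟩ := hq
  have ha : a ∈ maximalIdeal A := coeff_mem_of_regular hfin hx hy hspan hrel
  have hc : c ∈ maximalIdeal A := by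
    refine coeff_mem_of_regular (b := b) (c := a) hfin hy hx (by rwa [Ideal.span_pair_comm]) ?_
    have : c * y ^ 2 + b * y * x + a * x ^ 2 = a * x ^ 2 + b * x * y + c * y ^ 2 := by ring
    rwa [this]
  have habc : a + b + c ∈ maximalIdeal A := by
    refine coeff_mem_of_regular (x := x) (y := y + x * (-1)) (b := b + 2 * c) (c := c) hfin hx
      (Ideal.add_mem _ hy (Ideal.mul_mem_right _ _ hx))
      (by rwa [Ideal.span_pair_add_left_mul]) ?_
    have : (a + b + c) * x ^ 2 + (b + 2 * c) * x * (y + x * (-1)) + c * (y + x * (-1)) ^ 2 =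
        a * x ^ 2 + b * x * y + c * y ^ 2 := by ring
    rwa [this]
  have hb : b ∈ maximalIdeal A := by
    have := Ideal.sub_mem _ (Ideal.sub_mem _ habc ha) hc
    have e : a + b + c - a - c = b := by ring
    rwa [e] at this
  apply hdisc
  rw [residue_eq_zero_iff]
  exact Ideal.sub_mem _ (Ideal.mul_mem_left _ _ hc) (Ideal.pow_mem_of_mem _ hb 2 (by norm_num))

end Groth.Agent.Lib.Helper20.NodeCrit
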