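import Mathlib
import Groth.Prelude
import Groth.Agent.Lib.Helper20.NodalBC
import Groth.Agent.Lib.Helper20.NodeCritReg
import Groth.Agent.Lib.Helper20.NodeEtale
import Groth.Agent.Lib.Helper24.SmoothRegularPoint
import Groth.Agent.Lib.Helper24.SmoothLocusField
import Groth.Agent.Lib.Helper85.RegularLocal

/-!
# Reduced closed subcurves of at-worst-nodal curves (helper20)

`atWorstNodal_of_isClosedImmersion`: a reduced closed subscheme, all of whose irreducible components
have dimension one, of an equidimensional at-worst-nodal curve over a field is at-worst-nodal.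
-/

set_option autoImplicit false
set_option linter.style.haveILetI false
universe u

open CategoryTheory CategoryTheory.Limits AlgebraicGeometry TensorProduct IsLocalRing

attribute [local instance] Curv2.stalkAlgebra

namespace Groth.Agent.Lib.Helper20.NodalSub

open Groth.Agent.Lib.Helper20.NodeCrit

section Alg

variable {A B : Type u} [CommRing A] [CommRing B]

/-- a surjection from a domain of dimension `≤ 1` onto a ring of dimension `≥ 1` is injective -/
theorem injective_of_surjective_of_dim [IsDomain A] (φ : A →+* B) (hφ : Function.Surjective φ)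
    (hA : ringKrullDim A ≤ 1) (hB : 1 ≤ ringKrullDim B) : Function.Injective φ := by
  rw [injective_iff_map_eq_zero]
  intro a ha
  by_contra hne
  have hr : a ∈ nonZeroDivisors A := mem_nonZeroDivisors_of_ne_zero hne
  have h1 := ringKrullDim_quotient_succ_le_of_nonZeroDivisor hr
  have hle : Ideal.span {a} ≤ RingHom.ker φ := by
    rw [Ideal.span_singleton_le_iff_mem]
    exact ha
  have h2 : ringKrullDim B ≤ ringKrullDim (A ⧸ Ideal.span {a}) :=
    ringKrullDim_le_of_surjective (Ideal.Quotient.lift _ φ (fun x hx => hle hx)) (by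
      intro b
      obtain ⟨a', rfl⟩ := hφ b
      exact ⟨Ideal.Quotient.mk _ a', by simp⟩)
  have h3 : (1 : WithBot ℕ∞) + 1 ≤ 1 :=
    (add_le_add_left (hB.trans h2) 1).trans (h1.trans hA)
  have h4 : ((2 : ℕ) : WithBot ℕ∞) ≤ ((1 : ℕ) : WithBot ℕ∞) := by
    have e : ((2 : ℕ) : WithBot ℕ∞) = 1 + 1 := by norm_num
    rw [e]
    exact_mod_cast h3
  have h5 : (2 : ℕ) ≤ 1 := by exact_mod_cast h4
  omega

variable [IsLocalRing A] [IsLocalRing B]

/-- the image of a node ring under a surjection onto a one-dimensional local ring either still has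
the quadratic relation or is regular -/
theorem hasQuad_or_regular_of_surjective [IsNoetherianRing A] [IsNoetherianRing B]
    (φ : A →+* B) (hφ : Function.Surjective φ) (hq : HasQuad A)
    (hB1 : 1 ≤ ringKrullDim B) :
    (Module.finrank (ResidueField B) (CotangentSpace B) = 2 ∧ HasQuad B) ∨
      IsRegularLocalRing B := by
  haveI : IsLocalHom φ := hφ.isLocalHom
  have hm := Groth.Agent.Lib.Helper85.maximalIdeal_map_of_surjective φ hφ
  obtain ⟨x, y, a, b, c, hx, hy, hspan, hdisc, hrel⟩ := hq
  have hmA : maximalIdeal A = Ideal.span {x, y} := by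
    apply le_antisymm
    · apply Submodule.le_of_le_smul_of_le_jacobson_bot (I := maximalIdeal A)
        (maximalIdeal A).fg_of_isNoetherianRing
        (IsLocalRing.jacobson_eq_maximalIdeal _ bot_ne_top).ge
      rw [smul_eq_mul, ← pow_two]
      exact hspan.ge
    · rw [Ideal.span_le]
      rintro z (rfl | rfl)
      · exact hx
      · exact hy
  have hmB : maximalIdeal B = Ideal.span {φ x, φ y} := by
    rw [← hm, hmA, Ideal.map_span, Set.image_pair]
  have h2 : (maximalIdeal B).spanFinrank ≤ 2 := by
    rw [hmB]
    refine (Submodule.spanFinrank_span_le_ncard_of_finite (Set.toFinite _)).trans ?_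
    exact (Set.ncard_insert_le _ _).trans (by simp)
  have hfr := IsLocalRing.spanFinrank_maximalIdeal_eq_finrank_cotangentSpace (R := B)
  have h1 : (1 : WithBot ℕ∞) ≤ ((maximalIdeal B).spanFinrank : WithBot ℕ∞) :=
    hB1.trans (ringKrullDim_le_spanFinrank_maximalIdeal B)
  have h1' : 1 ≤ (maximalIdeal B).spanFinrank := by exact_mod_cast h1
  rcases Nat.lt_or_ge (maximalIdeal B).spanFinrank 2 with hlt | hge
  · right
    have h3 : (maximalIdeal B).spanFinrank = 1 := by omega
    apply IsRegularLocalRing.of_spanFinrank_maximalIdeal_le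
    rw [h3]
    exact_mod_cast hB1
  · left
    have h3 : (maximalIdeal B).spanFinrank = 2 := by omega
    exact ⟨by rw [← hfr, h3], hasQuad_ascend' φ hm ⟨x, y, a, b, c, hx, hy, hspan, hdisc, hrel⟩⟩

/-- separability of the residue field passes to local quotients -/
theorem isSeparable_residueField_of_surjective (φ : A →+* B) (hφ : Function.Surjective φ)
    (k : Type u) [Field k] [Algebra k A] [Algebra k B]
    (he : ∀ c : k, φ (algebraMap k A c) = algebraMap k B c)
    [Algebra.IsSeparable k (ResidueField A)] : Algebra.IsSeparable k (ResidueField B) := by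
  haveI : IsLocalHom φ := hφ.isLocalHom
  let f : ResidueField A →ₐ[k] ResidueField B :=
    { ResidueField.map φ with
      commutes' := fun c => by
        change ResidueField.map φ (residue A (algebraMap k A c)) = residue B (algebraMap k B c)
        rw [← he]
        rfl }
  have hbij : Function.Bijective f := by
    refine ⟨(ResidueField.map φ).injective, fun b => ?_⟩
    obtain ⟨b, rfl⟩ := residue_surjective b
    obtain ⟨a, rfl⟩ := hφ b
    exact ⟨residue A a, rfl⟩
  exact AlgEquiv.Algebra.isSeparable (AlgEquiv.ofBijective f hbij)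

end Alg

section Top

/-- on a scheme all of whose irreducible components have dimension one, closed points have
codimension at least one -/
theorem one_le_coheight_of_isClosed {Y : Scheme.{u}}
    (hY : ∀ Z ∈ irreducibleComponents (Y : Type u), topologicalKrullDim Z = 1) (y : Y)
    (hy : IsClosed ({y} : Set Y)) : 1 ≤ Order.coheight y := by
  have hZ := irreducibleComponent_mem_irreducibleComponents y
  have hZirr : IsIrreducible (irreducibleComponent y) := isIrreducible_irreducibleComponent
  have hZcl : IsClosed (irreducibleComponent y) := isClosed_irreducibleComponent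
  obtain ⟨η, hη⟩ := QuasiSober.sober hZirr hZcl
  have hmem : y ∈ closure ({η} : Set Y) := by
    rw [hη.def]
    exact mem_irreducibleComponent
  have hsp : η ⤳ y := specializes_iff_mem_closure.mpr hmem
  have hne : η ≠ y := by
    intro hηy
    subst hηy
    have h1 : irreducibleComponent η = {η} := by
      rw [← hη.def]
      exact hy.closure_eq
    have h2 := hY _ hZ
    rw [h1] at h2
    have h3 : topologicalKrullDim (({η} : Set Y) : Type u) ≤ 0 :=
      topologicalKrullDim_zero_of_discreteTopology _
    rw [h2] at h3
    exact absurd h3 (by simp)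
  have hlt : y < η := by
    refine lt_of_le_not_ge hsp ?_
    intro h
    exact hne (Specializes.antisymm hsp h).eq
  have h1 := Order.coheight_add_one_le hlt
  exact le_trans (by simp) h1

end Top

section Scheme

variable (k : Type u) [Field k] (X : Scheme.{u}) [X.Over (Spec (CommRingCat.of k))]
  [LocallyOfFiniteType (X ↘ Spec (CommRingCat.of k))]

/-- **A reduced closed subscheme, with all irreducible components of dimension one, of an
equidimensional at-worst-nodal curve is at-worst-nodal.** -/
theorem atWorstNodal_of_isClosedImmersion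
    (hequi : ∀ Z ∈ irreducibleComponents (X : Type u), topologicalKrullDim Z = 1)
    (hX : Curv2.AtWorstNodal k X) {Y : Scheme.{u}} (i : Y ⟶ X) [IsClosedImmersion i]
    [IsReduced Y]
    (hY : ∀ Z ∈ irreducibleComponents (Y : Type u), topologicalKrullDim Z = 1) :
    @Curv2.AtWorstNodal k _ Y ⟨i ≫ (X ↘ Spec (CommRingCat.of k))⟩ := by
  letI : Y.Over (Spec (CommRingCat.of k)) := ⟨i ≫ (X ↘ Spec (CommRingCat.of k))⟩
  haveI : LocallyOfFiniteType (Y ↘ Spec (CommRingCat.of k)) := by
    show LocallyOfFiniteType (i ≫ (X ↘ Spec (CommRingCat.of k)))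
    infer_instance
  haveI : IsLocallyNoetherian X :=
    LocallyOfFiniteType.isLocallyNoetherian (X ↘ Spec (CommRingCat.of k))
  haveI : IsLocallyNoetherian Y :=
    LocallyOfFiniteType.isLocallyNoetherian (Y ↘ Spec (CommRingCat.of k))
  have hlfpX : LocallyOfFinitePresentation (X ↘ Spec (CommRingCat.of k)) := inferInstance
  have hlfpY : LocallyOfFinitePresentation (Y ↘ Spec (CommRingCat.of k)) := inferInstance
  intro y hy
  have hx : IsClosed ({i y} : Set X) := by
    have := i.isClosedEmbedding.isClosedMap _ hy
    rwa [Set.image_singleton] at this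
  have hφ : Function.Surjective (i.stalkMap y).hom := i.stalkMap_surjective y
  have hφk : (i.stalkMap y).hom.comp (Curv2.stalkMap k X (i y)) = Curv2.stalkMap k Y y :=
    Groth.Agent.Lib.Helper20.NodeEtale.stalkMap_comp_stalkMap k (X ↘ Spec (CommRingCat.of k))
      (Y ↘ Spec (CommRingCat.of k)) i rfl y
  have hdimY : 1 ≤ ringKrullDim (Y.presheaf.stalk y) := by
    rw [ringKrullDim_stalk_eq_coheight]
    exact_mod_cast one_le_coheight_of_isClosed hY y hy
  have hdimX : ringKrullDim (X.presheaf.stalk (i y)) ≤ 1 := by
    rw [ringKrullDim_stalk_eq_coheight]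
    refine (Order.coheight_le_krullDim (i y)).trans ((krullDim_scheme_eq X).le.trans ?_)
    exact Groth.Agent.Lib.Helper20.NodalBC.topologicalKrullDim_le_of_irreducibleComponents 1
      fun Z hZ => (hequi Z hZ).le
  rcases hX (i y) hx with ⟨U, hxU, hU⟩ | hnode
  · left
    have hxs : i y ∈ (X ↘ Spec (CommRingCat.of k)).smoothLocus :=
      Groth.Agent.Lib.Helper24.le_smoothLocus_of_smooth _ U hU hxU
    haveI hreg : IsRegularLocalRing (X.presheaf.stalk (i y)) :=
      Groth.Agent.Lib.Helper24.isRegularLocalRing_stalk_of_mem_smoothLocus k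
        (X ↘ Spec (CommRingCat.of k)) (i y) hxs
    haveI : IsDomain (X.presheaf.stalk (i y)) :=
      Groth.Agent.Lib.Helper85.isDomain_of_isRegularLocalRing _
    have hinj := injective_of_surjective_of_dim (i.stalkMap y).hom hφ hdimX hdimY
    have hys : y ∈ (Y ↘ Spec (CommRingCat.of k)).smoothLocus := by
      rw [Scheme.Hom.mem_smoothLocus]
      have e : (Y ↘ Spec (CommRingCat.of k)).stalkMap y =
          (X ↘ Spec (CommRingCat.of k)).stalkMap (i y) ≫ i.stalkMap y :=
        Scheme.Hom.stalkMap_comp i (X ↘ Spec (CommRingCat.of k)) y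
      rw [e]
      exact RingHom.FormallySmooth.comp (Scheme.Hom.mem_smoothLocus.mp hxs)
        (RingHom.FormallySmooth.of_bijective ⟨hinj, hφ⟩)
    exact ⟨_, hys, Groth.Agent.Lib.Helper24.smooth_ι_comp_of_le_smoothLocus _ _ le_rfl⟩
  · obtain ⟨hsep, hred, hfin, hquad⟩ := (isNode_iff_nodeCrit k X (i y) hx).mp hnode
    haveI := hsep
    have hsepY : Algebra.IsSeparable k (ResidueField (Y.presheaf.stalk y)) :=
      isSeparable_residueField_of_surjective (i.stalkMap y).hom hφ k
        (fun c => RingHom.congr_fun hφk c)
    rcases hasQuad_or_regular_of_surjective (i.stalkMap y).hom hφ hquad hdimY with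
      ⟨hfinY, hquadY⟩ | hreg
    · right
      exact (isNode_iff_nodeCrit k Y y hy).mpr ⟨hsepY, inferInstance, hfinY, hquadY⟩
    · left
      have hfe : Algebra.FormallyEtale k (ResidueField (Y.presheaf.stalk y)) :=
        Algebra.FormallyEtale.of_isSeparable k _
      have hfs : Algebra.FormallySmooth k (ResidueField (Y.presheaf.stalk y)) :=
        inferInstance
      have hres : (algebraMap k (ResidueField (Y.presheaf.stalk y))).FormallySmooth :=
        RingHom.formallySmooth_algebraMap.mpr hfs
      have hys : y ∈ (Y ↘ Spec (CommRingCat.of k)).smoothLocus :=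
        Groth.Agent.Lib.Helper24.mem_smoothLocus_of_isRegularLocalRing_of_formallySmooth_residueField
          k (Y ↘ Spec (CommRingCat.of k)) y hreg hres
      exact ⟨_, hys, Groth.Agent.Lib.Helper24.smooth_ι_comp_of_le_smoothLocus _ _ le_rfl⟩

end Scheme

end Groth.Agent.Lib.Helper20.NodalSub
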