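import Groth.Agent.Lib.Helper20.NodeSepExt
import Groth.Agent.Lib.Helper38.GaloisOrbit
import Groth.Agent.Lib.Helper55.FiberTrdeg

/-!
# All geometric points over a node are ordinary double points
-/

set_option autoImplicit false

universe u

namespace Groth.Agent.Lib.Helper20.NodeConj

open CategoryTheory CategoryTheory.Limits AlgebraicGeometry IsLocalRing TensorProduct

section Ring

variable (k L κ : Type u) [Field k] [Field L] [Algebra k L] [IsAlgClosed L]
  [Algebra.IsAlgebraic k L] [Field κ] [Algebra k κ] [Algebra.IsAlgebraic k κ]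

omit [Algebra.IsAlgebraic k κ] in
/-- Two `k`-embeddings of an algebraic extension into an algebraic closure differ by an
automorphism. -/
theorem exists_algEquiv_comp_eq (τ₁ τ₂ : κ →ₐ[k] L) :
    ∃ σ : L ≃ₐ[k] L, ∀ a, σ (τ₁ a) = τ₂ a := by
  haveI : IsAlgClosure k L := ⟨inferInstance, inferInstance⟩
  haveI : Normal k L := IsAlgClosure.normal k L
  let χ : τ₁.fieldRange ≃ₐ[k] τ₂.fieldRange :=
    (AlgEquiv.ofInjectiveField τ₁).symm.trans (AlgEquiv.ofInjectiveField τ₂)
  refine ⟨χ.liftNormal L, fun a => ?_⟩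
  have h1 := AlgEquiv.liftNormal_commutes χ L (AlgEquiv.ofInjectiveField τ₁ a)
  have h2 : χ (AlgEquiv.ofInjectiveField τ₁ a) = AlgEquiv.ofInjectiveField τ₂ a := by
    show (AlgEquiv.ofInjectiveField τ₂) ((AlgEquiv.ofInjectiveField τ₁).symm
      ((AlgEquiv.ofInjectiveField τ₁) a)) = _
    rw [AlgEquiv.symm_apply_apply]
  rw [h2] at h1
  exact h1

omit [Algebra.IsAlgebraic k L] in
/-- A prime of `L ⊗[k] κ` is the kernel of an `L`-algebra map to `L`. -/
theorem exists_algHom_ker_eq (P : Ideal (L ⊗[k] κ)) [P.IsPrime] :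
    ∃ θ : L ⊗[k] κ →ₐ[L] L, RingHom.ker θ = P := by
  have hint0 : Algebra.IsIntegral k κ := inferInstance
  have hint : Algebra.IsIntegral L (L ⊗[k] κ) := inferInstance
  have hint2 : Algebra.IsIntegral L ((L ⊗[k] κ) ⧸ P) := inferInstance
  have hbij : Function.Bijective (algebraMap L ((L ⊗[k] κ) ⧸ P)) :=
    IsAlgClosed.algebraMap_bijective_of_isIntegral
  let e : L ≃ₐ[L] (L ⊗[k] κ) ⧸ P := AlgEquiv.ofBijective (Algebra.ofId L _) hbij
  refine ⟨(e.symm : _ →ₐ[L] L).comp (Ideal.Quotient.mkₐ L P), ?_⟩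
  ext b
  rw [RingHom.mem_ker]
  show e.symm (Ideal.Quotient.mk P b) = 0 ↔ _
  rw [EmbeddingLike.map_eq_zero_iff, Ideal.Quotient.eq_zero_iff_mem]

/-- `Aut(L/k)` acts transitively on the primes of `L ⊗[k] κ`, for `L` an algebraic closure of `k`
and `κ/k` algebraic. -/
theorem exists_algClosed_comap_eq (P Q : Ideal (L ⊗[k] κ)) [P.IsPrime] [Q.IsPrime] :
    ∃ σ : L ≃ₐ[k] L, Q = P.comap
      (Algebra.TensorProduct.map (σ : L →ₐ[k] L) (AlgHom.id k κ)) := by
  obtain ⟨θP, hP⟩ := exists_algHom_ker_eq k L κ P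
  obtain ⟨θQ, hQ⟩ := exists_algHom_ker_eq k L κ Q
  let τP : κ →ₐ[k] L := (θP.restrictScalars k).comp Algebra.TensorProduct.includeRight
  let τQ : κ →ₐ[k] L := (θQ.restrictScalars k).comp Algebra.TensorProduct.includeRight
  obtain ⟨σ, hσ⟩ := exists_algEquiv_comp_eq k L κ τQ τP
  refine ⟨σ, ?_⟩
  have hθ : ∀ (θ : L ⊗[k] κ →ₐ[L] L) (c : L) (a : κ),
      θ (c ⊗ₜ[k] a) = c * θ ((1 : L) ⊗ₜ[k] a) := by
    intro θ c a
    have : c ⊗ₜ[k] a = c • ((1 : L) ⊗ₜ[k] a) := by
      rw [TensorProduct.smul_tmul', smul_eq_mul, mul_one]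
    rw [this, map_smul, smul_eq_mul]
  have key : ∀ b : L ⊗[k] κ,
      θP (Algebra.TensorProduct.map (σ : L →ₐ[k] L) (AlgHom.id k κ) b) = σ (θQ b) := by
    intro b
    induction b with
    | zero => simp
    | tmul c a =>
      rw [Algebra.TensorProduct.map_tmul, hθ θP, hθ θQ, map_mul]
      congr 1
      exact (hσ a).symm
    | add x y hx hy => simp only [map_add, hx, hy]
  ext b
  rw [Ideal.mem_comap, ← hP, ← hQ, RingHom.mem_ker, RingHom.mem_ker]
  show θQ b = 0 ↔ θP (Algebra.TensorProduct.map (σ : L →ₐ[k] L) (AlgHom.id k κ) b) = 0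
  rw [key]
  exact (EmbeddingLike.map_eq_zero_iff (f := σ)).symm

end Ring


section Ring2

/-- Ring-level transitivity in the order `κ ⊗[k] K`. -/
theorem exists_comap_id_tensor_eq (k K κ : Type u) [Field k] [Field K] [Algebra k K]
    [IsAlgClosed K] [Algebra.IsAlgebraic k K]
    [Field κ] [Algebra k κ] [Algebra.IsAlgebraic k κ] (P Q : PrimeSpectrum (κ ⊗[k] K)) :
    ∃ σ : K ≃ₐ[k] K, Q = PrimeSpectrum.comap
      (Algebra.TensorProduct.map (AlgHom.id k κ) (σ : K →ₐ[k] K)).toRingHom P := by
  let c : κ ⊗[k] K ≃ₐ[k] K ⊗[k] κ := Algebra.TensorProduct.comm k κ K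
  let P' : Ideal (K ⊗[k] κ) := P.asIdeal.comap c.symm.toRingHom
  let Q' : Ideal (K ⊗[k] κ) := Q.asIdeal.comap c.symm.toRingHom
  have hP' : P'.IsPrime := Ideal.comap_isPrime _ _
  have hQ' : Q'.IsPrime := Ideal.comap_isPrime _ _
  obtain ⟨σ, hσ⟩ := exists_algClosed_comap_eq k K κ P' Q'
  refine ⟨σ, ?_⟩
  have h2 : ∀ x : κ ⊗[k] K,
      c.symm.toRingHom ((Algebra.TensorProduct.map (σ : K →ₐ[k] K) (AlgHom.id k κ)) (c x)) =
      (Algebra.TensorProduct.map (AlgHom.id k κ) (σ : K →ₐ[k] K)).toRingHom x := by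
    intro x
    induction x with
    | zero => simp
    | tmul a b => simp [c]
    | add x y hx hy => simp only [map_add, hx, hy]
  apply PrimeSpectrum.ext
  ext x
  have h1 : x ∈ Q.asIdeal ↔ c x ∈ Q' := by
    simp [Q', Ideal.mem_comap]
  rw [h1, hσ]
  simp only [Ideal.mem_comap, P', PrimeSpectrum.comap_asIdeal]
  rw [h2]

end Ring2

section Sch

open Groth.Agent.Lib.Helper50

/-- `Aut(K/k)` acts transitively on the fibre of `X_K ⟶ X` over a point with residue field
algebraic over `k`, for `K` an algebraic closure of `k`. -/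
theorem exists_galAct_eq {X : Scheme.{u}} {k K : Type u} [Field k] [Field K] [Algebra k K]
    [IsAlgClosed K] [Algebra.IsAlgebraic k K] (f : X ⟶ Spec (CommRingCat.of k))
    (t y : ↥(pullback f (Spec.map (CommRingCat.ofHom (algebraMap k K)))))
    (h : pullback.fst f (Spec.map (CommRingCat.ofHom (algebraMap k K))) t =
      pullback.fst f (Spec.map (CommRingCat.ofHom (algebraMap k K))) y)
    (φ : k →+* X.residueField (pullback.fst f (Spec.map (CommRingCat.ofHom (algebraMap k K))) t))
    (hφ : Spec.map (CommRingCat.ofHom φ) = X.fromSpecResidueField _ ≫ f) (hint : φ.IsIntegral) :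
    ∃ σ : K ≃ₐ[k] K, ∀ (a : pullback f (Spec.map (CommRingCat.ofHom (algebraMap k K))) ⟶
        pullback f (Spec.map (CommRingCat.ofHom (algebraMap k K)))),
      a ≫ pullback.fst f _ = pullback.fst f _ →
      a ≫ pullback.snd f _ = pullback.snd f _ ≫
        Spec.map (CommRingCat.ofHom (σ : K →ₐ[k] K).toRingHom) → a t = y := by
  let g := Spec.map (CommRingCat.ofHom (algebraMap k K))
  let p := pullback.fst f g
  let x := p t
  letI := φ.toAlgebra
  have halg : Algebra.IsAlgebraic k (X.residueField x) := by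
    have : Algebra.IsIntegral k (X.residueField x) := ⟨hint⟩
    infer_instance
  let r := X.fromSpecResidueField x
  let W := pullback (Spec.map (CommRingCat.ofHom φ)) g
  let j : W ⟶ pullback f g :=
    pullback.map _ _ _ _ r (𝟙 _) (𝟙 _) (by rw [Category.comp_id, hφ]) (by simp)
  let eW : W ≅ Spec (CommRingCat.of (X.residueField x ⊗[k] K)) :=
    pullbackSpecIso k (X.residueField x) K
  have hjfst : j ≫ pullback.fst f g = pullback.fst _ _ ≫ r := pullback.lift_fst _ _ _
  have hjsnd : j ≫ pullback.snd f g = pullback.snd _ _ :=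
    (pullback.lift_snd _ _ _).trans (Category.comp_id _)
  -- surjectivity of `j` onto the fibre
  have hsurj : ∀ z : ↥(pullback f g), p z = x → ∃ w : ↥W, j w = z := by
    intro z hz
    have hz' : r (IsLocalRing.closedPoint (X.residueField x)) = p z := by
      rw [hz]; exact Scheme.fromSpecResidueField_apply _ _
    obtain ⟨c, -, hc⟩ := Scheme.Pullback.exists_preimage_pullback _ _ hz'
    let i : pullback r p ≅ W :=
      pullbackRightPullbackFstIso f g r ≪≫ pullback.congrHom hφ.symm rfl
    have hi : i.hom ≫ j = pullback.snd r p := by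
      apply pullback.hom_ext
      · rw [Category.assoc, hjfst]
        simp only [i, Iso.trans_hom, Category.assoc, pullback.congrHom_hom]
        erw [pullback.lift_fst_assoc]
        rw [Category.comp_id, pullbackRightPullbackFstIso_hom_fst_assoc, pullback.condition]
      · rw [Category.assoc, hjsnd]
        simp only [i, Iso.trans_hom, Category.assoc, pullback.congrHom_hom]
        erw [pullback.lift_snd]
        rw [Category.comp_id, pullbackRightPullbackFstIso_hom_snd]
    refine ⟨i.hom c, ?_⟩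
    rw [← Scheme.Hom.comp_apply, hi]
    exact hc
  obtain ⟨wt, hwt⟩ := hsurj t rfl
  obtain ⟨wy, hwy⟩ := hsurj y h.symm
  let Pt : PrimeSpectrum (X.residueField x ⊗[k] K) := eW.hom wt
  let Py : PrimeSpectrum (X.residueField x ⊗[k] K) := eW.hom wy
  obtain ⟨σ, hσ⟩ := exists_comap_id_tensor_eq k K (X.residueField x) Pt Py
  refine ⟨σ, fun a ha1 ha2 => ?_⟩
  let τ : X.residueField x ⊗[k] K →+* X.residueField x ⊗[k] K :=
    (Algebra.TensorProduct.map (AlgHom.id k (X.residueField x)) (σ : K →ₐ[k] K)).toRingHom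
  let aW : W ⟶ W := eW.hom ≫ Spec.map (CommRingCat.ofHom τ) ≫ eW.inv
  have haW1 : aW ≫ pullback.fst _ _ = pullback.fst _ _ := by
    simp only [aW, Category.assoc]
    erw [pullbackSpecIso_inv_fst k (X.residueField x) K]
    rw [← Spec.map_comp, ← CommRingCat.ofHom_comp]
    have : τ.comp (Algebra.TensorProduct.includeLeftRingHom) =
        (Algebra.TensorProduct.includeLeftRingHom :
          X.residueField x →+* X.residueField x ⊗[k] K) := by
      ext a; simp [τ]
    rw [this]
    exact pullbackSpecIso_hom_fst k (X.residueField x) K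
  have haW2 : aW ≫ pullback.snd _ _ = pullback.snd _ _ ≫
      Spec.map (CommRingCat.ofHom (σ : K →ₐ[k] K).toRingHom) := by
    simp only [aW, Category.assoc]
    erw [pullbackSpecIso_inv_snd k (X.residueField x) K]
    rw [← Spec.map_comp, ← CommRingCat.ofHom_comp]
    have : τ.comp (Algebra.TensorProduct.includeRight :
        K →ₐ[k] X.residueField x ⊗[k] K).toRingHom =
        (Algebra.TensorProduct.includeRight :
          K →ₐ[k] X.residueField x ⊗[k] K).toRingHom.comp (σ : K →ₐ[k] K).toRingHom := by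
      ext a; simp [τ]
    simp only [AlgHom.toRingHom_eq_coe] at this ⊢
    rw [this, CommRingCat.ofHom_comp, Spec.map_comp]
    erw [pullbackSpecIso_hom_snd_assoc k (X.residueField x) K]
  have hcomm : j ≫ a = aW ≫ j := by
    apply pullback.hom_ext
    · rw [Category.assoc, ha1, hjfst, Category.assoc, hjfst, ← Category.assoc, haW1]
    · rw [Category.assoc, ha2, ← Category.assoc, hjsnd, Category.assoc, hjsnd, haW2]
  have h1 : a t = j (aW wt) := by
    rw [← hwt, ← Scheme.Hom.comp_apply, hcomm, Scheme.Hom.comp_apply]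
  have h2 : aW wt = wy := by
    have h3 : eW.hom (aW wt) = eW.hom wy := by
      simp only [aW, Scheme.Hom.comp_apply]
      rw [Scheme.inv_hom_apply]
      exact hσ.symm
    have := congrArg (fun z => eW.inv z) h3
    simpa [Scheme.hom_inv_apply] using this
  rw [h1, h2, hwy]

end Sch


section Main

attribute [local instance] Curv2.resAlgebra

variable (k : Type u) [Field k] (X : Scheme.{u}) [X.Over (Spec (CommRingCat.of k))]
  [LocallyOfFiniteType (X ↘ Spec (CommRingCat.of k))]

/-- The residue field of a closed point of a scheme locally of finite type over `k` is algebraic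
over `k`. -/
theorem resMap_isIntegral_of_isClosed (x : X) (hx : IsClosed ({x} : Set X)) :
    (Curv2.resMap k X x).IsIntegral := by
  obtain ⟨s, hs1, hs2⟩ := Groth.Agent.Lib.Helper55.exists_dim_closure_eq_trdeg k X x
  rw [hx.closure_eq] at hs1
  have h0 : topologicalKrullDim ↥({x} : Set X) ≤ 0 :=
    topologicalKrullDim_zero_of_discreteTopology _
  rw [hs1] at h0
  have hs : s = 0 := by
    have : (s : WithBot ℕ∞) ≤ ((0 : ℕ) : WithBot ℕ∞) := by simpa using h0
    have := (WithBot.coe_le_coe.mp this)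
    exact Nat.le_zero.mp (by exact_mod_cast this)
  rw [hs, Nat.cast_zero, trdeg_eq_zero_iff] at hs2
  have : Algebra.IsIntegral k (X.residueField x) := inferInstance
  exact this.isIntegral

/-- Every point of the geometric fibre over a node is an ordinary double point. -/
theorem isOrdDoublePt_of_isNode (x : X) (hx : Curv2.IsNode k X x)
    (xb : Curv2.bc k X (AlgebraicClosure k))
    (hxb : Curv2.bcFst k X (AlgebraicClosure k) xb = x) :
    @Curv2.IsOrdDoublePt (AlgebraicClosure k) _
      ((Curv2.bc k X (AlgebraicClosure k)).presheaf.stalk xb) _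
      (@Curv2.stalkAlgebra (AlgebraicClosure k) _ (Curv2.bc k X (AlgebraicClosure k))
        ⟨Curv2.bcSnd k X (AlgebraicClosure k)⟩ xb) _ := by
  obtain ⟨hcl, xb₀, hxb₀, hnode⟩ := hx
  have hcl' : IsClosed ({Curv2.bcFst k X (AlgebraicClosure k) xb} : Set X) := by
    rw [hxb]; exact hcl
  have hint := resMap_isIntegral_of_isClosed k X _ hcl'
  obtain ⟨σ, hσ⟩ := exists_galAct_eq (X ↘ Spec (CommRingCat.of k)) xb xb₀ (hxb.trans hxb₀.symm)
    (Curv2.resMap k X _) (Groth.Agent.Lib.Helper50.specMap_resMap_eq k _) hint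
  have h1 : Curv2.galAct k X (AlgebraicClosure k) σ xb = xb₀ :=
    hσ (Curv2.galAct k X (AlgebraicClosure k) σ)
      (Groth.Agent.Lib.Helper38.GaloisOrbit.galAct_fst k X _ σ)
      (Groth.Agent.Lib.Helper38.GaloisOrbit.galAct_snd k X _ σ)
  have hiso := Groth.Agent.Lib.Helper50.isIso_galAct k X (AlgebraicClosure k) σ
  have hq : Curv2.galAct k X (AlgebraicClosure k) σ ≫ Curv2.bcSnd k X (AlgebraicClosure k) =
      Curv2.bcSnd k X (AlgebraicClosure k) ≫ Spec.map (CommRingCat.ofHom
        ((σ.toRingEquiv : AlgebraicClosure k ≃+* AlgebraicClosure k) :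
          AlgebraicClosure k →+* AlgebraicClosure k)) :=
    Groth.Agent.Lib.Helper38.GaloisOrbit.galAct_snd k X _ σ
  have hlft : LocallyOfFiniteType (Curv2.bcSnd k X (AlgebraicClosure k)) := inferInstance
  have key : ∀ y : ↥(Curv2.bc k X (AlgebraicClosure k)), y = xb₀ →
      @Curv2.IsOrdDoublePt (AlgebraicClosure k) _
        ((Curv2.bc k X (AlgebraicClosure k)).presheaf.stalk y) _
        (@Curv2.stalkAlgebra (AlgebraicClosure k) _ (Curv2.bc k X (AlgebraicClosure k))
          ⟨Curv2.bcSnd k X (AlgebraicClosure k)⟩ y) _ := by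
    rintro y rfl
    exact hnode
  have h2 := NodeEtale.isOrdDoublePt_stalk_of_isOrdDoublePt_image (AlgebraicClosure k)
    (Curv2.bcSnd k X (AlgebraicClosure k)) _ (Curv2.galAct k X (AlgebraicClosure k) σ) hq xb
    (key _ h1)
  exact (NodeSepExt.isOrdDoublePt_stalk_ringEquiv_iff σ.toRingEquiv
    (Curv2.bcSnd k X (AlgebraicClosure k)) xb).mp h2

end Main

end Groth.Agent.Lib.Helper20.NodeConj
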