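import Groth.Agent.Lib.Helper20.NodeEtale
import Groth.Agent.Lib.Helper50.FiberBC

/-!
# Nodes and finite separable extensions of the base field
-/

set_option autoImplicit false

universe u

namespace Groth.Agent.Lib.Helper20.NodeSepExt

open CategoryTheory CategoryTheory.Limits AlgebraicGeometry IsLocalRing

section Paste

variable {X S' S C D : Scheme.{u}} (f : X ⟶ S') (e : S' ⟶ S) (c : C ⟶ S) (d : D ⟶ S')
  (r : D ⟶ C) (w : d ≫ e = r ≫ c)

/-- `D ⟶ S' ×_S C`. -/
noncomputable def tMap : D ⟶ pullback e c := pullback.lift d r w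

/-- `X ×_{S'} D ⟶ X ×_S C`. -/
noncomputable def jMap : pullback f d ⟶ pullback (f ≫ e) c :=
  pullback.lift (pullback.fst f d) (pullback.snd f d ≫ r)
    (by rw [← Category.assoc, pullback.condition, Category.assoc, w, Category.assoc])

/-- `X ×_S C ⟶ S' ×_S C`. -/
noncomputable def nMap : pullback (f ≫ e) c ⟶ pullback e c :=
  pullback.map (f ≫ e) c e c f (𝟙 C) (𝟙 S) (by simp) (by simp)

@[reassoc]
lemma tMap_fst : tMap e c d r w ≫ pullback.fst e c = d := pullback.lift_fst _ _ _

@[reassoc]
lemma tMap_snd : tMap e c d r w ≫ pullback.snd e c = r := pullback.lift_snd _ _ _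

@[reassoc]
lemma jMap_fst : jMap f e c d r w ≫ pullback.fst (f ≫ e) c = pullback.fst f d :=
  pullback.lift_fst _ _ _

@[reassoc]
lemma jMap_snd : jMap f e c d r w ≫ pullback.snd (f ≫ e) c = pullback.snd f d ≫ r :=
  pullback.lift_snd _ _ _

@[reassoc]
lemma nMap_fst : nMap f e c ≫ pullback.fst e c = pullback.fst (f ≫ e) c ≫ f := by
  unfold nMap
  exact pullback.lift_fst _ _ _

@[reassoc]
lemma nMap_snd : nMap f e c ≫ pullback.snd e c = pullback.snd (f ≫ e) c := by
  unfold nMap
  rw [pullback.lift_snd]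
  exact Category.comp_id _

lemma nMap_isPullback : IsPullback (nMap f e c) (pullback.fst (f ≫ e) c) (pullback.fst e c) f := by
  refine IsPullback.of_right ?_ (nMap_fst f e c) (IsPullback.of_hasPullback e c).flip
  rw [nMap_snd]
  exact (IsPullback.of_hasPullback (f ≫ e) c).flip

lemma jMap_nMap : jMap f e c d r w ≫ nMap f e c = pullback.snd f d ≫ tMap e c d r w := by
  apply pullback.hom_ext
  · rw [Category.assoc, nMap_fst, jMap_fst_assoc, Category.assoc, tMap_fst, pullback.condition]
  · rw [Category.assoc, nMap_snd, jMap_snd, Category.assoc, tMap_snd]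

lemma jMap_isPullback :
    IsPullback (jMap f e c d r w) (pullback.snd f d) (nMap f e c) (tMap e c d r w) := by
  refine IsPullback.of_right ?_ (jMap_nMap f e c d r w) (nMap_isPullback f e c).flip
  rw [jMap_fst, tMap_fst]
  exact IsPullback.of_hasPullback f d

/-- If `e` and `r` are étale then so is `jMap`. -/
lemma jMap_etale [Etale e] [Etale r] : Etale (jMap f e c d r w) := by
  have h1 : Etale (tMap e c d r w ≫ pullback.snd e c) := by
    rw [tMap_snd]; infer_instance
  have h2 : Etale (tMap e c d r w) :=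
    MorphismProperty.of_postcomp (W := @Etale) (W' := @Etale) _ (pullback.snd e c)
      inferInstance h1
  exact MorphismProperty.of_isPullback (P := @Etale) (jMap_isPullback f e c d r w).flip h2

end Paste

section Field

/-- `Spec` of a finite separable field extension is étale. -/
lemma etale_SpecMap_of_isSeparable (K L : Type u) [Field K] [Field L] [Algebra K L]
    [FiniteDimensional K L] [Algebra.IsSeparable K L] :
    Etale (Spec.map (CommRingCat.ofHom (algebraMap K L))) := by
  rw [HasRingHomProperty.Spec_iff (P := @Etale)]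
  show (algebraMap K L).Etale
  rw [RingHom.etale_algebraMap]
  have h1 : Algebra.FormallyEtale K L := Algebra.FormallyEtale.of_isSeparable K L
  have h2 : Algebra.FinitePresentation K L :=
    Algebra.FinitePresentation.of_finiteType.mp inferInstance
  exact ⟨h1, h2⟩

end Field

section ODP

/-- The isomorphism of power series rings induced by an isomorphism of coefficient rings. -/
noncomputable def mvPowerSeriesMapEquiv (τ : Type*) {R R' : Type*} [CommRing R] [CommRing R']
    (σ : R ≃+* R') : MvPowerSeries τ R ≃+* MvPowerSeries τ R' :=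
  RingEquiv.ofRingHom (MvPowerSeries.map (σ : R →+* R')) (MvPowerSeries.map (σ.symm : R' →+* R))
    (by rw [← MvPowerSeries.map_comp]; simp [MvPowerSeries.map_id])
    (by rw [← MvPowerSeries.map_comp]; simp [MvPowerSeries.map_id])

variable {K K' : Type u} [Field K] [Field K'] (σ : K ≃+* K')

/-- An ordinary double point stays one when the coefficient field is changed by an isomorphism. -/
theorem isOrdDoublePt_of_ringEquiv {A : Type u} [CommRing A] [IsLocalRing A] [Algebra K A]
    [Algebra K' A] (hσ : ∀ c : K, algebraMap K' A (σ c) = algebraMap K A c)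
    (h : Curv2.IsOrdDoublePt K A) : Curv2.IsOrdDoublePt K' A := by
  obtain ⟨e, he⟩ := h
  let Θ := Ideal.quotientEquiv
    (Ideal.span {(MvPowerSeries.X 0 * MvPowerSeries.X 1 : MvPowerSeries (Fin 2) K)})
    (Ideal.span {(MvPowerSeries.X 0 * MvPowerSeries.X 1 : MvPowerSeries (Fin 2) K')})
    (mvPowerSeriesMapEquiv (Fin 2) σ) (by
      rw [Ideal.map_span, Set.image_singleton]
      congr 2
      show _ = MvPowerSeries.map (σ : K →+* K') _
      rw [map_mul, MvPowerSeries.map_X, MvPowerSeries.map_X])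
  refine ⟨e.trans Θ, fun c => ?_⟩
  obtain ⟨c, rfl⟩ := σ.surjective c
  rw [hσ, RingEquiv.trans_apply, he]
  show Θ (Ideal.Quotient.mk _ _) = _
  rw [Ideal.quotientEquiv_mk]
  show Ideal.Quotient.mk _ (MvPowerSeries.map (σ : K →+* K') _) = _
  rw [MvPowerSeries.map_C]
  rfl

end ODP


section Transport

variable {K K' : Type u} [Field K] [Field K'] (σ : K ≃+* K') {P : Scheme.{u}}
  (p' : P ⟶ Spec (CommRingCat.of K'))

/-- Changing the base field by an isomorphism changes the structure maps on stalks accordingly. -/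
theorem stalkMap_comp_ringEquiv (x : P) :
    @Curv2.stalkMap K _ P ⟨p' ≫ Spec.map (CommRingCat.ofHom (σ : K →+* K'))⟩ x =
      (@Curv2.stalkMap K' _ P ⟨p'⟩ x).comp (σ : K →+* K') := by
  have h1 := @Groth.Agent.Lib.Helper50.specMap_stalkMap_eq P K _
    ⟨p' ≫ Spec.map (CommRingCat.ofHom (σ : K →+* K'))⟩ x
  have h2 := @Groth.Agent.Lib.Helper50.specMap_stalkMap_eq P K' _ ⟨p'⟩ x
  have h3 : Spec.map (CommRingCat.ofHom
      (@Curv2.stalkMap K _ P ⟨p' ≫ Spec.map (CommRingCat.ofHom (σ : K →+* K'))⟩ x)) =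
      Spec.map (CommRingCat.ofHom ((@Curv2.stalkMap K' _ P ⟨p'⟩ x).comp (σ : K →+* K'))) := by
    rw [h1, CommRingCat.ofHom_comp, Spec.map_comp, h2]
    exact (Category.assoc _ _ _).symm
  have h4 := Spec.map_injective h3
  exact congrArg CommRingCat.Hom.hom h4

theorem isOrdDoublePt_stalk_ringEquiv_iff (x : P) :
    @Curv2.IsOrdDoublePt K _ (P.presheaf.stalk x) _
      (@Curv2.stalkAlgebra K _ P ⟨p' ≫ Spec.map (CommRingCat.ofHom (σ : K →+* K'))⟩ x) _ ↔
    @Curv2.IsOrdDoublePt K' _ (P.presheaf.stalk x) _ (@Curv2.stalkAlgebra K' _ P ⟨p'⟩ x) _ := by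
  letI a1 := @Curv2.stalkAlgebra K _ P ⟨p' ≫ Spec.map (CommRingCat.ofHom (σ : K →+* K'))⟩ x
  letI a2 := @Curv2.stalkAlgebra K' _ P ⟨p'⟩ x
  have h : ∀ c : K, algebraMap K' (P.presheaf.stalk x) (σ c) =
      algebraMap K (P.presheaf.stalk x) c := fun c =>
    (RingHom.congr_fun (stalkMap_comp_ringEquiv σ p' x) c).symm
  constructor
  · exact isOrdDoublePt_of_ringEquiv σ h
  · refine isOrdDoublePt_of_ringEquiv σ.symm (fun c => ?_)
    rw [← h, RingEquiv.apply_symm_apply]

end Transport

section Core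

variable (k k' : Type u) [Field k] [Field k'] [Algebra k k'] {X : Scheme.{u}}
  (a : X ⟶ Spec (CommRingCat.of k'))
  (kb kb' : Type u) [Field kb] [Field kb'] [Algebra k kb] [Algebra k' kb']
  (σ : kb ≃+* kb')
  (hσ : (σ : kb →+* kb').comp (algebraMap k kb) = (algebraMap k' kb').comp (algebraMap k k'))

/-- `Spec k' ⟶ Spec k`. -/
noncomputable abbrev bMap : Spec (CommRingCat.of k') ⟶ Spec (CommRingCat.of k) :=
  Spec.map (CommRingCat.ofHom (algebraMap k k'))

include hσ in
lemma w_aux : Spec.map (CommRingCat.ofHom (algebraMap k' kb')) ≫ bMap k k' =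
    Spec.map (CommRingCat.ofHom (σ : kb →+* kb')) ≫
      Spec.map (CommRingCat.ofHom (algebraMap k kb)) := by
  rw [← Spec.map_comp, ← Spec.map_comp, ← CommRingCat.ofHom_comp, ← CommRingCat.ofHom_comp, hσ]

/-- The comparison map `X ×_{k'} k̄' ⟶ X ×_k k̄` attached to `σ : k̄ ≃ k̄'`. -/
noncomputable def sepMap : pullback a (Spec.map (CommRingCat.ofHom (algebraMap k' kb'))) ⟶
    pullback (a ≫ bMap k k') (Spec.map (CommRingCat.ofHom (algebraMap k kb))) :=
  jMap a (bMap k k') (Spec.map (CommRingCat.ofHom (algebraMap k kb)))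
    (Spec.map (CommRingCat.ofHom (algebraMap k' kb')))
    (Spec.map (CommRingCat.ofHom (σ : kb →+* kb'))) (w_aux k k' kb kb' σ hσ)

lemma sepMap_fst : sepMap k k' a kb kb' σ hσ ≫ pullback.fst _ _ = pullback.fst _ _ :=
  jMap_fst _ _ _ _ _ _

lemma sepMap_snd : sepMap k k' a kb kb' σ hσ ≫ pullback.snd _ _ =
    pullback.snd _ _ ≫ Spec.map (CommRingCat.ofHom (σ : kb →+* kb')) :=
  jMap_snd _ _ _ _ _ _

variable [FiniteDimensional k k'] [Algebra.IsSeparable k k']

lemma sepMap_etale : Etale (sepMap k k' a kb kb' σ hσ) := by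
  have h1 : Etale (bMap k k') := etale_SpecMap_of_isSeparable k k'
  have h2 : IsIso (Spec.map (CommRingCat.ofHom (σ : kb →+* kb'))) := by
    have : IsIso (CommRingCat.ofHom (σ : kb →+* kb')) :=
      (RingEquiv.toCommRingCatIso σ).isIso_hom
    infer_instance
  exact jMap_etale _ _ _ _ _ _

variable [LocallyOfFiniteType a] [IsAlgClosed kb']

/-- The key comparison of ordinary double points. -/
theorem isOrdDoublePt_sepMap_iff
    (zb : ↥(pullback a (Spec.map (CommRingCat.ofHom (algebraMap k' kb'))))) :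
    @Curv2.IsOrdDoublePt kb' _ ((pullback a (Spec.map (CommRingCat.ofHom
        (algebraMap k' kb')))).presheaf.stalk zb) _
      (@Curv2.stalkAlgebra kb' _ _ ⟨pullback.snd _ _⟩ zb) _ ↔
    @Curv2.IsOrdDoublePt kb _ ((pullback (a ≫ bMap k k') (Spec.map (CommRingCat.ofHom
        (algebraMap k kb)))).presheaf.stalk (sepMap k k' a kb kb' σ hσ zb)) _
      (@Curv2.stalkAlgebra kb _ _ ⟨pullback.snd _ _⟩ (sepMap k k' a kb kb' σ hσ zb)) _ := by
  have hb : Etale (bMap k k') := etale_SpecMap_of_isSeparable k k'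
  have hJ : Etale (sepMap k k' a kb kb' σ hσ) := sepMap_etale k k' a kb kb' σ hσ
  have hq : sepMap k k' a kb kb' σ hσ ≫
      (pullback.snd (a ≫ bMap k k') (Spec.map (CommRingCat.ofHom (algebraMap k kb))) ≫
        Spec.map (CommRingCat.ofHom (σ.symm : kb' →+* kb))) =
      pullback.snd a (Spec.map (CommRingCat.ofHom (algebraMap k' kb'))) := by
    rw [← Category.assoc, sepMap_snd, Category.assoc, ← Spec.map_comp, ← CommRingCat.ofHom_comp]
    have : (σ : kb →+* kb').comp (σ.symm : kb' →+* kb) = RingHom.id kb' := by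
      ext c; simp
    rw [this]
    simp
  have hlb : LocallyOfFiniteType (bMap k k') := inferInstance
  have hlab : LocallyOfFiniteType (a ≫ bMap k k') := inferInstance
  have hlft : LocallyOfFiniteType
      (pullback.snd (a ≫ bMap k k') (Spec.map (CommRingCat.ofHom (algebraMap k kb))) ≫
        Spec.map (CommRingCat.ofHom (σ.symm : kb' →+* kb))) := by
    have h2 : IsIso (Spec.map (CommRingCat.ofHom (σ.symm : kb' →+* kb))) := by
      have : IsIso (CommRingCat.ofHom (σ.symm : kb' →+* kb)) :=
        (RingEquiv.toCommRingCatIso σ.symm).isIso_hom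
      infer_instance
    infer_instance
  rw [← isOrdDoublePt_stalk_ringEquiv_iff σ.symm
    (pullback.snd (a ≫ bMap k k') (Spec.map (CommRingCat.ofHom (algebraMap k kb))))
    (sepMap k k' a kb kb' σ hσ zb)]
  constructor
  · exact NodeEtale.isOrdDoublePt_image_of_isOrdDoublePt_stalk kb' _ _ _ hq zb
  · exact NodeEtale.isOrdDoublePt_stalk_of_isOrdDoublePt_image kb' _ _ _ hq zb

end Core


section Section

/-- An ordinary double point over `K` is a `K`-rational point. -/
theorem exists_section_of_isOrdDoublePt (K : Type u) [Field K] {P : Scheme.{u}}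
    (p : P ⟶ Spec (CommRingCat.of K)) (x : P)
    (h : @Curv2.IsOrdDoublePt K _ (P.presheaf.stalk x) _ (@Curv2.stalkAlgebra K _ P ⟨p⟩ x) _) :
    ∃ s : Spec (CommRingCat.of K) ⟶ P, s ≫ p = 𝟙 _ ∧ ∀ t, s t = x := by
  letI : P.Over (Spec (CommRingCat.of K)) := ⟨p⟩
  letI := Curv2.stalkAlgebra K P x
  have hsurj : Function.Surjective (Curv2.resMap K P x) :=
    NodeEtale.residue_algebraMap_surjective_of_isOrdDoublePt K h
  have hbij : Function.Bijective (Curv2.resMap K P x) :=
    ⟨(Curv2.resMap K P x).injective, hsurj⟩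
  let ρe := RingEquiv.ofBijective (Curv2.resMap K P x) hbij
  refine ⟨Spec.map (CommRingCat.ofHom (ρe.symm : ↑(P.residueField x) →+* K)) ≫
    P.fromSpecResidueField x, ?_, ?_⟩
  · have h1 := Groth.Agent.Lib.Helper50.specMap_resMap_eq K (X := P) x
    have h2 : P.fromSpecResidueField x ≫ p =
        Spec.map (CommRingCat.ofHom (Curv2.resMap K P x)) := h1.symm
    rw [Category.assoc, h2, ← Spec.map_comp, ← CommRingCat.ofHom_comp]
    have : (ρe.symm : ↑(P.residueField x) →+* K).comp (Curv2.resMap K P x) = RingHom.id K := by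
      ext c; exact ρe.symm_apply_apply c
    rw [this]
    simp
  · intro t
    rw [Scheme.Hom.comp_apply]
    exact Scheme.fromSpecResidueField_apply x _

end Section

section Main

variable (k k' : Type u) [Field k] [Field k'] [Algebra k k'] [FiniteDimensional k k']
  [Algebra.IsSeparable k k'] (X : Scheme.{u}) [X.Over (Spec (CommRingCat.of k'))]
  [LocallyOfFiniteType (X ↘ Spec (CommRingCat.of k'))]

/-- A node over a finite separable extension `k'` is a node over `k`. -/
theorem isNode_of_isNode_sepExt (x : X) (h : Curv2.IsNode k' X x) :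
    @Curv2.IsNode k _ X ⟨(X ↘ Spec (CommRingCat.of k')) ≫
      Spec.map (CommRingCat.ofHom (algebraMap k k'))⟩ x := by
  obtain ⟨hcl, zb, hz, hnode⟩ := h
  refine ⟨hcl, ?_⟩
  have halg : Algebra.IsAlgebraic k (AlgebraicClosure k') := Algebra.IsAlgebraic.trans k k' _
  have : IsAlgClosure k (AlgebraicClosure k') := ⟨inferInstance, halg⟩
  let σ' := IsAlgClosure.equiv k (AlgebraicClosure k) (AlgebraicClosure k')
  let σ : AlgebraicClosure k ≃+* AlgebraicClosure k' := σ'.toRingEquiv
  have hσ : (σ : _ →+* _).comp (algebraMap k (AlgebraicClosure k)) =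
      (algebraMap k' (AlgebraicClosure k')).comp (algebraMap k k') := by
    ext c
    show σ' (algebraMap k _ c) = _
    rw [σ'.commutes]
    exact IsScalarTower.algebraMap_apply k k' _ c
  refine ⟨sepMap k k' (X ↘ Spec (CommRingCat.of k')) _ _ σ hσ zb, ?_, ?_⟩
  · rw [← hz]
    exact congrArg (fun f => f.base zb)
      (sepMap_fst k k' (X ↘ Spec (CommRingCat.of k')) _ _ σ hσ)
  · exact (isOrdDoublePt_sepMap_iff k k' _ _ _ σ hσ zb).mp hnode

/-- A node over `k` is a node over a finite separable extension `k'`. -/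
theorem isNode_sepExt_of_isNode (x : X)
    (h : @Curv2.IsNode k _ X ⟨(X ↘ Spec (CommRingCat.of k')) ≫
      Spec.map (CommRingCat.ofHom (algebraMap k k'))⟩ x) : Curv2.IsNode k' X x := by
  obtain ⟨hcl, xb, hx, hnode⟩ := h
  refine ⟨hcl, ?_⟩
  obtain ⟨s, hs1, hs2⟩ := exists_section_of_isOrdDoublePt (AlgebraicClosure k)
    (pullback.snd ((X ↘ Spec (CommRingCat.of k')) ≫ bMap k k')
      (Spec.map (CommRingCat.ofHom (algebraMap k (AlgebraicClosure k))))) xb hnode
  let d : Spec (CommRingCat.of (AlgebraicClosure k)) ⟶ Spec (CommRingCat.of k') :=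
    s ≫ pullback.fst _ _ ≫ (X ↘ Spec (CommRingCat.of k'))
  obtain ⟨jj, hjj⟩ := Spec.map_surjective d
  let j : k' →+* AlgebraicClosure k := jj.hom
  have hd : d ≫ bMap k k' =
      Spec.map (CommRingCat.ofHom (algebraMap k (AlgebraicClosure k))) := by
    simp only [d, Category.assoc]
    rw [pullback.condition, ← Category.assoc, hs1, Category.id_comp]
  have hj : j.comp (algebraMap k k') = algebraMap k (AlgebraicClosure k) := by
    have h1 : Spec.map (CommRingCat.ofHom (algebraMap k k') ≫ jj) =
        Spec.map (CommRingCat.ofHom (algebraMap k (AlgebraicClosure k))) := by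
      rw [Spec.map_comp, hjj]; exact hd
    exact congrArg CommRingCat.Hom.hom (Spec.map_injective h1)
  letI alg : Algebra k' (AlgebraicClosure k) := j.toAlgebra
  have htower : IsScalarTower k k' (AlgebraicClosure k) :=
    IsScalarTower.of_algebraMap_eq' hj.symm
  have halg : Algebra.IsAlgebraic k' (AlgebraicClosure k) :=
    Algebra.IsAlgebraic.tower_top (K := k) k'
  have : IsAlgClosure k' (AlgebraicClosure k) := ⟨inferInstance, halg⟩
  let σ' := IsAlgClosure.equiv k' (AlgebraicClosure k) (AlgebraicClosure k')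
  let σ : AlgebraicClosure k ≃+* AlgebraicClosure k' := σ'.toRingEquiv
  have hσj : (σ : _ →+* _).comp j = algebraMap k' (AlgebraicClosure k') := by
    ext c; exact σ'.commutes c
  have hσ : (σ : _ →+* _).comp (algebraMap k (AlgebraicClosure k)) =
      (algebraMap k' (AlgebraicClosure k')).comp (algebraMap k k') := by
    rw [← hj, ← RingHom.comp_assoc, hσj]
  let ζ : Spec (CommRingCat.of (AlgebraicClosure k')) ⟶
      pullback (X ↘ Spec (CommRingCat.of k'))
        (Spec.map (CommRingCat.ofHom (algebraMap k' (AlgebraicClosure k')))) :=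
    pullback.lift (Spec.map (CommRingCat.ofHom (σ : _ →+* _)) ≫ s ≫ pullback.fst _ _) (𝟙 _) (by
      rw [Category.id_comp, Category.assoc, Category.assoc]
      show Spec.map _ ≫ d = _
      rw [← hjj, ← Spec.map_comp, ← hσj]
      rfl)
  have hζ : ζ ≫ sepMap k k' (X ↘ Spec (CommRingCat.of k')) _ _ σ hσ =
      Spec.map (CommRingCat.ofHom (σ : _ →+* _)) ≫ s := by
    apply pullback.hom_ext
    · rw [Category.assoc, sepMap_fst, pullback.lift_fst, Category.assoc]
    · rw [Category.assoc, sepMap_snd, pullback.lift_snd_assoc, Category.id_comp, Category.assoc,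
        hs1, Category.comp_id]
  let zb := ζ (IsLocalRing.closedPoint (AlgebraicClosure k'))
  have hzb : sepMap k k' (X ↘ Spec (CommRingCat.of k')) _ _ σ hσ zb = xb := by
    have h1 := congrArg (fun f => f.base (IsLocalRing.closedPoint (AlgebraicClosure k'))) hζ
    simp only [Scheme.Hom.comp_base, TopCat.comp_app] at h1
    rw [hs2] at h1
    exact h1
  refine ⟨zb, ?_, ?_⟩
  · have h1 := congrArg (fun f => f.base zb)
      (sepMap_fst k k' (X ↘ Spec (CommRingCat.of k')) _ _ σ hσ)
    simp only [Scheme.Hom.comp_base, TopCat.comp_app] at h1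
    rw [hzb] at h1
    rw [← hx]
    exact h1.symm
  · rw [isOrdDoublePt_sepMap_iff k k' _ _ _ σ hσ zb]
    have key : ∀ y : ↥(pullback ((X ↘ Spec (CommRingCat.of k')) ≫ bMap k k')
        (Spec.map (CommRingCat.ofHom (algebraMap k (AlgebraicClosure k))))),
        y = xb → @Curv2.IsOrdDoublePt (AlgebraicClosure k) _
        ((pullback ((X ↘ Spec (CommRingCat.of k')) ≫ bMap k k') (Spec.map (CommRingCat.ofHom
          (algebraMap k (AlgebraicClosure k))))).presheaf.stalk y) _
        (@Curv2.stalkAlgebra (AlgebraicClosure k) _ _ ⟨pullback.snd _ _⟩ y) _ := by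
      rintro y rfl
      exact hnode
    exact key _ hzb

theorem isNode_sepExt_iff (x : X) :
    Curv2.IsNode k' X x ↔ @Curv2.IsNode k _ X ⟨(X ↘ Spec (CommRingCat.of k')) ≫
      Spec.map (CommRingCat.ofHom (algebraMap k k'))⟩ x :=
  ⟨isNode_of_isNode_sepExt k k' X x, isNode_sepExt_of_isNode k k' X x⟩

end Main

end Groth.Agent.Lib.Helper20.NodeSepExt
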