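import Mathlib
import Groth.Agent.Lib.Helper13.NormalRing

/-!
# Normality of a local ring from a reduced hypersurface section (helper20)

`isNormal_of_isRadical_span`: let `A` be a Noetherian local ring and `π` a non-zero-divisor with
`A / π A` reduced such that `A_𝔮` is an integrally closed domain for every prime `𝔮 ∌ π`.  Then `A`
is an integrally closed domain.
-/

set_option autoImplicit false
universe u

open IsLocalRing Polynomial

namespace Groth.Agent.Lib.Helper20.NormalCut

section Domain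

variable {A : Type u} [CommRing A]

/-- a finitely generated ideal dying in a localization at a prime is killed by an element outside
the prime -/
theorem exists_notMem_forall_mul_eq_zero (𝔮 : Ideal A) [𝔮.IsPrime] (S : Finset A)
    (h : ∀ n ∈ S, ∃ m : A, m ∉ 𝔮 ∧ m * n = 0) : ∃ m : A, m ∉ 𝔮 ∧ ∀ n ∈ S, m * n = 0 := by
  classical
  induction S using Finset.induction_on with
  | empty => exact ⟨1, fun h1 => (inferInstance : 𝔮.IsPrime).ne_top ((Ideal.eq_top_iff_one _).mpr h1),
      fun n hn => absurd hn (Finset.notMem_empty n)⟩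
  | insert n₀ S hn₀ ih =>
    obtain ⟨m, hm, hmS⟩ := ih (fun n hn => h n (Finset.mem_insert_of_mem hn))
    obtain ⟨m₀, hm₀, hm₀n⟩ := h n₀ (Finset.mem_insert_self n₀ S)
    refine ⟨m * m₀, fun hmem => ?_, fun n hn => ?_⟩
    · rcases (inferInstance : 𝔮.IsPrime).mem_or_mem hmem with h1 | h1
      · exact hm h1
      · exact hm₀ h1
    · rcases Finset.mem_insert.mp hn with rfl | hn
      · rw [mul_assoc, hm₀n, mul_zero]
      · rw [mul_comm m m₀, mul_assoc, hmS n hn, mul_zero]

variable [IsLocalRing A] [IsNoetherianRing A]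

/-- **Domain criterion.** -/
theorem isDomain_of_isRadical_span (π : A) (hπ : π ∈ nonZeroDivisors A)
    (hrad : (Ideal.span {π}).IsRadical)
    (hloc : ∀ (𝔮 : Ideal A) [𝔮.IsPrime], π ∉ 𝔮 → IsDomain (Localization.AtPrime 𝔮)) :
    IsDomain A := by
  classical
  have hcancel : ∀ z : A, π * z = 0 → z = 0 := fun z hz =>
    (mem_nonZeroDivisors_iff.mp hπ).1 z hz
  have hsq : ∀ z : A, z ^ 2 ∈ Ideal.span {π} → z ∈ Ideal.span {π} := fun z hz =>
    hrad ⟨2, hz⟩
  haveI : NoZeroDivisors A := by
    refine ⟨fun {a b} hab => ?_⟩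
    by_contra hcon
    push Not at hcon
    obtain ⟨ha, hb⟩ := hcon
    -- the annihilators
    set 𝔞 : Ideal A := (Ideal.span {b}).annihilator with h𝔞
    set 𝔟 : Ideal A := 𝔞.annihilator with h𝔟
    have mem𝔞 : ∀ r : A, r ∈ 𝔞 ↔ r * b = 0 := fun r => by
      rw [h𝔞, Submodule.mem_annihilator_span_singleton, smul_eq_mul]
    have mem𝔟 : ∀ r : A, r ∈ 𝔟 ↔ ∀ n ∈ 𝔞, r * n = 0 := fun r => by
      rw [h𝔟, Submodule.mem_annihilator]
      rfl
    have ha𝔞 : a ∈ 𝔞 := (mem𝔞 a).mpr hab
    have h𝔞m : 𝔞 ≤ maximalIdeal A := by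
      apply IsLocalRing.le_maximalIdeal
      intro htop
      have : (1 : A) ∈ 𝔞 := htop ▸ Submodule.mem_top
      rw [mem𝔞, one_mul] at this
      exact hb this
    have h𝔟m : 𝔟 ≤ maximalIdeal A := by
      apply IsLocalRing.le_maximalIdeal
      intro htop
      have : (1 : A) ∈ 𝔟 := htop ▸ Submodule.mem_top
      have h1 := (mem𝔟 1).mp this a ha𝔞
      rw [one_mul] at h1
      exact ha h1
    -- every prime containing both annihilators contains `π`
    have hprime : ∀ 𝔮 : Ideal A, 𝔮.IsPrime → 𝔞 ⊔ 𝔟 ≤ 𝔮 → π ∈ 𝔮 := by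
      intro 𝔮 h𝔮 hle
      by_contra hπ𝔮
      haveI := h𝔮
      haveI := hloc 𝔮 hπ𝔮
      have hzero : ∀ z : A, algebraMap A (Localization.AtPrime 𝔮) z = 0 →
          ∃ m : A, m ∉ 𝔮 ∧ m * z = 0 := by
        intro z hz
        obtain ⟨m, hm⟩ := (IsLocalization.map_eq_zero_iff 𝔮.primeCompl _ z).mp hz
        exact ⟨m.1, m.2, hm⟩
      by_cases hb0 : algebraMap A (Localization.AtPrime 𝔮) b = 0
      · obtain ⟨m, hm, hmb⟩ := hzero b hb0
        exact hm (hle (Ideal.mem_sup_left ((mem𝔞 m).mpr hmb)))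
      · obtain ⟨S, hS⟩ := (inferInstance : IsNoetherian A A).noetherian 𝔞
        have hgen : ∀ n ∈ S, ∃ m : A, m ∉ 𝔮 ∧ m * n = 0 := by
          intro n hn
          have hn𝔞 : n ∈ 𝔞 := hS ▸ Submodule.subset_span hn
          have h1 : algebraMap A (Localization.AtPrime 𝔮) n *
              algebraMap A (Localization.AtPrime 𝔮) b = 0 := by
            rw [← map_mul, (mem𝔞 n).mp hn𝔞, map_zero]
          rcases mul_eq_zero.mp h1 with h2 | h2
          · exact hzero n h2
          · exact absurd h2 hb0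
        obtain ⟨m, hm, hmS⟩ := exists_notMem_forall_mul_eq_zero 𝔮 S hgen
        have hm𝔟 : m ∈ 𝔟 := by
          rw [mem𝔟]
          intro n hn
          rw [← hS] at hn
          refine Submodule.span_induction (p := fun n _ => m * n = 0) ?_ ?_ ?_ ?_ hn
          · intro z hz
            exact hmS z hz
          · exact mul_zero m
          · intro y z _ _ hy hz
            rw [mul_add, hy, hz, add_zero]
          · intro c y _ hy
            rw [smul_eq_mul, mul_left_comm, hy, mul_zero]
        exact hm (hle (Ideal.mem_sup_right hm𝔟))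
    have hradmem : π ∈ (𝔞 ⊔ 𝔟).radical := by
      rw [Ideal.radical_eq_sInf, Ideal.mem_sInf]
      rintro 𝔮 ⟨hle, h𝔮⟩
      exact hprime 𝔮 h𝔮 hle
    obtain ⟨N, hN⟩ := hradmem
    -- descent
    have hdesc : ∀ N : ℕ, π ^ N ∈ 𝔞 ⊔ 𝔟 → False := by
      intro N
      induction N with
      | zero =>
        intro h1
        rw [pow_zero] at h1
        have h2 : (1 : A) ∈ maximalIdeal A := (sup_le h𝔞m h𝔟m) h1
        exact (maximalIdeal.isMaximal A).ne_top ((Ideal.eq_top_iff_one _).mpr h2)
      | succ N ih =>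
        intro h1
        obtain ⟨α, hα, β, hβ, hsum⟩ := Submodule.mem_sup.mp h1
        have hαβ : β * α = 0 := (mem𝔟 β).mp hβ α hα
        have hα2 : α ^ 2 = π * (π ^ N * α) := by
          have : α ^ 2 = (α + β) * α - β * α := by ring
          rw [this, hsum, hαβ, sub_zero, pow_succ]
          ring
        have hβ2 : β ^ 2 = π * (π ^ N * β) := by
          have : β ^ 2 = (α + β) * β - β * α := by ring
          rw [this, hsum, hαβ, sub_zero, pow_succ]
          ring
        obtain ⟨α', hα'⟩ := Ideal.mem_span_singleton'.mp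
          (hsq α (hα2 ▸ Ideal.mul_mem_right _ _ (Ideal.mem_span_singleton_self π)))
        obtain ⟨β', hβ'⟩ := Ideal.mem_span_singleton'.mp
          (hsq β (hβ2 ▸ Ideal.mul_mem_right _ _ (Ideal.mem_span_singleton_self π)))
        have hα'𝔞 : α' ∈ 𝔞 := by
          rw [mem𝔞]
          apply hcancel
          have := (mem𝔞 α).mp hα
          rw [← hα'] at this
          rw [← this]
          ring
        have hβ'𝔟 : β' ∈ 𝔟 := by
          rw [mem𝔟]
          intro n hn
          apply hcancel
          have := (mem𝔟 β).mp hβ n hn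
          rw [← hβ'] at this
          rw [← this]
          ring
        apply ih
        have hπN : π ^ N = α' + β' := by
          have h0 : π * (π ^ N - (α' + β')) = 0 := by
            have e : π * (π ^ N - (α' + β')) = π ^ (N + 1) - (α' * π + β' * π) := by
              rw [pow_succ]
              ring
            rw [e, hα', hβ', hsum, sub_self]
          exact sub_eq_zero.mp (hcancel _ h0)
        rw [hπN]
        exact Submodule.add_mem_sup hα'𝔞 hβ'𝔟
    exact hdesc N hN
  exact { }

end Domain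

section IntClosed

variable {A : Type u} [CommRing A] [IsDomain A]

omit [IsDomain A] in
/-- an element `z` of the fraction field, integral over `A`, with `π z ∈ A` lies in `A` when
`(π)` is a radical ideal -/
theorem mem_range_of_isIntegral_of_mul_mem {K : Type*} [Field K] [Algebra A K]
    [IsFractionRing A K] (π : A) (hπ0 : π ≠ 0) (hrad : (Ideal.span {π}).IsRadical)
    (z : K) (hz : IsIntegral A z) (a : A) (ha : algebraMap A K π * z = algebraMap A K a) :
    z ∈ (algebraMap A K).range := by
  obtain ⟨p, hp, hpz⟩ := hz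
  have hinj : Function.Injective (algebraMap A K) := IsFractionRing.injective A K
  have hroot : (scaleRoots p π).eval a = 0 := by
    apply hinj
    rw [map_zero, ← Polynomial.eval₂_at_apply]
    have h1 := Polynomial.scaleRoots_eval₂_eq_zero (algebraMap A K) (p := p) (r := z) (s := π) hpz
    rw [ha] at h1
    exact h1
  have hmonic : (scaleRoots p π).Monic := (Polynomial.monic_scaleRoots_iff π).mpr hp
  have hE : (scaleRoots p π).IsWeaklyEisensteinAt (Ideal.span {π}) :=
    Polynomial.scaleRoots.isWeaklyEisensteinAt p (Ideal.mem_span_singleton_self π)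
  have hpow : a ^ (scaleRoots p π).natDegree ∈ Ideal.span {π} :=
    hE.pow_natDegree_le_of_root_of_monic_mem hroot hmonic _ le_rfl
  obtain ⟨a', ha'⟩ := Ideal.mem_span_singleton'.mp (hrad ⟨_, hpow⟩)
  refine ⟨a', ?_⟩
  have hπK : algebraMap A K π ≠ 0 := fun h => hπ0 (hinj (h.trans (map_zero _).symm))
  apply mul_left_cancel₀ hπK
  rw [ha, ← map_mul, mul_comm, ha']

/-- **Integral closedness criterion.** -/
theorem isIntegrallyClosed_of_isRadical_span (π : A) (hπ0 : π ≠ 0)
    (hrad : (Ideal.span {π}).IsRadical)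
    (hloc : ∀ (𝔮 : Ideal A) [𝔮.IsPrime], π ∉ 𝔮 →
      IsDomain (Localization.AtPrime 𝔮) ∧ IsIntegrallyClosed (Localization.AtPrime 𝔮)) :
    IsIntegrallyClosed A := by
  classical
  set K := FractionRing A with hK
  refine (isIntegrallyClosed_iff K).mpr fun {x} hx => ?_
  -- the ideal of denominators
  let D : Ideal A :=
    { carrier := {d | algebraMap A K d * x ∈ (algebraMap A K).range}
      add_mem' := by
        rintro d d' ⟨y, hy⟩ ⟨y', hy'⟩
        exact ⟨y + y', by rw [map_add, hy, hy', map_add, add_mul]⟩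
      zero_mem' := ⟨0, by simp⟩
      smul_mem' := by
        rintro c d ⟨y, hy⟩
        exact ⟨c * y, by rw [smul_eq_mul, map_mul, hy, map_mul, mul_assoc]⟩ }
  have hD : ∀ d : A, d ∈ D ↔ algebraMap A K d * x ∈ (algebraMap A K).range := fun d => Iff.rfl
  have hprime : ∀ 𝔮 : Ideal A, 𝔮.IsPrime → D ≤ 𝔮 → π ∈ 𝔮 := by
    intro 𝔮 h𝔮 hle
    by_contra hπ𝔮
    haveI := h𝔮
    obtain ⟨s, hs, hsx⟩ := Groth.Agent.Lib.Helper13.exists_mul_mem_range_of_isIntegral
      (nonZeroDivisors A) le_rfl 𝔮 (hloc 𝔮 hπ𝔮) x hx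
    exact hs (hle ((hD s).mpr hsx))
  have hradmem : π ∈ D.radical := by
    rw [Ideal.radical_eq_sInf, Ideal.mem_sInf]
    rintro 𝔮 ⟨hle, h𝔮⟩
    exact hprime 𝔮 h𝔮 hle
  obtain ⟨N, hN⟩ := hradmem
  have hdesc : ∀ N : ℕ, π ^ N ∈ D → (1 : A) ∈ D := by
    intro N
    induction N with
    | zero => intro h; rwa [pow_zero] at h
    | succ N ih =>
      intro h
      apply ih
      obtain ⟨a, ha⟩ := (hD _).mp h
      have hz : IsIntegral A (algebraMap A K (π ^ N) * x) := isIntegral_algebraMap.mul hx
      have hmul : algebraMap A K π * (algebraMap A K (π ^ N) * x) = algebraMap A K a := by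
        rw [← mul_assoc, ← map_mul, ← pow_succ', ha]
      exact (hD _).mpr (mem_range_of_isIntegral_of_mul_mem π hπ0 hrad _ hz a hmul)
  obtain ⟨y, hy⟩ := (hD 1).mp (hdesc N hN)
  exact ⟨y, by rw [hy, map_one, one_mul]⟩

end IntClosed

section Main

variable {A : Type u} [CommRing A] [IsLocalRing A] [IsNoetherianRing A]

/-- **A Noetherian local ring with a reduced hypersurface section `A / π A` (`π` a
non-zero-divisor) which is normal away from `V(π)` is a normal domain.** -/
theorem isNormal_of_isRadical_span (π : A) (hπ : π ∈ nonZeroDivisors A)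
    (hrad : (Ideal.span {π}).IsRadical)
    (hloc : ∀ (𝔮 : Ideal A) [𝔮.IsPrime], π ∉ 𝔮 →
      IsDomain (Localization.AtPrime 𝔮) ∧ IsIntegrallyClosed (Localization.AtPrime 𝔮)) :
    IsDomain A ∧ IsIntegrallyClosed A := by
  haveI hdom : IsDomain A :=
    isDomain_of_isRadical_span π hπ hrad fun 𝔮 _ h𝔮 => (hloc 𝔮 h𝔮).1
  exact ⟨hdom, isIntegrallyClosed_of_isRadical_span π (nonZeroDivisors.ne_zero hπ) hrad hloc⟩

end Main

end Groth.Agent.Lib.Helper20.NormalCut
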