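import Mathlib
import Groth.Prelude
import Groth.Agent.Lib.Helper20.NormalCut
import Groth.Agent.Lib.Helper20.NodalBC
import Groth.Agent.Lib.Helper50.StalkSpecializes
import Groth.Agent.Lib.Helper12.DVRFlatSch
import Groth.Agent.Lib.Helper24.FibreStalkQuot

/-!
# Normality of semi-stable curves over a Dedekind domain (helper20)

`normal_of_isNodalFamily_dedekind`: an at-worst-nodal family of curves over a Dedekind domain with
normal generic fibre is normal.
-/

set_option autoImplicit false
set_option linter.style.haveILetI false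
universe u

open CategoryTheory CategoryTheory.Limits AlgebraicGeometry IsLocalRing

namespace Groth.Agent.Lib.Helper20.NormalFam

open Groth.Agent.Lib.Helper12.DVRFlatSch

section Gen

/-- the local ring at a generization is the localization of the local ring at the corresponding
prime -/
theorem nonempty_ringEquiv_localization_fromSpecStalk {X : Scheme.{u}} (x : X)
    (P : PrimeSpectrum (X.presheaf.stalk x)) :
    Nonempty (Localization.AtPrime P.asIdeal ≃+* X.presheaf.stalk (X.fromSpecStalk x P)) := by
  have h : (X.fromSpecStalk x) P ⤳ x := by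
    have : (X.fromSpecStalk x) P ∈ Set.range (X.fromSpecStalk x) := ⟨P, rfl⟩
    rwa [Scheme.range_fromSpecStalk] at this
  letI := (X.presheaf.stalkSpecializes h).hom.toAlgebra
  obtain ⟨M, hM⟩ := Groth.Agent.Lib.Helper50.exists_isLocalization_stalkSpecializes h
  have hP := asIdeal_eq_comap_of_fromSpecStalk x P h
  have hunit : ∀ r ∈ P.asIdeal.primeCompl,
      IsUnit (algebraMap (X.presheaf.stalk x) (X.presheaf.stalk (X.fromSpecStalk x P)) r) := by
    intro r hr
    by_contra hnu
    apply hr
    change r ∈ P.asIdeal
    rw [hP, Ideal.mem_comap]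
    exact (mem_maximalIdeal _).mpr hnu
  have hle : M ≤ P.asIdeal.primeCompl := by
    intro m hm hmem
    change m ∈ P.asIdeal at hmem
    rw [hP, Ideal.mem_comap] at hmem
    exact (mem_maximalIdeal _).mp hmem
      (IsLocalization.map_units (X.presheaf.stalk (X.fromSpecStalk x P)) (⟨m, hm⟩ : M))
  haveI : IsLocalization P.asIdeal.primeCompl (X.presheaf.stalk (X.fromSpecStalk x P)) :=
    IsLocalization.of_le M _ hle hunit
  exact ⟨(IsLocalization.algEquiv P.asIdeal.primeCompl (Localization.AtPrime P.asIdeal)
    (X.presheaf.stalk (X.fromSpecStalk x P))).toRingEquiv⟩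

end Gen

section Dedekind

variable {R : Type u} [CommRing R] [IsDedekindDomain R] {X : Scheme.{u}}
  (f : X ⟶ Spec (CommRingCat.of R))

/-- **A semi-stable curve over a Dedekind domain with normal generic fibre is normal.** -/
theorem normal_of_isNodalFamily_dedekind (hf : Curv2.IsNodalFamily f)
    (hgen : ∀ x : X, (f.base x).asIdeal = ⊥ →
      IsDomain (X.presheaf.stalk x) ∧ IsIntegrallyClosed (X.presheaf.stalk x)) :
    ∀ x : X, IsDomain (X.presheaf.stalk x) ∧ IsIntegrallyClosed (X.presheaf.stalk x) := by
  intro x
  by_cases hx : (f.base x).asIdeal = ⊥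
  · exact hgen x hx
  obtain ⟨hfl, hfp, hfib⟩ := hf
  haveI := hfl
  haveI := hfp
  haveI : IsLocallyNoetherian X := LocallyOfFiniteType.isLocallyNoetherian f
  -- the local ring of the base is a discrete valuation ring
  let p : PrimeSpectrum R := f.base x
  haveI : p.asIdeal.IsPrime := p.isPrime
  letI algB : Algebra R ((Spec (CommRingCat.of R)).presheaf.stalk (f.base x)) :=
    StructureSheaf.stalkAlgebra (R := R) p
  haveI hlocB : IsLocalization.AtPrime ((Spec (CommRingCat.of R)).presheaf.stalk (f.base x))
      p.asIdeal := StructureSheaf.IsLocalization.to_stalk (R := R) p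
  haveI : IsDomain ((Spec (CommRingCat.of R)).presheaf.stalk (f.base x)) :=
    IsLocalization.isDomain_of_atPrime ((Spec (CommRingCat.of R)).presheaf.stalk (f.base x))
      p.asIdeal
  haveI : IsDiscreteValuationRing ((Spec (CommRingCat.of R)).presheaf.stalk (f.base x)) :=
    IsLocalization.AtPrime.isDiscreteValuationRing_of_dedekind_domain R hx _
  obtain ⟨ϖ, hϖ⟩ := IsDiscreteValuationRing.exists_irreducible
    ((Spec (CommRingCat.of R)).presheaf.stalk (f.base x))
  have hmax := hϖ.maximalIdeal_eq
  -- (a) the image of the uniformizer is a nonzerodivisor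
  have hflat : (f.stalkMap x).hom.Flat := Flat.stalkMap f x
  have hπ : (f.stalkMap x).hom ϖ ∈ nonZeroDivisors (X.presheaf.stalk x) := by
    letI := (f.stalkMap x).hom.toAlgebra
    haveI : Module.Flat ((Spec (CommRingCat.of R)).presheaf.stalk (f.base x))
      (X.presheaf.stalk x) := hflat
    have hreg : IsSMulRegular (X.presheaf.stalk x) ϖ :=
      Module.Flat.isSMulRegular_of_nonZeroDivisors
        (mem_nonZeroDivisors_of_ne_zero hϖ.ne_zero)
    rw [mem_nonZeroDivisors_iff_right]
    intro a ha
    apply hreg
    change ϖ • a = ϖ • 0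
    rw [smul_zero, Algebra.smul_def, mul_comm]
    exact ha
  -- (b) the special fibre is reduced
  have hrad : (Ideal.span {(f.stalkMap x).hom ϖ}).IsRadical := by
    obtain ⟨hdim, hnod⟩ := hfib (f.base x)
    letI : (f.fiber (f.base x)).Over
        (Spec ((Spec (CommRingCat.of R)).residueField (f.base x))) :=
      ⟨f.fiberToSpecResidueField (f.base x)⟩
    haveI hlft : LocallyOfFiniteType ((f.fiber (f.base x)) ↘
        Spec ((Spec (CommRingCat.of R)).residueField (f.base x))) :=
      (inferInstance : LocallyOfFiniteType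
        (pullback.snd f ((Spec (CommRingCat.of R)).fromSpecResidueField (f.base x))))
    haveI : IsLocallyNoetherian (f.fiber (f.base x)) :=
      LocallyOfFiniteType.isLocallyNoetherian ((f.fiber (f.base x)) ↘
        Spec ((Spec (CommRingCat.of R)).residueField (f.base x)))
    haveI hgr : GeometricallyReduced ((f.fiber (f.base x)) ↘
        Spec ((Spec (CommRingCat.of R)).residueField (f.base x))) :=
      (Groth.Agent.S1589.result _ _ hdim hnod).2
    haveI : IsReduced (f.fiber (f.base x)) :=
      GeometricallyReduced.isReduced_of_flat_of_isLocallyNoetherian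
        ((f.fiber (f.base x)) ↘ Spec ((Spec (CommRingCat.of R)).residueField (f.base x)))
    obtain ⟨e⟩ := Groth.Agent.Lib.Helper24.nonempty_fibre_stalk_ringEquiv_quotient f x
    have hmap : (maximalIdeal ((Spec (CommRingCat.of R)).presheaf.stalk (f.base x))).map
        (f.stalkMap x).hom = Ideal.span {(f.stalkMap x).hom ϖ} := by
      rw [hmax, Ideal.map_span, Set.image_singleton]
    rw [← hmap, Ideal.isRadical_iff_quotient_reduced]
    exact isReduced_of_injective e.symm.toRingHom e.symm.injective
  -- (c) the local rings at the primes not containing `π` are local rings of the generic fibre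
  have hbase : ∀ r : R, (toStalkBase (f.base x)).hom r =
      algebraMap R ((Spec (CommRingCat.of R)).presheaf.stalk (f.base x)) r := fun r => rfl
  have hloc : ∀ (𝔮 : Ideal (X.presheaf.stalk x)) [𝔮.IsPrime], (f.stalkMap x).hom ϖ ∉ 𝔮 →
      IsDomain (Localization.AtPrime 𝔮) ∧ IsIntegrallyClosed (Localization.AtPrime 𝔮) := by
    intro 𝔮 h𝔮 hπ𝔮
    let P : PrimeSpectrum (X.presheaf.stalk x) := ⟨𝔮, h𝔮⟩
    obtain ⟨e⟩ := nonempty_ringEquiv_localization_fromSpecStalk x P
    have hbot : (f.base (X.fromSpecStalk x P)).asIdeal = ⊥ := by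
      by_contra hne
      have hprime : (f.base (X.fromSpecStalk x P)).asIdeal.IsPrime :=
        (f.base (X.fromSpecStalk x P)).isPrime
      have hmax' : (f.base (X.fromSpecStalk x P)).asIdeal.IsMaximal :=
        Ideal.IsPrime.isMaximal hprime hne
      have hle : (f.base (X.fromSpecStalk x P)).asIdeal ≤ p.asIdeal := by
        intro r hr
        by_contra hrp
        have hu : IsUnit (toStalk f x r) := (isUnit_toStalk_iff f x r).mpr hrp
        have hmem : toStalk f x r ∈ P.asIdeal :=
          (mem_asIdeal_iff_of_fromSpecStalk f x P r).mpr hr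
        exact h𝔮.ne_top (Ideal.eq_top_of_isUnit_mem _ hmem hu)
      have heq : (f.base (X.fromSpecStalk x P)).asIdeal = p.asIdeal :=
        hmax'.eq_of_le p.isPrime.ne_top hle
      have hϖmem : ϖ ∈ Ideal.map
          (algebraMap R ((Spec (CommRingCat.of R)).presheaf.stalk (f.base x))) p.asIdeal := by
        rw [IsLocalization.AtPrime.map_eq_maximalIdeal, hmax]
        exact Ideal.mem_span_singleton_self ϖ
      apply hπ𝔮
      have hle' : Ideal.map (f.stalkMap x).hom (Ideal.map
          (algebraMap R ((Spec (CommRingCat.of R)).presheaf.stalk (f.base x))) p.asIdeal) ≤ 𝔮 := by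
        rw [Ideal.map_map, Ideal.map_le_iff_le_comap]
        intro r hr
        rw [← heq] at hr
        have h1 := (mem_asIdeal_iff_of_fromSpecStalk f x P r).mpr hr
        rw [toStalk_eq'] at h1
        rw [Ideal.mem_comap, RingHom.comp_apply, ← hbase]
        exact h1
      exact hle' (Ideal.mem_map_of_mem _ hϖmem)
    obtain ⟨hd, hic⟩ := hgen _ hbot
    exact ⟨e.toMulEquiv.isDomain _, IsIntegrallyClosed.of_equiv e.symm⟩
  exact Groth.Agent.Lib.Helper20.NormalCut.isNormal_of_isRadical_span _ hπ hrad hloc

end Dedekind

end Groth.Agent.Lib.Helper20.NormalFam
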