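import Mathlib
import Groth.Prelude
import Groth.Agent.Lib.Helper45.InvBasis
import Groth.Agent.Lib.Helper11.PullbackBasis
import Groth.Agent.S10963
import Groth.Agent.S10964

/-!
# Invertible modules and finite morphisms which are isomorphisms off a discrete set (helper20)

`exists_isBasisOn_preimage`: for `f : X ⟶ Y` finite and `L` invertible on `X`, every point of `Y`
has an open neighbourhood `W` with `L` trivial on `f⁻¹ W`.

`exists_invertible_pullback_iso`: if moreover `f` is an isomorphism over an open `V` with discrete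
complement, `L` is the pullback of an invertible module on `Y`.
-/

set_option autoImplicit false
set_option linter.style.haveILetI false
universe u

open CategoryTheory CategoryTheory.Limits AlgebraicGeometry TopologicalSpace

namespace Groth.Agent.Lib.Helper20.PicFinite

open Groth.Agent.Lib.Helper45 Groth.Agent.Lib.Helper49 Groth.Agent.Lib.Helper11.PullbackBasis

variable {X Y : Scheme.{u}} (f : X ⟶ Y)

section Local

variable [IsFinite f] (L : X.Modules) (hL : PicF.IsInvertible L)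

include hL in
/-- an invertible module upstairs is trivial over the preimage of a neighbourhood of any point of
the base of a finite morphism -/
theorem exists_isBasisOn_preimage (y : Y) :
    ∃ W : Y.Opens, y ∈ W ∧ ∃ e : Γ(L, f ⁻¹ᵁ W), IsBasisOn L (f ⁻¹ᵁ W) e := by
  classical
  obtain ⟨_, ⟨Y₀, hY₀ : IsAffineOpen Y₀, rfl⟩, hyY₀, -⟩ :=
    Y.isBasis_affineOpens.exists_subset_of_mem_open (Set.mem_univ y) isOpen_univ
  have hU₀ : IsAffineOpen (f ⁻¹ᵁ Y₀) := hY₀.preimage f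
  haveI := isQuasicoherent_of_isInvertible hL
  have hfin : (f ⁻¹' {y}).Finite := f.finite_preimage_singleton y
  have hdisc : _root_.IsDiscrete (f ⁻¹' {y}) := f.isDiscrete_preimage_singleton y
  let T : Finset X := hfin.toFinset
  have hTmem : ∀ x, x ∈ T ↔ f x = y := fun x => by
    simp only [T, Set.Finite.mem_toFinset, Set.mem_preimage, Set.mem_singleton_iff]
  have hT : ∀ x ∈ T, x ∈ f ⁻¹ᵁ Y₀ := by
    intro x hx
    change f x ∈ Y₀
    rw [(hTmem x).mp hx]
    exact hyY₀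
  have hsp : ∀ x ∈ T, ∀ z ∈ T, z ⤳ x → z = x := by
    intro x hx z hz hzx
    obtain ⟨u, hu, hux⟩ := isDiscrete_iff_forall_mem_exists_isOpen.mp hdisc x ((hTmem x).mp hx)
    have hxu : x ∈ u := by
      have : x ∈ u ∩ f ⁻¹' {y} := by rw [hux]; rfl
      exact this.1
    have hzu : z ∈ u := hzx.mem_open hu hxu
    have : z ∈ u ∩ f ⁻¹' {y} := ⟨hzu, (hTmem z).mp hz⟩
    rw [hux] at this
    exact this
  obtain ⟨O, hO, p, hTO, hb⟩ := exists_isBasisOn_of_finset (L := L) hU₀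
    (fun x _ => exists_isBasisOn_of_isInvertible hL x) T hT hsp
  have hcl : IsClosed (f '' ((O : Set X)ᶜ)) := f.isClosedMap _ O.isOpen.isClosed_compl
  let W : Y.Opens := Y₀ ⊓ ⟨(f '' ((O : Set X)ᶜ))ᶜ, hcl.isOpen_compl⟩
  have hyW : y ∈ W := by
    refine ⟨hyY₀, ?_⟩
    rintro ⟨x, hxO, hxy⟩
    exact hxO (hTO x ((hTmem x).mpr hxy))
  have hWO : f ⁻¹ᵁ W ≤ O := by
    intro x hx
    by_contra hxO
    exact hx.2 ⟨x, hxO, rfl⟩
  exact ⟨W, hyW, mres L hWO (mres L hO p), hb.mono hWO⟩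

end Local

section Descend

variable {ι : Type u} (W : ι → Y.Opens) (hW : iSup W = ⊤) (L : X.Modules)
  (e : ∀ i, Γ(L, f ⁻¹ᵁ W i)) (he : ∀ i, IsBasisOn L (f ⁻¹ᵁ W i) (e i))
  (η : ∀ i j : ι, (Γ(Y, W i ⊓ W j))ˣ)
  (hη : ∀ i j k : ι,
    Y.presheaf.map (homOfLE (inf_le_inf_right (W k) inf_le_left : W i ⊓ W j ⊓ W k ≤ W i ⊓ W k)).op
        (η i k : Γ(Y, W i ⊓ W k)) =
      Y.presheaf.map (homOfLE (inf_le_left : W i ⊓ W j ⊓ W k ≤ W i ⊓ W j)).op
          (η i j : Γ(Y, W i ⊓ W j)) *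
        Y.presheaf.map (homOfLE (inf_le_inf_right (W k) inf_le_right :
          W i ⊓ W j ⊓ W k ≤ W j ⊓ W k)).op (η j k : Γ(Y, W j ⊓ W k)))
  (hcomp : ∀ i j : ι,
    mres L (inf_le_left : f ⁻¹ᵁ W i ⊓ f ⁻¹ᵁ W j ≤ f ⁻¹ᵁ W i) (e i) =
      (show Γ(X, f ⁻¹ᵁ W i ⊓ f ⁻¹ᵁ W j) from (f.app (W i ⊓ W j)).hom (η i j : Γ(Y, W i ⊓ W j))) •
        mres L (inf_le_right : f ⁻¹ᵁ W i ⊓ f ⁻¹ᵁ W j ≤ f ⁻¹ᵁ W j) (e j))

include hW he hη hcomp in
/-- if the transition functions of local bases of `L` over the preimages of an open cover of `Y`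
come from a cocycle of units on `Y`, then `L` is the pullback of an invertible module -/
theorem exists_invertible_pullback_iso_of_cocycle :
    ∃ N : Y.Modules, PicF.IsInvertible N ∧ Nonempty ((Scheme.Modules.pullback f).obj N ≅ L) := by
  obtain ⟨N, s, hN, hs, hsη⟩ := Groth.Agent.S10963.result Y W hW η hη
  refine ⟨N, hN, ?_⟩
  have hU : iSup (fun i => f ⁻¹ᵁ W i) = ⊤ := by
    rw [← Scheme.Hom.preimage_iSup, hW]
    rfl
  have hsb : ∀ i, IsBasisOn N (W i) (s i) := fun i V h => hs i V h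
  refine (Groth.Agent.S10964.result X (fun i => f ⁻¹ᵁ W i) hU
    ((Scheme.Modules.pullback f).obj N) L (fun i => pullS f N (W i) (s i)) e
    (fun i V h => isBasisOn_pullS f (W i) N (s i) (hsb i) V h) (fun i V h => he i V h)
    (fun i j => (f.app (W i ⊓ W j)).hom (η i j : Γ(Y, W i ⊓ W j)))
    (fun i j => (f.app (W i ⊓ W j)).hom (η i j : Γ(Y, W i ⊓ W j))) ?_ ?_).mpr
    ⟨fun _ => 1, fun i j => ?_⟩
  · intro i j
    have h1 := pullS_res (f := f) N (inf_le_left : W i ⊓ W j ≤ W i) (s i)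
    have h2 := pullS_res (f := f) N (inf_le_right : W i ⊓ W j ≤ W j) (s j)
    have h3 := congrArg (pullS f N (W i ⊓ W j)) (hsη i j)
    rw [pullS_smul] at h3
    exact h1.trans (h3.trans (congrArg _ h2.symm))
  · intro i j
    exact hcomp i j
  · simp only [Units.val_one, map_one, mul_one, one_mul]

end Descend

section Iso

variable (V : Y.Opens)

/-- over an open where `f` is an isomorphism, pullback of functions is bijective -/
theorem app_bijective_of_le (hV : IsIso (f ∣_ V)) (W : Y.Opens) (hWV : W ≤ V) :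
    Function.Bijective (f.app W).hom := by
  haveI := hV
  have key : ∀ W' : V.toScheme.Opens, IsIso (f.app (V.ι ''ᵁ W')) := by
    intro W'
    have h := morphismRestrict_app f V W'
    haveI h0 : IsIso ((f ∣_ V).app W') := by infer_instance
    haveI : IsIso (f.app (V.ι ''ᵁ W') ≫
        X.presheaf.map (eqToHom (image_morphismRestrict_preimage f V W')).op) := by
      rw [← h]
      exact h0
    exact IsIso.of_isIso_comp_right _
      (X.presheaf.map (eqToHom (image_morphismRestrict_preimage f V W')).op)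
  have hW : V.ι ''ᵁ (V.ι ⁻¹ᵁ W) = W := by
    rw [Scheme.Hom.image_preimage_eq_opensRange_inf, Scheme.Opens.opensRange_ι]
    exact inf_eq_right.mpr hWV
  have h1 := key (V.ι ⁻¹ᵁ W)
  rw [hW] at h1
  exact (ConcreteCategory.isIso_iff_bijective (f.app W)).mp h1

end Iso

section Cocycle

variable {X' : Scheme.{u}} (L : X'.Modules)

/-- transition functions between three local bases satisfy the cocycle identity -/
theorem transition_cocycle {U₁ U₂ U₃ : X'.Opens}
    {e₁ : Γ(L, U₁)} {e₂ : Γ(L, U₂)} {e₃ : Γ(L, U₃)} (he₃ : IsBasisOn L U₃ e₃)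
    {u₁₂ : Γ(X', U₁ ⊓ U₂)} {u₂₃ : Γ(X', U₂ ⊓ U₃)} {u₁₃ : Γ(X', U₁ ⊓ U₃)}
    (h₁₂ : u₁₂ • mres L inf_le_right e₂ = mres L inf_le_left e₁)
    (h₂₃ : u₂₃ • mres L inf_le_right e₃ = mres L inf_le_left e₂)
    (h₁₃ : u₁₃ • mres L inf_le_right e₃ = mres L inf_le_left e₁)
    {T : X'.Opens} (h12 : T ≤ U₁ ⊓ U₂) (h23 : T ≤ U₂ ⊓ U₃) (h13 : T ≤ U₁ ⊓ U₃) :
    fres h13 u₁₃ = fres h12 u₁₂ * fres h23 u₂₃ := by
  have hT3 : T ≤ U₃ := h13.trans inf_le_right
  apply (he₃.mono hT3).eq_of_smul_eq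
  have e13 := congrArg (mres L h13) h₁₃
  have e12 := congrArg (mres L h12) h₁₂
  have e23 := congrArg (mres L h23) h₂₃
  simp only [mres_smul, mres_mres] at e13 e12 e23
  rw [mul_smul, e23, e12, e13]

/-- a transition function between two local bases is a unit -/
theorem isUnit_transition {U₁ U₂ : X'.Opens} {e₁ : Γ(L, U₁)} {e₂ : Γ(L, U₂)}
    (he₁ : IsBasisOn L U₁ e₁) (he₂ : IsBasisOn L U₂ e₂) {u₁₂ : Γ(X', U₁ ⊓ U₂)}
    (h₁₂ : u₁₂ • mres L inf_le_right e₂ = mres L inf_le_left e₁) : IsUnit u₁₂ := by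
  obtain ⟨r, hr⟩ := (he₁.mono (inf_le_left : U₁ ⊓ U₂ ≤ U₁)).exists_eq_smul
    (mres L (inf_le_right : U₁ ⊓ U₂ ≤ U₂) e₂)
  have h : (u₁₂ * r) • mres L (inf_le_right : U₁ ⊓ U₂ ≤ U₂) e₂ =
      (1 : Γ(X', U₁ ⊓ U₂)) • mres L (inf_le_right : U₁ ⊓ U₂ ≤ U₂) e₂ := by
    rw [mul_comm, mul_smul, h₁₂, hr, one_smul]
  exact IsUnit.of_mul_eq_one r ((he₂.mono inf_le_right).eq_of_smul_eq h)

/-- the transition function from a basis to itself is `1` -/
theorem transition_self {U₁ : X'.Opens} {e₁ : Γ(L, U₁)}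
    (he₁ : IsBasisOn L U₁ e₁) {u₁₁ : Γ(X', U₁ ⊓ U₁)}
    (h₁₁ : u₁₁ • mres L inf_le_right e₁ = mres L inf_le_left e₁) : u₁₁ = 1 := by
  apply (he₁.mono (inf_le_right : U₁ ⊓ U₁ ≤ U₁)).eq_of_smul_eq
  rw [h₁₁, one_smul]

end Cocycle

/-- compatibility of `f.app` with restriction -/
theorem app_map_apply {T W : Y.Opens} (h : T ≤ W) (x : Γ(Y, W)) :
    (f.app T).hom (Y.presheaf.map (homOfLE h).op x) =
      fres (f.preimage_mono h) ((f.app W).hom x) := by
  have := congrArg (fun φ => φ.hom x) (f.naturality (homOfLE h).op)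
  exact this

section Main

variable [IsFinite f] (V : Y.Opens) (hV : IsIso (f ∣_ V))
  (hdisc : DiscreteTopology ((V : Set Y)ᶜ : Set Y)) (L : X.Modules) (hL : PicF.IsInvertible L)

include hV hdisc hL in
/-- an invertible module on the source of a finite morphism which is an isomorphism away from a
discrete closed subset of the target descends to the target -/
theorem exists_invertible_pullback_iso :
    ∃ N : Y.Modules, PicF.IsInvertible N ∧ Nonempty ((Scheme.Modules.pullback f).obj N ≅ L) := by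
  classical
  have hC : ∀ y : Y, ∃ W : Y.Opens, y ∈ W ∧ (∀ z ∈ W, z ∉ V → z = y) ∧
      ∃ e : Γ(L, f ⁻¹ᵁ W), IsBasisOn L (f ⁻¹ᵁ W) e := by
    intro y
    obtain ⟨W₀, hyW₀, e₀, he₀⟩ := exists_isBasisOn_preimage f L hL y
    by_cases hyV : y ∈ V
    · have hle : f ⁻¹ᵁ (W₀ ⊓ V) ≤ f ⁻¹ᵁ W₀ := f.preimage_mono inf_le_left
      exact ⟨W₀ ⊓ V, ⟨hyW₀, hyV⟩, fun z hz hzV => absurd hz.2 hzV, mres L hle e₀, he₀.mono hle⟩
    · have hyc : y ∈ ((V : Set Y)ᶜ) := hyV
      obtain ⟨u, hu, hux⟩ := isDiscrete_iff_forall_mem_exists_isOpen.mp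
        (⟨hdisc⟩ : _root_.IsDiscrete ((V : Set Y)ᶜ)) y hyc
      have hyu : y ∈ u := by
        have : y ∈ u ∩ (V : Set Y)ᶜ := by rw [hux]; rfl
        exact this.1
      have hle : f ⁻¹ᵁ (W₀ ⊓ ⟨u, hu⟩) ≤ f ⁻¹ᵁ W₀ := f.preimage_mono inf_le_left
      refine ⟨W₀ ⊓ ⟨u, hu⟩, ⟨hyW₀, hyu⟩, fun z hz hzV => ?_, mres L hle e₀, he₀.mono hle⟩
      have : z ∈ u ∩ (V : Set Y)ᶜ := ⟨hz.2, hzV⟩
      rw [hux] at this
      exact this
  choose W hyW hWz e he using hC
  have hcov : iSup W = ⊤ := eq_top_iff.mpr fun y _ => Opens.mem_iSup.mpr ⟨y, hyW y⟩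
  have hpair : ∀ i j : Y, i ≠ j → W i ⊓ W j ≤ V := by
    intro i j hij z hz
    by_contra hzV
    exact hij ((hWz i z hz.1 hzV).symm.trans (hWz j z hz.2 hzV))
  have hD : ∀ i j : Y, ∃ r : Γ(X, f ⁻¹ᵁ W i ⊓ f ⁻¹ᵁ W j),
      r • mres L (inf_le_right : f ⁻¹ᵁ W i ⊓ f ⁻¹ᵁ W j ≤ f ⁻¹ᵁ W j) (e j) =
        mres L (inf_le_left : f ⁻¹ᵁ W i ⊓ f ⁻¹ᵁ W j ≤ f ⁻¹ᵁ W i) (e i) := fun i j =>
    ((he j).mono inf_le_right).exists_eq_smul _
  choose u hu using hD
  have hex : ∀ i j : Y, ∃ η : (Γ(Y, W i ⊓ W j))ˣ,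
      (show Γ(X, f ⁻¹ᵁ W i ⊓ f ⁻¹ᵁ W j) from
        (f.app (W i ⊓ W j)).hom (η : Γ(Y, W i ⊓ W j))) = u i j ∧
      (i = j → (η : Γ(Y, W i ⊓ W j)) = 1) := by
    intro i j
    by_cases hij : i = j
    · subst hij
      refine ⟨1, ?_, fun _ => rfl⟩
      rw [transition_self L (he i) (hu i i)]
      exact map_one (f.app (W i ⊓ W i)).hom
    · have hb := app_bijective_of_le f V hV (W i ⊓ W j) (hpair i j hij)
      have hunit : IsUnit (u i j) := isUnit_transition L (he i) (he j) (hu i j)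
      let E := RingEquiv.ofBijective (f.app (W i ⊓ W j)).hom hb
      have hE : IsUnit (E.symm (u i j)) := hunit.map E.symm
      refine ⟨hE.unit, ?_, fun h => absurd h hij⟩
      exact E.apply_symm_apply (u i j)
  choose η hηu hη1 using hex
  refine exists_invertible_pullback_iso_of_cocycle f W hcov L e he η ?_ ?_
  · intro i j k
    by_cases hij : i = j
    · subst hij
      rw [hη1 i i rfl, map_one, one_mul]
    · have hT : W i ⊓ W j ⊓ W k ≤ V := inf_le_left.trans (hpair i j hij)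
      apply (app_bijective_of_le f V hV _ hT).1
      rw [map_mul, app_map_apply, app_map_apply, app_map_apply]
      have h1 := hηu i k
      have h2 := hηu i j
      have h3 := hηu j k
      change (f.app (W i ⊓ W k)).hom (η i k : Γ(Y, W i ⊓ W k)) = u i k at h1
      change (f.app (W i ⊓ W j)).hom (η i j : Γ(Y, W i ⊓ W j)) = u i j at h2
      change (f.app (W j ⊓ W k)).hom (η j k : Γ(Y, W j ⊓ W k)) = u j k at h3
      rw [h1, h2, h3]
      exact transition_cocycle L (he k) (hu i j) (hu j k) (hu i k) _ _ _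
  · intro i j
    rw [hηu i j, hu i j]

end Main

end Groth.Agent.Lib.Helper20.PicFinite
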