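import Mathlib

/-!
# Dévissage by residue fields over a Noetherian ring

* `FGSub`: the filtered system of finitely generated submodules of a module, with colimit the module.
* `devissage`: a class of modules over a Noetherian ring which is closed under isomorphisms,
  satisfies two-out-of-three (in the forms `X₁, X₃ ⇒ X₂` and `X₂, X₃ ⇒ X₁`) for short exact
  sequences, contains a module as soon as it contains its finitely generated submodules, and
  contains all residue fields `κ(p)`, contains every module.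
-/

set_option autoImplicit false
universe u
open CategoryTheory CategoryTheory.Limits

namespace Groth.Agent.Lib.Helper20.PrimeDevissage

section FGSub

variable {A : Type u} [CommRing A] (X : ModuleCat.{u} A)

/-- finitely generated submodules -/
def FGSub : Type u := {N : Submodule A X // N.FG}

instance : Preorder (FGSub X) := inferInstanceAs (Preorder {N : Submodule A X // N.FG})

instance : Nonempty (FGSub X) := ⟨⟨⊥, Submodule.fg_bot⟩⟩

instance : IsDirected (FGSub X) (· ≤ ·) :=
  ⟨fun a b => ⟨⟨a.1 ⊔ b.1, a.2.sup b.2⟩,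
    show a.1 ≤ a.1 ⊔ b.1 from le_sup_left, show b.1 ≤ a.1 ⊔ b.1 from le_sup_right⟩⟩

instance : IsFiltered (FGSub X) := inferInstance

/-- the diagram of finitely generated submodules -/
noncomputable def fgDiagram : FGSub X ⥤ ModuleCat.{u} A where
  obj N := ModuleCat.of A N.1
  map {N N'} f := ModuleCat.ofHom (Submodule.inclusion (show N.1 ≤ N'.1 from leOfHom f))
  map_id N := by
    ext x
    rfl
  map_comp f g := by
    ext x
    rfl

/-- the cocone with point `X` -/
noncomputable def fgCocone : Cocone (fgDiagram X) where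
  pt := X
  ι :=
    { app := fun N => ModuleCat.ofHom N.1.subtype
      naturality := fun N N' f => by
        ext x
        rfl }

lemma fgCocone_ι_app_apply (N : FGSub X) (x : N.1) :
    ((fgCocone X).ι.app N).hom x = (x : X) := rfl

/-- `X` is the filtered colimit of its finitely generated submodules -/
noncomputable def isColimitFgCocone : IsColimit (fgCocone X) := by
  have : ReflectsColimitsOfShape (FGSub X) (forget (ModuleCat.{u} A)) :=
    reflectsColimitsOfShape_of_reflectsIsomorphisms
  apply isColimitOfReflects (forget (ModuleCat.{u} A))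
  refine Types.FilteredColimit.isColimitOf _ _ ?_ ?_
  · intro x
    exact ⟨⟨Submodule.span A {(x : X)}, Submodule.fg_span_singleton _⟩,
      ⟨(x : X), Submodule.mem_span_singleton_self _⟩, rfl⟩
  · intro N N' x x' h
    let y : N.1 := x
    let y' : N'.1 := x'
    have h' : (y : X) = (y' : X) := h
    refine ⟨⟨N.1 ⊔ N'.1, N.2.sup N'.2⟩, homOfLE (show N.1 ≤ N.1 ⊔ N'.1 from le_sup_left),
      homOfLE (show N'.1 ≤ N.1 ⊔ N'.1 from le_sup_right), ?_⟩
    exact Subtype.ext (a1 := Submodule.inclusion (show N.1 ≤ N.1 ⊔ N'.1 from le_sup_left) y)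
      (a2 := Submodule.inclusion (show N'.1 ≤ N.1 ⊔ N'.1 from le_sup_right) y') h'

end FGSub

section devissage

variable {A : Type u} [CommRing A]

/-- short exact sequence in `ModuleCat` from an exact pair of linear maps -/
lemma shortExact_of_linear {N₁ N₂ N₃ : Type u} [AddCommGroup N₁] [Module A N₁] [AddCommGroup N₂]
    [Module A N₂] [AddCommGroup N₃] [Module A N₃] (f : N₁ →ₗ[A] N₂) (g : N₂ →ₗ[A] N₃)
    (hf : Function.Injective f) (hg : Function.Surjective g) (hfg : Function.Exact f g) :
    ∃ w : (ModuleCat.ofHom f : ModuleCat.of A N₁ ⟶ ModuleCat.of A N₂) ≫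
        (ModuleCat.ofHom g : ModuleCat.of A N₂ ⟶ ModuleCat.of A N₃) = 0,
      (ShortComplex.mk _ _ w).ShortExact := by
  have w : (ModuleCat.ofHom f : ModuleCat.of A N₁ ⟶ ModuleCat.of A N₂) ≫
      (ModuleCat.ofHom g : ModuleCat.of A N₂ ⟶ ModuleCat.of A N₃) = 0 := by
    ext x
    exact hfg.apply_apply_eq_zero x
  refine ⟨w, ?_⟩
  have hex : (ShortComplex.mk _ _ w).Exact := by
    rw [ShortComplex.ShortExact.moduleCat_exact_iff_function_exact]
    exact hfg
  have : Mono (ShortComplex.mk _ _ w).f := (ModuleCat.mono_iff_injective _).mpr hf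
  have : Epi (ShortComplex.mk _ _ w).g := (ModuleCat.epi_iff_surjective _).mpr hg
  exact ShortComplex.ShortExact.mk hex

variable [IsNoetherianRing A] (Pr : ModuleCat.{u} A → Prop)

/-- finitely generated modules killed by `I` are in `Pr` if `Pr` contains `A ⧸ q` for the primes
`q ⊇ I` and is closed under extensions -/
lemma tracked
    (hiso : ∀ {X Y : ModuleCat.{u} A}, (X ≅ Y) → Pr X → Pr Y)
    (hext : ∀ S : ShortComplex (ModuleCat.{u} A), S.ShortExact → Pr S.X₁ → Pr S.X₃ → Pr S.X₂)
    (h0 : ∀ X : ModuleCat.{u} A, Subsingleton X → Pr X)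
    (I : Ideal A) (hI : ∀ q : Ideal A, q.IsPrime → I ≤ q → Pr (ModuleCat.of A (A ⧸ q)))
    (N : Type u) [AddCommGroup N] [Module A N] (hN : Module.Finite A N)
    (hIN : I ≤ Module.annihilator A N) : Pr (ModuleCat.of A N) := by
  revert hIN
  induction hN using IsNoetherianRing.induction_on_isQuotientEquivQuotientPrime A with
  | subsingleton N => exact fun _ => h0 _ (inferInstanceAs (Subsingleton N))
  | quotient N p e =>
    intro hIN
    have h1 : Module.annihilator A N = p.1 := by
      rw [e.annihilator_eq, Ideal.annihilator_quotient]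
    rw [h1] at hIN
    exact hiso e.symm.toModuleIso (hI p.1 p.2 hIN)
  | exact N₁ N₂ N₃ f g hf hg hfg ih1 ih3 =>
    intro hIN
    obtain ⟨w, hS⟩ := shortExact_of_linear f g hf hg hfg
    refine hext _ hS (ih1 ?_) (ih3 ?_)
    · intro a ha
      rw [Module.mem_annihilator]
      intro x
      apply hf
      rw [map_smul, map_zero]
      exact Module.mem_annihilator.mp (hIN ha) (f x)
    · intro a ha
      rw [Module.mem_annihilator]
      intro x
      obtain ⟨y, rfl⟩ := hg x
      rw [← map_smul, Module.mem_annihilator.mp (hIN ha) y, map_zero]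

omit [IsNoetherianRing A] in
/-- every finitely generated submodule of `κ(p) ⧸ (A ⧸ p)` is killed by some `f ∉ p` -/
lemma exists_notMem_smul_eq_zero (p : Ideal A) [p.IsPrime]
    (ι : (A ⧸ p) →ₗ[A] p.ResidueField)
    (hι : ∀ a : A ⧸ p, ι a = algebraMap (A ⧸ p) p.ResidueField a)
    (N : Submodule A (p.ResidueField ⧸ LinearMap.range ι)) (hN : N.FG) :
    ∃ f : A, f ∉ p ∧ ∀ x ∈ N, f • x = 0 := by
  induction N, hN using Submodule.fg_induction with
  | singleton x =>
    obtain ⟨z, rfl⟩ := Submodule.mkQ_surjective _ x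
    obtain ⟨a, b, hb, rfl⟩ := IsFractionRing.div_surjective (A := A ⧸ p) z
    obtain ⟨f, rfl⟩ := Ideal.Quotient.mk_surjective b
    have hfp : f ∉ p := by
      intro hf
      have h0 : (Ideal.Quotient.mk p f) = 0 := Ideal.Quotient.eq_zero_iff_mem.mpr hf
      exact nonZeroDivisors.ne_zero hb h0
    have hne : algebraMap (A ⧸ p) p.ResidueField (Ideal.Quotient.mk p f) ≠ 0 := by
      intro h
      exact nonZeroDivisors.ne_zero hb
        ((injective_iff_map_eq_zero _).mp (IsFractionRing.injective (A ⧸ p) p.ResidueField) _ h)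
    refine ⟨f, hfp, ?_⟩
    intro x hx
    obtain ⟨c, rfl⟩ := Submodule.mem_span_singleton.mp hx
    rw [smul_comm, ← map_smul]
    have h1 : f • (algebraMap (A ⧸ p) p.ResidueField a /
        algebraMap (A ⧸ p) p.ResidueField (Ideal.Quotient.mk p f)) = ι a := by
      rw [hι, Algebra.smul_def, IsScalarTower.algebraMap_apply A (A ⧸ p) p.ResidueField]
      change algebraMap (A ⧸ p) p.ResidueField (Ideal.Quotient.mk p f) * _ = _
      rw [mul_div_cancel₀ _ hne]
    rw [h1]
    have h2 : (LinearMap.range ι).mkQ (ι a) = 0 := by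
      rw [Submodule.mkQ_apply, Submodule.Quotient.mk_eq_zero]
      exact ⟨a, rfl⟩
    rw [h2, smul_zero]
  | sup N₁ N₂ _ _ ih1 ih2 =>
    obtain ⟨f1, hf1, h1⟩ := ih1
    obtain ⟨f2, hf2, h2⟩ := ih2
    refine ⟨f1 * f2, fun h => (Ideal.IsPrime.mem_or_mem inferInstance h).elim hf1 hf2, ?_⟩
    intro x hx
    obtain ⟨y, hy, z, hz, rfl⟩ := Submodule.mem_sup.mp hx
    have e1 : (f1 * f2) • y = 0 := by rw [mul_comm, mul_smul, h1 y hy, smul_zero]
    have e2 : (f1 * f2) • z = 0 := by rw [mul_smul, h2 z hz, smul_zero]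
    rw [smul_add, e1, e2, add_zero]

/-- the step of the Noetherian induction on primes -/
lemma prime_step
    (hiso : ∀ {X Y : ModuleCat.{u} A}, (X ≅ Y) → Pr X → Pr Y)
    (h23 : ∀ S : ShortComplex (ModuleCat.{u} A), S.ShortExact →
      (Pr S.X₁ → Pr S.X₃ → Pr S.X₂) ∧ (Pr S.X₂ → Pr S.X₃ → Pr S.X₁))
    (h0 : ∀ X : ModuleCat.{u} A, Subsingleton X → Pr X)
    (hfg : ∀ X : ModuleCat.{u} A, (∀ N : Submodule A X, N.FG → Pr (ModuleCat.of A N)) → Pr X)
    (hκ : ∀ (p : Ideal A) [p.IsPrime], Pr (ModuleCat.of A p.ResidueField))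
    (p : Ideal A) [hp : p.IsPrime]
    (ih : ∀ q : Ideal A, q.IsPrime → p < q → Pr (ModuleCat.of A (A ⧸ q))) :
    Pr (ModuleCat.of A (A ⧸ p)) := by
  let ι : (A ⧸ p) →ₗ[A] p.ResidueField := (IsScalarTower.toAlgHom A (A ⧸ p) p.ResidueField).toLinearMap
  have hι : ∀ a : A ⧸ p, ι a = algebraMap (A ⧸ p) p.ResidueField a := fun _ => rfl
  have hinj : Function.Injective ι := IsFractionRing.injective (A ⧸ p) p.ResidueField
  obtain ⟨w, hS⟩ := shortExact_of_linear ι (LinearMap.range ι).mkQ hinj
    (Submodule.mkQ_surjective _) (LinearMap.exact_map_mkQ_range ι)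
  have hQ : Pr (ModuleCat.of A (p.ResidueField ⧸ LinearMap.range ι)) := by
    apply hfg
    intro N hN
    obtain ⟨f, hfp, hf⟩ := exists_notMem_smul_eq_zero p ι hι N hN
    have hfin : Module.Finite A N := Module.Finite.iff_fg.mpr hN
    refine tracked Pr hiso (fun S hS => (h23 S hS).1) h0 (p ⊔ Ideal.span {f}) ?_ N hfin ?_
    · intro q hq hle
      have hpq : p ≤ q := le_sup_left.trans hle
      have hfq : f ∈ q := hle (Ideal.mem_sup_right (Ideal.subset_span rfl))
      exact ih q hq (lt_of_le_of_ne hpq (fun h => hfp (h ▸ hfq)))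
    · rw [sup_le_iff]
      constructor
      · intro a ha
        rw [Module.mem_annihilator]
        rintro ⟨x, hx⟩
        apply Subtype.ext
        obtain ⟨z, rfl⟩ := Submodule.mkQ_surjective _ x
        change a • (LinearMap.range ι).mkQ z = 0
        rw [← map_smul, Algebra.smul_def, (Ideal.algebraMap_residueField_eq_zero).mpr ha,
          zero_mul, map_zero]
      · rw [Ideal.span_le, Set.singleton_subset_iff]
        change f ∈ Module.annihilator A N
        rw [Module.mem_annihilator]
        rintro ⟨x, hx⟩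
        exact Subtype.ext (hf x hx)
  exact (h23 _ hS).2 (hκ p) hQ

/-- **Dévissage by residue fields.** -/
theorem devissage
    (hiso : ∀ {X Y : ModuleCat.{u} A}, (X ≅ Y) → Pr X → Pr Y)
    (h23 : ∀ S : ShortComplex (ModuleCat.{u} A), S.ShortExact →
      (Pr S.X₁ → Pr S.X₃ → Pr S.X₂) ∧ (Pr S.X₂ → Pr S.X₃ → Pr S.X₁))
    (h0 : ∀ X : ModuleCat.{u} A, Subsingleton X → Pr X)
    (hfg : ∀ X : ModuleCat.{u} A, (∀ N : Submodule A X, N.FG → Pr (ModuleCat.of A N)) → Pr X)
    (hκ : ∀ (p : Ideal A) [p.IsPrime], Pr (ModuleCat.of A p.ResidueField))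
    (X : ModuleCat.{u} A) : Pr X := by
  have hprime : ∀ p : Ideal A, p.IsPrime → Pr (ModuleCat.of A (A ⧸ p)) := by
    intro p
    induction p using IsNoetherian.induction with
    | hgt p ih =>
      intro hp
      exact prime_step Pr hiso h23 h0 hfg hκ p (fun q hq hpq => ih q hpq hq)
  apply hfg
  intro N hN
  have hfin : Module.Finite A N := Module.Finite.iff_fg.mpr hN
  exact tracked Pr hiso (fun S hS => (h23 S hS).1) h0 ⊥ (fun q hq _ => hprime q hq) N hfin bot_le

end devissage

end Groth.Agent.Lib.Helper20.PrimeDevissage
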