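import Mathlib
import Groth.Agent.Lib.Helper67.PtFunNormal
import Groth.Agent.Lib.Helper70.SeminormalIso
import Groth.Agent.Lib.Helper20.DVRComplete
import Groth.Agent.Lib.Helper20.DVRDescend

/-!
# Pointwise functions on seminormal rings: the test along complete DVRs (helper20)
-/

set_option autoImplicit false
universe u

open AlgebraicGeometry CategoryTheory W4c1hilbchowinc IsLocalRing

namespace Groth.Agent.Lib.Helper20.PtFunSN

open Groth.Agent.Lib.Helper67

/-- pullback of pointwise functions is functorial -/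
lemma pullback_comp {X Y Z : Scheme.{u}} (g : Z ⟶ Y) (π : Y ⟶ X) (f : PtFun X) :
    (f.pullback π).pullback g = f.pullback (g ≫ π) := by
  funext z
  show g.residueFieldMap z (π.residueFieldMap (g z) (f (π (g z)))) =
    (g ≫ π).residueFieldMap z (f ((g ≫ π) z))
  rw [Scheme.residueFieldMap_comp]
  rfl

/-- the divisibility test for a general ring map along which the pullback is algebraic
(helper67's `dvr_test`, without the DVR). -/
theorem test_of_isAlgebraic {A R : Type u} [CommRing A] [CommRing R]
    (f : PtFun (Spec (CommRingCat.of A))) (ψ : A →+* R)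
    (hf : (f.pullback (Spec.map (CommRingCat.ofHom ψ))).IsAlgebraic) :
    ∃ s : R, ∀ (y : Spec (CommRingCat.of R)) (x : Spec (CommRingCat.of A)),
      Spec.map (CommRingCat.ofHom ψ) y = x → ∀ a b : A, ev A x a = f x * ev A x b →
        ψ a - s * ψ b ∈ y.asIdeal := by
  obtain ⟨s0, hs0⟩ := hf
  refine ⟨(Scheme.ΓSpecIso (CommRingCat.of R)).hom s0, ?_⟩
  intro y x hx a b hab
  subst hx
  have hy : (Spec (CommRingCat.of R)).Γevaluation y s0 =
      (Spec.map (CommRingCat.ofHom ψ)).residueFieldMap y (f (Spec.map (CommRingCat.ofHom ψ) y)) :=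
    congrFun hs0 y
  have hnat : ∀ c : A, (Spec.map (CommRingCat.ofHom ψ)).residueFieldMap y
      (ev A (Spec.map (CommRingCat.ofHom ψ) y) c) = ev R y (ψ c) := by
    intro c
    rw [ev_apply, Scheme.Γevaluation_naturality_apply, ev_apply]
    congr 1
    exact (ConcreteCategory.congr_hom
      (Scheme.ΓSpecIso_inv_naturality (CommRingCat.ofHom ψ)) c).symm
  have h1 := congrArg ((Spec.map (CommRingCat.ofHom ψ)).residueFieldMap y) hab
  rw [map_mul, hnat, hnat, ← hy, Γevaluation_eq_ev] at h1
  rw [← ev_eq_zero_iff, map_sub, map_mul, h1, sub_self]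

/-- naturality of `ev` -/
lemma residueFieldMap_ev {A R : Type u} [CommRing A] [CommRing R] (ψ : A →+* R)
    (y : Spec (CommRingCat.of R)) (c : A) :
    (Spec.map (CommRingCat.ofHom ψ)).residueFieldMap y
      (ev A (Spec.map (CommRingCat.ofHom ψ) y) c) = ev R y (ψ c) := by
  rw [ev_apply, Scheme.Γevaluation_naturality_apply, ev_apply]
  congr 1
  exact (ConcreteCategory.congr_hom
    (Scheme.ΓSpecIso_inv_naturality (CommRingCat.ofHom ψ)) c).symm


/-- in a DVR every prime is `⊥` or the maximal ideal -/
lemma dvr_prime_eq (R : Type u) [CommRing R] [IsDomain R] [IsDiscreteValuationRing R]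
    (y : Ideal R) [hy : y.IsPrime] : y = ⊥ ∨ y = maximalIdeal R := by
  by_cases h : y = ⊥
  · exact Or.inl h
  · right
    have hmax : y.IsMaximal := hy.isMaximal h
    exact IsLocalRing.eq_maximalIdeal hmax

/-- a pointwise function varying algebraically along complete DVRs varies algebraically along all
DVRs. -/
theorem variesAlongDVR_of_complete {X : Scheme.{u}} (f : PtFun X)
    (hf : f.VariesAlongCompleteDVR) : f.VariesAlongDVR := by
  intro R _ _ _ g
  let R' := DVRComplete.T R
  letI : IsDomain R' := DVRComplete.isDomain R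
  haveI : IsDiscreteValuationRing R' := DVRComplete.isDiscreteValuationRing R
  let ψ : R →+* R' := algebraMap R R'
  have hψinj : Function.Injective ψ := DVRComplete.algebraMap_injective R
  haveI hψloc : IsLocalHom ψ := inferInstanceAs (IsLocalHom (algebraMap R (AdicCompletion (maximalIdeal R) R)))
  have h1 := hf R' (Spec.map (CommRingCat.ofHom ψ) ≫ g)
  rw [← pullback_comp] at h1
  set h := f.pullback g with hh
  obtain ⟨s', hs'⟩ := test_of_isAlgebraic h ψ h1
  -- generic point
  let η' : Spec (CommRingCat.of R') := (⟨⊥, Ideal.isPrime_bot⟩ : PrimeSpectrum R')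
  let η : Spec (CommRingCat.of R) := Spec.map (CommRingCat.ofHom ψ) η'
  have hη : η.asIdeal = ⊥ := by
    show Ideal.comap ψ ⊥ = ⊥
    rw [← RingHom.ker_eq_comap_bot, (RingHom.injective_iff_ker_eq_bot ψ).1 hψinj]
  obtain ⟨a, b, hb, hab⟩ := exists_ev_eq_mul R η (h η)
  have hb0 : b ≠ 0 := by
    rintro rfl
    exact hb (Ideal.zero_mem _)
  have h2 : ψ a - s' * ψ b ∈ (⊥ : Ideal R') := hs' η' η rfl a b hab
  rw [Ideal.mem_bot, sub_eq_zero] at h2
  -- domination
  let K := FractionRing R
  let K' := FractionRing R'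
  have hg : Function.Injective ((algebraMap R' K').comp ψ) :=
    (IsFractionRing.injective R' K').comp hψinj
  let φK : K →+* K' := IsFractionRing.lift hg
  have hφK : ∀ r : R, φK (algebraMap R K r) = algebraMap R' K' (ψ r) :=
    fun r => IsFractionRing.lift_algebraMap hg r
  have hbK : algebraMap R K b ≠ 0 := by
    rw [Ne, IsFractionRing.to_map_eq_zero_iff]
    exact hb0
  have hψb : ψ b ≠ 0 := by
    rw [Ne, ← map_zero ψ]
    exact fun h => hb0 (hψinj h)
  have hψbK : algebraMap R' K' (ψ b) ≠ 0 := by
    rw [Ne, IsFractionRing.to_map_eq_zero_iff]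
    exact hψb
  have h3 : φK (algebraMap R K a / algebraMap R K b) = algebraMap R' K' s' := by
    rw [map_div₀, hφK, hφK, h2, map_mul, mul_div_assoc, div_self hψbK, mul_one]
  obtain ⟨s, hs⟩ := DVRDescend.mem_range_of_local (IsFractionRing.injective R' K') ψ φK hφK _ _ h3
  have hsab : s * b = a := by
    apply IsFractionRing.injective R K
    rw [map_mul, hs, div_mul_cancel₀ _ hbK]
  have hψs : ψ s = s' := by
    have : ψ s * ψ b = s' * ψ b := by rw [← map_mul, hsab, h2]
    exact mul_right_cancel₀ hψb this
  -- the section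
  refine ⟨(Scheme.ΓSpecIso (CommRingCat.of R)).inv s, ?_⟩
  funext y
  show (Spec (CommRingCat.of R)).Γevaluation y ((Scheme.ΓSpecIso (CommRingCat.of R)).inv s) = h y
  rw [← ev_apply]
  -- a point above `y`
  obtain ⟨y', hy'⟩ : ∃ y' : Spec (CommRingCat.of R'), Spec.map (CommRingCat.ofHom ψ) y' = y := by
    haveI := y.isPrime
    rcases dvr_prime_eq R y.asIdeal with hy | hy
    · refine ⟨η', ?_⟩
      apply PrimeSpectrum.ext
      rw [hy]
      exact hη
    · refine ⟨closedPoint R', ?_⟩
      apply PrimeSpectrum.ext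
      rw [hy]
      show Ideal.comap ψ (maximalIdeal R') = maximalIdeal R
      exact ((local_hom_TFAE ψ).out 0 4).mp hψloc
  obtain ⟨a', b', hb', hab'⟩ := exists_ev_eq_mul R y (h y)
  have h4 : ψ a' - s' * ψ b' ∈ y'.asIdeal := hs' y' y hy' a' b' hab'
  rw [← hψs, ← map_mul, ← map_sub] at h4
  have h5 : a' - s * b' ∈ y.asIdeal := by
    rw [← hy']
    exact h4
  rw [← ev_eq_zero_iff, map_sub, map_mul, sub_eq_zero] at h5
  have hne : ev R y b' ≠ 0 := fun h0 => hb' ((ev_eq_zero_iff R y b').mp h0)
  have h6 : ev R y s * ev R y b' = h y * ev R y b' := by rw [← h5, hab']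
  exact mul_right_cancel₀ hne h6


section Normalization

variable (A : Type u) [CommRing A]

/-- the normalization of `A` in its total ring of fractions -/
abbrev Abar : Subalgebra A (FractionRing A) := integralClosure A (FractionRing A)

lemma isReduced_Abar [IsReduced A] : IsReduced (Abar A) := by
  haveI : IsReduced (FractionRing A) :=
    isReduced_localizationPreserves (nonZeroDivisors A) (FractionRing A) inferInstance
  exact isReduced_of_injective (Abar A).val Subtype.val_injective

lemma isFractionRing_Abar : IsFractionRing (Abar A) (FractionRing A) := by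
  refine ⟨?_, ?_, ?_⟩
  · -- map_units
    rintro ⟨t, ht⟩
    obtain ⟨a, s, hts⟩ := IsLocalization.exists_mk'_eq (nonZeroDivisors A) (t : FractionRing A)
    have hs : IsUnit (algebraMap A (FractionRing A) s) := IsLocalization.map_units _ s
    have hat : algebraMap A (FractionRing A) a = (t : FractionRing A) * algebraMap A (FractionRing A) s := by
      rw [← hts, IsLocalization.mk'_spec]
    have ha : a ∈ nonZeroDivisors A := by
      rw [mem_nonZeroDivisors_iff_right]
      intro x hx
      have h1 : t * algebraMap A (Abar A) (s * x) = 0 := by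
        apply Subtype.val_injective
        show (t : FractionRing A) * algebraMap A (FractionRing A) (s * x) = 0
        rw [map_mul, ← mul_assoc, ← hat, ← map_mul, mul_comm, hx, map_zero]
      have h2 : algebraMap A (Abar A) (s * x) = 0 := (mem_nonZeroDivisors_iff_right.mp ht) _ (by rw [mul_comm]; exact h1)
      have h3 : algebraMap A (FractionRing A) (s * x) = 0 := congrArg Subtype.val h2
      have h4 : (s : A) * x = 0 := (IsFractionRing.injective A (FractionRing A)) (by rw [h3, map_zero])
      have := (mem_nonZeroDivisors_iff_right.mp s.2) x (by rw [mul_comm]; exact h4)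
      exact this
    have hau : IsUnit (algebraMap A (FractionRing A) a) := IsLocalization.map_units _ (⟨a, ha⟩ : nonZeroDivisors A)
    show IsUnit (t : FractionRing A)
    rw [hat] at hau
    exact isUnit_of_mul_isUnit_left hau
  · -- surj
    intro z
    obtain ⟨a, s, rfl⟩ := IsLocalization.exists_mk'_eq (nonZeroDivisors A) z
    have hs : algebraMap A (Abar A) s ∈ nonZeroDivisors (Abar A) := by
      rw [mem_nonZeroDivisors_iff_right]
      intro x hx
      have h1 : (x : FractionRing A) * algebraMap A (FractionRing A) s = 0 := congrArg Subtype.val hx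
      have hsu : IsUnit (algebraMap A (FractionRing A) s) := IsLocalization.map_units _ s
      have h2 : (x : FractionRing A) = 0 := (hsu.mul_left_eq_zero).1 h1
      exact Subtype.val_injective h2
    refine ⟨(algebraMap A (Abar A) a, ⟨algebraMap A (Abar A) s, hs⟩), ?_⟩
    show IsLocalization.mk' (FractionRing A) a s * algebraMap A (FractionRing A) s =
      algebraMap A (FractionRing A) a
    exact IsLocalization.mk'_spec _ a s
  · -- exists_of_eq
    intro x y hxy
    refine ⟨1, ?_⟩
    have : x = y := Subtype.val_injective hxy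
    rw [this]

lemma isIntegrallyClosed_Abar : IsIntegrallyClosed (Abar A) := by
  haveI := isFractionRing_Abar A
  rw [isIntegrallyClosed_iff (FractionRing A)]
  intro x hx
  have h1 : IsIntegral A x := isIntegral_trans (A := Abar A) x hx
  exact ⟨⟨x, h1⟩, rfl⟩

lemma isNoetherianRing_Abar [IsNoetherianRing A] (hfin : Module.Finite A (Abar A)) :
    IsNoetherianRing (Abar A) :=
  IsNoetherianRing.of_finite A (Abar A)

end Normalization


section SN

open Groth.Agent.Lib.Helper70 in
/-- descent of an element along an integral extension of a seminormal ring: if the values of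
`b : B` at the primes of `B` are given by a fraction of elements of `A` depending only on the
prime of `A` below, then `b` comes from `A`. -/
theorem mem_range_of_seminormal {A B : Type u} [CommRing A] [CommRing B] [Algebra A B]
    [IsReduced B] (hA : HTop.IsSeminormalRing A)
    (hinj : Function.Injective (algebraMap A B)) [Algebra.IsIntegral A B] (b : B)
    (hb : ∀ p : Ideal A, p.IsPrime → ∃ a c : A, c ∉ p ∧
      ∀ Q : Ideal B, Q.IsPrime → Q.comap (algebraMap A B) = p →
        algebraMap A B a - b * algebraMap A B c ∈ Q) :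
    ∃ a₀ : A, algebraMap A B a₀ = b := by
  obtain ⟨W, hW⟩ : ∃ W : Subalgebra A B, W = Algebra.adjoin A {b} := ⟨_, rfl⟩
  have hbW : b ∈ W := by
    rw [hW]
    exact Algebra.subset_adjoin (Set.mem_singleton b)
  let χ : A →+* W := algebraMap A W
  haveI : IsReduced W := isReduced_of_injective W.val Subtype.val_injective
  haveI : Algebra.IsIntegral W B := Algebra.IsIntegral.tower_top (R := A)
  have hχinj : Function.Injective χ := by
    intro a a' h
    exact hinj (congrArg Subtype.val h)
  -- K2 : field points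
  have K2 : ∀ (K : Type u) [Field K] (g : W →+* K), ∃ a c : A,
      (∀ g' : W →+* K, g'.comp χ = g.comp χ →
        g' (χ a) = g' ⟨b, hbW⟩ * g' (χ c) ∧ g' (χ c) ≠ 0) := by
    intro K _ g
    have hp : (RingHom.ker (g.comp χ)).IsPrime := RingHom.ker_isPrime _
    obtain ⟨a, c, hc, hac⟩ := hb _ hp
    refine ⟨a, c, ?_⟩
    intro g' hg'
    have hq : (RingHom.ker g').IsPrime := RingHom.ker_isPrime g'
    obtain ⟨q, hqdef⟩ : ∃ q : Ideal W, q = RingHom.ker g' := ⟨_, rfl⟩
    haveI : q.IsPrime := hqdef ▸ hq
    obtain ⟨Q, -, hQp, hQ⟩ := Ideal.exists_ideal_over_prime_of_isIntegral (R := W) (S := B)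
      q (⊥ : Ideal B)
      (by
        rw [hqdef]
        intro w hw
        have h1 : algebraMap W B w = 0 := hw
        have h2 : w = 0 := Subtype.val_injective h1
        rw [h2]
        exact Ideal.zero_mem _)
    have hQA : Q.comap (algebraMap A B) = RingHom.ker (g.comp χ) := by
      rw [← hg']
      ext r
      rw [Ideal.mem_comap, RingHom.mem_ker, RingHom.comp_apply, ← RingHom.mem_ker, ← hqdef, ← hQ,
        Ideal.mem_comap]
      rfl
    have h1 := hac Q hQp hQA
    have h2 : χ a - ⟨b, hbW⟩ * χ c ∈ q := by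
      rw [← hQ, Ideal.mem_comap]
      exact h1
    rw [hqdef, RingHom.mem_ker, map_sub, map_mul, sub_eq_zero] at h2
    refine ⟨h2, ?_⟩
    intro h0
    apply hc
    rw [← hg', RingHom.mem_ker, RingHom.comp_apply]
    exact h0
  -- integrality
  have hint : χ.IsIntegral := by
    intro w
    have h1 : IsIntegral A (w : B) := Algebra.IsIntegral.isIntegral _
    exact (isIntegral_algHom_iff W.val Subtype.val_injective).mp h1
  have hker : RingHom.ker χ ≤ nilradical A := by
    rw [(RingHom.injective_iff_ker_eq_bot χ).1 hχinj]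
    exact bot_le
  -- field points are determined by their restriction to `A`
  have hfp : ∀ (K : Type u) [Field K] (g₁ g₂ : W →+* K), g₁.comp χ = g₂.comp χ → g₁ = g₂ := by
    intro K _ g₁ g₂ h12
    obtain ⟨a, c, hac⟩ := K2 K g₂
    obtain ⟨h1, h1'⟩ := hac g₁ h12
    obtain ⟨h2, h2'⟩ := hac g₂ rfl
    have hχ12 : ∀ r : A, g₁ (χ r) = g₂ (χ r) := fun r => congrArg (fun φ => φ r) h12
    have hb12 : g₁ ⟨b, hbW⟩ = g₂ ⟨b, hbW⟩ := by
      have : g₁ ⟨b, hbW⟩ * g₁ (χ c) = g₂ ⟨b, hbW⟩ * g₁ (χ c) := by
        rw [← h1, hχ12 a, h2, hχ12 c]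
      exact mul_right_cancel₀ h1' this
    ext ⟨w, hw⟩
    have hw' : w ∈ Algebra.adjoin A {b} := hW ▸ hw
    induction hw' using Algebra.adjoin_induction with
    | mem x hx =>
      obtain rfl : x = b := hx
      exact hb12
    | algebraMap r => exact hχ12 r
    | add x y hx hy ihx ihy =>
      have hxW : x ∈ W := hW ▸ hx
      have hyW : y ∈ W := hW ▸ hy
      have : (⟨x + y, hw⟩ : W) = ⟨x, hxW⟩ + ⟨y, hyW⟩ := rfl
      rw [this, map_add, map_add, ihx hxW, ihy hyW]
    | mul x y hx hy ihx ihy =>
      have hxW : x ∈ W := hW ▸ hx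
      have hyW : y ∈ W := hW ▸ hy
      have : (⟨x * y, hw⟩ : W) = ⟨x, hxW⟩ * ⟨y, hyW⟩ := rfl
      rw [this, map_mul, map_mul, ihx hxW, ihy hyW]
  have hUH : FlatMor.IsUnivHomeo (Spec.map (CommRingCat.ofHom χ)) :=
    (SpecUH.isUnivHomeo_SpecMap_iff χ).2 ⟨hint, hker, hfp⟩
  -- trivial residue field extensions
  have hT : SpecUH.TRf χ := by
    intro K _ g ⟨w, hw⟩
    obtain ⟨a, c, hac⟩ := K2 K g
    obtain ⟨h1, h1'⟩ := hac g rfl
    have hrange : ∀ r : A, g (χ r) ∈ Subfield.closure (Set.range (g.comp χ)) :=
      fun r => Subfield.subset_closure ⟨r, rfl⟩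
    have hbmem : g ⟨b, hbW⟩ ∈ Subfield.closure (Set.range (g.comp χ)) := by
      have : g ⟨b, hbW⟩ = g (χ a) / g (χ c) := by
        rw [h1, mul_div_assoc, div_self h1', mul_one]
      rw [this]
      exact div_mem (hrange a) (hrange c)
    have hw' : w ∈ Algebra.adjoin A {b} := hW ▸ hw
    induction hw' using Algebra.adjoin_induction with
    | mem x hx =>
      obtain rfl : x = b := hx
      exact hbmem
    | algebraMap r => exact hrange r
    | add x y hx hy ihx ihy =>
      have hxW : x ∈ W := hW ▸ hx
      have hyW : y ∈ W := hW ▸ hy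
      have : (⟨x + y, hw⟩ : W) = ⟨x, hxW⟩ + ⟨y, hyW⟩ := rfl
      rw [this, map_add]
      exact add_mem (ihx hxW) (ihy hyW)
    | mul x y hx hy ihx ihy =>
      have hxW : x ∈ W := hW ▸ hx
      have hyW : y ∈ W := hW ▸ hy
      have : (⟨x * y, hw⟩ : W) = ⟨x, hxW⟩ * ⟨y, hyW⟩ := rfl
      rw [this, map_mul]
      exact mul_mem (ihx hxW) (ihy hyW)
  have hbij := SNIso.bijective_of_isSeminormalRing hA χ hUH hT
  obtain ⟨a₀, ha₀⟩ := hbij.2 ⟨b, hbW⟩
  exact ⟨a₀, congrArg Subtype.val ha₀⟩

end SN


section Main

/-- the main theorem -/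
theorem existsUnique_section_of_variesAlongCompleteDVR
    (A : Type u) [CommRing A] [IsNoetherianRing A] (hA : HTop.IsSeminormalRing A)
    (hfin : Module.Finite A (integralClosure A (FractionRing A)))
    (f : PtFun (Spec (CommRingCat.of A))) (hf : f.VariesAlongCompleteDVR) :
    ∃! a : Γ(Spec (CommRingCat.of A), ⊤), PtFun.ofSection (Spec (CommRingCat.of A)) a = f := by
  haveI hAred : IsReduced A := Groth.Agent.Lib.Helper70.AWNRing.isReduced_of_isSeminormalRing hA
  have hfD := variesAlongDVR_of_complete f hf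
  haveI : IsReduced (Abar A) := isReduced_Abar A
  haveI : IsNoetherianRing (Abar A) := isNoetherianRing_Abar A hfin
  haveI : IsIntegrallyClosed (Abar A) := isIntegrallyClosed_Abar A
  have hιinj : Function.Injective (algebraMap A (Abar A)) := by
    intro a a' h
    have h1 : algebraMap A (FractionRing A) a = algebraMap A (FractionRing A) a' :=
      congrArg Subtype.val h
    exact IsFractionRing.injective A (FractionRing A) h1
  obtain ⟨π, hπ⟩ : ∃ π : Spec (CommRingCat.of (Abar A)) ⟶ Spec (CommRingCat.of A),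
    π = Spec.map (CommRingCat.ofHom (algebraMap A (Abar A))) := ⟨_, rfl⟩
  have hfbar : (f.pullback π).VariesAlongDVR := by
    intro R _ _ _ g
    rw [pullback_comp]
    exact hfD R (g ≫ π)
  obtain ⟨abar, habar⟩ := exists_section (Abar A) (f.pullback π) hfbar
  -- K1
  have K1 : ∀ (xb : Spec (CommRingCat.of (Abar A))) (a b : A),
      ev A (π xb) a = f (π xb) * ev A (π xb) b →
        algebraMap A (Abar A) a - abar * algebraMap A (Abar A) b ∈ xb.asIdeal := by
    intro xb a b hab
    have h1 := congrArg (π.residueFieldMap xb) hab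
    subst hπ
    rw [map_mul, residueFieldMap_ev, residueFieldMap_ev] at h1
    have h2 : (Spec.map (CommRingCat.ofHom (algebraMap A (Abar A)))).residueFieldMap xb
        (f ((Spec.map (CommRingCat.ofHom (algebraMap A (Abar A)))) xb)) = ev (Abar A) xb abar :=
      (habar xb).symm
    rw [h2] at h1
    rw [← ev_eq_zero_iff, map_sub, map_mul, h1, sub_self]
  -- descent
  obtain ⟨a₀, ha₀⟩ := mem_range_of_seminormal hA hιinj abar (by
    intro p hp
    let x : Spec (CommRingCat.of A) := (⟨p, hp⟩ : PrimeSpectrum A)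
    obtain ⟨a, c, hc, hac⟩ := exists_ev_eq_mul A x (f x)
    refine ⟨a, c, hc, ?_⟩
    intro Q hQ hQp
    let xb : Spec (CommRingCat.of (Abar A)) := (⟨Q, hQ⟩ : PrimeSpectrum (Abar A))
    have hx : π xb = x := by
      subst hπ
      apply PrimeSpectrum.ext
      exact hQp
    have := K1 xb a c (by rw [hx]; exact hac)
    exact this)
  -- values
  have hval : ∀ x : Spec (CommRingCat.of A), ev A x a₀ = f x := by
    intro x
    haveI := x.isPrime
    obtain ⟨Q, -, hQ, hQp⟩ := Ideal.exists_ideal_over_prime_of_isIntegral (R := A) (S := Abar A)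
      x.asIdeal (⊥ : Ideal (Abar A))
      (by
        intro r hr
        have h1 : algebraMap A (Abar A) r = 0 := hr
        have h2 : r = 0 := hιinj (by rw [h1, map_zero])
        rw [h2]
        exact Ideal.zero_mem _)
    let xb : Spec (CommRingCat.of (Abar A)) := (⟨Q, hQ⟩ : PrimeSpectrum (Abar A))
    have hx : π xb = x := by
      subst hπ
      apply PrimeSpectrum.ext
      exact hQp
    subst hx
    have h1 : π.residueFieldMap xb (ev A (π xb) a₀) = π.residueFieldMap xb (f (π xb)) := by
      have h2 : π.residueFieldMap xb (f (π xb)) = ev (Abar A) xb abar := (habar xb).symm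
      rw [h2, ← ha₀]
      subst hπ
      exact residueFieldMap_ev _ xb a₀
    exact (π.residueFieldMap xb).hom.injective h1
  refine ⟨(Scheme.ΓSpecIso (CommRingCat.of A)).inv a₀, ?_, ?_⟩
  · funext x
    exact hval x
  · intro b hb
    have h1 : (Scheme.ΓSpecIso (CommRingCat.of A)).hom b = a₀ := by
      apply eq_of_forall_ev_eq
      intro x
      rw [← Γevaluation_eq_ev, hval x]
      exact congrFun hb x
    rw [← h1]
    exact (ConcreteCategory.congr_hom (Scheme.ΓSpecIso (CommRingCat.of A)).hom_inv_id b).symm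

end Main

end Groth.Agent.Lib.Helper20.PtFunSN
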