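import Mathlib

/-!
# Two-out-of-three for homology isomorphisms in short exact sequences of chain complexes

Mathlib has the `τ₃` version (`HomologicalComplex.HomologySequence.isIso_homologyMap_τ₃`);
here are the `τ₂` and `τ₁` versions for `ℕ`-indexed chain complexes.
-/

set_option autoImplicit false
open CategoryTheory CategoryTheory.Limits ComposableArrows Abelian HomologicalComplex
  HomologicalComplex.HomologySequence

namespace Groth.Agent.Lib.Helper20.QuasiIso23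

variable {C : Type*} [Category C] [Abelian C]
  {S₁ S₂ : ShortComplex (ChainComplex C ℕ)} (φ : S₁ ⟶ S₂)
  (hS₁ : S₁.ShortExact) (hS₂ : S₂.ShortExact)

include hS₁ hS₂

lemma mono_homologyMap_τ₂ (k : ℕ)
    (h₃' : Epi (homologyMap φ.τ₃ (k + 1)))
    (h₁ : Mono (homologyMap φ.τ₁ k)) (h₃ : Mono (homologyMap φ.τ₃ k)) :
    Mono (homologyMap φ.τ₂ k) := by
  have hij : (ComplexShape.down ℕ).Rel (k + 1) k := rfl
  apply mono_of_epi_of_mono_of_mono
    ((δ₀Functor ⋙ δ₀Functor).map (mapComposableArrows₅ φ hS₁ hS₂ (k + 1) k hij))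
  · exact (composableArrows₅_exact hS₁ (k + 1) k hij).δ₀.δ₀
  · exact (composableArrows₅_exact hS₂ (k + 1) k hij).δ₀.δ₀
  · exact h₃'
  · exact h₁
  · exact h₃

lemma epi_homologyMap_τ₂ (k : ℕ)
    (h₁ : Epi (homologyMap φ.τ₁ k)) (h₃ : Epi (homologyMap φ.τ₃ k))
    (h₁' : ∀ j, (ComplexShape.down ℕ).Rel k j → Mono (homologyMap φ.τ₁ j)) :
    Epi (homologyMap φ.τ₂ k) := by
  by_cases hk : ∃ j, (ComplexShape.down ℕ).Rel k j
  · obtain ⟨j, hij⟩ := hk
    apply epi_of_epi_of_epi_of_mono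
      ((δlastFunctor ⋙ δlastFunctor).map (mapComposableArrows₅ φ hS₁ hS₂ k j hij))
    · exact (composableArrows₅_exact hS₁ k j hij).δlast.δlast
    · exact (composableArrows₅_exact hS₂ k j hij).δlast.δlast
    · exact h₁
    · exact h₃
    · exact h₁' j hij
  · refine epi_of_epi_of_epi_of_epi (mapComposableArrows₂ φ k)
      (composableArrows₂_exact hS₂ k) ?_ h₁ h₃
    have := hS₁.epi_g
    apply epi_homologyMap_of_epi_of_not_rel
    intro j hj
    exact hk ⟨j, hj⟩

lemma isIso_homologyMap_τ₂ (h₁ : ∀ k, IsIso (homologyMap φ.τ₁ k))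
    (h₃ : ∀ k, IsIso (homologyMap φ.τ₃ k)) (k : ℕ) : IsIso (homologyMap φ.τ₂ k) := by
  have := mono_homologyMap_τ₂ φ hS₁ hS₂ k (by have := h₃ (k + 1); infer_instance)
    (by have := h₁ k; infer_instance) (by have := h₃ k; infer_instance)
  have := epi_homologyMap_τ₂ φ hS₁ hS₂ k (by have := h₁ k; infer_instance)
    (by have := h₃ k; infer_instance) (fun j _ => by have := h₁ j; infer_instance)
  apply isIso_of_mono_of_epi

lemma mono_homologyMap_τ₁ (k : ℕ)
    (h₂' : Epi (homologyMap φ.τ₂ (k + 1))) (h₃' : Mono (homologyMap φ.τ₃ (k + 1)))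
    (h₂ : Mono (homologyMap φ.τ₂ k)) :
    Mono (homologyMap φ.τ₁ k) := by
  have hij : (ComplexShape.down ℕ).Rel (k + 1) k := rfl
  apply mono_of_epi_of_mono_of_mono
    ((δ₀Functor ⋙ δlastFunctor).map (mapComposableArrows₅ φ hS₁ hS₂ (k + 1) k hij))
  · exact (composableArrows₅_exact hS₁ (k + 1) k hij).δ₀.δlast
  · exact (composableArrows₅_exact hS₂ (k + 1) k hij).δ₀.δlast
  · exact h₂'
  · exact h₃'
  · exact h₂

lemma epi_homologyMap_τ₁ (k : ℕ)
    (h₃' : Epi (homologyMap φ.τ₃ (k + 1)))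
    (h₂ : Epi (homologyMap φ.τ₂ k)) (h₃ : Mono (homologyMap φ.τ₃ k)) :
    Epi (homologyMap φ.τ₁ k) := by
  have hij : (ComplexShape.down ℕ).Rel (k + 1) k := rfl
  apply epi_of_epi_of_epi_of_mono
    ((δ₀Functor ⋙ δ₀Functor).map (mapComposableArrows₅ φ hS₁ hS₂ (k + 1) k hij))
  · exact (composableArrows₅_exact hS₁ (k + 1) k hij).δ₀.δ₀
  · exact (composableArrows₅_exact hS₂ (k + 1) k hij).δ₀.δ₀
  · exact h₃'
  · exact h₂
  · exact h₃

lemma isIso_homologyMap_τ₁ (h₂ : ∀ k, IsIso (homologyMap φ.τ₂ k))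
    (h₃ : ∀ k, IsIso (homologyMap φ.τ₃ k)) (k : ℕ) : IsIso (homologyMap φ.τ₁ k) := by
  have := mono_homologyMap_τ₁ φ hS₁ hS₂ k (by have := h₂ (k + 1); infer_instance)
    (by have := h₃ (k + 1); infer_instance) (by have := h₂ k; infer_instance)
  have := epi_homologyMap_τ₁ φ hS₁ hS₂ k (by have := h₃ (k + 1); infer_instance)
    (by have := h₂ k; infer_instance) (by have := h₃ k; infer_instance)
  apply isIso_of_mono_of_epi

end Groth.Agent.Lib.Helper20.QuasiIso23
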