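import Mathlib
import Groth.Prelude.Def_Pic
import Groth.Prelude.Def_FlatMod2
import Groth.Agent.Lib.Helper49.StalkNbhd
import Groth.Agent.Lib.Helper11.GenLocus
import Groth.Agent.Lib.Helper49.QcqsModules

/-!
# The sheaf of rational functions of an integral scheme (helper20)

`Kmod X = ι_* O_{Spec K}` for `ι : Spec K(X) ⟶ X` the canonical morphism.
For an open `U` containing the generic point, `kv U hU : Γ(Kmod X, U) ≃+ K(X)`, compatible with
restriction (`kv_res`) and with scalars (`kv_smul`).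
-/

set_option autoImplicit false
universe u
open CategoryTheory CategoryTheory.Limits AlgebraicGeometry TopologicalSpace

namespace Groth.Agent.Lib.Helper20.RatFun

open Groth.Agent.Lib.Helper49 Groth.Agent.Lib.Helper11.GenLocus

variable (X : Scheme.{u}) [IsIntegral X]

/-- The sheaf of rational functions. -/
noncomputable abbrev Kmod : X.Modules :=
  (Scheme.Modules.pushforward (X.fromSpecStalk (genericPoint X))).obj
    (Coh.structureModule (Spec (X.presheaf.stalk (genericPoint X))))

variable {X}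

theorem genericPoint_mem {U : X.Opens} {x : X} (hx : x ∈ U) : genericPoint X ∈ U :=
  ((genericPoint_spec X).specializes (by simp : x ∈ (⊤ : Set X))).mem_open U.2 hx

theorem preimage_eq_top {U : X.Opens} (hU : genericPoint X ∈ U) :
    (X.fromSpecStalk (genericPoint X)) ⁻¹ᵁ U = ⊤ := by
  ext z
  simp only [Opens.coe_top, Set.mem_univ, iff_true]
  have h1 : (X.fromSpecStalk (genericPoint X)) z ∈
      Set.range (X.fromSpecStalk (genericPoint X)) := ⟨z, rfl⟩
  rw [Scheme.range_fromSpecStalk] at h1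
  exact h1.mem_open U.2 hU

/-- `K ⟶ Γ(Spec K, ι⁻¹ U)`. -/
noncomputable def θ (U : X.Opens) :
    X.presheaf.stalk (genericPoint X) →+*
      Γ(Spec (X.presheaf.stalk (genericPoint X)), (X.fromSpecStalk (genericPoint X)) ⁻¹ᵁ U) :=
  ((Scheme.ΓSpecIso (X.presheaf.stalk (genericPoint X))).inv ≫
    (Spec (X.presheaf.stalk (genericPoint X))).presheaf.map (homOfLE le_top).op).hom

theorem θ_bijective {U : X.Opens} (hU : genericPoint X ∈ U) : Function.Bijective (θ U) := by
  have i1 : IsIso ((Spec (X.presheaf.stalk (genericPoint X))).presheaf.map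
      (homOfLE (le_top : (X.fromSpecStalk (genericPoint X)) ⁻¹ᵁ U ≤ ⊤)).op) := by
    have : IsIso (homOfLE (le_top : (X.fromSpecStalk (genericPoint X)) ⁻¹ᵁ U ≤ ⊤)) :=
      ⟨⟨homOfLE (preimage_eq_top hU).ge, rfl, rfl⟩⟩
    infer_instance
  have i2 : IsIso ((Scheme.ΓSpecIso (X.presheaf.stalk (genericPoint X))).inv ≫
    (Spec (X.presheaf.stalk (genericPoint X))).presheaf.map
      (homOfLE (le_top : (X.fromSpecStalk (genericPoint X)) ⁻¹ᵁ U ≤ ⊤)).op) := inferInstance
  exact ConcreteCategory.bijective_of_isIso _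

theorem fromSpecStalk_app_eq {U : X.Opens} (hU : genericPoint X ∈ U) (a : Γ(X, U)) :
    ((X.fromSpecStalk (genericPoint X)).app U).hom a =
      θ U (X.presheaf.germ U (genericPoint X) hU a) := by
  rw [Scheme.fromSpecStalk_app hU]
  rfl

theorem θ_res {U V : X.Opens} (h : V ≤ U) (κ : X.presheaf.stalk (genericPoint X)) :
    fres (show (X.fromSpecStalk (genericPoint X)) ⁻¹ᵁ V ≤
      (X.fromSpecStalk (genericPoint X)) ⁻¹ᵁ U from fun _ hx => h hx) (θ U κ) = θ V κ := by
  unfold θ fres
  simp only [CommRingCat.hom_comp, RingHom.comp_apply]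
  rw [← RingHom.comp_apply, ← CommRingCat.hom_comp, ← Functor.map_comp]
  rfl

/-- The value in `K` of a section of `Kmod X` over an open containing the generic point. -/
noncomputable def kv (U : X.Opens) (hU : genericPoint X ∈ U) :
    Γ(Kmod X, U) → X.presheaf.stalk (genericPoint X) :=
  fun σ => (RingEquiv.ofBijective (θ U) (θ_bijective hU)).symm
    (ofO ((X.fromSpecStalk (genericPoint X)) ⁻¹ᵁ U) σ)

theorem θ_kv (U : X.Opens) (hU : genericPoint X ∈ U) (σ : Γ(Kmod X, U)) :
    θ U (kv U hU σ) = ofO ((X.fromSpecStalk (genericPoint X)) ⁻¹ᵁ U) σ :=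
  (RingEquiv.ofBijective (θ U) (θ_bijective hU)).apply_symm_apply _

theorem kv_injective (U : X.Opens) (hU : genericPoint X ∈ U) : Function.Injective (kv U hU) := by
  intro σ τ h
  have := congrArg (θ U) h
  rw [θ_kv, θ_kv] at this
  exact this

theorem kv_surjective (U : X.Opens) (hU : genericPoint X ∈ U) : Function.Surjective (kv U hU) := by
  intro κ
  refine ⟨toO ((X.fromSpecStalk (genericPoint X)) ⁻¹ᵁ U) (θ U κ), ?_⟩
  apply (θ_bijective hU).1
  rw [θ_kv]
  rfl

theorem kv_zero (U : X.Opens) (hU : genericPoint X ∈ U) : kv U hU 0 = 0 := by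
  apply (θ_bijective hU).1
  rw [θ_kv, map_zero]
  rfl

theorem kv_eq_zero_iff (U : X.Opens) (hU : genericPoint X ∈ U) (σ : Γ(Kmod X, U)) :
    kv U hU σ = 0 ↔ σ = 0 := by
  constructor
  · intro h
    apply kv_injective U hU
    rw [h, kv_zero]
  · rintro rfl
    exact kv_zero U hU

theorem kv_res {U V : X.Opens} (h : V ≤ U) (hV : genericPoint X ∈ V) (σ : Γ(Kmod X, U)) :
    kv V hV (mres (Kmod X) h σ) = kv U (h hV) σ := by
  apply (θ_bijective hV).1
  rw [θ_kv, ← θ_res h, θ_kv]
  rfl

theorem kv_smul (U : X.Opens) (hU : genericPoint X ∈ U) (a : Γ(X, U)) (σ : Γ(Kmod X, U)) :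
    kv U hU (a • σ) = X.presheaf.germ U (genericPoint X) hU a * kv U hU σ := by
  apply (θ_bijective hU).1
  rw [θ_kv, map_mul, θ_kv, ← fromSpecStalk_app_eq hU]
  rfl

/-- A germ of a function and a germ of a section are represented over a common open. -/
theorem exists_germ_eq_pair {Y : Scheme.{u}} (F : Y.Modules) (x : Y) (r : Y.presheaf.stalk x)
    (m : F.presheaf.stalk x) :
    ∃ (W : Y.Opens) (hx : x ∈ W) (a : Γ(Y, W)) (σ : Γ(F, W)),
      Y.presheaf.germ W x hx a = r ∧ F.presheaf.germ W x hx σ = m := by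
  obtain ⟨U, hxU, a, rfl⟩ := TopCat.Presheaf.exists_germ_eq Y.presheaf r
  obtain ⟨V, hxV, σ, rfl⟩ := TopCat.Presheaf.exists_germ_eq F.presheaf m
  refine ⟨U ⊓ V, ⟨hxU, hxV⟩, fres inf_le_left a, mres F inf_le_right σ, ?_, ?_⟩
  · exact TopCat.Presheaf.germ_res_apply Y.presheaf (homOfLE (inf_le_left : U ⊓ V ≤ U)) x
      ⟨hxU, hxV⟩ a
  · exact TopCat.Presheaf.germ_res_apply F.presheaf (homOfLE (inf_le_right : U ⊓ V ≤ V)) x
      ⟨hxU, hxV⟩ σ

/-- A section whose germ at `x` vanishes is zero on a neighbourhood of `x`. -/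
theorem exists_mres_eq_zero {Y : Scheme.{u}} (F : Y.Modules) {x : Y} {W : Y.Opens} (hx : x ∈ W)
    (σ : Γ(F, W)) (h : F.presheaf.germ W x hx σ = 0) :
    ∃ (V : Y.Opens) (hV : V ≤ W), x ∈ V ∧ mres F hV σ = 0 := by
  have h' : F.presheaf.germ W x hx σ = F.presheaf.germ W x hx 0 := by rw [h, map_zero]
  obtain ⟨V, hxV, iU, iV, e⟩ := F.presheaf.germ_eq x hx hx σ 0 h'
  refine ⟨V, leOfHom iU, hxV, ?_⟩
  rw [map_zero] at e
  exact e

/-- The stalks of the sheaf of rational functions are torsion-free. -/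
theorem isTorsionFree_stalk (x : X) :
    Module.IsTorsionFree (X.presheaf.stalk x) ((Kmod X).presheaf.stalk x) := by
  refine ⟨fun r hr => ?_⟩
  rw [isSMulRegular_iff_right_eq_zero_of_smul]
  intro m hm
  obtain ⟨W, hxW, a, σ, rfl, rfl⟩ := exists_germ_eq_pair (Kmod X) x r m
  rw [← Helper45.germ_smul] at hm
  obtain ⟨V, hVW, hxV, h0⟩ := exists_mres_eq_zero (Kmod X) hxW (a • σ) hm
  have hηV : genericPoint X ∈ V := genericPoint_mem hxV
  rw [mres_smul] at h0
  have h1 := congrArg (kv V hηV) h0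
  rw [kv_smul, kv_zero, mul_eq_zero] at h1
  rcases h1 with h1 | h1
  · exfalso
    have h2 : fres hVW a = 0 := by
      apply germ_injective_of_isIntegral X (genericPoint X) hηV
      rw [map_zero]
      exact h1
    have h3 : X.presheaf.germ W x hxW a = 0 := by
      rw [← TopCat.Presheaf.germ_res_apply X.presheaf (homOfLE hVW) x hxV a]
      change X.presheaf.germ V x hxV (fres hVW a) = 0
      rw [h2, map_zero]
    rw [h3] at hr
    exact hr.ne_zero rfl
  · rw [kv_eq_zero_iff] at h1
    rw [← TopCat.Presheaf.germ_res_apply (Kmod X).presheaf (homOfLE hVW) x hxV σ]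
    change (Kmod X).presheaf.germ V x hxV (mres (Kmod X) hVW σ) = 0
    rw [h1, map_zero]

/-- The generic stalk of the sheaf of rational functions is spanned by one element. -/
theorem exists_forall_smul_eq :
    ∃ e : (Kmod X).presheaf.stalk (genericPoint X),
      ∀ m : (Kmod X).presheaf.stalk (genericPoint X),
        ∃ c : X.presheaf.stalk (genericPoint X), c • e = m := by
  have hη : genericPoint X ∈ (⊤ : X.Opens) := trivial
  obtain ⟨one, hone⟩ := kv_surjective (⊤ : X.Opens) hη 1
  refine ⟨(Kmod X).presheaf.germ ⊤ (genericPoint X) hη one, fun m => ?_⟩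
  obtain ⟨U, hU, σ, rfl⟩ := TopCat.Presheaf.exists_germ_eq (Kmod X).presheaf m
  obtain ⟨V, hV, a, ha⟩ := TopCat.Presheaf.exists_germ_eq X.presheaf (kv U hU σ)
  refine ⟨kv U hU σ, ?_⟩
  have hW : genericPoint X ∈ U ⊓ V := ⟨hU, hV⟩
  have e1 : kv U hU σ = X.presheaf.germ (U ⊓ V) (genericPoint X) hW (fres inf_le_right a) := by
    rw [← ha]
    exact (TopCat.Presheaf.germ_res_apply X.presheaf (homOfLE (inf_le_right : U ⊓ V ≤ V))
      (genericPoint X) hW a).symm
  have e2 : (Kmod X).presheaf.germ ⊤ (genericPoint X) hη one =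
      (Kmod X).presheaf.germ (U ⊓ V) (genericPoint X) hW (mres (Kmod X) le_top one) :=
    (TopCat.Presheaf.germ_res_apply (Kmod X).presheaf (homOfLE (le_top : U ⊓ V ≤ ⊤))
      (genericPoint X) hW one).symm
  have e3 : (Kmod X).presheaf.germ U (genericPoint X) hU σ =
      (Kmod X).presheaf.germ (U ⊓ V) (genericPoint X) hW (mres (Kmod X) inf_le_left σ) :=
    (TopCat.Presheaf.germ_res_apply (Kmod X).presheaf (homOfLE (inf_le_left : U ⊓ V ≤ U))
      (genericPoint X) hW σ).symm
  rw [e3, e2]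
  conv_lhs => rw [e1]
  rw [← Helper45.germ_smul]
  congr 1
  apply kv_injective (U ⊓ V) hW
  rw [kv_smul, kv_res _ hW, kv_res _ hW, hone, mul_one, ← e1]

/-- A nonzero submodule of the sheaf of rational functions has a nonzero generic stalk. -/
theorem exists_ne_zero_of_mono {G : X.Modules} (i : G ⟶ Kmod X) [Mono i] (hG : ¬ IsZero G) :
    ∃ v : G.presheaf.stalk (genericPoint X), v ≠ 0 := by
  by_contra hall
  push Not at hall
  apply hG
  rw [IsZero.iff_id_eq_zero]
  apply Scheme.Modules.hom_ext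
  intro U
  ext s
  change s = 0
  apply TopCat.Presheaf.section_ext (toSheafAb G) U
  intro x hx
  have hη : genericPoint X ∈ U := genericPoint_mem hx
  suffices h : s = 0 by rw [h]
  obtain ⟨V, hVU, hηV, h0⟩ := exists_mres_eq_zero G hη s (hall _)
  apply app_injective_of_mono i U
  rw [map_zero]
  apply kv_injective U hη
  rw [kv_zero, ← kv_res hVU hηV]
  have h1 : mres (Kmod X) hVU (i.app U s) = i.app V (mres G hVU s) := app_res i hVU s
  rw [h1, h0, map_zero, kv_zero]

end Groth.Agent.Lib.Helper20.RatFun
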