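import Mathlib
import Groth.Prelude
import Groth.Agent.Lib.Helper38.CBLin
import Groth.Agent.Lib.Helper38.CBTop
import Groth.Agent.Lib.Helper38.CBFibre
import Groth.Agent.S0458

/-!
# Cohomology and base change for families with fibres of bounded dimension (helper20)

* `projective_ker_of_projective_coker` : algebra: for a map of projective modules with projective
  cokernel the kernel is projective.
* `subsingleton_fiberH_of_dim_le` : Grothendieck vanishing on the fibres of a proper morphism.
* `exists_complex_of_fibre_dim_le` : for `f : X ⟶ Spec A` proper, `A` Noetherian, `F` coherent and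
  flat over `A`, fibres of dimension `≤ d`: a complex of finite projective modules in degrees `[0, d]`
  computing `H^p(X, F)` linearly.
* `projective_H0_of_projective_H1` : for fibres of dimension `≤ 1`, if `H^1(X, F)` is projective,
  so is `H^0(X, F)`.
-/

set_option autoImplicit false
set_option linter.style.haveILetI false
universe u

open CategoryTheory CategoryTheory.Limits AlgebraicGeometry

namespace Groth.Agent.Lib.Helper20.RelCurveCB

section Alg

variable {A : Type u} [CommRing A] {P Q : Type u} [AddCommGroup P] [Module A P]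
  [AddCommGroup Q] [Module A Q]

/-- a submodule with projective quotient in a projective module is projective -/
theorem projective_of_projective_quotient [Module.Projective A Q] (N : Submodule A Q)
    [Module.Projective A (Q ⧸ N)] : Module.Projective A N := by
  obtain ⟨s, hs⟩ := Module.projective_lifting_property N.mkQ LinearMap.id N.mkQ_surjective
  have hmem : ∀ q : Q, q - s (N.mkQ q) ∈ N := by
    intro q
    rw [← Submodule.Quotient.mk_eq_zero, Submodule.Quotient.mk_sub]
    have := LinearMap.congr_fun hs (N.mkQ q)
    simp only [LinearMap.comp_apply, LinearMap.id_apply] at this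
    change N.mkQ q - N.mkQ (s (N.mkQ q)) = 0
    rw [this, sub_self]
  let r : Q →ₗ[A] N :=
    { toFun := fun q => ⟨q - s (N.mkQ q), hmem q⟩
      map_add' := fun a b => by
        apply Subtype.ext
        simp only [map_add, Submodule.coe_add]
        abel
      map_smul' := fun a b => by
        apply Subtype.ext
        simp only [map_smul, RingHom.id_apply, Submodule.coe_smul, smul_sub] }
  refine Module.Projective.of_split N.subtype r ?_
  ext ⟨q, hq⟩
  simp only [LinearMap.comp_apply, LinearMap.id_apply, Submodule.subtype_apply]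
  change q - s (N.mkQ q) = q
  have h0 : N.mkQ q = 0 := (Submodule.Quotient.mk_eq_zero N).mpr hq
  rw [h0, map_zero, sub_zero]

/-- the kernel of a surjection onto a projective module from a projective module is projective -/
theorem projective_ker_of_surjective [Module.Projective A P] [Module.Projective A Q]
    (g : P →ₗ[A] Q) (hg : Function.Surjective g) : Module.Projective A (LinearMap.ker g) := by
  obtain ⟨t, ht⟩ := Module.projective_lifting_property g LinearMap.id hg
  have hmem : ∀ x : P, x - t (g x) ∈ LinearMap.ker g := by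
    intro x
    rw [LinearMap.mem_ker, map_sub]
    have := LinearMap.congr_fun ht (g x)
    simp only [LinearMap.comp_apply, LinearMap.id_apply] at this
    rw [this, sub_self]
  let r : P →ₗ[A] LinearMap.ker g :=
    { toFun := fun x => ⟨x - t (g x), hmem x⟩
      map_add' := fun a b => by
        apply Subtype.ext
        simp only [map_add, Submodule.coe_add]
        abel
      map_smul' := fun a b => by
        apply Subtype.ext
        simp only [map_smul, RingHom.id_apply, Submodule.coe_smul, smul_sub] }
  refine Module.Projective.of_split (LinearMap.ker g).subtype r ?_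
  ext ⟨x, hx⟩
  simp only [LinearMap.comp_apply, LinearMap.id_apply, Submodule.subtype_apply]
  change x - t (g x) = x
  rw [LinearMap.mem_ker.mp hx, map_zero, sub_zero]

/-- **for a map of projective modules with projective cokernel the kernel is projective** -/
theorem projective_ker_of_projective_coker [Module.Projective A P] [Module.Projective A Q]
    (d : P →ₗ[A] Q) [Module.Projective A (Q ⧸ LinearMap.range d)] :
    Module.Projective A (LinearMap.ker d) := by
  haveI : Module.Projective A (LinearMap.range d) := projective_of_projective_quotient _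
  have h := projective_ker_of_surjective d.rangeRestrict d.surjective_rangeRestrict
  rwa [LinearMap.ker_rangeRestrict] at h

end Alg

section Geom

open Groth.Agent.Lib.Helper38 Groth.Agent.Lib.Helper38.CBAmp

variable {A : Type u} [CommRing A] {X : Scheme.{u}}
  (f : X ⟶ Spec (CommRingCat.of A)) (F : X.Modules)

/-- Grothendieck vanishing on the fibres of a quasi-compact morphism locally of finite type -/
theorem subsingleton_fiberH_of_dim_le [LocallyOfFiniteType f] [QuasiCompact f] (d : ℕ)
    (y : Spec (CommRingCat.of A))
    (hdim : topologicalKrullDim ↥(f.fiber y) ≤ d) (p : ℕ) (hp : d < p) :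
    Subsingleton (CohIII.fiberH f F y p) := by
  haveI : LocallyOfFiniteType (f.fiberToSpecResidueField y) :=
    (inferInstance : LocallyOfFiniteType
      (pullback.snd f ((Spec (CommRingCat.of A)).fromSpecResidueField y)))
  haveI : QuasiCompact (f.fiberToSpecResidueField y) :=
    (inferInstance : QuasiCompact
      (pullback.snd f ((Spec (CommRingCat.of A)).fromSpecResidueField y)))
  haveI : IsLocallyNoetherian (f.fiber y) :=
    LocallyOfFiniteType.isLocallyNoetherian (f.fiberToSpecResidueField y)
  haveI : CompactSpace (f.fiber y) :=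
    QuasiCompact.compactSpace_of_compactSpace (f.fiberToSpecResidueField y)
  haveI : IsNoetherian (f.fiber y) := {}
  haveI h1 : TopologicalSpace.NoetherianSpace (f.fiber y) := inferInstance
  haveI : TopologicalSpace.NoetherianSpace (f.fiber y).toTopCat := h1
  exact Groth.Agent.S0458.result (X := (f.fiber y).toTopCat) d hdim _ p hp

variable [IsNoetherianRing A] [IsProper f]

/-- **Grothendieck complex with amplitude bounded by the fibre dimension**: for `f : X ⟶ Spec A`
proper, `A` Noetherian, `F` coherent and flat over `A`, with fibres of dimension `≤ d`, there is a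
complex of finite projective modules in degrees `[0, d]` computing `H^p(X, F)` linearly. -/
theorem exists_complex_of_fibre_dim_le (hF : Coh.IsCoh F) (hfl : FlatMod.IsFlatOver f F) (d : ℕ)
    (hdim : ∀ y : Spec (CommRingCat.of A), topologicalKrullDim ↥(f.fiber y) ≤ d) :
    ∃ L : CochainComplex (ModuleCat.{u} A) ℤ, IsFinProj L ∧
      (∀ i : ℤ, i < 0 ∨ (d : ℤ) < i → IsZero (L.X i)) ∧
      ∀ p : ℕ, letI : Module A (Coh.HH X F p) := Module.compHom _ (Coh.toGlobal f)
        Nonempty (Coh.HH X F p ≃ₗ[A] L.homology (p : ℤ)) := by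
  obtain ⟨K, b, hK1, hK2, hK3, hK4, hK5, hK6⟩ := CBLin.exists_complex f F hF hfl
  haveI : F.IsQuasicoherent := hF.1
  have hd : ∀ (m : Ideal A) [m.IsMaximal], ∀ p : ℤ, (d : ℤ) < p →
      IsZero ((CohIII.tensorObj K (ModuleCat.of A (A ⧸ m))).homology p) := by
    intro m _ i hi
    obtain ⟨p, rfl⟩ := Int.eq_ofNat_of_zero_le (by omega : 0 ≤ i)
    obtain ⟨e⟩ := hK6 (A ⧸ m)
      (pullback.fst f (Spec.map (CommRingCat.ofHom (algebraMap A (A ⧸ m)))))
      (pullback.snd f (Spec.map (CommRingCat.ofHom (algebraMap A (A ⧸ m)))))
      (IsPullback.of_hasPullback _ _) p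
    haveI := CBFibre.subsingleton_HH_quotient_of_fiberH f F m p
      (subsingleton_fiberH_of_dim_le f F d (CBFibre.pt m) (hdim _) p (by exact_mod_cast hi))
    haveI : Subsingleton ((CohIII.tensorObj K (ModuleCat.of A (A ⧸ m))).homology (p : ℤ)) :=
      e.symm.toEquiv.subsingleton
    exact ModuleCat.isZero_of_subsingleton _
  obtain ⟨L, hFP, hz, hU⟩ := CBTop.exists_amplitude_fibres K hK1 hK2 b hK3 hK4 0 d hd
    (fun m _ p hp => isZero_homology_of_isZero_X _ p
      (isZero_tensorObj_X K _ p (hK2 p (by exact_mod_cast hp))))
  refine ⟨L, hFP, fun i hi => hz i (by simpa using hi), fun p => ?_⟩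
  letI : Module A (Coh.HH X F p) := Module.compHom _ (Coh.toGlobal f)
  obtain ⟨e⟩ := hK5 p
  obtain ⟨j⟩ := hU.1 (p : ℤ)
  exact ⟨e.trans j.symm.toLinearEquiv⟩

/-- **If the fibres have dimension `≤ 1` and `H^1(X, F)` is projective, then `H^0(X, F)` is
projective.** -/
theorem projective_H0_of_projective_H1 (hF : Coh.IsCoh F) (hfl : FlatMod.IsFlatOver f F)
    (hdim : ∀ y : Spec (CommRingCat.of A), topologicalKrullDim ↥(f.fiber y) ≤ 1)
    (h1 : letI : Module A (Coh.HH X F 1) := Module.compHom _ (Coh.toGlobal f)
      Module.Projective A (Coh.HH X F 1)) :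
    letI : Module A (Coh.HH X F 0) := Module.compHom _ (Coh.toGlobal f)
    Module.Projective A (Coh.HH X F 0) := by
  letI : Module A (Coh.HH X F 0) := Module.compHom _ (Coh.toGlobal f)
  letI : Module A (Coh.HH X F 1) := Module.compHom _ (Coh.toGlobal f)
  obtain ⟨L, hFP, hz, hL⟩ := exists_complex_of_fibre_dim_le f F hF hfl 1 hdim
  obtain ⟨e0⟩ := hL 0
  obtain ⟨e1⟩ := hL 1
  obtain ⟨cl0, h0s, h0k⟩ := CBCat.exists_pres_sc' L (-1) 0 1 (by simp) (by simp)
  obtain ⟨cl1, h1s, h1k⟩ := CBCat.exists_pres_sc' L 0 1 2 (by simp) (by simp)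
  haveI : Module.Projective A (L.X 0) := (hFP 0).2
  haveI : Module.Projective A (L.X 1) := (hFP 1).2
  haveI hs2 : Subsingleton (L.X 2) := ModuleCat.subsingleton_of_isZero (hz 2 (Or.inr (by norm_num)))
  haveI hsm : Subsingleton (L.X (-1)) :=
    ModuleCat.subsingleton_of_isZero (hz (-1) (Or.inl (by norm_num)))
  -- `H^1(L)` is the cokernel of `d⁰`
  have hker : ∀ z : L.X 1, z ∈ LinearMap.ker (L.d 1 2).hom := fun z => Subsingleton.elim _ _
  let q : L.X 1 →ₗ[A] L.homology 1 :=
    cl1 ∘ₗ LinearMap.codRestrict (LinearMap.ker (L.d 1 2).hom) LinearMap.id hker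
  have hq : Function.Surjective q := by
    intro t
    obtain ⟨z, rfl⟩ := h1s t
    exact ⟨z.1, congrArg cl1 (Subtype.ext rfl)⟩
  have hqk : LinearMap.ker q = LinearMap.range (L.d 0 1).hom := by
    ext z
    rw [LinearMap.mem_ker]
    exact h1k ⟨z, hker z⟩
  let E1 : (L.X 1 ⧸ LinearMap.range (L.d 0 1).hom) ≃ₗ[A] Coh.HH X F 1 :=
    ((Submodule.quotEquivOfEq _ _ hqk.symm).trans (q.quotKerEquivOfSurjective hq)).trans e1.symm
  haveI : Module.Projective A (L.X 1 ⧸ LinearMap.range (L.d 0 1).hom) :=
    Module.Projective.of_equiv E1.symm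
  haveI hk : Module.Projective A (LinearMap.ker (L.d 0 1).hom) :=
    projective_ker_of_projective_coker (L.d 0 1).hom
  -- `H^0(L)` is the kernel of `d⁰`
  have hinj : Function.Injective cl0 := by
    rw [← LinearMap.ker_eq_bot, LinearMap.ker_eq_bot']
    intro z hz0
    obtain ⟨w, hw⟩ := (h0k z).mp hz0
    apply Subtype.ext
    rw [← hw, Subsingleton.elim w 0, map_zero]
    rfl
  let E0 : LinearMap.ker (L.d 0 1).hom ≃ₗ[A] Coh.HH X F 0 :=
    (LinearEquiv.ofBijective cl0 ⟨hinj, h0s⟩).trans e0.symm
  exact Module.Projective.of_equiv E0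

end Geom

end Groth.Agent.Lib.Helper20.RelCurveCB
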