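import Mathlib

/-!
# Flat base change of "schematically dense" families: the algebraic core (helper20)

Let `A₀` be a Noetherian ring and `M₀` a flat `A₀`-module which is "generically free modulo every
prime" in the element-wise sense `GenFree`.  For an `A₀`-algebra `A`, a set `S ⊆ A` and an
`A`-module `N` such that `N_g → ∏_{t ∈ S} N_{gt}` is injective for every `g : A` (`DenseOn S N`),
an element of `N ⊗[A₀] M₀` killed by a power of every `t ∈ S` is zero
(`eq_zero_of_forall_pow_smul_eq_zero`).  The proof is by Noetherian induction on the annihilator.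
-/

set_option autoImplicit false

namespace Groth.Agent.Lib.Helper20.SchDenseFlat

open TensorProduct

universe u

-- `N_g → ∏_{t ∈ S} N_{g t}` is injective for every `g`, written without localizations.
def DenseOn {A : Type u} [CommRing A] (S : Set A) (N : Type u) [AddCommGroup N] [Module A N] :
    Prop :=
  ∀ (g : A) (n : N), (∀ t ∈ S, ∃ k : ℕ, (g * t) ^ k • n = 0) → ∃ m : ℕ, g ^ m • n = 0

-- element-wise generic freeness modulo every prime
def GenFree (A₀ : Type u) [CommRing A₀] (M₀ : Type u) [AddCommGroup M₀] [Module A₀ M₀] : Prop :=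
  ∀ J : Ideal A₀, J.IsPrime → ∃ a : A₀, a ∉ J ∧ ∃ (ι : Type) (e : ι → M₀),
    (∀ c : ι →₀ A₀, Finsupp.linearCombination A₀ e c ∈ J • (⊤ : Submodule A₀ M₀) →
      ∀ i, c i ∈ J) ∧
    ∀ y : M₀, ∃ k : ℕ,
      a ^ k • y ∈ Submodule.span A₀ (Set.range e) ⊔ J • (⊤ : Submodule A₀ M₀)

section Core

variable {A₀ : Type u} [CommRing A₀] {M₀ : Type u} [AddCommGroup M₀] [Module A₀ M₀]

theorem DenseOn.submodule {A : Type u} [CommRing A] {S : Set A} {N : Type u} [AddCommGroup N]
    [Module A N] (h : DenseOn S N) (K : Submodule A N) : DenseOn S K := by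
  intro g n hn
  obtain ⟨m, hm⟩ := h g (n : N) (fun t ht => by
    obtain ⟨k, hk⟩ := hn t ht
    exact ⟨k, by rw [← Submodule.coe_smul, hk, Submodule.coe_zero]⟩)
  exact ⟨m, Subtype.ext (by rw [Submodule.coe_smul, hm, Submodule.coe_zero])⟩

section Smul

variable {A : Type u} [CommRing A] [Algebra A₀ A] {N N' : Type u} [AddCommGroup N] [Module A N]
  [Module A₀ N] [IsScalarTower A₀ A N] [AddCommGroup N'] [Module A N'] [Module A₀ N']
  [IsScalarTower A₀ A N']

theorem rTensor_smul_left (f : N →ₗ[A] N') (t : A) (z : N ⊗[A₀] M₀) :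
    (f.restrictScalars A₀).rTensor M₀ (t • z) = t • (f.restrictScalars A₀).rTensor M₀ z := by
  induction z using TensorProduct.induction_on with
  | zero => simp
  | tmul n y =>
    rw [TensorProduct.smul_tmul', LinearMap.rTensor_tmul, LinearMap.rTensor_tmul,
      TensorProduct.smul_tmul']
    simp
  | add z₁ z₂ h₁ h₂ => rw [smul_add, map_add, map_add, smul_add, h₁, h₂]

theorem rTensor_algebraMap_smul_id (c : A₀) (z : N ⊗[A₀] M₀) :
    (((algebraMap A₀ A c) • (LinearMap.id : N →ₗ[A] N)).restrictScalars A₀).rTensor M₀ z =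
      c • z := by
  induction z using TensorProduct.induction_on with
  | zero => simp
  | tmul n y =>
    rw [LinearMap.rTensor_tmul, TensorProduct.smul_tmul']
    simp
  | add z₁ z₂ h₁ h₂ => rw [map_add, smul_add, h₁, h₂]

end Smul

section Finitary

variable (J : Ideal A₀) (a : A₀) {ι : Type} (e : ι → M₀)

-- the map `(c_i) ↦ ∑ c_i ⊗ e_i`
noncomputable def tsum (N : Type u) [AddCommGroup N] [Module A₀ N] : (ι →₀ N) →ₗ[A₀] N ⊗[A₀] M₀ :=
  Finsupp.lsum ℕ fun i => (TensorProduct.mk A₀ N M₀).flip (e i)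

theorem tsum_apply (N : Type u) [AddCommGroup N] [Module A₀ N] (c : ι →₀ N) :
    tsum (A₀ := A₀) e N c = ∑ i ∈ c.support, c i ⊗ₜ[A₀] e i := by
  rw [tsum, Finsupp.lsum_apply, Finsupp.sum]
  rfl

theorem tsum_single (N : Type u) [AddCommGroup N] [Module A₀ N] (i : ι) (n : N) :
    tsum (A₀ := A₀) e N (Finsupp.single i n) = n ⊗ₜ[A₀] e i := by
  rw [tsum, Finsupp.lsum_single]
  rfl

include J a in
theorem exists_pow_smul_mem_range_tsum
    (hsp : ∀ y : M₀, ∃ k : ℕ,
      a ^ k • y ∈ Submodule.span A₀ (Set.range e) ⊔ J • (⊤ : Submodule A₀ M₀))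
    {N : Type u} [AddCommGroup N] [Module A₀ N] (hJN : ∀ j ∈ J, ∀ n : N, j • n = 0)
    (x : N ⊗[A₀] M₀) : ∃ k : ℕ, a ^ k • x ∈ LinearMap.range (tsum (A₀ := A₀) e N) := by
  induction x using TensorProduct.induction_on with
  | zero => exact ⟨0, by simp⟩
  | tmul n y =>
    obtain ⟨k, hk⟩ := hsp y
    refine ⟨k, ?_⟩
    obtain ⟨s, hs, z, hz, hsz⟩ := Submodule.mem_sup.mp hk
    rw [← TensorProduct.tmul_smul, ← hsz, TensorProduct.tmul_add]
    have hz0 : n ⊗ₜ[A₀] z = 0 := by
      refine Submodule.smul_induction_on hz ?_ ?_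
      · intro j hj m _
        rw [← TensorProduct.smul_tmul, hJN j hj n, TensorProduct.zero_tmul]
      · intro z₁ z₂ h₁ h₂
        rw [TensorProduct.tmul_add, h₁, h₂, add_zero]
    rw [hz0, add_zero]
    -- `n ⊗ s` with `s` in the span of the `e i`
    have : ∀ s ∈ Submodule.span A₀ (Set.range e),
        n ⊗ₜ[A₀] s ∈ LinearMap.range (tsum (A₀ := A₀) e N) := by
      intro s hs
      refine Submodule.span_induction ?_ ?_ ?_ ?_ hs
      · rintro _ ⟨i, rfl⟩
        exact ⟨Finsupp.single i n, tsum_single e N i n⟩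
      · rw [TensorProduct.tmul_zero]; exact Submodule.zero_mem _
      · intro s₁ s₂ _ _ h₁ h₂
        rw [TensorProduct.tmul_add]; exact Submodule.add_mem _ h₁ h₂
      · intro r s₁ _ h₁
        rw [TensorProduct.tmul_smul]; exact Submodule.smul_mem _ _ h₁
    exact this s hs
  | add x₁ x₂ h₁ h₂ =>
    obtain ⟨k₁, hk₁⟩ := h₁
    obtain ⟨k₂, hk₂⟩ := h₂
    refine ⟨k₁ + k₂, ?_⟩
    rw [smul_add]
    refine Submodule.add_mem _ ?_ ?_
    · rw [pow_add, mul_comm, mul_smul]; exact Submodule.smul_mem _ _ hk₁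
    · rw [pow_add, mul_smul]; exact Submodule.smul_mem _ _ hk₂

include J a in
theorem exists_pow_smul_eq_zero_of_sum_tmul_eq_zero [Module.Flat A₀ M₀]
    (hli : ∀ c : ι →₀ A₀, Finsupp.linearCombination A₀ e c ∈ J • (⊤ : Submodule A₀ M₀) →
      ∀ i, c i ∈ J)
    (hsp : ∀ y : M₀, ∃ k : ℕ,
      a ^ k • y ∈ Submodule.span A₀ (Set.range e) ⊔ J • (⊤ : Submodule A₀ M₀))
    {P : Type u} [AddCommGroup P] [Module A₀ P] (s : Finset ι) (p : ι → P)
    (hJ : ∀ i ∈ s, ∀ j ∈ J, j • p i = 0)
    (h0 : ∑ i ∈ s, p i ⊗ₜ[A₀] e i = 0) : ∃ k : ℕ, ∀ i ∈ s, a ^ k • p i = 0 := by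
  classical
  have h0' : ∑ i : s, p i ⊗ₜ[A₀] e i = (0 : P ⊗[A₀] M₀) := by
    rw [← h0]
    exact Finset.sum_coe_sort s (fun i => p i ⊗ₜ[A₀] e i)
  have hinj : Function.Injective
      (LinearMap.rTensor M₀ (Submodule.span A₀ (Set.range fun i : s => p i)).subtype) :=
    Module.Flat.rTensor_preserves_injective_linearMap _ (Submodule.injective_subtype _)
  obtain ⟨K, α, y, hy, hα⟩ :=
    TensorProduct.vanishesTrivially_of_sum_tmul_eq_zero_of_rTensor_injective A₀ hinj h0'
  replace hy : ∀ i : s, e i = ∑ j, α i j • y j := hy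
  replace hα : ∀ j, ∑ i : s, α i j • p i = 0 := hα
  -- a common exponent
  have hk : ∃ k : ℕ, ∀ j : Fin K,
      a ^ k • y j ∈ Submodule.span A₀ (Set.range e) ⊔ J • (⊤ : Submodule A₀ M₀) := by
    choose kj hkj using fun j => hsp (y j)
    refine ⟨∑ j, kj j, fun j => ?_⟩
    have : a ^ (∑ j, kj j) = a ^ (∑ j' ∈ Finset.univ.erase j, kj j') * a ^ kj j := by
      rw [← pow_add, Finset.sum_erase_add _ _ (Finset.mem_univ j)]
    rw [this, mul_smul]
    exact Submodule.smul_mem _ _ (hkj j)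
  obtain ⟨k, hk⟩ := hk
  have hdec : ∀ j : Fin K, ∃ (c : ι →₀ A₀) (z : M₀), z ∈ J • (⊤ : Submodule A₀ M₀) ∧
      a ^ k • y j = Finsupp.linearCombination A₀ e c + z := by
    intro j
    obtain ⟨s', hs', z, hz, hsz⟩ := Submodule.mem_sup.mp (hk j)
    rw [← Finsupp.range_linearCombination] at hs'
    obtain ⟨c, rfl⟩ := hs'
    exact ⟨c, z, hz, hsz.symm⟩
  choose c z hz hyz using hdec
  refine ⟨k, fun i' hi' => ?_⟩
  have hd : ∀ (i : s) (i'' : ι),
      (Finsupp.single (i : ι) (a ^ k) - ∑ j, α i j • c j) i'' ∈ J := by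
    intro i
    apply hli
    have : Finsupp.linearCombination A₀ e (Finsupp.single (i : ι) (a ^ k) - ∑ j, α i j • c j) =
        ∑ j, α i j • z j := by
      rw [map_sub, Finsupp.linearCombination_single, map_sum, hy i, Finset.smul_sum,
        ← Finset.sum_sub_distrib]
      refine Finset.sum_congr rfl fun j _ => ?_
      rw [map_smul, smul_comm, hyz j, smul_add, add_sub_cancel_left]
    rw [this]
    exact Submodule.sum_mem _ fun j _ => Submodule.smul_mem _ _ (hz j)
  have hsum0 : ∑ i : s, ((Finsupp.single (i : ι) (a ^ k) - ∑ j, α i j • c j) i') • p i = 0 :=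
    Finset.sum_eq_zero fun i _ => hJ i i.2 _ (hd i i')
  have hexp : ∑ i : s, ((Finsupp.single (i : ι) (a ^ k) - ∑ j, α i j • c j) i') • p i =
      a ^ k • p i' - ∑ j, c j i' • ∑ i : s, α i j • p i := by
    simp only [Finsupp.coe_sub, Pi.sub_apply, Finsupp.coe_finsetSum, Finsupp.coe_smul,
      Finset.sum_apply, Pi.smul_apply, smul_eq_mul, sub_smul, Finset.sum_sub_distrib]
    congr 1
    · rw [Finset.sum_eq_single (⟨i', hi'⟩ : s)]
      · simp
      · intro b _ hb
        have : (b : ι) ≠ i' := fun h => hb (Subtype.ext h)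
        simp [this]
      · intro h; exact absurd (Finset.mem_univ _) h
    · simp only [Finset.sum_smul, Finset.smul_sum]
      rw [Finset.sum_comm]
      refine Finset.sum_congr rfl fun j _ => Finset.sum_congr rfl fun i _ => ?_
      rw [smul_smul, mul_comm]
  rw [hexp] at hsum0
  have hz' : ∑ j, c j i' • ∑ i : s, α i j • p i = 0 :=
    Finset.sum_eq_zero fun j _ => by rw [hα j, smul_zero]
  rwa [hz', sub_zero] at hsum0

end Finitary

section Induction

variable (A₀ M₀) in
-- the statement proved by Noetherian induction on `J`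
def PropP (J : Ideal A₀) : Prop :=
  ∀ (A : Type u) [CommRing A] [Algebra A₀ A] (S : Set A) (N : Type u) [AddCommGroup N]
    [Module A N] [Module A₀ N] [IsScalarTower A₀ A N],
    (∀ j ∈ J, ∀ n : N, j • n = 0) → DenseOn S N →
      ∀ x : N ⊗[A₀] M₀, (∀ t ∈ S, ∃ k : ℕ, t ^ k • x = 0) → x = 0

variable {A : Type u} [CommRing A] [Algebra A₀ A] {S : Set A} {N : Type u} [AddCommGroup N]
  [Module A N] [Module A₀ N] [IsScalarTower A₀ A N]

-- the kernel of multiplication by `c : A₀` on `N`, as an `A`-submodule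
def kerSMul (A : Type u) [CommRing A] [Algebra A₀ A] (N : Type u) [AddCommGroup N]
    [Module A N] [Module A₀ N] [IsScalarTower A₀ A N] (c : A₀) : Submodule A N :=
  LinearMap.ker ((algebraMap A₀ A c) • (LinearMap.id : N →ₗ[A] N))

theorem mem_kerSMul (c : A₀) (n : N) : n ∈ kerSMul A N c ↔ c • n = 0 := by
  rw [kerSMul, LinearMap.mem_ker, LinearMap.smul_apply, LinearMap.id_apply, algebraMap_smul]

theorem smul_eq_zero_of_mem_sup (J : Ideal A₀) (c : A₀) (hJN : ∀ j ∈ J, ∀ n : N, j • n = 0) :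
    ∀ j ∈ J ⊔ Ideal.span {c}, ∀ n : kerSMul A N c, j • n = 0 := by
  intro j hj n
  obtain ⟨j₁, hj₁, j₂, hj₂, rfl⟩ := Submodule.mem_sup.mp hj
  obtain ⟨r, rfl⟩ := Ideal.mem_span_singleton'.mp hj₂
  apply Subtype.ext
  have hn : c • (n : N) = 0 := (mem_kerSMul c _).mp n.2
  rw [Submodule.coe_smul_of_tower, add_smul, hJN j₁ hj₁, mul_smul, hn, smul_zero, add_zero,
    Submodule.coe_zero]

theorem step_ker [Module.Flat A₀ M₀] (J : Ideal A₀) (c : A₀)
    (hP : PropP A₀ M₀ (J ⊔ Ideal.span {c}))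
    (hJN : ∀ j ∈ J, ∀ n : N, j • n = 0) (hD : DenseOn S N) (x : N ⊗[A₀] M₀)
    (hx : ∀ t ∈ S, ∃ k : ℕ, t ^ k • x = 0) (hcx : c • x = 0) : x = 0 := by
  set g : N →ₗ[A] N := (algebraMap A₀ A c) • (LinearMap.id : N →ₗ[A] N) with hg
  set K : Submodule A N := kerSMul A N c with hK
  have hex : Function.Exact ((K.subtype.restrictScalars A₀).rTensor M₀)
      ((g.restrictScalars A₀).rTensor M₀) :=
    Module.Flat.rTensor_exact M₀ (f := K.subtype.restrictScalars A₀) (g := g.restrictScalars A₀)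
      (LinearMap.exact_subtype_ker_map g)
  have hinj : Function.Injective ((K.subtype.restrictScalars A₀).rTensor M₀) :=
    Module.Flat.rTensor_preserves_injective_linearMap _ (Submodule.injective_subtype K)
  have hgx : (g.restrictScalars A₀).rTensor M₀ x = 0 := by
    rw [hg, rTensor_algebraMap_smul_id, hcx]
  obtain ⟨x', hx'⟩ := (hex x).mp hgx
  have hx'0 : x' = 0 := by
    refine hP A S K (smul_eq_zero_of_mem_sup J c hJN) (hD.submodule K) x' ?_
    intro t ht
    obtain ⟨k, hk⟩ := hx t ht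
    refine ⟨k, hinj ?_⟩
    rw [rTensor_smul_left, hx', hk, map_zero]
  rw [← hx', hx'0, map_zero]

theorem step_nonprime [Module.Flat A₀ M₀] (J : Ideal A₀) (a b : A₀) (hab : a * b ∈ J)
    (hPa : PropP A₀ M₀ (J ⊔ Ideal.span {a})) (hPb : PropP A₀ M₀ (J ⊔ Ideal.span {b}))
    (hJN : ∀ j ∈ J, ∀ n : N, j • n = 0) (hD : DenseOn S N) (x : N ⊗[A₀] M₀)
    (hx : ∀ t ∈ S, ∃ k : ℕ, t ^ k • x = 0) : x = 0 := by
  refine step_ker J b hPb hJN hD x hx ?_
  set K : Submodule A N := kerSMul A N a with hK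
  let μ : N →ₗ[A] K := LinearMap.codRestrict K ((algebraMap A₀ A b) • (LinearMap.id : N →ₗ[A] N))
    (fun n => by
      rw [hK, mem_kerSMul, LinearMap.smul_apply, LinearMap.id_apply, algebraMap_smul, ← mul_smul]
      exact hJN _ hab n)
  have hy : (μ.restrictScalars A₀).rTensor M₀ x = 0 := by
    refine hPa A S K (smul_eq_zero_of_mem_sup J a hJN) (hD.submodule K) _ ?_
    intro t ht
    obtain ⟨k, hk⟩ := hx t ht
    exact ⟨k, by rw [← rTensor_smul_left, hk, map_zero]⟩
  have hcomp : (K.subtype.restrictScalars A₀) ∘ₗ (μ.restrictScalars A₀) =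
      (((algebraMap A₀ A b) • (LinearMap.id : N →ₗ[A] N)).restrictScalars A₀) := by
    ext n
    rfl
  rw [← rTensor_algebraMap_smul_id (A := A), ← hcomp, LinearMap.rTensor_comp, LinearMap.comp_apply,
    hy, map_zero]

theorem step_prime [Module.Flat A₀ M₀] (J : Ideal A₀) (a : A₀)
    {ι : Type} (e : ι → M₀)
    (hli : ∀ c : ι →₀ A₀, Finsupp.linearCombination A₀ e c ∈ J • (⊤ : Submodule A₀ M₀) →
      ∀ i, c i ∈ J)
    (hsp : ∀ y : M₀, ∃ k : ℕ,
      a ^ k • y ∈ Submodule.span A₀ (Set.range e) ⊔ J • (⊤ : Submodule A₀ M₀))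
    (hP : ∀ m : ℕ, PropP A₀ M₀ (J ⊔ Ideal.span {a ^ m}))
    (hJN : ∀ j ∈ J, ∀ n : N, j • n = 0) (hD : DenseOn S N) (x : N ⊗[A₀] M₀)
    (hx : ∀ t ∈ S, ∃ k : ℕ, t ^ k • x = 0) : x = 0 := by
  classical
  obtain ⟨k, c, hc⟩ := exists_pow_smul_mem_range_tsum J a e hsp hJN x
  rw [tsum_apply] at hc
  -- every coefficient is killed by a power of `a`
  have hci : ∀ i ∈ c.support, ∃ m : ℕ, a ^ m • c i = 0 := by
    intro i hi
    have := hD (algebraMap A₀ A a) (c i) (fun t ht => by
      obtain ⟨q, hq⟩ := hx t ht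
      have h0 : ∑ i ∈ c.support, (t ^ q • c i) ⊗ₜ[A₀] e i = 0 := by
        have : t ^ q • (a ^ k • x) = 0 := by rw [smul_comm, hq, smul_zero]
        rw [← hc, Finset.smul_sum] at this
        rw [← this]
        exact Finset.sum_congr rfl fun i _ => (TensorProduct.smul_tmul' _ _ _).symm
      obtain ⟨m, hm⟩ := exists_pow_smul_eq_zero_of_sum_tmul_eq_zero J a e hli hsp c.support
        (fun i => t ^ q • c i) (fun i _ j hj => by rw [smul_comm, hJN j hj, smul_zero]) h0
      refine ⟨m + q, ?_⟩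
      have h1 := hm i hi
      have h3 : ((algebraMap A₀ A a) ^ m * t ^ q) • c i = 0 := by
        rw [mul_smul, ← map_pow, algebraMap_smul]
        exact h1
      have h4 : (algebraMap A₀ A a * t) ^ (m + q) =
          ((algebraMap A₀ A a) ^ q * t ^ m) * ((algebraMap A₀ A a) ^ m * t ^ q) := by ring
      rw [h4, mul_smul, h3, smul_zero])
    obtain ⟨m, hm⟩ := this
    exact ⟨m, by rw [← algebraMap_smul A, map_pow, hm]⟩
  choose! mi hmi using hci
  have hall : ∀ i ∈ c.support, a ^ (∑ i' ∈ c.support, mi i') • c i = 0 := by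
    intro i hi
    rw [← Finset.sum_erase_add _ _ hi, pow_add, mul_smul, hmi i hi, smul_zero]
  refine step_ker J (a ^ (∑ i' ∈ c.support, mi i' + k)) (hP _) hJN hD x hx ?_
  rw [pow_add, mul_smul, ← hc, Finset.smul_sum]
  refine Finset.sum_eq_zero fun i hi => ?_
  rw [TensorProduct.smul_tmul', hall i hi, TensorProduct.zero_tmul]

theorem propP_of_genFree [IsNoetherianRing A₀] [Module.Flat A₀ M₀] (hGF : GenFree A₀ M₀)
    (J : Ideal A₀) : PropP A₀ M₀ J := by
  refine IsNoetherian.induction (P := fun J : Ideal A₀ => PropP A₀ M₀ J) ?_ J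
  · intro (J : Ideal A₀) ih
    intro A _ _ S N _ _ _ _ hJN hD x hx
    by_cases hprime : J.IsPrime
    · obtain ⟨a, ha, ι, e, hli, hsp⟩ := hGF J hprime
      refine step_prime J a e hli hsp (fun m => ih _ ?_) hJN hD x hx
      exact Submodule.lt_sup_iff_notMem.mpr (fun h => ha (hprime.mem_of_pow_mem m h))
    · by_cases htop : J = ⊤
      · -- `N` is trivial
        have hN : ∀ n : N, n = 0 := fun n => by
          have := hJN 1 (htop ▸ Submodule.mem_top) n
          rwa [one_smul] at this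
        induction x using TensorProduct.induction_on with
        | zero => rfl
        | tmul n y => rw [hN n, TensorProduct.zero_tmul]
        | add x₁ x₂ h₁ h₂ =>
          -- both summands are zero regardless of the hypothesis
          have key : ∀ z : N ⊗[A₀] M₀, z = 0 := by
            intro z
            induction z using TensorProduct.induction_on with
            | zero => rfl
            | tmul n y => rw [hN n, TensorProduct.zero_tmul]
            | add z₁ z₂ e₁ e₂ => rw [e₁, e₂, add_zero]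
          exact key _
      · obtain ⟨a, b, hab, ha, hb⟩ : ∃ a b : A₀, a * b ∈ J ∧ a ∉ J ∧ b ∉ J := by
          by_contra hcon
          refine hprime ⟨htop, fun {a b} hab => ?_⟩
          by_contra h
          exact hcon ⟨a, b, hab, fun ha => h (Or.inl ha), fun hb => h (Or.inr hb)⟩
        exact step_nonprime J a b hab (ih _ (Submodule.lt_sup_iff_notMem.mpr ha))
          (ih _ (Submodule.lt_sup_iff_notMem.mpr hb)) hJN hD x hx

-- **Main algebraic theorem.**
theorem eq_zero_of_forall_pow_smul_eq_zero [IsNoetherianRing A₀] [Module.Flat A₀ M₀]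
    (hGF : GenFree A₀ M₀) (hD : DenseOn S N) (x : N ⊗[A₀] M₀)
    (hx : ∀ t ∈ S, ∃ k : ℕ, t ^ k • x = 0) : x = 0 :=
  propP_of_genFree hGF ⊥ A S N (fun j hj n => by rw [(Submodule.mem_bot A₀).mp hj, zero_smul]) hD
    x hx

end Induction

end Core

end Groth.Agent.Lib.Helper20.SchDenseFlat
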