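import Mathlib
import Groth.Agent.Lib.Helper20.SchDenseCore
import Groth.Agent.Lib.Helper91.GenericFreeness
import Groth.Agent.H76.FlatModel

/-!
# Flat finitely presented base change preserves "schematic density" (helper20)

* `genFree_of_finite`: a finite module over a finite type algebra is `GenFree` over the base
  (element-wise generic freeness of helper91 modulo every prime).
* `eq_zero_of_flat_finitePresentation_module`: for a finitely presented `A`-algebra `B`, a finitely
  presented `B`-module `M` flat over `A`, and `S ⊆ A` with `DenseOn S A`, an element of `M` killed by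
  a power of every `t ∈ S` is zero (EGA IV 11.10.5 (ii), second case; no Noetherian hypothesis).
-/

set_option autoImplicit false

namespace Groth.Agent.Lib.Helper20.SchDenseFlat

open TensorProduct

universe u

section GenFree

theorem genFree_of_finite (R S M : Type u) [CommRing R] [CommRing S] [Algebra R S]
    [Algebra.FiniteType R S] [AddCommGroup M] [Module R M] [Module S M] [IsScalarTower R S M]
    [Module.Finite S M] : GenFree R M := by
  intro p hp
  set I := p.map (algebraMap R S) with hI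
  letI instM : Module (R ⧸ p) (M ⧸ (I • ⊤ : Submodule S M)) :=
    Module.compHom _ (algebraMap (R ⧸ p) (S ⧸ I))
  haveI towM : IsScalarTower (R ⧸ p) (S ⧸ I) (M ⧸ (I • ⊤ : Submodule S M)) :=
    IsScalarTower.of_algebraMap_smul fun _ _ => rfl
  haveI : Algebra.FiniteType (R ⧸ p) (S ⧸ I) :=
    Algebra.FiniteType.of_restrictScalars_finiteType R (R ⧸ p) (S ⧸ I)
  haveI : Module.Finite (S ⧸ I) (M ⧸ (I • ⊤ : Submodule S M)) :=
    Module.Finite.of_restrictScalars_finite S (S ⧸ I) _
  obtain ⟨a', ha', -, ⟨ι, e', hli, hsp⟩, -, -⟩ :=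
    Groth.Agent.Lib.Helper91.generic_freeness_data (R := R ⧸ p) (S := S ⧸ I)
      (M := M ⧸ (I • ⊤ : Submodule S M))
  obtain ⟨a, rfl⟩ := Ideal.Quotient.mk_surjective a'
  choose e he using fun i => Submodule.Quotient.mk_surjective _ (e' i)
  have hsmul : ∀ (r : R) (m : M), (Ideal.Quotient.mk p r) •
      (Submodule.Quotient.mk m : M ⧸ (I • ⊤ : Submodule S M)) = Submodule.Quotient.mk (r • m) := by
    intro r m
    show (algebraMap (R ⧸ p) (S ⧸ I) (Ideal.Quotient.mk p r)) •
      (Submodule.Quotient.mk m : M ⧸ (I • ⊤ : Submodule S M)) = Submodule.Quotient.mk (r • m)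
    rw [Ideal.Quotient.algebraMap_quotient_map_quotient]
    show (Submodule.Quotient.mk (algebraMap R S r • m) : M ⧸ (I • ⊤ : Submodule S M)) =
      Submodule.Quotient.mk (r • m)
    rw [algebraMap_smul]
  have hsub : (p • ⊤ : Submodule R M) = (I • ⊤ : Submodule S M).restrictScalars R := by
    rw [hI, Ideal.smul_restrictScalars, Submodule.restrictScalars_top]
  have hmem : ∀ m : M, m ∈ (p • ⊤ : Submodule R M) ↔
      (Submodule.Quotient.mk m : M ⧸ (I • ⊤ : Submodule S M)) = 0 := by
    intro m
    rw [Submodule.Quotient.mk_eq_zero, hsub, Submodule.restrictScalars_mem]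
  have hlc : ∀ c : ι →₀ R, Finsupp.linearCombination (R ⧸ p) e'
      (c.mapRange (Ideal.Quotient.mk p) (map_zero _)) =
      (Submodule.Quotient.mk (Finsupp.linearCombination R e c) :
        M ⧸ (I • ⊤ : Submodule S M)) := by
    intro c
    induction c using Finsupp.induction_linear with
    | zero => simp
    | add c₁ c₂ h₁ h₂ =>
      rw [Finsupp.mapRange_add (fun x y => map_add _ x y), map_add, map_add, h₁, h₂]
      rfl
    | single i r =>
      rw [Finsupp.mapRange_single, Finsupp.linearCombination_single,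
        Finsupp.linearCombination_single, ← he i, hsmul]
  refine ⟨a, fun h => ha' (Ideal.Quotient.eq_zero_iff_mem.mpr h), ι, e, ?_, ?_⟩
  · intro c hc i
    have h0 := linearIndependent_iff.mp hli _ ((hlc c).trans ((hmem _).mp hc))
    have := DFunLike.congr_fun h0 i
    rw [Finsupp.mapRange_apply, Finsupp.zero_apply] at this
    exact Ideal.Quotient.eq_zero_iff_mem.mp this
  · intro y
    obtain ⟨k, hk⟩ := hsp (Submodule.Quotient.mk y)
    refine ⟨k, ?_⟩
    rw [← Finsupp.range_linearCombination] at hk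
    obtain ⟨c', hc'⟩ := hk
    obtain ⟨c, rfl⟩ := Finsupp.mapRange_surjective (Ideal.Quotient.mk p) (map_zero _)
      Ideal.Quotient.mk_surjective c'
    rw [hlc c, ← map_pow, hsmul, eq_comm, ← sub_eq_zero, ← Submodule.Quotient.mk_sub,
      ← hmem] at hc'
    have : a ^ k • y = Finsupp.linearCombination R e c + (a ^ k • y - Finsupp.linearCombination R e c) := by
      abel
    rw [this]
    refine Submodule.add_mem_sup ?_ hc'
    rw [← Finsupp.range_linearCombination]
    exact ⟨c, rfl⟩

end GenFree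

section Bridge

theorem eq_zero_of_flat_finitePresentation_module {A B M : Type u} [CommRing A] [CommRing B]
    [Algebra A B] [Algebra.FinitePresentation A B] [AddCommGroup M] [Module B M] [Module A M]
    [IsScalarTower A B M] [Module.FinitePresentation B M] [Module.Flat A M]
    (S : Set A) (hD : DenseOn S A) (m : M) (hm : ∀ t ∈ S, ∃ k : ℕ, t ^ k • m = 0) : m = 0 := by
  obtain ⟨R₀, iR₀, algR₀A, S₀, iS₀, algR₀S₀, algS₀B, algR₀B, tow1, tow2, M₀, iM₀, modS₀M₀, modR₀M₀,
    tow3, modS₀M, tow4, f, hR₀, hS₀, hfin, hflat, hpush, hbc⟩ :=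
    Groth.Agent.H76.FlatModel.exists_flat_model A B M
  haveI : IsNoetherianRing R₀ := Algebra.FiniteType.isNoetherianRing ℤ R₀
  have hGF : GenFree R₀ M₀ := genFree_of_finite R₀ S₀ M₀
  -- the identification `M ≃ A ⊗[R₀] M₀`
  let Ψ₁ : B ⊗[S₀] M₀ ≃ₗ[B] M := hbc.equiv
  let Ψ₂ : B ⊗[S₀] M₀ ≃ₗ[A] A ⊗[R₀] M₀ := Algebra.IsPushout.cancelBaseChange R₀ A S₀ B M₀
  have hΨ₁ : ∀ (t : A) (z : B ⊗[S₀] M₀), Ψ₁ (t • z) = t • Ψ₁ z := by
    intro t z
    rw [← algebraMap_smul B t z, map_smul, algebraMap_smul]
  have key : Ψ₂ (Ψ₁.symm m) = 0 := by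
    refine eq_zero_of_forall_pow_smul_eq_zero (A₀ := R₀) (M₀ := M₀) (A := A) (S := S) (N := A)
      hGF hD _ ?_
    intro t ht
    obtain ⟨k, hk⟩ := hm t ht
    refine ⟨k, ?_⟩
    rw [← map_smul]
    have : t ^ k • Ψ₁.symm m = 0 := by
      apply Ψ₁.injective
      rw [hΨ₁, LinearEquiv.apply_symm_apply, hk, map_zero]
    rw [this, map_zero]
  have h1 : Ψ₁.symm m = 0 := Ψ₂.injective (by rw [key, map_zero])
  have := congrArg Ψ₁ h1
  rwa [LinearEquiv.apply_symm_apply, map_zero] at this

theorem eq_zero_of_flat_finitePresentation {A B : Type u} [CommRing A] [CommRing B]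
    [Algebra A B] [Algebra.FinitePresentation A B] [Module.Flat A B]
    (S : Set A) (hD : DenseOn S A) (b : B)
    (hb : ∀ t ∈ S, ∃ k : ℕ, algebraMap A B t ^ k * b = 0) : b = 0 := by
  refine eq_zero_of_flat_finitePresentation_module (A := A) (B := B) (M := B) S hD b ?_
  intro t ht
  obtain ⟨k, hk⟩ := hb t ht
  exact ⟨k, by rw [Algebra.smul_def, map_pow, hk]⟩

end Bridge

end Groth.Agent.Lib.Helper20.SchDenseFlat
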