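import Mathlib
import Groth.Agent.Lib.Helper20.SchDenseCore

/-!
# Flat base change of schematically dominant families: the algebraic core (helper20)

Family version of `SchDenseCore`: `ψ l : N →ₗ[A] Nl l` a family of `A`-linear maps which is jointly
injective after inverting any element of `A` (`JointInj`).  If `M₀` is a flat `A₀`-module with
`GenFree A₀ M₀` (`A₀` Noetherian), the family `ψ l ⊗ M₀` is jointly injective
(`eq_zero_of_forall_rTensor_eq_zero`).
-/

set_option autoImplicit false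

namespace Groth.Agent.Lib.Helper20.SchDenseFlat

open TensorProduct

universe u

def JointInj {A : Type u} [CommRing A] {N : Type u} [AddCommGroup N] [Module A N] {Λ : Type u}
    {Nl : Λ → Type u} [∀ l, AddCommGroup (Nl l)] [∀ l, Module A (Nl l)]
    (ψ : ∀ l, N →ₗ[A] Nl l) : Prop :=
  ∀ (g : A) (n : N), (∀ l, ∃ k : ℕ, g ^ k • ψ l n = 0) → ∃ m : ℕ, g ^ m • n = 0

section Induction

variable {A₀ : Type u} [CommRing A₀] {M₀ : Type u} [AddCommGroup M₀] [Module A₀ M₀]

variable (A₀ M₀) in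
def PropQ (J : Ideal A₀) : Prop :=
  ∀ (A : Type u) [CommRing A] [Algebra A₀ A] (N : Type u) [AddCommGroup N]
    [Module A N] [Module A₀ N] [IsScalarTower A₀ A N] (Λ : Type u) (Nl : Λ → Type u)
    [∀ l, AddCommGroup (Nl l)] [∀ l, Module A (Nl l)] [∀ l, Module A₀ (Nl l)]
    [∀ l, IsScalarTower A₀ A (Nl l)] (ψ : ∀ l, N →ₗ[A] Nl l),
    (∀ j ∈ J, ∀ n : N, j • n = 0) → JointInj ψ →
      ∀ x : N ⊗[A₀] M₀, (∀ l, ((ψ l).restrictScalars A₀).rTensor M₀ x = 0) → x = 0

variable {A : Type u} [CommRing A] [Algebra A₀ A] {N : Type u} [AddCommGroup N]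
  [Module A N] [Module A₀ N] [IsScalarTower A₀ A N] {Λ : Type u} {Nl : Λ → Type u}
  [∀ l, AddCommGroup (Nl l)] [∀ l, Module A (Nl l)] [∀ l, Module A₀ (Nl l)]
  [∀ l, IsScalarTower A₀ A (Nl l)] {ψ : ∀ l, N →ₗ[A] Nl l}

theorem JointInj.submodule (h : JointInj ψ) (K : Submodule A N) :
    JointInj (fun l => (ψ l) ∘ₗ K.subtype) := by
  intro g n hn
  obtain ⟨m, hm⟩ := h g (n : N) hn
  exact ⟨m, Subtype.ext (by rw [Submodule.coe_smul, hm, Submodule.coe_zero])⟩

theorem step_ker' [Module.Flat A₀ M₀] (J : Ideal A₀) (c : A₀)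
    (hP : PropQ A₀ M₀ (J ⊔ Ideal.span {c}))
    (hJN : ∀ j ∈ J, ∀ n : N, j • n = 0) (hD : JointInj ψ) (x : N ⊗[A₀] M₀)
    (hx : ∀ l, ((ψ l).restrictScalars A₀).rTensor M₀ x = 0) (hcx : c • x = 0) : x = 0 := by
  set g : N →ₗ[A] N := (algebraMap A₀ A c) • (LinearMap.id : N →ₗ[A] N) with hg
  set K : Submodule A N := kerSMul A N c with hK
  have hex : Function.Exact ((K.subtype.restrictScalars A₀).rTensor M₀)
      ((g.restrictScalars A₀).rTensor M₀) :=
    Module.Flat.rTensor_exact M₀ (f := K.subtype.restrictScalars A₀) (g := g.restrictScalars A₀)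
      (LinearMap.exact_subtype_ker_map g)
  have hgx : (g.restrictScalars A₀).rTensor M₀ x = 0 := by
    rw [hg, rTensor_algebraMap_smul_id, hcx]
  obtain ⟨x', hx'⟩ := (hex x).mp hgx
  have hx'0 : x' = 0 := by
    refine hP A K Λ Nl (fun l => (ψ l) ∘ₗ K.subtype) (smul_eq_zero_of_mem_sup J c hJN)
      (hD.submodule K) x' ?_
    intro l
    have : ((ψ l ∘ₗ K.subtype).restrictScalars A₀) =
        ((ψ l).restrictScalars A₀) ∘ₗ (K.subtype.restrictScalars A₀) := rfl
    rw [this, LinearMap.rTensor_comp, LinearMap.comp_apply, hx', hx l]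
  rw [← hx', hx'0, map_zero]

theorem step_nonprime' [Module.Flat A₀ M₀] (J : Ideal A₀) (a b : A₀) (hab : a * b ∈ J)
    (hPa : PropQ A₀ M₀ (J ⊔ Ideal.span {a})) (hPb : PropQ A₀ M₀ (J ⊔ Ideal.span {b}))
    (hJN : ∀ j ∈ J, ∀ n : N, j • n = 0) (hD : JointInj ψ) (x : N ⊗[A₀] M₀)
    (hx : ∀ l, ((ψ l).restrictScalars A₀).rTensor M₀ x = 0) : x = 0 := by
  refine step_ker' J b hPb hJN hD x hx ?_
  set K : Submodule A N := kerSMul A N a with hK
  let μ : N →ₗ[A] K := LinearMap.codRestrict K ((algebraMap A₀ A b) • (LinearMap.id : N →ₗ[A] N))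
    (fun n => by
      rw [hK, mem_kerSMul, LinearMap.smul_apply, LinearMap.id_apply, algebraMap_smul, ← mul_smul]
      exact hJN _ hab n)
  have hy : (μ.restrictScalars A₀).rTensor M₀ x = 0 := by
    refine hPa A K Λ Nl (fun l => (ψ l) ∘ₗ K.subtype) (smul_eq_zero_of_mem_sup J a hJN)
      (hD.submodule K) _ ?_
    intro l
    have h1 : ((ψ l ∘ₗ K.subtype).restrictScalars A₀) ∘ₗ (μ.restrictScalars A₀) =
        (((algebraMap A₀ A b) • (LinearMap.id : Nl l →ₗ[A] Nl l)).restrictScalars A₀) ∘ₗ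
          ((ψ l).restrictScalars A₀) := by
      ext n
      simp [μ]
    rw [← LinearMap.comp_apply, ← LinearMap.rTensor_comp, h1, LinearMap.rTensor_comp,
      LinearMap.comp_apply, hx l, map_zero]
  have hcomp : (K.subtype.restrictScalars A₀) ∘ₗ (μ.restrictScalars A₀) =
      (((algebraMap A₀ A b) • (LinearMap.id : N →ₗ[A] N)).restrictScalars A₀) := by
    ext n
    rfl
  rw [← rTensor_algebraMap_smul_id (A := A), ← hcomp, LinearMap.rTensor_comp, LinearMap.comp_apply,
    hy, map_zero]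

theorem step_prime' [Module.Flat A₀ M₀] (J : Ideal A₀) (a : A₀)
    {ι : Type} (e : ι → M₀)
    (hli : ∀ c : ι →₀ A₀, Finsupp.linearCombination A₀ e c ∈ J • (⊤ : Submodule A₀ M₀) →
      ∀ i, c i ∈ J)
    (hsp : ∀ y : M₀, ∃ k : ℕ,
      a ^ k • y ∈ Submodule.span A₀ (Set.range e) ⊔ J • (⊤ : Submodule A₀ M₀))
    (hP : ∀ m : ℕ, PropQ A₀ M₀ (J ⊔ Ideal.span {a ^ m}))
    (hJN : ∀ j ∈ J, ∀ n : N, j • n = 0) (hD : JointInj ψ) (x : N ⊗[A₀] M₀)
    (hx : ∀ l, ((ψ l).restrictScalars A₀).rTensor M₀ x = 0) : x = 0 := by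
  classical
  obtain ⟨k, c, hc⟩ := exists_pow_smul_mem_range_tsum J a e hsp hJN x
  rw [tsum_apply] at hc
  have hci : ∀ i ∈ c.support, ∃ m : ℕ, a ^ m • c i = 0 := by
    intro i hi
    have := hD (algebraMap A₀ A a) (c i) (fun l => by
      have h0 : ∑ i ∈ c.support, (ψ l (c i)) ⊗ₜ[A₀] e i = 0 := by
        have : ((ψ l).restrictScalars A₀).rTensor M₀ (a ^ k • x) = 0 := by
          rw [map_smul, hx l, smul_zero]
        rw [← hc, map_sum] at this
        rw [← this]
        exact Finset.sum_congr rfl fun i _ => rfl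
      obtain ⟨m, hm⟩ := exists_pow_smul_eq_zero_of_sum_tmul_eq_zero J a e hli hsp c.support
        (fun i => ψ l (c i)) (fun i _ j hj => by
          rw [← LinearMap.map_smul_of_tower, hJN j hj, map_zero]) h0
      refine ⟨m, ?_⟩
      rw [← map_pow, algebraMap_smul]
      exact hm i hi)
    obtain ⟨m, hm⟩ := this
    exact ⟨m, by rw [← algebraMap_smul A, map_pow, hm]⟩
  choose! mi hmi using hci
  have hall : ∀ i ∈ c.support, a ^ (∑ i' ∈ c.support, mi i') • c i = 0 := by
    intro i hi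
    rw [← Finset.sum_erase_add _ _ hi, pow_add, mul_smul, hmi i hi, smul_zero]
  refine step_ker' J (a ^ (∑ i' ∈ c.support, mi i' + k)) (hP _) hJN hD x hx ?_
  rw [pow_add, mul_smul, ← hc, Finset.smul_sum]
  refine Finset.sum_eq_zero fun i hi => ?_
  rw [TensorProduct.smul_tmul', hall i hi, TensorProduct.zero_tmul]

theorem propQ_of_genFree [IsNoetherianRing A₀] [Module.Flat A₀ M₀] (hGF : GenFree A₀ M₀)
    (J : Ideal A₀) : PropQ A₀ M₀ J := by
  refine IsNoetherian.induction (P := fun J : Ideal A₀ => PropQ A₀ M₀ J) ?_ J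
  · intro (J : Ideal A₀) ih A _ _ N _ _ _ _ Λ Nl _ _ _ _ ψ hJN hD x hx
    by_cases hprime : J.IsPrime
    · obtain ⟨a, ha, ι, e, hli, hsp⟩ := hGF J hprime
      refine step_prime' J a e hli hsp (fun m => ih _ ?_) hJN hD x hx
      exact Submodule.lt_sup_iff_notMem.mpr (fun h => ha (hprime.mem_of_pow_mem m h))
    · by_cases htop : J = ⊤
      · have hN : ∀ n : N, n = 0 := fun n => by
          have := hJN 1 (htop ▸ Submodule.mem_top) n
          rwa [one_smul] at this
        have key : ∀ z : N ⊗[A₀] M₀, z = 0 := by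
          intro z
          induction z using TensorProduct.induction_on with
          | zero => rfl
          | tmul n y => rw [hN n, TensorProduct.zero_tmul]
          | add z₁ z₂ e₁ e₂ => rw [e₁, e₂, add_zero]
        exact key _
      · obtain ⟨a, b, hab, ha, hb⟩ : ∃ a b : A₀, a * b ∈ J ∧ a ∉ J ∧ b ∉ J := by
          by_contra hcon
          refine hprime ⟨htop, fun {a b} hab => ?_⟩
          by_contra h
          exact hcon ⟨a, b, hab, fun ha => h (Or.inl ha), fun hb => h (Or.inr hb)⟩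
        exact step_nonprime' J a b hab (ih _ (Submodule.lt_sup_iff_notMem.mpr ha))
          (ih _ (Submodule.lt_sup_iff_notMem.mpr hb)) hJN hD x hx

-- **Main algebraic theorem, family version.**
theorem eq_zero_of_forall_rTensor_eq_zero [IsNoetherianRing A₀] [Module.Flat A₀ M₀]
    (hGF : GenFree A₀ M₀) (hD : JointInj ψ) (x : N ⊗[A₀] M₀)
    (hx : ∀ l, ((ψ l).restrictScalars A₀).rTensor M₀ x = 0) : x = 0 :=
  propQ_of_genFree hGF ⊥ A N Λ Nl ψ
    (fun j hj n => by rw [(Submodule.mem_bot A₀).mp hj, zero_smul]) hD x hx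

end Induction

end Groth.Agent.Lib.Helper20.SchDenseFlat
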