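import Mathlib
import Groth.Agent.Lib.Helper20.SchDomCore
import Groth.Agent.Lib.Helper20.SchDenseFlat

/-!
# Flat finitely presented base change of schematically dominant families (helper20)

`eq_zero_of_flat_finitePresentation_module_family`: `A → B` finitely presented, `M` a finitely
presented `B`-module flat over `A`, `ψ l : A →ₗ[A] Cl l` a family with `JointInj ψ`.  If
`ψ l 1 ⊗ m = 0` in `Cl l ⊗[A] M` for all `l`, then `m = 0` (EGA IV 11.10.5 (ii), f.p. case).
-/

set_option autoImplicit false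

namespace Groth.Agent.Lib.Helper20.SchDenseFlat

open TensorProduct

universe u

theorem cancelBaseChange_one_tmul {R₀ A M₀ C : Type u} [CommRing R₀] [CommRing A] [Algebra R₀ A]
    [AddCommGroup M₀] [Module R₀ M₀] [AddCommGroup C] [Module A C] [Module R₀ C]
    [IsScalarTower R₀ A C] (ψ : A →ₗ[A] C) (z : A ⊗[R₀] M₀) :
    TensorProduct.AlgebraTensorModule.cancelBaseChange R₀ A A C M₀ (ψ 1 ⊗ₜ[A] z) =
      (ψ.restrictScalars R₀).rTensor M₀ z := by
  induction z using TensorProduct.induction_on with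
  | zero => rw [TensorProduct.tmul_zero, map_zero, map_zero]
  | tmul a m₀ =>
    rw [TensorProduct.AlgebraTensorModule.cancelBaseChange_tmul, LinearMap.rTensor_tmul,
      LinearMap.restrictScalars_apply, ← map_smul, smul_eq_mul, mul_one]
  | add z₁ z₂ h₁ h₂ => rw [TensorProduct.tmul_add, map_add, map_add, h₁, h₂]

theorem eq_zero_of_flat_finitePresentation_module_family {A B M : Type u} [CommRing A] [CommRing B]
    [Algebra A B] [Algebra.FinitePresentation A B] [AddCommGroup M] [Module B M] [Module A M]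
    [IsScalarTower A B M] [Module.FinitePresentation B M] [Module.Flat A M]
    {Λ : Type u} {Cl : Λ → Type u} [∀ l, AddCommGroup (Cl l)] [∀ l, Module A (Cl l)]
    (ψ : ∀ l, A →ₗ[A] Cl l) (hD : JointInj ψ) (m : M)
    (hm : ∀ l, (ψ l 1) ⊗ₜ[A] m = (0 : Cl l ⊗[A] M)) : m = 0 := by
  obtain ⟨R₀, iR₀, algR₀A, S₀, iS₀, algR₀S₀, algS₀B, algR₀B, tow1, tow2, M₀, iM₀, modS₀M₀, modR₀M₀,
    tow3, modS₀M, tow4, f, hR₀, hS₀, hfin, hflat, hpush, hbc⟩ :=
    Groth.Agent.H76.FlatModel.exists_flat_model A B M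
  haveI : IsNoetherianRing R₀ := Algebra.FiniteType.isNoetherianRing ℤ R₀
  have hGF : GenFree R₀ M₀ := genFree_of_finite R₀ S₀ M₀
  letI modC : ∀ l, Module R₀ (Cl l) := fun l => Module.compHom (Cl l) (algebraMap R₀ A)
  haveI towC : ∀ l, IsScalarTower R₀ A (Cl l) := fun l =>
    IsScalarTower.of_algebraMap_smul fun _ _ => rfl
  let Ψ₁ : B ⊗[S₀] M₀ ≃ₗ[B] M := hbc.equiv
  let Ψ₂ : B ⊗[S₀] M₀ ≃ₗ[A] A ⊗[R₀] M₀ := Algebra.IsPushout.cancelBaseChange R₀ A S₀ B M₀
  have hΨ₁ : ∀ (t : A) (z : B ⊗[S₀] M₀), Ψ₁ (t • z) = t • Ψ₁ z := by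
    intro t z
    rw [← algebraMap_smul B t z, map_smul, algebraMap_smul]
  -- the `A`-linear identification `M → A ⊗[R₀] M₀`
  let Ψ : M →ₗ[A] A ⊗[R₀] M₀ :=
    { toFun := fun m => Ψ₂ (Ψ₁.symm m)
      map_add' := fun x y => by rw [map_add, map_add]
      map_smul' := fun t x => by
        rw [RingHom.id_apply, ← map_smul]
        congr 1
        apply Ψ₁.injective
        rw [hΨ₁, LinearEquiv.apply_symm_apply, LinearEquiv.apply_symm_apply] }
  have key : Ψ m = 0 := by
    refine eq_zero_of_forall_rTensor_eq_zero (A₀ := R₀) (M₀ := M₀) (A := A) (N := A) (ψ := ψ)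
      hGF hD _ ?_
    intro l
    rw [← cancelBaseChange_one_tmul]
    have h1 : (ψ l 1) ⊗ₜ[A] (Ψ m) = (LinearMap.lTensor (Cl l) Ψ) ((ψ l 1) ⊗ₜ[A] m) := by
      rw [LinearMap.lTensor_tmul]
    rw [h1, hm l, map_zero, map_zero]
  have h1 : Ψ₁.symm m = 0 := Ψ₂.injective (by rw [map_zero]; exact key)
  have := congrArg Ψ₁ h1
  rwa [LinearEquiv.apply_symm_apply, map_zero] at this

end Groth.Agent.Lib.Helper20.SchDenseFlat
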