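import Mathlib
import Groth.Agent.Lib.Helper20.SchDomFlat

/-!
# Flat finitely presented base change of separating families of module maps (helper20)

`eq_zero_of_flat_finitePresentation_lTensor`: `A → B` flat of finite presentation, `ψ l : N →ₗ[A] Nl l`
a family of `A`-linear maps with `JointInj ψ`.  If `x : B ⊗[A] N` is killed by every `B ⊗ ψ l`,
then `x = 0` (EGA IV 11.9.?, f.p. case; module version of `SchDomFlat`).
-/

set_option autoImplicit false

namespace Groth.Agent.Lib.Helper20.SchDenseFlat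

open TensorProduct

universe u

section Theta

variable {R₀ A B M₀ : Type u} [CommRing R₀] [CommRing A] [Algebra R₀ A] [AddCommGroup B] [Module A B]
  [AddCommGroup M₀] [Module R₀ M₀] (Ψ : B ≃ₗ[A] A ⊗[R₀] M₀)

-- the identification `B ⊗[A] P ≃ P ⊗[R₀] M₀`
noncomputable def theta (P : Type u) [AddCommGroup P] [Module A P] [Module R₀ P]
    [IsScalarTower R₀ A P] : B ⊗[A] P ≃ₗ[A] P ⊗[R₀] M₀ :=
  (LinearEquiv.rTensor P Ψ).trans ((TensorProduct.comm A (A ⊗[R₀] M₀) P).trans
    (TensorProduct.AlgebraTensorModule.cancelBaseChange R₀ A A P M₀))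

theorem cancelBaseChange_map_tmul {P Q : Type u} [AddCommGroup P] [Module A P] [Module R₀ P]
    [IsScalarTower R₀ A P] [AddCommGroup Q] [Module A Q] [Module R₀ Q] [IsScalarTower R₀ A Q]
    (ψ : P →ₗ[A] Q) (p : P) (z : A ⊗[R₀] M₀) :
    TensorProduct.AlgebraTensorModule.cancelBaseChange R₀ A A Q M₀ (ψ p ⊗ₜ[A] z) =
      (ψ.restrictScalars R₀).rTensor M₀
        (TensorProduct.AlgebraTensorModule.cancelBaseChange R₀ A A P M₀ (p ⊗ₜ[A] z)) := by
  induction z using TensorProduct.induction_on with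
  | zero => rw [TensorProduct.tmul_zero, TensorProduct.tmul_zero, map_zero, map_zero, map_zero]
  | tmul a m₀ =>
    rw [TensorProduct.AlgebraTensorModule.cancelBaseChange_tmul,
      TensorProduct.AlgebraTensorModule.cancelBaseChange_tmul, LinearMap.rTensor_tmul,
      LinearMap.restrictScalars_apply, map_smul]
  | add z₁ z₂ h₁ h₂ =>
    rw [TensorProduct.tmul_add, TensorProduct.tmul_add, map_add, map_add, map_add, h₁, h₂]

theorem theta_naturality {P Q : Type u} [AddCommGroup P] [Module A P] [Module R₀ P]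
    [IsScalarTower R₀ A P] [AddCommGroup Q] [Module A Q] [Module R₀ Q] [IsScalarTower R₀ A Q]
    (ψ : P →ₗ[A] Q) (y : B ⊗[A] P) :
    theta Ψ Q (ψ.lTensor B y) = (ψ.restrictScalars R₀).rTensor M₀ (theta Ψ P y) := by
  induction y using TensorProduct.induction_on with
  | zero => rw [map_zero, map_zero, map_zero, map_zero]
  | tmul b p =>
    rw [LinearMap.lTensor_tmul]
    simp only [theta, LinearEquiv.trans_apply, LinearEquiv.rTensor_tmul, TensorProduct.comm_tmul]
    exact cancelBaseChange_map_tmul ψ p (Ψ b)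
  | add y₁ y₂ h₁ h₂ => rw [map_add, map_add, map_add, map_add, h₁, h₂]

include Ψ in
theorem eq_zero_of_theta [IsNoetherianRing R₀] [Module.Flat R₀ M₀] (hGF : GenFree R₀ M₀)
    {N : Type u} [AddCommGroup N] [Module A N] [Module R₀ N] [IsScalarTower R₀ A N]
    {Λ : Type u} {Nl : Λ → Type u} [∀ l, AddCommGroup (Nl l)] [∀ l, Module A (Nl l)]
    [∀ l, Module R₀ (Nl l)] [∀ l, IsScalarTower R₀ A (Nl l)]
    (ψ : ∀ l, N →ₗ[A] Nl l) (hD : JointInj ψ) (x : B ⊗[A] N)
    (hx : ∀ l, (ψ l).lTensor B x = 0) : x = 0 := by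
  have key : theta Ψ N x = 0 := by
    refine eq_zero_of_forall_rTensor_eq_zero (A₀ := R₀) (M₀ := M₀) (A := A) (N := N) (ψ := ψ)
      hGF hD _ ?_
    intro l
    rw [← theta_naturality, hx l, map_zero]
  exact (theta Ψ N).injective (by rw [key, map_zero])

end Theta

theorem eq_zero_of_flat_finitePresentation_lTensor {A B M : Type u} [CommRing A] [CommRing B]
    [Algebra A B] [Algebra.FinitePresentation A B] [AddCommGroup M] [Module B M] [Module A M]
    [IsScalarTower A B M] [Module.FinitePresentation B M] [Module.Flat A M]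
    {N : Type u} [AddCommGroup N] [Module A N]
    {Λ : Type u} {Nl : Λ → Type u} [∀ l, AddCommGroup (Nl l)] [∀ l, Module A (Nl l)]
    (ψ : ∀ l, N →ₗ[A] Nl l) (hD : JointInj ψ) (x : M ⊗[A] N)
    (hx : ∀ l, (ψ l).lTensor M x = 0) : x = 0 := by
  obtain ⟨R₀, iR₀, algR₀A, S₀, iS₀, algR₀S₀, algS₀B, algR₀B, tow1, tow2, M₀, iM₀, modS₀M₀, modR₀M₀,
    tow3, modS₀M, tow4, f, hR₀, hS₀, hfin, hflat, hpush, hbc⟩ :=
    Groth.Agent.H76.FlatModel.exists_flat_model A B M
  haveI : IsNoetherianRing R₀ := Algebra.FiniteType.isNoetherianRing ℤ R₀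
  have hGF : GenFree R₀ M₀ := genFree_of_finite R₀ S₀ M₀
  letI modN : Module R₀ N := Module.compHom N (algebraMap R₀ A)
  haveI towN : IsScalarTower R₀ A N := IsScalarTower.of_algebraMap_smul fun _ _ => rfl
  letI modC : ∀ l, Module R₀ (Nl l) := fun l => Module.compHom (Nl l) (algebraMap R₀ A)
  haveI towC : ∀ l, IsScalarTower R₀ A (Nl l) := fun l =>
    IsScalarTower.of_algebraMap_smul fun _ _ => rfl
  let Ψ₁ : B ⊗[S₀] M₀ ≃ₗ[B] M := hbc.equiv
  let Ψ₂ : B ⊗[S₀] M₀ ≃ₗ[A] A ⊗[R₀] M₀ := Algebra.IsPushout.cancelBaseChange R₀ A S₀ B M₀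
  have hΨ₁ : ∀ (t : A) (z : B ⊗[S₀] M₀), Ψ₁ (t • z) = t • Ψ₁ z := by
    intro t z
    rw [← algebraMap_smul B t z, map_smul, algebraMap_smul]
  let Ψ₁' : B ⊗[S₀] M₀ ≃ₗ[A] M :=
    { Ψ₁.toAddEquiv with
      map_smul' := fun t z => hΨ₁ t z }
  exact eq_zero_of_theta (Ψ₁'.symm.trans Ψ₂) hGF ψ hD x hx

end Groth.Agent.Lib.Helper20.SchDenseFlat
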