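import Groth.Agent.Lib.Helper20.SepChart
import Groth.Agent.Lib.Helper20.SepFlat

/-!
# Pullback of separating families along flat lfp morphisms (helper20)

`isSeparating_pullback_of_flat_lfp`: EGA IV 11.9, case `Z_λ = X`.  Also `jointInj_of_isSeparating`,
`lTensor_extEquiv`, `isBasis_affine_charts`.
-/

set_option autoImplicit false
universe u

open AlgebraicGeometry CategoryTheory TensorProduct Opposite

namespace Groth.Agent.Lib.Helper20.SepChart

open Groth.Agent.Lib.Helper11.PullbackChart Groth.Agent.Lib.Helper11 Groth.Agent.Lib.Helper49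
  Groth.Agent.Lib.Helper16.FlatPull Groth.Agent.Lib.Helper20.SchDenseFlat

section JI

variable {X : Scheme.{u}} {U : X.Opens} (hU : IsAffineOpen U) {F : X.Modules} [F.IsQuasicoherent]
  {ι : Type u} {G : ι → X.Modules} (u : ∀ i, F ⟶ G i)

omit [F.IsQuasicoherent] in
theorem sectionsEquiv_smul (a : Γ(X, U)) (n : (ΓU hU).obj F) :
    sectionsFromSpecTopEquiv hU F (a • n) = a • sectionsFromSpecTopEquiv hU F n :=
  (sectionsFromSpecTopEquiv hU F).map_smul a n

/-- sections over an affine open of a separating family satisfy `JointInj` -/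
theorem jointInj_of_isSeparating (h : IsSeparating u) :
    JointInj (A := Γ(X, U)) (N := (ΓU hU).obj F) (Nl := fun i => (ΓU hU).obj (G i))
      (fun i => ((ΓU hU).map (u i)).hom) := by
  intro a n hn
  -- transport to sections over `U`
  set n' : Γ(F, U) := sectionsFromSpecTopEquiv hU F n with hn'
  have hres : F.presheaf.map (homOfLE (X.basicOpen_le a)).op n' = 0 := by
    refine h (X.basicOpen a) _ (fun i => ?_)
    rw [app_map_apply]
    obtain ⟨k, hk⟩ := hn i
    have hk' : a ^ k • (u i).app U n' = 0 := by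
      have h1 : ((ΓU hU).map (u i)).hom (a ^ k • n) = 0 := by
        rw [map_smul]; exact hk
      have h2 := (ΓU_map_eq_zero_iff hU (u i) (a ^ k • n)).mp h1
      rw [sectionsEquiv_smul, Scheme.Modules.Hom.app_smul] at h2
      exact h2
    have h3 := congrArg ((G i).presheaf.map (homOfLE (X.basicOpen_le a)).op) hk'
    rw [Scheme.Modules.map_smul, map_zero, map_pow] at h3
    have hunit : IsUnit (X.presheaf.map (homOfLE (X.basicOpen_le a)).op a) :=
      RingedSpace.isUnit_res_basicOpen _ a
    exact ((hunit.pow k).smul_eq_zero).mp h3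
  obtain ⟨m, hm⟩ := Groth.Agent.Lib.Helper45.exists_pow_smul_eq_zero_of_restrict_eq_zero hU F a n'
    hres
  refine ⟨m, ?_⟩
  have h4 : sectionsFromSpecTopEquiv hU F (a ^ m • n) = sectionsFromSpecTopEquiv hU F 0 := by
    rw [sectionsEquiv_smul, map_zero]
    exact hm
  exact (sectionsFromSpecTopEquiv hU F).injective h4

end JI

section FlatFP

set_option backward.isDefEq.respectTransparency false in
theorem lTensor_extEquiv {R S : Type u} [CommRing R] [CommRing S] (f : R →+* S)
    {M M' : ModuleCat.{u} R} (l : M ⟶ M') (x : (ModuleCat.extendScalars f).obj M) :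
    letI := f.toAlgebra
    (l.hom.lTensor S) (extEquiv f M x) =
      extEquiv f M' (((ModuleCat.extendScalars f).map l).hom x) := by
  letI := f.toAlgebra
  obtain ⟨y, rfl⟩ := (extEquiv f M).symm.surjective x
  induction y using TensorProduct.induction_on with
  | zero => simp only [map_zero]
  | tmul s m =>
    have h1 : (extEquiv f M) ((extEquiv f M).symm (s ⊗ₜ[R] m)) = s ⊗ₜ[R] m :=
      LinearEquiv.apply_symm_apply _ _
    rw [h1, LinearMap.lTensor_tmul]
    exact (ModuleCat.ExtendScalars.map_tmul f l s m).symm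
  | add y₁ y₂ h₁ h₂ => simp only [map_add, h₁, h₂]

variable {X' X : Scheme.{u}} (g : X' ⟶ X) {U : X.Opens} (hU : IsAffineOpen U) {W : X'.Opens}
  (hW : IsAffineOpen W) (hWU : W ≤ g ⁻¹ᵁ U) {F : X.Modules} [F.IsQuasicoherent]
  {ι : Type u} {G : ι → X.Modules} [∀ i, (G i).IsQuasicoherent] (u : ∀ i, F ⟶ G i)

omit [∀ i, (G i).IsQuasicoherent] in
include hW in
theorem extendScalars_sep_of_flat_fp [Flat g] [LocallyOfFinitePresentation g]
    (h : IsSeparating u)
    (x : ((ModuleCat.extendScalars (g.appLE U W hWU).hom).obj ((ΓU hU).obj F)))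
    (hx : ∀ i,
      ((ModuleCat.extendScalars (g.appLE U W hWU).hom).map ((ΓU hU).map (u i))).hom x = 0) :
    x = 0 := by
  have hflat : (g.appLE U W hWU).hom.Flat :=
    HasRingHomProperty.appLE @Flat g inferInstance ⟨U, hU⟩ ⟨W, hW⟩ hWU
  have hfp : (g.appLE U W hWU).hom.FinitePresentation :=
    HasRingHomProperty.appLE @LocallyOfFinitePresentation g inferInstance ⟨U, hU⟩ ⟨W, hW⟩ hWU
  algebraize [(g.appLE U W hWU).hom]
  have hJ := jointInj_of_isSeparating hU u h
  have key : extEquiv (g.appLE U W hWU).hom ((ΓU hU).obj F) x = 0 := by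
    refine eq_zero_of_flat_finitePresentation_lTensor (A := Γ(X, U)) (B := Γ(X', W))
      (M := Γ(X', W)) (N := (ΓU hU).obj F) (fun i => ((ΓU hU).map (u i)).hom) hJ _ (fun i => ?_)
    have := lTensor_extEquiv (g.appLE U W hWU).hom ((ΓU hU).map (u i)) x
    rw [hx i, map_zero] at this
    exact this
  exact (extEquiv (g.appLE U W hWU).hom ((ΓU hU).obj F)).injective (key.trans (map_zero _).symm)

omit [F.IsQuasicoherent] in
/-- affine opens of `X'` mapping into an affine open of `X` form a basis -/
theorem isBasis_affine_charts :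
    TopologicalSpace.Opens.IsBasis
      {W : X'.Opens | IsAffineOpen W ∧ ∃ U : X.Opens, IsAffineOpen U ∧ W ≤ g ⁻¹ᵁ U} := by
  rw [TopologicalSpace.Opens.isBasis_iff_nbhd]
  intro V x hx
  obtain ⟨U, hU, hxU, -⟩ := TopologicalSpace.Opens.isBasis_iff_nbhd.mp X.isBasis_affineOpens
    (show g x ∈ (⊤ : X.Opens) from trivial)
  obtain ⟨W, hW, hxW, hWle⟩ := TopologicalSpace.Opens.isBasis_iff_nbhd.mp
    X'.isBasis_affineOpens (show x ∈ V ⊓ g ⁻¹ᵁ U from ⟨hx, hxU⟩)
  exact ⟨W, ⟨hW, U, hU, hWle.trans inf_le_right⟩, hxW, hWle.trans inf_le_left⟩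

/-- **EGA IV 11.9 (case `Z_λ = X`)**: a separating family of homomorphisms of quasi-coherent
modules stays separating after a flat base change locally of finite presentation. -/
theorem isSeparating_pullback_of_flat_lfp [Flat g] [LocallyOfFinitePresentation g]
    (h : IsSeparating u) :
    IsSeparating (fun i => (Scheme.Modules.pullback g).map (u i)) := by
  refine isSeparating_of_basis _ _ (isBasis_affine_charts g) ?_
  rintro W ⟨hW, U, hU, hWU⟩ t ht
  exact eq_zero_of_chart g hU hW hWU u
    (fun x hx => extendScalars_sep_of_flat_fp g hU hW hWU u h x hx) t ht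

end FlatFP

end Groth.Agent.Lib.Helper20.SepChart
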