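import Mathlib
import Groth.Agent.Lib.Helper20.SepPull

/-!
# Faithfully flat descent of separating families (helper20)

* `not_ker_toSpanSingleton_le_comap`: if `1 ⊗ n = 0` in `B ⊗ M` with `B` flat then `Ann(n)` lies in
  no prime of `A` coming from `B`.
* `extendScalars_sep_of_isSeparating_pullback`: converse of `eq_zero_of_chart`.
* `isSeparating_of_pullback_of_flat_surjective`: EGA IV 11.9, descent along a flat surjection.
-/

set_option autoImplicit false

namespace Groth.Agent.Lib.Helper20.SchDenseFlat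

open TensorProduct

-- if `1 ⊗ n = 0` in `B ⊗ M` with `B` flat, then `Ann(n) B = B`
theorem not_ker_toSpanSingleton_le_comap {A B : Type*} [CommRing A] [CommRing B] [Algebra A B]
    [Module.Flat A B] {M : Type*} [AddCommGroup M] [Module A M] (n : M)
    (h : (1 : B) ⊗ₜ[A] n = 0) (q : Ideal B) [hq : q.IsPrime] :
    ¬ (LinearMap.ker (LinearMap.toSpanSingleton A M n) ≤ q.comap (algebraMap A B)) := by
  intro hle
  set I : Ideal A := LinearMap.ker (LinearMap.toSpanSingleton A M n) with hI
  -- the injection `A ⧸ I → M`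
  let j : (A ⧸ I) →ₗ[A] M := Submodule.liftQ I (LinearMap.toSpanSingleton A M n) le_rfl
  have hj : Function.Injective j := by
    rw [← LinearMap.ker_eq_bot]
    exact Submodule.ker_liftQ_eq_bot _ _ _ le_rfl
  have hjB : Function.Injective (j.lTensor B) :=
    Module.Flat.lTensor_preserves_injective_linearMap j hj
  have h1 : (1 : B) ⊗ₜ[A] (Ideal.Quotient.mk I 1) = 0 := by
    apply hjB
    rw [LinearMap.lTensor_tmul, map_zero]
    have : j (Ideal.Quotient.mk I 1) = n := by
      change (Submodule.liftQ I (LinearMap.toSpanSingleton A M n) le_rfl) (Submodule.Quotient.mk 1) = n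
      rw [Submodule.liftQ_apply, LinearMap.toSpanSingleton_apply, one_smul]
    rw [this, h]
  have h2 := congrArg (TensorProduct.tensorQuotEquivQuotSMul B I) h1
  rw [TensorProduct.tensorQuotEquivQuotSMul_tmul_mk, map_zero, one_smul,
    Submodule.Quotient.mk_eq_zero] at h2
  have hsub : (I • (⊤ : Submodule A B)) ≤ q.restrictScalars A := by
    rw [Submodule.smul_le]
    intro r hr b _
    rw [Submodule.restrictScalars_mem, Algebra.smul_def]
    exact q.mul_mem_right _ (hle hr)
  exact hq.ne_top ((Ideal.eq_top_iff_one q).mpr (hsub h2))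

end Groth.Agent.Lib.Helper20.SchDenseFlat

namespace Groth.Agent.Lib.Helper20.SepChart

open AlgebraicGeometry CategoryTheory TensorProduct Opposite

open Groth.Agent.Lib.Helper11.PullbackChart Groth.Agent.Lib.Helper11 Groth.Agent.Lib.Helper49
  Groth.Agent.Lib.Helper16.FlatPull Groth.Agent.Lib.Helper20.SchDenseFlat

universe u

variable {X' X : Scheme.{u}} (g : X' ⟶ X) {U : X.Opens} (hU : IsAffineOpen U) {W : X'.Opens}
  (hW : IsAffineOpen W) (hWU : W ≤ g ⁻¹ᵁ U) {F : X.Modules} [F.IsQuasicoherent]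
  {ι : Type u} {G : ι → X.Modules} [∀ i, (G i).IsQuasicoherent] (u : ∀ i, F ⟶ G i)

include hW in
/-- converse of `eq_zero_of_chart` -/
theorem extendScalars_sep_of_isSeparating_pullback
    (h : IsSeparating (fun i => (Scheme.Modules.pullback g).map (u i)))
    (x : ((ModuleCat.extendScalars (g.appLE U W hWU).hom).obj ((ΓU hU).obj F)))
    (hx : ∀ i,
      ((ModuleCat.extendScalars (g.appLE U W hWU).hom).map ((ΓU hU).map (u i))).hom x = 0) :
    x = 0 := by
  obtain ⟨t₁, rfl⟩ :=
    (ConcreteCategory.bijective_of_isIso (sectionsArrowIso g hU hW hWU (𝟙 F)).hom.left).2 x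
  have h1 : ∀ i, ((ΓU hW).map ((Scheme.Modules.pullback g).map (u i))).hom t₁ = 0 := by
    intro i
    have hw := sectionsArrowIso_w g hU hW hWU (u i) t₁
    have hinj : Function.Injective (sectionsArrowIso g hU hW hWU (u i)).hom.right.hom :=
      (ConcreteCategory.bijective_of_isIso (sectionsArrowIso g hU hW hWU (u i)).hom.right).1
    exact (injective_iff_map_eq_zero _).mp hinj _ (hw.symm.trans (hx i))
  have h2 : sectionsFromSpecTopEquiv hW ((Scheme.Modules.pullback g).obj F) t₁ = 0 :=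
    h W _ (fun i => (ΓU_map_eq_zero_iff hW _ t₁).mp (h1 i))
  have h3 : t₁ = 0 :=
    (sectionsFromSpecTopEquiv hW ((Scheme.Modules.pullback g).obj F)).injective
      (h2.trans (map_zero _).symm)
  rw [h3]
  exact map_zero _

/-- **Faithfully flat descent of separating families** (EGA IV 11.9, case `Z_λ = X`). -/
theorem isSeparating_of_pullback_of_flat_surjective [Flat g] [Surjective g]
    (h : IsSeparating (fun i => (Scheme.Modules.pullback g).map (u i))) : IsSeparating u := by
  refine isSeparating_of_basis u {U : X.Opens | IsAffineOpen U} X.isBasis_affineOpens ?_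
  intro U (hU : IsAffineOpen U) t ht
  obtain ⟨n₁, rfl⟩ := (sectionsFromSpecTopEquiv hU F).surjective t
  have hn₁ : ∀ i, ((ΓU hU).map (u i)).hom n₁ = 0 :=
    fun i => (ΓU_map_eq_zero_iff hU (u i) n₁).mpr (ht i)
  suffices hsuff : n₁ = 0 by rw [hsuff, map_zero]
  by_contra hne
  let I : Ideal Γ(X, U) := LinearMap.ker (LinearMap.toSpanSingleton Γ(X, U) ((ΓU hU).obj F) n₁)
  have hI : I ≠ ⊤ := by
    intro htop
    have h1 : (1 : Γ(X, U)) ∈ I := htop ▸ Submodule.mem_top
    rw [LinearMap.mem_ker, LinearMap.toSpanSingleton_apply, one_smul] at h1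
    exact hne h1
  obtain ⟨m, hm, hIm⟩ := Ideal.exists_le_maximal I hI
  let p : Spec Γ(X, U) := ⟨m, hm.isPrime⟩
  obtain ⟨x', hx'⟩ := g.surjective (hU.fromSpec p)
  have hx'U : x' ∈ g ⁻¹ᵁ U := by
    change g x' ∈ U
    rw [hx']
    have : hU.fromSpec p ∈ Set.range hU.fromSpec := ⟨p, rfl⟩
    rw [hU.range_fromSpec] at this
    exact this
  obtain ⟨W, hW, hxW, hWU⟩ := TopologicalSpace.Opens.isBasis_iff_nbhd.mp
    X'.isBasis_affineOpens hx'U
  obtain ⟨q, hq⟩ : ∃ q : Spec Γ(X', W), hW.fromSpec q = x' := by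
    have : x' ∈ Set.range hW.fromSpec := by rw [hW.range_fromSpec]; exact hxW
    exact this
  have hcomap : (Spec.map (g.appLE U W hWU)) q = p := by
    apply hU.fromSpec.isOpenEmbedding.injective
    rw [← Scheme.Hom.comp_apply, IsAffineOpen.SpecMap_appLE_fromSpec g hU hW hWU,
      Scheme.Hom.comp_apply, hq, hx']
  have hflat : (g.appLE U W hWU).hom.Flat :=
    HasRingHomProperty.appLE @Flat g inferInstance ⟨U, hU⟩ ⟨W, hW⟩ hWU
  algebraize [(g.appLE U W hWU).hom]
  -- `1 ⊗ n₁ = 0`
  have hy : (extEquiv (g.appLE U W hWU).hom ((ΓU hU).obj F)).symm ((1 : Γ(X', W)) ⊗ₜ n₁) = 0 := by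
    refine extendScalars_sep_of_isSeparating_pullback g hU hW hWU u h _ (fun i => ?_)
    have h2 := lTensor_extEquiv (g.appLE U W hWU).hom ((ΓU hU).map (u i))
      ((extEquiv (g.appLE U W hWU).hom ((ΓU hU).obj F)).symm ((1 : Γ(X', W)) ⊗ₜ n₁))
    rw [LinearEquiv.apply_symm_apply, LinearMap.lTensor_tmul, hn₁ i, tmul_zero] at h2
    exact (extEquiv (g.appLE U W hWU).hom ((ΓU hU).obj (G i))).injective
      (h2.symm.trans (map_zero _).symm)
  have hy' : ((1 : Γ(X', W)) ⊗ₜ[Γ(X, U)] n₁) = 0 := by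
    have := congrArg (extEquiv (g.appLE U W hWU).hom ((ΓU hU).obj F)) hy
    rwa [LinearEquiv.apply_symm_apply, map_zero] at this
  haveI : q.asIdeal.IsPrime := q.isPrime
  refine not_ker_toSpanSingleton_le_comap (A := Γ(X, U)) (B := Γ(X', W)) n₁ hy' q.asIdeal ?_
  have h3 : p.asIdeal = q.asIdeal.comap (algebraMap Γ(X, U) Γ(X', W)) := by
    rw [← hcomap]
    rfl
  rw [← h3]
  exact hIm

end Groth.Agent.Lib.Helper20.SepChart
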