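import Mathlib
import Groth.Agent.Lib.Helper24.SchDomField
import Groth.Agent.Lib.Helper20.SepFlat

/-!
# Separating families over a field: base change to an arbitrary algebra (helper20)

Module version of helper24's `SchDomField`: `k` a field, `A`, `B₀` `k`-algebras, `Ph` a localization
of `A ⊗ B₀` (or of a pushout `P`) away from one element, `ψ l : M → Nl l` with `JointInj ψ`; then an
element of `Ph ⊗[A] M` killed by every `Ph ⊗ ψ l` is zero
(`eq_zero_of_field_tensor_away_module`, `eq_zero_of_isPushout_field_away_module`).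
-/

set_option autoImplicit false
universe u
open TensorProduct

namespace Groth.Agent.Lib.Helper20.SepField

open Groth.Agent.Lib.Helper20.SchDenseFlat Groth.Agent.Lib.Helper24.SchDomField

section
variable {K A B₀ : Type u} [Field K] [CommRing A] [CommRing B₀] [Algebra K A] [Algebra K B₀]

/-- the `A`-linear map `A ⊗ B₁ → A ⊗ B₀` induced by a subalgebra -/
noncomputable def incl (B₁ : Subalgebra K B₀) : A ⊗[K] B₁ →ₗ[A] A ⊗[K] B₀ :=
  (Algebra.TensorProduct.map (AlgHom.id A A) B₁.val).toLinearMap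

theorem incl_apply (B₁ : Subalgebra K B₀) (z : A ⊗[K] B₁) :
    incl (A := A) B₁ z = Algebra.TensorProduct.map (AlgHom.id A A) B₁.val z := rfl

/-- the map `A ⊗ B₁ → A ⊗ B₂` for `B₁ ≤ B₂` -/
noncomputable def jmap {B₁ B₂ : Subalgebra K B₀} (h : B₁ ≤ B₂) : A ⊗[K] B₁ →ₗ[A] A ⊗[K] B₂ :=
  (Algebra.TensorProduct.map (AlgHom.id A A) (Subalgebra.inclusion h)).toLinearMap

theorem incl_comp_jmap {B₁ B₂ : Subalgebra K B₀} (h : B₁ ≤ B₂) :
    (incl (A := A) B₂) ∘ₗ (jmap h) = incl B₁ := by
  apply TensorProduct.AlgebraTensorModule.ext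
  intro a b
  simp [incl, jmap]

theorem incl_jmap_apply {B₁ B₂ : Subalgebra K B₀} (h : B₁ ≤ B₂) (z : A ⊗[K] B₁) :
    incl (A := A) B₂ (jmap h z) = incl B₁ z := by
  rw [← LinearMap.comp_apply, incl_comp_jmap]

/-- a retraction of `incl` (the base is a field) -/
theorem exists_retraction (B₁ : Subalgebra K B₀) :
    ∃ r : A ⊗[K] B₀ →ₗ[A] A ⊗[K] B₁, r ∘ₗ incl B₁ = LinearMap.id := by
  obtain ⟨ρ, hρ⟩ := LinearMap.exists_leftInverse_of_injective B₁.val.toLinearMap
    (LinearMap.ker_eq_bot.mpr Subtype.val_injective)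
  refine ⟨TensorProduct.AlgebraTensorModule.map (LinearMap.id : A →ₗ[A] A) ρ, ?_⟩
  apply TensorProduct.AlgebraTensorModule.ext
  intro a b
  have hb : ρ (b : B₀) = b := congrArg (fun f => f b) hρ
  simp [incl, hb]

variable {M : Type u} [AddCommGroup M] [Module A M]

theorem rTensor_incl_injective (B₁ : Subalgebra K B₀) (P : Type u) [AddCommGroup P] [Module A P] :
    Function.Injective ((incl (A := A) B₁).rTensor P) := by
  obtain ⟨r, hr⟩ := exists_retraction (A := A) B₁
  have h1 : (r.rTensor P) ∘ₗ ((incl (A := A) B₁).rTensor P) = LinearMap.id := by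
    rw [← LinearMap.rTensor_comp, hr, LinearMap.rTensor_id]
  exact Function.LeftInverse.injective (g := r.rTensor P) (fun z => congrArg (fun f => f z) h1)

theorem rTensor_incl_smul (B₁ : Subalgebra K B₀) (P : Type u) [AddCommGroup P] [Module A P]
    (b : A ⊗[K] B₁) (z : (A ⊗[K] B₁) ⊗[A] P) :
    (incl (A := A) B₁).rTensor P (b • z) = (incl B₁ b) • (incl (A := A) B₁).rTensor P z := by
  induction z using TensorProduct.induction_on with
  | zero => simp
  | tmul c p =>
    rw [TensorProduct.smul_tmul', LinearMap.rTensor_tmul, LinearMap.rTensor_tmul,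
      TensorProduct.smul_tmul', smul_eq_mul, smul_eq_mul, incl_apply, incl_apply, incl_apply,
      map_mul]
  | add z₁ z₂ h₁ h₂ => rw [smul_add, map_add, map_add, smul_add, h₁, h₂]

theorem exists_fg_mem_range (z : A ⊗[K] B₀) :
    ∃ B₁ : Subalgebra K B₀, B₁.FG ∧ z ∈ LinearMap.range (incl (A := A) B₁) := by
  obtain ⟨B₁, hB₁, z₁, _, hz₁, -⟩ := exists_fg_subalgebra_mem_range z z
  exact ⟨B₁, hB₁, z₁, hz₁⟩

theorem range_rTensor_incl_mono {B₁ B₂ : Subalgebra K B₀} (h : B₁ ≤ B₂) :
    LinearMap.range ((incl (A := A) B₁).rTensor M) ≤ LinearMap.range ((incl (A := A) B₂).rTensor M) := by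
  rw [← incl_comp_jmap h, LinearMap.rTensor_comp]
  exact LinearMap.range_comp_le_range _ _

theorem exists_fg_mem_range_rTensor (y : (A ⊗[K] B₀) ⊗[A] M) :
    ∃ B₁ : Subalgebra K B₀, B₁.FG ∧ y ∈ LinearMap.range ((incl (A := A) B₁).rTensor M) := by
  induction y using TensorProduct.induction_on with
  | zero => exact ⟨⊥, Subalgebra.fg_bot, Submodule.zero_mem _⟩
  | tmul z m =>
    obtain ⟨B₁, hB₁, z₁, hz₁⟩ := exists_fg_mem_range z
    exact ⟨B₁, hB₁, z₁ ⊗ₜ m, by rw [LinearMap.rTensor_tmul, hz₁]⟩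
  | add y₁ y₂ h₁ h₂ =>
    obtain ⟨B₁, hB₁, hy₁⟩ := h₁
    obtain ⟨B₂, hB₂, hy₂⟩ := h₂
    exact ⟨B₁ ⊔ B₂, hB₁.sup hB₂, Submodule.add_mem _ (range_rTensor_incl_mono le_sup_left hy₁)
      (range_rTensor_incl_mono le_sup_right hy₂)⟩

/-- naturality of the localization maps `R ⊗ P → Ph ⊗ P` -/
theorem lTensor_rTensor_comm {R Ph : Type u} [CommRing R] [Algebra A R] [CommRing Ph] [Algebra R Ph]
    [Algebra A Ph] [IsScalarTower A R Ph] {P Q : Type u} [AddCommGroup P] [Module A P]
    [AddCommGroup Q] [Module A Q] (ψ : P →ₗ[A] Q) (y : R ⊗[A] P) :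
    ψ.lTensor Ph (AlgebraTensorModule.rTensor A P (Algebra.linearMap R Ph) y) =
      AlgebraTensorModule.rTensor A Q (Algebra.linearMap R Ph) (ψ.lTensor R y) := by
  induction y using TensorProduct.induction_on with
  | zero => simp
  | tmul c p => simp
  | add y₁ y₂ h₁ h₂ => rw [map_add, map_add, map_add, map_add, h₁, h₂]

theorem lTensor_smul' {R : Type u} [CommRing R] [Algebra A R] {P Q : Type u} [AddCommGroup P]
    [Module A P] [AddCommGroup Q] [Module A Q] (ψ : P →ₗ[A] Q) (b : R) (y : R ⊗[A] P) :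
    ψ.lTensor R (b • y) = b • ψ.lTensor R y := by
  induction y using TensorProduct.induction_on with
  | zero => simp
  | tmul c p => simp [TensorProduct.smul_tmul']
  | add y₁ y₂ h₁ h₂ => rw [smul_add, map_add, map_add, smul_add, h₁, h₂]

set_option maxHeartbeats 1600000 in
/-- **main algebraic theorem** (module version of `Helper24.eq_zero_of_field_tensor_away`) -/
theorem eq_zero_of_field_tensor_away_module
    (h : A ⊗[K] B₀) (Ph : Type u) [CommRing Ph] [Algebra (A ⊗[K] B₀) Ph] [IsLocalization.Away h Ph]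
    [Algebra A Ph] [IsScalarTower A (A ⊗[K] B₀) Ph]
    {Λ : Type u} {Nl : Λ → Type u} [∀ l, AddCommGroup (Nl l)] [∀ l, Module A (Nl l)]
    (ψ : ∀ l, M →ₗ[A] Nl l) (hD : JointInj ψ) (x : Ph ⊗[A] M)
    (hx : ∀ l, (ψ l).lTensor Ph x = 0) : x = 0 := by
  classical
  let g : (A ⊗[K] B₀) →ₗ[A ⊗[K] B₀] Ph := Algebra.linearMap (A ⊗[K] B₀) Ph
  have hlocM : IsLocalizedModule (Submonoid.powers h) (AlgebraTensorModule.rTensor A M g) :=
    inferInstance
  -- Step 0: reduce to `x` in the image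
  obtain ⟨⟨y, s⟩, hs⟩ := IsLocalizedModule.surj (Submonoid.powers h)
    (AlgebraTensorModule.rTensor A M g) x
  have hsx : ∀ l, (ψ l).lTensor Ph (AlgebraTensorModule.rTensor A M g y) = 0 := by
    intro l
    rw [← hs, Submonoid.smul_def, ← algebraMap_smul Ph (s : A ⊗[K] B₀) x, lTensor_smul', hx l,
      smul_zero]
  suffices hsuff : AlgebraTensorModule.rTensor A M g y = 0 by
    have hu := IsLocalizedModule.map_units (AlgebraTensorModule.rTensor A M g) s
    rw [hsuff] at hs
    have hinj := ((Module.End.isUnit_iff _).mp hu).injective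
    apply hinj
    rw [map_zero]
    exact hs
  -- Step 1
  have hk : ∀ l, ∃ k : ℕ, h ^ k • (ψ l).lTensor (A ⊗[K] B₀) y = 0 := by
    intro l
    have hlocN : IsLocalizedModule (Submonoid.powers h)
        (AlgebraTensorModule.rTensor A (Nl l) g) := inferInstance
    have hz : AlgebraTensorModule.rTensor A (Nl l) g ((ψ l).lTensor (A ⊗[K] B₀) y) = 0 := by
      rw [← lTensor_rTensor_comm]; exact hsx l
    obtain ⟨t, ht⟩ := (IsLocalizedModule.eq_zero_iff (Submonoid.powers h)
      (AlgebraTensorModule.rTensor A (Nl l) g)).mp hz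
    obtain ⟨k, hk⟩ := (Submonoid.mem_powers_iff _ _).mp t.2
    exact ⟨k, by rw [hk]; exact ht⟩
  choose k hk using hk
  -- Step 2: a finitely generated subalgebra
  obtain ⟨Bh, hBh, hh, hhh⟩ := exists_fg_mem_range h
  obtain ⟨By, hBy, yy, hyy⟩ := exists_fg_mem_range_rTensor y
  let B₁ : Subalgebra K B₀ := Bh ⊔ By
  have hB₁ : B₁.FG := hBh.sup hBy
  let h₁ : A ⊗[K] B₁ := jmap (le_sup_left : Bh ≤ B₁) hh
  have hh₁ : incl B₁ h₁ = h := by rw [incl_jmap_apply, hhh]
  let y₁ : (A ⊗[K] B₁) ⊗[A] M := (jmap (le_sup_right : By ≤ B₁)).rTensor M yy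
  have hy₁ : (incl (A := A) B₁).rTensor M y₁ = y := by
    rw [← LinearMap.comp_apply, ← LinearMap.rTensor_comp, incl_comp_jmap, hyy]
  have hft : Algebra.FiniteType K B₁ := (Subalgebra.fg_iff_finiteType B₁).mp hB₁
  -- Step 3: descend the relations
  have hk₁ : ∀ l, h₁ ^ k l • (ψ l).lTensor (A ⊗[K] B₁) y₁ = 0 := by
    intro l
    apply rTensor_incl_injective B₁ (Nl l)
    rw [map_zero, rTensor_incl_smul, incl_apply, map_pow, ← incl_apply, hh₁,
      ← LinearMap.comp_apply, LinearMap.rTensor_comp_lTensor, ← LinearMap.lTensor_comp_rTensor,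
      LinearMap.comp_apply, hy₁]
    exact hk l
  -- Step 4: the flat finitely presented case
  have hfpK : Algebra.FinitePresentation K B₁ := Algebra.FinitePresentation.of_finiteType.mp hft
  have hfp1 : Algebra.FinitePresentation A (A ⊗[K] B₁) := inferInstance
  have hfp2 : Algebra.FinitePresentation (A ⊗[K] B₁) (Localization.Away h₁) :=
    IsLocalization.Away.finitePresentation h₁
  have hfp : Algebra.FinitePresentation A (Localization.Away h₁) :=
    Algebra.FinitePresentation.trans A (A ⊗[K] B₁) (Localization.Away h₁)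
  have hfl1 : Module.Flat A (A ⊗[K] B₁) := inferInstance
  have hfl2 : Module.Flat (A ⊗[K] B₁) (Localization.Away h₁) :=
    IsLocalization.flat _ (Submonoid.powers h₁)
  have hfl : Module.Flat A (Localization.Away h₁) :=
    Module.Flat.trans A (A ⊗[K] B₁) (Localization.Away h₁)
  let g₁ : (A ⊗[K] B₁) →ₗ[A ⊗[K] B₁] Localization.Away h₁ :=
    Algebra.linearMap (A ⊗[K] B₁) (Localization.Away h₁)
  have hloc₁ : IsLocalizedModule (Submonoid.powers h₁) (AlgebraTensorModule.rTensor A M g₁) :=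
    inferInstance
  have hx₁ : AlgebraTensorModule.rTensor A M g₁ y₁ = 0 := by
    refine eq_zero_of_flat_finitePresentation_lTensor (A := A) (B := Localization.Away h₁)
      (M := Localization.Away h₁) ψ hD _ (fun l => ?_)
    rw [lTensor_rTensor_comm]
    have hlocN : IsLocalizedModule (Submonoid.powers h₁)
        (AlgebraTensorModule.rTensor A (Nl l) g₁) := inferInstance
    rw [IsLocalizedModule.eq_zero_iff (Submonoid.powers h₁)
      (AlgebraTensorModule.rTensor A (Nl l) g₁)]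
    exact ⟨⟨h₁ ^ k l, k l, rfl⟩, hk₁ l⟩
  obtain ⟨⟨_, N, rfl⟩, hN⟩ := (IsLocalizedModule.eq_zero_iff (Submonoid.powers h₁)
    (AlgebraTensorModule.rTensor A M g₁)).mp hx₁
  have hN' : h₁ ^ N • y₁ = 0 := hN
  -- conclude
  have hy0 : h ^ N • y = 0 := by
    have := congrArg ((incl (A := A) B₁).rTensor M) hN'
    rwa [rTensor_incl_smul, incl_apply, map_pow, ← incl_apply, hh₁, hy₁, map_zero] at this
  rw [IsLocalizedModule.eq_zero_iff (Submonoid.powers h) (AlgebraTensorModule.rTensor A M g)]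
  exact ⟨⟨h ^ N, N, rfl⟩, hy0⟩

end

/-- Pushout version. -/
theorem eq_zero_of_isPushout_field_away_module
    {K A B₀ P : Type u} [CommRing K] (hK : IsField K) [CommRing A] [CommRing B₀] [CommRing P]
    [Algebra K A] [Algebra K B₀] [Algebra A P] [Algebra B₀ P] [Algebra K P]
    [IsScalarTower K A P] [IsScalarTower K B₀ P] [Algebra.IsPushout K A B₀ P]
    (h : P) (Ph : Type u) [CommRing Ph] [Algebra P Ph] [IsLocalization.Away h Ph]
    [Algebra A Ph] [IsScalarTower A P Ph]
    {M : Type u} [AddCommGroup M] [Module A M]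
    {Λ : Type u} {Nl : Λ → Type u} [∀ l, AddCommGroup (Nl l)] [∀ l, Module A (Nl l)]
    (ψ : ∀ l, M →ₗ[A] Nl l) (hD : JointInj ψ) (x : Ph ⊗[A] M)
    (hx : ∀ l, (ψ l).lTensor Ph x = 0) : x = 0 := by
  let _ : Field K := hK.toField
  let e : A ⊗[K] B₀ ≃ₐ[A] P := Algebra.IsPushout.equiv K A B₀ P
  let e' : P ≃+* A ⊗[K] B₀ := (e.symm : P ≃+* A ⊗[K] B₀)
  let alg' : Algebra (A ⊗[K] B₀) Ph := ((algebraMap P Ph).comp e'.symm.toRingHom).toAlgebra
  have hloc : IsLocalization.Away (e' h) Ph := by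
    have := IsLocalization.isLocalization_of_base_ringEquiv (Submonoid.powers h) Ph e'
    rwa [Submonoid.map_powers] at this
  have tow : IsScalarTower A (A ⊗[K] B₀) Ph := by
    refine IsScalarTower.of_algebraMap_eq fun x => ?_
    change algebraMap A Ph x = algebraMap P Ph (e (algebraMap A (A ⊗[K] B₀) x))
    rw [e.commutes, ← IsScalarTower.algebraMap_apply]
  exact eq_zero_of_field_tensor_away_module (e' h) Ph ψ hD x hx

end Groth.Agent.Lib.Helper20.SepField
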