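import Mathlib
import Groth.Agent.Lib.Helper20.SepField

/-!
# Separating families: passage to the limit over finitely generated subalgebras (helper20)

Algebraic core of EGA IV 11.9.6 (case `Z_λ = X`): `K` a ring, `R`, `A'` `K`-algebras, `ψ l : M → Nl l`
`R`-linear with every `Nl l` flat over `K`.  If for every finitely generated `K`-subalgebra `B₁` of
`A'` the family `(R ⊗ B₁) ⊗ ψ` satisfies `JointInjBC`, then for any localization `Ph` of `R ⊗ A'`
(or of a pushout `P`) away from one element an element of `Ph ⊗[R] M` killed by every `Ph ⊗ ψ l` is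
zero (`eq_zero_of_forall_fg_subalgebra`, `eq_zero_of_isPushout_forall_fg`).
-/

set_option autoImplicit false
universe u
open TensorProduct

namespace Groth.Agent.Lib.Helper20.SepLimit

open Groth.Agent.Lib.Helper20.SchDenseFlat Groth.Agent.Lib.Helper20.SepField

/-- semilinearity of `j ⊗ M` for an algebra map `j` -/
theorem rTensor_algHom_smul {R P₁ P₂ : Type u} [CommRing R] [CommRing P₁] [CommRing P₂]
    [Algebra R P₁] [Algebra R P₂] (j : P₁ →ₐ[R] P₂) (M : Type u) [AddCommGroup M] [Module R M]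
    (b : P₁) (z : P₁ ⊗[R] M) :
    j.toLinearMap.rTensor M (b • z) = (j b) • j.toLinearMap.rTensor M z := by
  induction z using TensorProduct.induction_on with
  | zero => simp
  | tmul c p =>
    rw [TensorProduct.smul_tmul', LinearMap.rTensor_tmul, LinearMap.rTensor_tmul,
      TensorProduct.smul_tmul', smul_eq_mul, smul_eq_mul, AlgHom.toLinearMap_apply,
      AlgHom.toLinearMap_apply, map_mul]
  | add z₁ z₂ h₁ h₂ => rw [smul_add, map_add, map_add, smul_add, h₁, h₂]

/-- elementwise form of `JointInj` for the base change of a family to an `R`-algebra `P` -/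
def JointInjBC {R : Type u} [CommRing R] (P : Type u) [CommRing P] [Algebra R P]
    {M : Type u} [AddCommGroup M] [Module R M] {Λ : Type u} {Nl : Λ → Type u}
    [∀ l, AddCommGroup (Nl l)] [∀ l, Module R (Nl l)] (ψ : ∀ l, M →ₗ[R] Nl l) : Prop :=
  ∀ (h : P) (y : P ⊗[R] M), (∀ l, ∃ k : ℕ, h ^ k • (ψ l).lTensor P y = 0) → ∃ N : ℕ, h ^ N • y = 0

theorem JointInjBC.of_algEquiv {R P₁ P₂ : Type u} [CommRing R] [CommRing P₁] [CommRing P₂]
    [Algebra R P₁] [Algebra R P₂] (e : P₁ ≃ₐ[R] P₂)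
    {M : Type u} [AddCommGroup M] [Module R M] {Λ : Type u} {Nl : Λ → Type u}
    [∀ l, AddCommGroup (Nl l)] [∀ l, Module R (Nl l)] (ψ : ∀ l, M →ₗ[R] Nl l)
    (H : JointInjBC P₂ ψ) : JointInjBC P₁ ψ := by
  intro h y hy
  have key : ∀ (P : Type u) [AddCommGroup P] [Module R P] (z : P₁ ⊗[R] P) (k : ℕ),
      e.toAlgHom.toLinearMap.rTensor P (h ^ k • z) =
        (e h) ^ k • e.toAlgHom.toLinearMap.rTensor P z := by
    intro P _ _ z k
    rw [rTensor_algHom_smul, map_pow]
    rfl
  obtain ⟨N, hN⟩ := H (e h) (e.toAlgHom.toLinearMap.rTensor M y) (fun l => by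
    obtain ⟨k, hk⟩ := hy l
    refine ⟨k, ?_⟩
    have h1 : (ψ l).lTensor P₂ (e.toAlgHom.toLinearMap.rTensor M y) =
        e.toAlgHom.toLinearMap.rTensor (Nl l) ((ψ l).lTensor P₁ y) := by
      rw [← LinearMap.comp_apply, ← LinearMap.comp_apply, LinearMap.lTensor_comp_rTensor,
        LinearMap.rTensor_comp_lTensor]
    rw [h1, ← key, hk, map_zero])
  refine ⟨N, ?_⟩
  have hinj : Function.Injective (e.toAlgHom.toLinearMap.rTensor M) := by
    have : Function.Bijective (e.toLinearEquiv.rTensor M) := (e.toLinearEquiv.rTensor M).bijective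
    exact this.1
  apply hinj
  rw [key, hN, map_zero]

section
variable {K R A' : Type u} [CommRing K] [CommRing R] [CommRing A'] [Algebra K R] [Algebra K A']

/-- the `R`-algebra map `R ⊗ B₁ → R ⊗ A'` induced by a subalgebra -/
noncomputable def incl (B₁ : Subalgebra K A') : R ⊗[K] B₁ →ₐ[R] R ⊗[K] A' :=
  Algebra.TensorProduct.map (AlgHom.id R R) B₁.val

/-- the map `R ⊗ B₁ → R ⊗ B₂` for `B₁ ≤ B₂` -/
noncomputable def jmap {B₁ B₂ : Subalgebra K A'} (h : B₁ ≤ B₂) : R ⊗[K] B₁ →ₐ[R] R ⊗[K] B₂ :=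
  Algebra.TensorProduct.map (AlgHom.id R R) (Subalgebra.inclusion h)

theorem incl_jmap_apply {B₁ B₂ : Subalgebra K A'} (h : B₁ ≤ B₂) (z : R ⊗[K] B₁) :
    incl (R := R) B₂ (jmap h z) = incl B₁ z := by
  induction z using TensorProduct.induction_on with
  | zero => simp
  | tmul a b => simp [incl, jmap]
  | add z₁ z₂ h₁ h₂ => rw [map_add, map_add, map_add, h₁, h₂]

theorem incl_comp_jmap {B₁ B₂ : Subalgebra K A'} (h : B₁ ≤ B₂) :
    (incl (R := R) B₂).toLinearMap ∘ₗ (jmap h).toLinearMap = (incl B₁).toLinearMap := by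
  exact LinearMap.ext fun z => incl_jmap_apply h z

theorem exists_fg_mem_range (z : R ⊗[K] A') :
    ∃ B₁ : Subalgebra K A', B₁.FG ∧ z ∈ Set.range (incl (R := R) B₁) := by
  classical
  obtain ⟨N', hfin, hN'⟩ := TensorProduct.exists_finite_submodule_right_of_setFinite
    ({z} : Set (R ⊗[K] A')) (Set.toFinite _)
  obtain ⟨s, hs⟩ := Module.Finite.iff_fg.mp hfin
  let B₁ : Subalgebra K A' := Algebra.adjoin K (s : Set A')
  have hle : N' ≤ Subalgebra.toSubmodule B₁ := by
    rw [← hs]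
    exact Algebra.span_le_adjoin K _
  obtain ⟨w, hw⟩ := hN' (Set.mem_singleton z)
  refine ⟨B₁, Subalgebra.fg_adjoin_finset s, (Submodule.inclusion hle).lTensor R w, ?_⟩
  rw [← hw]
  clear hw
  induction w using TensorProduct.induction_on with
  | zero => simp
  | tmul a b => simp [incl]
  | add w₁ w₂ h₁ h₂ => rw [map_add, map_add, map_add, h₁, h₂]

variable {M : Type u} [AddCommGroup M] [Module R M]

theorem range_rTensor_incl_mono {B₁ B₂ : Subalgebra K A'} (h : B₁ ≤ B₂) :
    LinearMap.range ((incl (R := R) B₁).toLinearMap.rTensor M) ≤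
      LinearMap.range ((incl (R := R) B₂).toLinearMap.rTensor M) := by
  rw [← incl_comp_jmap h, LinearMap.rTensor_comp]
  exact LinearMap.range_comp_le_range _ _

theorem exists_fg_mem_range_rTensor (y : (R ⊗[K] A') ⊗[R] M) :
    ∃ B₁ : Subalgebra K A', B₁.FG ∧
      y ∈ LinearMap.range ((incl (R := R) B₁).toLinearMap.rTensor M) := by
  induction y using TensorProduct.induction_on with
  | zero => exact ⟨⊥, Subalgebra.fg_bot, Submodule.zero_mem _⟩
  | tmul z m =>
    obtain ⟨B₁, hB₁, z₁, hz₁⟩ := exists_fg_mem_range z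
    exact ⟨B₁, hB₁, z₁ ⊗ₜ m, by rw [LinearMap.rTensor_tmul, AlgHom.toLinearMap_apply, hz₁]⟩
  | add y₁ y₂ h₁ h₂ =>
    obtain ⟨B₁, hB₁, hy₁⟩ := h₁
    obtain ⟨B₂, hB₂, hy₂⟩ := h₂
    exact ⟨B₁ ⊔ B₂, hB₁.sup hB₂, Submodule.add_mem _ (range_rTensor_incl_mono le_sup_left hy₁)
      (range_rTensor_incl_mono le_sup_right hy₂)⟩

/-- the identification `(R ⊗ B) ⊗[R] N ≃ N ⊗[K] B` -/
noncomputable def theta' (B : Type u) [CommRing B] [Algebra K B] (N : Type u) [AddCommGroup N]
    [Module R N] [Module K N] [IsScalarTower K R N] : (R ⊗[K] B) ⊗[R] N ≃ₗ[R] N ⊗[K] B :=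
  (TensorProduct.comm R (R ⊗[K] B) N).trans
    (TensorProduct.AlgebraTensorModule.cancelBaseChange K R R N B)

theorem rTensor_incl_injective_of_flat (B₁ : Subalgebra K A') (N : Type u) [AddCommGroup N]
    [Module R N] [Module K N] [IsScalarTower K R N] [Module.Flat K N] :
    Function.Injective ((incl (R := R) B₁).toLinearMap.rTensor N) := by
  have hsq : ∀ z : (R ⊗[K] B₁) ⊗[R] N,
      theta' (R := R) A' N ((incl (R := R) B₁).toLinearMap.rTensor N z) =
        (B₁.val.toLinearMap.lTensor N) (theta' (R := R) B₁ N z) := by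
    intro z
    induction z using TensorProduct.induction_on with
    | zero => simp
    | tmul w n =>
      induction w using TensorProduct.induction_on with
      | zero => simp
      | tmul r b =>
        simp [theta', incl, TensorProduct.AlgebraTensorModule.cancelBaseChange_tmul]
      | add w₁ w₂ h₁ h₂ =>
        rw [TensorProduct.add_tmul, map_add, map_add, map_add, map_add, h₁, h₂]
    | add z₁ z₂ h₁ h₂ => rw [map_add, map_add, map_add, map_add, h₁, h₂]
  have hflat : Function.Injective (B₁.val.toLinearMap.lTensor N) :=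
    Module.Flat.lTensor_preserves_injective_linearMap (M := N) B₁.val.toLinearMap
      Subtype.val_injective
  intro z₁ z₂ hz
  apply (theta' (R := R) B₁ N).injective
  apply hflat
  rw [← hsq, ← hsq, hz]

set_option maxHeartbeats 1600000 in
/-- **main algebraic theorem** (EGA IV 11.9.6, algebraic core): reduction to finitely generated
subalgebras, the targets being flat over the base. -/
theorem eq_zero_of_forall_fg_subalgebra
    (h : R ⊗[K] A') (Ph : Type u) [CommRing Ph] [Algebra (R ⊗[K] A') Ph] [IsLocalization.Away h Ph]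
    [Algebra R Ph] [IsScalarTower R (R ⊗[K] A') Ph]
    {Λ : Type u} {Nl : Λ → Type u} [∀ l, AddCommGroup (Nl l)] [∀ l, Module R (Nl l)]
    [∀ l, Module K (Nl l)] [∀ l, IsScalarTower K R (Nl l)] [∀ l, Module.Flat K (Nl l)]
    (ψ : ∀ l, M →ₗ[R] Nl l)
    (Hfg : ∀ B₁ : Subalgebra K A', B₁.FG → JointInjBC (R ⊗[K] B₁) ψ)
    (x : Ph ⊗[R] M) (hx : ∀ l, (ψ l).lTensor Ph x = 0) : x = 0 := by
  classical
  let g : (R ⊗[K] A') →ₗ[R ⊗[K] A'] Ph := Algebra.linearMap (R ⊗[K] A') Ph
  have hlocM : IsLocalizedModule (Submonoid.powers h) (AlgebraTensorModule.rTensor R M g) :=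
    inferInstance
  -- Step 0: reduce to `x` in the image
  obtain ⟨⟨y, s⟩, hs⟩ := IsLocalizedModule.surj (Submonoid.powers h)
    (AlgebraTensorModule.rTensor R M g) x
  have hsx : ∀ l, (ψ l).lTensor Ph (AlgebraTensorModule.rTensor R M g y) = 0 := by
    intro l
    rw [← hs, Submonoid.smul_def, ← algebraMap_smul Ph (s : R ⊗[K] A') x, lTensor_smul', hx l,
      smul_zero]
  suffices hsuff : AlgebraTensorModule.rTensor R M g y = 0 by
    have hu := IsLocalizedModule.map_units (AlgebraTensorModule.rTensor R M g) s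
    rw [hsuff] at hs
    have hinj := ((Module.End.isUnit_iff _).mp hu).injective
    apply hinj
    rw [map_zero]
    exact hs
  -- Step 1
  have hk : ∀ l, ∃ k : ℕ, h ^ k • (ψ l).lTensor (R ⊗[K] A') y = 0 := by
    intro l
    have hlocN : IsLocalizedModule (Submonoid.powers h)
        (AlgebraTensorModule.rTensor R (Nl l) g) := inferInstance
    have hz : AlgebraTensorModule.rTensor R (Nl l) g ((ψ l).lTensor (R ⊗[K] A') y) = 0 := by
      rw [← lTensor_rTensor_comm]; exact hsx l
    obtain ⟨t, ht⟩ := (IsLocalizedModule.eq_zero_iff (Submonoid.powers h)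
      (AlgebraTensorModule.rTensor R (Nl l) g)).mp hz
    obtain ⟨k, hk⟩ := (Submonoid.mem_powers_iff _ _).mp t.2
    exact ⟨k, by rw [hk]; exact ht⟩
  choose k hk using hk
  -- Step 2: a finitely generated subalgebra
  obtain ⟨Bh, hBh, hh, hhh⟩ := exists_fg_mem_range h
  obtain ⟨By, hBy, yy, hyy⟩ := exists_fg_mem_range_rTensor y
  let B₁ : Subalgebra K A' := Bh ⊔ By
  have hB₁ : B₁.FG := hBh.sup hBy
  let h₁ : R ⊗[K] B₁ := jmap (le_sup_left : Bh ≤ B₁) hh
  have hh₁ : incl B₁ h₁ = h := by rw [incl_jmap_apply, hhh]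
  let y₁ : (R ⊗[K] B₁) ⊗[R] M := (jmap (le_sup_right : By ≤ B₁)).toLinearMap.rTensor M yy
  have hy₁ : (incl (R := R) B₁).toLinearMap.rTensor M y₁ = y := by
    rw [← LinearMap.comp_apply, ← LinearMap.rTensor_comp, incl_comp_jmap, hyy]
  -- Step 3: descend the relations
  have hk₁ : ∀ l, h₁ ^ k l • (ψ l).lTensor (R ⊗[K] B₁) y₁ = 0 := by
    intro l
    apply rTensor_incl_injective_of_flat B₁ (Nl l)
    rw [map_zero, rTensor_algHom_smul, map_pow, hh₁,
      ← LinearMap.comp_apply, LinearMap.rTensor_comp_lTensor, ← LinearMap.lTensor_comp_rTensor,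
      LinearMap.comp_apply, hy₁]
    exact hk l
  -- Step 4: the hypothesis for `B₁`
  obtain ⟨N, hN'⟩ := Hfg B₁ hB₁ h₁ y₁ (fun l => ⟨k l, hk₁ l⟩)
  -- conclude
  have hy0 : h ^ N • y = 0 := by
    have := congrArg ((incl (R := R) B₁).toLinearMap.rTensor M) hN'
    rwa [rTensor_algHom_smul, map_pow, hh₁, hy₁, map_zero] at this
  rw [IsLocalizedModule.eq_zero_iff (Submonoid.powers h) (AlgebraTensorModule.rTensor R M g)]
  exact ⟨⟨h ^ N, N, rfl⟩, hy0⟩

end

/-- Pushout version. -/
theorem eq_zero_of_isPushout_forall_fg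
    {K R A' P : Type u} [CommRing K] [CommRing R] [CommRing A'] [CommRing P]
    [Algebra K R] [Algebra K A'] [Algebra R P] [Algebra A' P] [Algebra K P]
    [IsScalarTower K R P] [IsScalarTower K A' P] [Algebra.IsPushout K R A' P]
    (h : P) (Ph : Type u) [CommRing Ph] [Algebra P Ph] [IsLocalization.Away h Ph]
    [Algebra R Ph] [IsScalarTower R P Ph]
    {M : Type u} [AddCommGroup M] [Module R M]
    {Λ : Type u} {Nl : Λ → Type u} [∀ l, AddCommGroup (Nl l)] [∀ l, Module R (Nl l)]
    [∀ l, Module K (Nl l)] [∀ l, IsScalarTower K R (Nl l)] [∀ l, Module.Flat K (Nl l)]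
    (ψ : ∀ l, M →ₗ[R] Nl l)
    (Hfg : ∀ B₁ : Subalgebra K A', B₁.FG → JointInjBC (R ⊗[K] B₁) ψ)
    (x : Ph ⊗[R] M) (hx : ∀ l, (ψ l).lTensor Ph x = 0) : x = 0 := by
  let e : R ⊗[K] A' ≃ₐ[R] P := Algebra.IsPushout.equiv K R A' P
  let e' : P ≃+* R ⊗[K] A' := (e.symm : P ≃+* R ⊗[K] A')
  let alg' : Algebra (R ⊗[K] A') Ph := ((algebraMap P Ph).comp e'.symm.toRingHom).toAlgebra
  have hloc : IsLocalization.Away (e' h) Ph := by
    have := IsLocalization.isLocalization_of_base_ringEquiv (Submonoid.powers h) Ph e'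
    rwa [Submonoid.map_powers] at this
  have tow : IsScalarTower R (R ⊗[K] A') Ph := by
    refine IsScalarTower.of_algebraMap_eq fun x => ?_
    change algebraMap R Ph x = algebraMap P Ph (e (algebraMap R (R ⊗[K] A') x))
    rw [e.commutes, ← IsScalarTower.algebraMap_apply]
  exact eq_zero_of_forall_fg_subalgebra (e' h) Ph ψ Hfg x hx

end Groth.Agent.Lib.Helper20.SepLimit
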