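import Mathlib
import Groth.Agent.Lib.Helper20.SepLimit
import Groth.Agent.Lib.Helper20.SepFF
import Groth.Agent.Lib.Helper12.FlatOverSections

/-!
# Separating families: limit over finitely generated subalgebras, scheme level (helper20)

* `JointInj.of_arrowIso`, `boxOpen`, `isAffineOpen_boxOpen`, `isPushout_boxOpen` (sections over the
  box `U' ×_A Spec C` of `X ×_A Spec C` are the pushout `Γ(X, U') ⊗[A] C`),
* `jointInjBC_box`: a separating family on `X ×_A Spec C` gives `JointInjBC` on boxes,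
* `flat_ΓU_obj`: sections of a module flat over `Spec A` are flat over `A`,
* `isSeparating_pullback_of_forall_finiteType`: EGA IV 11.9.6, case `Z_λ = X`.
-/

set_option autoImplicit false
universe u
open CategoryTheory CategoryTheory.Limits AlgebraicGeometry TopologicalSpace TensorProduct

namespace Groth.Agent.Lib.Helper20.SepChart

open Groth.Agent.Lib.Helper11.PullbackChart Groth.Agent.Lib.Helper11 Groth.Agent.Lib.Helper49
  Groth.Agent.Lib.Helper16.FlatPull Groth.Agent.Lib.Helper20.SchDenseFlat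
  Groth.Agent.Lib.Helper20.SepLimit

/-- `JointInj` transports along a family of arrow isomorphisms with a common left leg. -/
theorem JointInj.of_arrowIso {S : Type u} [CommRing S] {M₁ M₂ : ModuleCat.{u} S} {Λ : Type u}
    {N₁ N₂ : Λ → ModuleCat.{u} S} (f₁ : ∀ l, M₁ ⟶ N₁ l) (f₂ : ∀ l, M₂ ⟶ N₂ l)
    (a : ∀ l, Arrow.mk (f₁ l) ≅ Arrow.mk (f₂ l)) (eL : M₁ ⟶ M₂) [IsIso eL]
    (ha : ∀ l, (a l).hom.left = eL)
    (H : JointInj (A := S) (N := M₁) (Nl := fun l => N₁ l) (fun l => (f₁ l).hom)) :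
    JointInj (A := S) (N := M₂) (Nl := fun l => N₂ l) (fun l => (f₂ l).hom) := by
  intro g n hn
  obtain ⟨n', rfl⟩ := (ConcreteCategory.bijective_of_isIso eL).2 n
  obtain ⟨m, hm⟩ := H g n' (fun l => by
    obtain ⟨k, hk⟩ := hn l
    refine ⟨k, ?_⟩
    have hw := Arrow.w (a l).hom
    rw [ha l] at hw
    have h1 : (f₂ l).hom (eL.hom n') = (a l).hom.right.hom ((f₁ l).hom n') :=
      congrArg (fun k => k.hom n') hw
    have hinj : Function.Injective (a l).hom.right.hom :=
      (ConcreteCategory.bijective_of_isIso (a l).hom.right).1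
    apply (injective_iff_map_eq_zero _).mp hinj
    rw [map_smul, ← h1]
    exact hk)
  refine ⟨m, ?_⟩
  have := congrArg eL.hom hm
  rwa [map_smul, map_zero] at this

section Box

variable {X : Scheme.{u}} {A : CommRingCat.{u}} (p : X ⟶ Spec A) {C : CommRingCat.{u}} (c : A ⟶ C)
  {U' : X.Opens} (hU' : IsAffineOpen U')

/-- the box open `U' ×_A Spec C` of `X ×_A Spec C` -/
noncomputable def boxOpen (U' : X.Opens) : (pullback p (Spec.map c)).Opens :=
  pullback.fst p (Spec.map c) ⁻¹ᵁ U' ⊓ pullback.snd p (Spec.map c) ⁻¹ᵁ ⊤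

include hU' in
theorem isAffineOpen_boxOpen : IsAffineOpen (boxOpen p c U') := by
  have H : IsPullback (pullback.fst p (Spec.map c)) (pullback.snd p (Spec.map c)) p (Spec.map c) :=
    IsPullback.of_hasPullback _ _
  let W₀ : (Spec A).Opens := ⊤
  have hW₀ : IsAffineOpen W₀ := isAffineOpen_top _
  let T : (Spec C).Opens := ⊤
  have hT : IsAffineOpen T := isAffineOpen_top _
  have eT : T ≤ (Spec.map c) ⁻¹ᵁ W₀ := fun _ _ => trivial
  have eU : U' ≤ p ⁻¹ᵁ W₀ := fun _ _ => trivial
  have : IsAffine (Scheme.Opens.toScheme W₀) := hW₀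
  have : IsAffine (Scheme.Opens.toScheme T) := hT
  have : IsAffine (Scheme.Opens.toScheme U') := hU'
  exact .of_isIso (Scheme.Hom.isPullback_resLE H eT eU rfl).isoPullback.hom

include hU' in
theorem isPushout_boxOpen :
    IsPushout ((Scheme.ΓSpecIso A).inv ≫ p.appLE ⊤ U' (fun _ _ => trivial)) c
      ((pullback.fst p (Spec.map c)).appLE U' (boxOpen p c U') inf_le_left)
      ((Scheme.ΓSpecIso C).inv ≫
        (pullback.snd p (Spec.map c)).appLE ⊤ (boxOpen p c U') inf_le_right) := by
  have H : IsPullback (pullback.fst p (Spec.map c)) (pullback.snd p (Spec.map c)) p (Spec.map c) :=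
    IsPullback.of_hasPullback _ _
  let W₀ : (Spec A).Opens := ⊤
  have hW₀ : IsAffineOpen W₀ := isAffineOpen_top _
  let T : (Spec C).Opens := ⊤
  have hT : IsAffineOpen T := isAffineOpen_top _
  have eT : T ≤ (Spec.map c) ⁻¹ᵁ W₀ := fun _ _ => trivial
  have eU : U' ≤ p ⁻¹ᵁ W₀ := fun _ _ => trivial
  have hiso := isIso_pushoutSection_of_isAffineOpen H eT eU (UY := boxOpen p c U') rfl hW₀ hT hU'
  have hpush := (isIso_pushoutSection_iff H eT eU (UY := boxOpen p c U') rfl).mp hiso
  refine IsPushout.of_iso hpush (Scheme.ΓSpecIso A) (Iso.refl _) (Scheme.ΓSpecIso C) (Iso.refl _)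
    ?_ ?_ ?_ ?_
  · simp; rfl
  · have : (Spec.map c).appLE W₀ T eT = (Spec.map c).appTop := by
      simp [Scheme.Hom.appLE, W₀, T, Scheme.Hom.appTop]
    rw [this, Scheme.ΓSpecIso_naturality]
  · simp
  · simp; rfl

end Box

section J

variable {X : Scheme.{u}} {A : CommRingCat.{u}} (p : X ⟶ Spec A) (Cr : Type u) [CommRing Cr]
  [Algebra A Cr] {U' : X.Opens} (hU' : IsAffineOpen U') {F : X.Modules} [F.IsQuasicoherent]
  {ι : Type u} {G : ι → X.Modules} [∀ i, (G i).IsQuasicoherent] (u : ∀ i, F ⟶ G i)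

set_option maxHeartbeats 1600000 in
/-- a separating family on `X ×_A Spec C` gives `JointInjBC` over `Γ(X, U') ⊗[A] C` -/
theorem jointInjBC_box
    (hsep : IsSeparating (fun i => (Scheme.Modules.pullback
      (pullback.fst p (Spec.map (CommRingCat.ofHom (algebraMap A Cr))))).map (u i))) :
    letI : Algebra A Γ(X, U') :=
      ((Scheme.ΓSpecIso A).inv ≫ p.appLE ⊤ U' (fun _ _ => trivial)).hom.toAlgebra
    JointInjBC (Γ(X, U') ⊗[A] Cr) (fun i => ((ΓU hU').map (u i)).hom) := by
  set c : A ⟶ CommRingCat.of Cr := CommRingCat.ofHom (algebraMap A Cr) with hc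
  set g := pullback.fst p (Spec.map c) with hg
  set O := boxOpen p c U' with hOdef
  have hO : IsAffineOpen O := isAffineOpen_boxOpen p c hU'
  have hpush := isPushout_boxOpen p c hU'
  have e1 : O ≤ g ⁻¹ᵁ U' := inf_le_left
  -- (i)
  haveI : ∀ i, ((Scheme.Modules.pullback g).obj (G i)).IsQuasicoherent :=
    fun i => isQuasicoherent_pullback g (G i)
  haveI : ((Scheme.Modules.pullback g).obj F).IsQuasicoherent := isQuasicoherent_pullback g F
  have hJ1 := jointInj_of_isSeparating hO (fun i => (Scheme.Modules.pullback g).map (u i)) hsep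
  -- (ii)
  have hJ2 : JointInj (A := Γ(pullback p (Spec.map c), O))
      (N := (ModuleCat.extendScalars (g.appLE U' O e1).hom).obj ((ΓU hU').obj F))
      (Nl := fun i => (ModuleCat.extendScalars (g.appLE U' O e1).hom).obj ((ΓU hU').obj (G i)))
      (fun i => ((ModuleCat.extendScalars (g.appLE U' O e1).hom).map
        ((ΓU hU').map (u i))).hom) :=
    JointInj.of_arrowIso _ _ (fun i => sectionsArrowIso g hU' hO e1 (u i))
      (sectionsArrowIso g hU' hO e1 (𝟙 F)).hom.left
      (fun i => sectionsArrowIso_left g hU' hO e1 (u i)) hJ1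
  -- (iii)
  algebraize [((Scheme.ΓSpecIso A).inv ≫ p.appLE ⊤ U' (fun _ _ => trivial)).hom,
    (g.appLE U' O e1).hom,
    ((Scheme.ΓSpecIso (CommRingCat.of Cr)).inv ≫
      (pullback.snd p (Spec.map c)).appLE ⊤ O inf_le_right).hom,
    ((g.appLE U' O e1).hom.comp
      ((Scheme.ΓSpecIso A).inv ≫ p.appLE ⊤ U' (fun _ _ => trivial)).hom)]
  have t1 : IsScalarTower A Γ(X, U') Γ(pullback p (Spec.map c), O) := .of_algebraMap_eq' rfl
  have t2 : IsScalarTower A Cr Γ(pullback p (Spec.map c), O) :=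
    .of_algebraMap_eq' congr($(hpush.w).hom)
  have hP : Algebra.IsPushout A Γ(X, U') Cr Γ(pullback p (Spec.map c), O) :=
    CommRingCat.isPushout_iff_isPushout.mp hpush
  have hJ3 : JointInjBC Γ(pullback p (Spec.map c), O) (fun i => ((ΓU hU').map (u i)).hom) := by
    intro h y hy
    obtain ⟨m, hm⟩ := hJ2 h ((extEquiv (g.appLE U' O e1).hom ((ΓU hU').obj F)).symm y)
      (fun i => by
        obtain ⟨k, hk⟩ := hy i
        refine ⟨k, ?_⟩
        apply (extEquiv (g.appLE U' O e1).hom ((ΓU hU').obj (G i))).injective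
        rw [map_smul, ← lTensor_extEquiv, LinearEquiv.apply_symm_apply, map_zero]
        exact hk)
    refine ⟨m, ?_⟩
    have := congrArg (extEquiv (g.appLE U' O e1).hom ((ΓU hU').obj F)) hm
    rwa [map_smul, LinearEquiv.apply_symm_apply, map_zero] at this
  exact JointInjBC.of_algEquiv
    (Algebra.IsPushout.equiv A Γ(X, U') Cr Γ(pullback p (Spec.map c), O)) _ hJ3

end J

section FlatSec

variable {X : Scheme.{u}} {A : CommRingCat.{u}} (p : X ⟶ Spec A) {U' : X.Opens}
  (hU' : IsAffineOpen U') (G : X.Modules) [G.IsQuasicoherent]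

/-- sections over an affine open of a module flat over `Spec A` are flat over `A` -/
theorem flat_ΓU_obj (hG : FlatMod.IsFlatOver p G) :
    letI : Algebra A Γ(X, U') :=
      ((Scheme.ΓSpecIso A).inv ≫ p.appLE ⊤ U' (fun _ _ => trivial)).hom.toAlgebra
    letI : Module A ((ΓU hU').obj G) := Module.compHom _ (algebraMap A Γ(X, U'))
    Module.Flat A ((ΓU hU').obj G) := by
  have e : U' ≤ p ⁻¹ᵁ ⊤ := fun _ _ => trivial
  letI algAR : Algebra A Γ(X, U') :=
    ((Scheme.ΓSpecIso A).inv ≫ p.appLE ⊤ U' (fun _ _ => trivial)).hom.toAlgebra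
  letI modAN : Module A ((ΓU hU').obj G) := Module.compHom _ (algebraMap A Γ(X, U'))
  -- (a)
  letI modK : Module Γ(Spec A, ⊤) Γ(G, U') := Module.compHom _ (p.appLE ⊤ U' e).hom
  have h1 : Module.Flat Γ(Spec A, ⊤) Γ(G, U') :=
    Groth.Agent.Lib.Helper12.FlatOver.flat_sections_of_isFlatOverAt p G (isAffineOpen_top (Spec A)) hU' e
      (fun x => hG x)
  -- (b)
  letI algAK : Algebra A Γ(Spec A, ⊤) := (Scheme.ΓSpecIso A).inv.hom.toAlgebra
  letI modA : Module A Γ(G, U') := Module.compHom _ (algebraMap A Γ(X, U'))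
  haveI tow : IsScalarTower A Γ(Spec A, ⊤) Γ(G, U') :=
    IsScalarTower.of_algebraMap_smul fun _ _ => rfl
  have hb : Function.Bijective (algebraMap A Γ(Spec A, ⊤)) :=
    ConcreteCategory.bijective_of_isIso (Scheme.ΓSpecIso A).inv
  have h2 : Module.Flat A Γ(G, U') :=
    (Groth.Agent.Lib.Helper12.FlatOver.flat_iff_of_bijective hb Γ(G, U')).mp h1
  -- (c)
  let E : ((ΓU hU').obj G) ≃ₗ[A] Γ(G, U') :=
    { (sectionsFromSpecTopEquiv hU' G).toAddEquiv with
      map_smul' := fun a m => (sectionsFromSpecTopEquiv hU' G).map_smul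
        (algebraMap A Γ(X, U') a) m }
  exact Module.Flat.of_linearEquiv E

end FlatSec

section Main

variable {X : Scheme.{u}} (A A' : CommRingCat.{u}) (φ : A ⟶ A') (p : X ⟶ Spec A)
  {F : X.Modules} [F.IsQuasicoherent] {ι : Type u} {G : ι → X.Modules}
  [∀ i, (G i).IsQuasicoherent] (hG : ∀ i, FlatMod.IsFlatOver p (G i)) (u : ∀ i, F ⟶ G i)

include hG in
set_option maxHeartbeats 1600000 in
theorem local_claim_limit
    (hfg : ∀ (B : CommRingCat.{u}) (a : A ⟶ B) (b : B ⟶ A'), a ≫ b = φ →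
      Function.Injective b.hom → a.hom.FiniteType →
      IsSeparating (fun i => (Scheme.Modules.pullback (pullback.fst p (Spec.map a))).map (u i)))
    (U' : X.Opens) (hU' : IsAffineOpen U') (r : Γ(pullback p (Spec.map φ), boxOpen p φ U'))
    (t : Γ((Scheme.Modules.pullback (pullback.fst p (Spec.map φ))).obj F,
      (pullback p (Spec.map φ)).basicOpen r))
    (ht : ∀ i, ((Scheme.Modules.pullback (pullback.fst p (Spec.map φ))).map (u i)).app
      ((pullback p (Spec.map φ)).basicOpen r) t = 0) : t = 0 := by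
  have hO : IsAffineOpen (boxOpen p φ U') := isAffineOpen_boxOpen p φ hU'
  have hpush := isPushout_boxOpen p φ hU'
  have e1 : (boxOpen p φ U') ≤ (pullback.fst p (Spec.map φ)) ⁻¹ᵁ U' := inf_le_left
  have hW' : IsAffineOpen ((pullback p (Spec.map φ)).basicOpen r) := hO.basicOpen r
  have hWO : (pullback p (Spec.map φ)).basicOpen r ≤ (boxOpen p φ U') := (pullback p (Spec.map φ)).basicOpen_le r
  have e : (pullback p (Spec.map φ)).basicOpen r ≤ (pullback.fst p (Spec.map φ)) ⁻¹ᵁ U' := hWO.trans e1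
  have hloc : IsLocalization.Away r Γ(pullback p (Spec.map φ), (pullback p (Spec.map φ)).basicOpen r) :=
    hO.isLocalization_basicOpen r
  refine eq_zero_of_chart (pullback.fst p (Spec.map φ)) hU' hW' e u (fun x hx => ?_) t ht
  algebraize [((Scheme.ΓSpecIso A).inv ≫ p.appLE ⊤ U' (fun _ _ => trivial)).hom, φ.hom,
    ((pullback.fst p (Spec.map φ)).appLE U' (boxOpen p φ U') e1).hom,
    ((Scheme.ΓSpecIso A').inv ≫ (pullback.snd p (Spec.map φ)).appLE ⊤ (boxOpen p φ U') inf_le_right).hom,
    (((pullback.fst p (Spec.map φ)).appLE U' (boxOpen p φ U') e1).hom.comp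
      ((Scheme.ΓSpecIso A).inv ≫ p.appLE ⊤ U' (fun _ _ => trivial)).hom),
    ((pullback.fst p (Spec.map φ)).appLE U' ((pullback p (Spec.map φ)).basicOpen r) e).hom]
  have t1 : IsScalarTower A Γ(X, U') Γ(pullback p (Spec.map φ), (boxOpen p φ U')) := .of_algebraMap_eq' rfl
  have t2 : IsScalarTower A A' Γ(pullback p (Spec.map φ), (boxOpen p φ U')) :=
    .of_algebraMap_eq' congr($(hpush.w).hom)
  have hP : Algebra.IsPushout A Γ(X, U') A' Γ(pullback p (Spec.map φ), (boxOpen p φ U')) :=
    CommRingCat.isPushout_iff_isPushout.mp hpush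
  have t3 : IsScalarTower Γ(X, U') Γ(pullback p (Spec.map φ), (boxOpen p φ U'))
      Γ(pullback p (Spec.map φ), (pullback p (Spec.map φ)).basicOpen r) := by
    refine .of_algebraMap_eq' ?_
    change ((pullback.fst p (Spec.map φ)).appLE U' ((pullback p (Spec.map φ)).basicOpen r) e).hom =
      (((pullback p (Spec.map φ)).presheaf.map (homOfLE hWO).op).hom).comp
        ((pullback.fst p (Spec.map φ)).appLE U' (boxOpen p φ U') e1).hom
    rw [← CommRingCat.hom_comp, Scheme.Hom.appLE_map]
  letI modN : ∀ l, Module A ((ΓU hU').obj (G l)) :=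
    fun l => Module.compHom _ (algebraMap A Γ(X, U'))
  haveI towN : ∀ l, IsScalarTower A Γ(X, U') ((ΓU hU').obj (G l)) :=
    fun l => IsScalarTower.of_algebraMap_smul fun _ _ => rfl
  haveI flatN : ∀ l, Module.Flat A ((ΓU hU').obj (G l)) :=
    fun l => flat_ΓU_obj p hU' (G l) (hG l)
  have Hfg : ∀ B₁ : Subalgebra A A', B₁.FG →
      JointInjBC (Γ(X, U') ⊗[A] B₁) (fun i => ((ΓU hU').map (u i)).hom) := by
    intro B₁ hB₁
    refine jointInjBC_box p B₁ hU' u (hfg (CommRingCat.of B₁)
      (CommRingCat.ofHom (algebraMap A B₁)) (CommRingCat.ofHom B₁.val.toRingHom) ?_ ?_ ?_)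
    · ext x
      rfl
    · exact Subtype.val_injective
    · rw [CommRingCat.hom_ofHom, RingHom.finiteType_algebraMap]
      exact (Subalgebra.fg_iff_finiteType B₁).mp hB₁
  have key : extEquiv ((pullback.fst p (Spec.map φ)).appLE U' ((pullback p (Spec.map φ)).basicOpen r) e).hom
      ((ΓU hU').obj F) x = 0 := by
    refine eq_zero_of_isPushout_forall_fg (K := A) (R := Γ(X, U')) (A' := A')
      (P := Γ(pullback p (Spec.map φ), (boxOpen p φ U'))) r
      Γ(pullback p (Spec.map φ), (pullback p (Spec.map φ)).basicOpen r) (M := (ΓU hU').obj F)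
      (fun i => ((ΓU hU').map (u i)).hom) Hfg _ (fun i => ?_)
    have := lTensor_extEquiv ((pullback.fst p (Spec.map φ)).appLE U' ((pullback p (Spec.map φ)).basicOpen r) e).hom
      ((ΓU hU').map (u i)) x
    rw [hx i, map_zero] at this
    exact this
  exact (extEquiv ((pullback.fst p (Spec.map φ)).appLE U' ((pullback p (Spec.map φ)).basicOpen r) e).hom
    ((ΓU hU').obj F)).injective (key.trans (map_zero _).symm)

include hG in
/-- **EGA IV 11.9.6 (case `Z_λ = X`)**: passage to the limit over finitely generated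
subalgebras for separating families with flat targets. -/
theorem isSeparating_pullback_of_forall_finiteType
    (hfg : ∀ (B : CommRingCat.{u}) (a : A ⟶ B) (b : B ⟶ A'), a ≫ b = φ →
      Function.Injective b.hom → a.hom.FiniteType →
      IsSeparating (fun i => (Scheme.Modules.pullback (pullback.fst p (Spec.map a))).map (u i))) :
    IsSeparating (fun i => (Scheme.Modules.pullback (pullback.fst p (Spec.map φ))).map (u i)) := by
  let B : Set (pullback p (Spec.map φ)).Opens := {W | ∃ (U' : X.Opens) (_ : IsAffineOpen U')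
    (r : Γ(pullback p (Spec.map φ), boxOpen p φ U')), W = (pullback p (Spec.map φ)).basicOpen r}
  have hB : Opens.IsBasis B := by
    rw [Opens.isBasis_iff_nbhd]
    intro V x hx
    obtain ⟨U', hU', hxU', -⟩ := exists_isAffineOpen_mem_and_subset
      (x := (pullback.fst p (Spec.map φ)) x) (U := ⊤) trivial
    have hO : IsAffineOpen (boxOpen p φ U') := isAffineOpen_boxOpen p φ hU'
    obtain ⟨r, hrV, hxr⟩ := hO.exists_basicOpen_le ⟨x, hx⟩ ⟨hxU', trivial⟩
    exact ⟨_, ⟨U', hU', r, rfl⟩, hxr, hrV⟩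
  refine isSeparating_of_basis _ B hB ?_
  rintro W ⟨U', hU', r, rfl⟩ t ht
  exact local_claim_limit A A' φ p hG u hfg U' hU' r t ht

end Main

end Groth.Agent.Lib.Helper20.SepChart
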