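import Mathlib
import Groth.Agent.Lib.Helper20.SepLimitScheme
import Groth.Agent.Lib.Helper24.SepNilp

/-!
# Schematically dense families modulo a nilpotent ideal with free graded pieces (helper20)

* `eq_zero_of_nilpotent_of_isPushout` (pure algebra): a family of ring maps `ψ_l : R ⟶ S_l` with
  `S_l` flat over `K` is jointly injective as soon as the family of reductions modulo `J` is, for
  `J ⊆ K` nilpotent with free graded pieces; reductions are presented by pushout squares.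
* `local_claim_nilp_dense`, `schDense_of_nilp`: SGA3 / EGA IV 11.10.9-type lifting of schematic
  density of a family `Z_i ⟶ X` (with `Z_i` flat over `Spec A`) from `X ×_A A/J` to `X`.
-/

set_option autoImplicit false
universe u
open CategoryTheory CategoryTheory.Limits AlgebraicGeometry TopologicalSpace TensorProduct

namespace Groth.Agent.Lib.Helper20.SchDenseNilp

open Groth.Agent.Lib.Helper24.SepNilp Groth.Agent.Lib.Helper20.SepChart

theorem eq_zero_of_nilpotent_of_isPushout {K : Type u} [CommRing K] (J : Ideal K)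
    (hJ : IsNilpotent J) (hfree : ∀ k : ℕ, Module.Free (K ⧸ J) ((K ⧸ J) ⊗[K] ↥(J ^ k)))
    {R : Type u} [CommRing R] [Algebra K R]
    {Λ : Type u} {S : Λ → Type u} [∀ l, CommRing (S l)] [∀ l, Algebra K (S l)]
    [∀ l, Module.Flat K (S l)] (ψ : ∀ l, R →ₐ[K] S l)
    {P : CommRingCat.{u}} (fR : CommRingCat.of R ⟶ P) (fK : CommRingCat.of (K ⧸ J) ⟶ P)
    (hP : IsPushout (CommRingCat.ofHom (algebraMap K R))
      (CommRingCat.ofHom (Ideal.Quotient.mk J)) fR fK)
    {Pl : Λ → CommRingCat.{u}} (gS : ∀ l, CommRingCat.of (S l) ⟶ Pl l)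
    (gK : ∀ l, CommRingCat.of (K ⧸ J) ⟶ Pl l)
    (hPl : ∀ l, IsPushout (CommRingCat.ofHom (algebraMap K (S l)))
      (CommRingCat.ofHom (Ideal.Quotient.mk J)) (gS l) (gK l))
    (μ : ∀ l, P ⟶ Pl l)
    (hμR : ∀ l, fR ≫ μ l = CommRingCat.ofHom (ψ l).toRingHom ≫ gS l)
    (hμK : ∀ l, fK ≫ μ l = gK l)
    (H : ∀ y : P, (∀ l, (μ l).hom y = 0) → y = 0) (b : R) (hb : ∀ l, ψ l b = 0) : b = 0 := by
  refine jointInj_of_nilpotent (ψ := fun l => (ψ l).toLinearMap) J hJ hfree ?_ b hb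
  intro x hx
  have hT := CommRingCat.isPushout_tensorProduct K (K ⧸ J) R
  have hTl := fun l => CommRingCat.isPushout_tensorProduct K (K ⧸ J) (S l)
  let e := hT.isoIsPushout _ _ hP.flip
  let el := fun l => (hTl l).isoIsPushout _ _ (hPl l).flip
  have hnat : ∀ l, e.hom ≫ μ l =
      CommRingCat.ofHom (Algebra.TensorProduct.map (AlgHom.id K (K ⧸ J)) (ψ l)).toRingHom ≫
        (el l).hom := by
    intro l
    apply hT.hom_ext
    · rw [IsPushout.inl_isoIsPushout_hom_assoc, hμK]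
      have : CommRingCat.ofHom (Algebra.TensorProduct.includeLeftRingHom :
            (K ⧸ J) →+* (K ⧸ J) ⊗[K] R) ≫
          CommRingCat.ofHom (Algebra.TensorProduct.map (AlgHom.id K (K ⧸ J)) (ψ l)).toRingHom =
          CommRingCat.ofHom (Algebra.TensorProduct.includeLeftRingHom :
            (K ⧸ J) →+* (K ⧸ J) ⊗[K] S l) := by
        ext a
        simp
      rw [reassoc_of% this, IsPushout.inl_isoIsPushout_hom]
    · rw [IsPushout.inr_isoIsPushout_hom_assoc, hμR]
      have : CommRingCat.ofHom (Algebra.TensorProduct.includeRight :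
            R →ₐ[K] (K ⧸ J) ⊗[K] R).toRingHom ≫
          CommRingCat.ofHom (Algebra.TensorProduct.map (AlgHom.id K (K ⧸ J)) (ψ l)).toRingHom =
          CommRingCat.ofHom (ψ l).toRingHom ≫
          CommRingCat.ofHom (Algebra.TensorProduct.includeRight :
            S l →ₐ[K] (K ⧸ J) ⊗[K] S l).toRingHom := by
        ext a
        simp
      rw [reassoc_of% this, IsPushout.inr_isoIsPushout_hom]
  have hy : e.hom.hom x = 0 := by
    apply H
    intro l
    have h1 := congrArg (fun k => k.hom x) (hnat l)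
    simp only [CommRingCat.hom_comp, RingHom.coe_comp, Function.comp_apply] at h1
    rw [h1]
    have h2 : (Algebra.TensorProduct.map (AlgHom.id K (K ⧸ J)) (ψ l)) x =
        (ψ l).toLinearMap.lTensor (K ⧸ J) x := by
      rfl
    simp only [CommRingCat.hom_ofHom, AlgHom.toRingHom_eq_coe, RingHom.coe_coe]
    rw [h2, hx l, map_zero]
  have hinj : Function.Injective e.hom.hom :=
    (ConcreteCategory.bijective_of_isIso e.hom).1
  exact hinj (hy.trans (map_zero _).symm)

-- index type for the affine opens of the `Z i` lying over `U'`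
abbrev Idx {X : Scheme.{u}} {ι : Type u} (Z : ι → Scheme.{u}) (f : ∀ i, Z i ⟶ X) (U' : X.Opens) :
    Type u :=
  Σ i : ι, {C : (Z i).Opens // IsAffineOpen C ∧ C ≤ (f i) ⁻¹ᵁ U'}

theorem appLE_congr_hom' {P Y : Scheme.{u}} {q q' : P ⟶ Y} (h : q = q') {U : Y.Opens} {V : P.Opens}
    (e : V ≤ q ⁻¹ᵁ U) (e' : V ≤ q' ⁻¹ᵁ U) : q.appLE U V e = q'.appLE U V e' := by
  subst h; rfl

set_option maxHeartbeats 1600000 in
theorem local_claim_nilp_dense {X : Scheme.{u}} (A : CommRingCat.{u}) (p : X ⟶ Spec A)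
    (J : Ideal ↑A) (hJ : IsNilpotent J)
    (hfree : ∀ k : ℕ, Module.Free (↑A ⧸ J) ((↑A ⧸ J) ⊗[↑A] ↥(J ^ k)))
    {ι : Type u} (Z : ι → Scheme.{u}) (v : ∀ i, Z i ⟶ X) [∀ i, Flat (v i ≫ p)]
    (h0 : ∀ (V : (pullback p (Spec.map (CommRingCat.ofHom (Ideal.Quotient.mk J)))).Opens)
      (t : Γ(pullback p (Spec.map (CommRingCat.ofHom (Ideal.Quotient.mk J))), V)),
      (∀ i, (pullback.map (v i ≫ p) (Spec.map (CommRingCat.ofHom (Ideal.Quotient.mk J))) p
        (Spec.map (CommRingCat.ofHom (Ideal.Quotient.mk J))) (v i) (𝟙 _) (𝟙 _)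
        (Category.comp_id _) ((Category.comp_id _).trans (Category.id_comp _).symm)).app V t = 0) →
        t = 0)
    (U' : X.Opens) (hU' : IsAffineOpen U') (t : Γ(X, U')) (ht : ∀ i, (v i).app U' t = 0) :
    t = 0 := by
  set c : A ⟶ CommRingCat.of (↑A ⧸ J) := CommRingCat.ofHom (Ideal.Quotient.mk J) with hc
  set q := Spec.map c with hq
  let m : ∀ i, pullback (v i ≫ p) q ⟶ pullback p q := fun i =>
    pullback.map (v i ≫ p) q p q (v i) (𝟙 _) (𝟙 _)
      (Category.comp_id _) ((Category.comp_id _).trans (Category.id_comp _).symm)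
  have hm1 : ∀ i, m i ≫ pullback.fst p q = pullback.fst (v i ≫ p) q ≫ v i :=
    fun i => pullback.lift_fst _ _ _
  have hm2 : ∀ i, m i ≫ pullback.snd p q = pullback.snd (v i ≫ p) q := fun i =>
    (pullback.lift_snd _ _ _).trans (Category.comp_id _)
  letI algR : Algebra A Γ(X, U') :=
    ((Scheme.ΓSpecIso A).inv ≫ p.appLE ⊤ U' (fun _ _ => trivial)).hom.toAlgebra
  letI algS : ∀ l : Idx Z v U', Algebra A Γ(Z l.1, l.2.1) := fun l =>
    ((Scheme.ΓSpecIso A).inv ≫ (v l.1 ≫ p).appLE ⊤ l.2.1 (fun _ _ => trivial)).hom.toAlgebra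
  haveI flatS : ∀ l : Idx Z v U', Module.Flat A Γ(Z l.1, l.2.1) := by
    intro l
    have h1 : ((v l.1 ≫ p).appLE ⊤ l.2.1 (fun _ _ => trivial)).hom.Flat :=
      HasRingHomProperty.appLE @Flat (v l.1 ≫ p) inferInstance ⟨⊤, isAffineOpen_top _⟩
        ⟨l.2.1, l.2.2.1⟩ (fun _ _ => trivial)
    have h2 : (Scheme.ΓSpecIso A).inv.hom.Flat :=
      RingHom.Flat.of_bijective (ConcreteCategory.bijective_of_isIso (Scheme.ΓSpecIso A).inv)
    exact RingHom.Flat.comp h2 h1
  let ψ : ∀ l : Idx Z v U', Γ(X, U') →ₐ[A] Γ(Z l.1, l.2.1) := fun l =>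
    { toRingHom := ((v l.1).appLE U' l.2.1 l.2.2.2).hom
      commutes' := fun a => by
        change (((Scheme.ΓSpecIso A).inv ≫ p.appLE ⊤ U' (fun _ _ => trivial)) ≫
          (v l.1).appLE U' l.2.1 l.2.2.2).hom a =
          ((Scheme.ΓSpecIso A).inv ≫ (v l.1 ≫ p).appLE ⊤ l.2.1 (fun _ _ => trivial)).hom a
        rw [Category.assoc, Scheme.Hom.appLE_comp_appLE] }
  have eX : boxOpen p c U' ≤ pullback.fst p q ⁻¹ᵁ U' := inf_le_left
  have eZ : ∀ l : Idx Z v U', boxOpen (v l.1 ≫ p) c l.2.1 ≤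
      pullback.fst (v l.1 ≫ p) q ⁻¹ᵁ l.2.1 := fun l => inf_le_left
  have eμ : ∀ l : Idx Z v U', boxOpen (v l.1 ≫ p) c l.2.1 ≤ (m l.1) ⁻¹ᵁ boxOpen p c U' := by
    intro l z hz
    refine ⟨?_, trivial⟩
    change (pullback.fst p q) ((m l.1) z) ∈ U'
    rw [← Scheme.Hom.comp_apply, hm1, Scheme.Hom.comp_apply]
    exact l.2.2.2 hz.1
  refine eq_zero_of_nilpotent_of_isPushout J hJ hfree ψ
    (P := Γ(pullback p q, boxOpen p c U'))
    ((pullback.fst p q).appLE U' (boxOpen p c U') eX)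
    ((Scheme.ΓSpecIso (CommRingCat.of (↑A ⧸ J))).inv ≫
      (pullback.snd p q).appLE ⊤ (boxOpen p c U') inf_le_right)
    (isPushout_boxOpen p c hU')
    (Pl := fun l => Γ(pullback (v l.1 ≫ p) q, boxOpen (v l.1 ≫ p) c l.2.1))
    (fun l => (pullback.fst (v l.1 ≫ p) q).appLE l.2.1 (boxOpen (v l.1 ≫ p) c l.2.1) (eZ l))
    (fun l => (Scheme.ΓSpecIso (CommRingCat.of (↑A ⧸ J))).inv ≫
      (pullback.snd (v l.1 ≫ p) q).appLE ⊤ (boxOpen (v l.1 ≫ p) c l.2.1) inf_le_right)
    (fun l => isPushout_boxOpen (v l.1 ≫ p) c l.2.2.1)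
    (fun l => (m l.1).appLE (boxOpen p c U') (boxOpen (v l.1 ≫ p) c l.2.1) (eμ l))
    ?_ ?_ ?_ t ?_
  · intro l
    rw [Scheme.Hom.appLE_comp_appLE]
    change _ = (v l.1).appLE U' l.2.1 l.2.2.2 ≫ _
    rw [Scheme.Hom.appLE_comp_appLE]
    exact appLE_congr_hom' (hm1 l.1) _ _
  · intro l
    rw [Category.assoc, Scheme.Hom.appLE_comp_appLE]
    congr 1
    exact appLE_congr_hom' (hm2 l.1) _ _
  · intro y hy
    apply h0 (boxOpen p c U') y
    intro i
    refine TopCat.Presheaf.section_ext (pullback (v i ≫ p) q).sheaf _ _ 0 (fun z hz => ?_)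
    change (pullback (v i ≫ p) q).presheaf.germ _ z hz _ =
      (pullback (v i ≫ p) q).presheaf.germ _ z hz 0
    rw [map_zero]
    have hzU : (pullback.fst (v i ≫ p) q) z ∈ (v i) ⁻¹ᵁ U' := by
      have := hz.1
      change (pullback.fst p q) ((m i) z) ∈ U' at this
      rw [← Scheme.Hom.comp_apply, hm1, Scheme.Hom.comp_apply] at this
      exact this
    obtain ⟨C, hC, hzC, hCle⟩ := TopologicalSpace.Opens.isBasis_iff_nbhd.mp
      (Z i).isBasis_affineOpens hzU
    have hzB : z ∈ boxOpen (v i ≫ p) c C := ⟨hzC, trivial⟩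
    have hk := hy ⟨i, C, hC, hCle⟩
    rw [← TopCat.Presheaf.germ_res_apply (pullback (v i ≫ p) q).presheaf
      (homOfLE (eμ ⟨i, C, hC, hCle⟩)) z hzB]
    have : (pullback (v i ≫ p) q).presheaf.map (homOfLE (eμ ⟨i, C, hC, hCle⟩)).op
        ((m i).app (boxOpen p c U') y) =
        ((m i).appLE (boxOpen p c U') (boxOpen (v i ≫ p) c C) (eμ ⟨i, C, hC, hCle⟩)).hom y := rfl
    rw [this, hk, map_zero]
  · intro l
    change ((v l.1).appLE U' l.2.1 l.2.2.2).hom t = 0
    have : ((v l.1).appLE U' l.2.1 l.2.2.2).hom t =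
        (Z l.1).presheaf.map (homOfLE l.2.2.2).op ((v l.1).app U' t) := rfl
    rw [this, ht l.1, map_zero]

theorem schDense_of_nilp {X : Scheme.{u}} (A : CommRingCat.{u}) (p : X ⟶ Spec A)
    (J : Ideal ↑A) (hJ : IsNilpotent J)
    (hfree : ∀ k : ℕ, Module.Free (↑A ⧸ J) ((↑A ⧸ J) ⊗[↑A] ↥(J ^ k)))
    {ι : Type u} (Z : ι → Scheme.{u}) (v : ∀ i, Z i ⟶ X) [∀ i, Flat (v i ≫ p)]
    (h0 : ∀ (V : (pullback p (Spec.map (CommRingCat.ofHom (Ideal.Quotient.mk J)))).Opens)
      (t : Γ(pullback p (Spec.map (CommRingCat.ofHom (Ideal.Quotient.mk J))), V)),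
      (∀ i, (pullback.map (v i ≫ p) (Spec.map (CommRingCat.ofHom (Ideal.Quotient.mk J))) p
        (Spec.map (CommRingCat.ofHom (Ideal.Quotient.mk J))) (v i) (𝟙 _) (𝟙 _)
        (Category.comp_id _) ((Category.comp_id _).trans (Category.id_comp _).symm)).app V t = 0) →
        t = 0) :
    ∀ (V : X.Opens) (t : Γ(X, V)), (∀ i, (v i).app V t = 0) → t = 0 := by
  intro V t ht
  refine TopCat.Presheaf.section_ext X.sheaf V t 0 (fun x hx => ?_)
  change X.presheaf.germ V x hx t = X.presheaf.germ V x hx 0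
  rw [map_zero]
  obtain ⟨U', hU', hxU', hU'V⟩ := TopologicalSpace.Opens.isBasis_iff_nbhd.mp X.isBasis_affineOpens
    (show x ∈ V from hx)
  have key : X.presheaf.map (homOfLE hU'V).op t = 0 := by
    refine local_claim_nilp_dense A p J hJ hfree Z v h0 U' hU' _ (fun i => ?_)
    have hnat := (v i).naturality (homOfLE hU'V).op
    have := congrArg (fun k => k.hom t) hnat
    simp only [CommRingCat.hom_comp, RingHom.coe_comp, Function.comp_apply] at this
    rw [this, ht i, map_zero]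
  rw [← TopCat.Presheaf.germ_res_apply X.presheaf (CategoryTheory.homOfLE hU'V) x hxU' t,
    key, map_zero]

end Groth.Agent.Lib.Helper20.SchDenseNilp
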