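import Mathlib
import Groth.Prelude.Def_Pic
import Groth.Agent.Lib.Helper20.InvUFD

/-!
# Section and cosection of an invertible module (helper20)

`isIso_of_section_cosection`: on an integral scheme `X` with `Γ(X, O_X)` a field, if an invertible
module `L` has a nonzero section `s : O ⟶ L` and a nonzero cosection `t : L ⟶ O`, then `s` is an
isomorphism.
-/

set_option autoImplicit false
universe u
open CategoryTheory CategoryTheory.Limits AlgebraicGeometry

namespace Groth.Agent.Lib.Helper20.SecCosec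

open Groth.Agent.Lib.Helper45 Groth.Agent.Lib.Helper49 Groth.Agent.Lib.Helper11.GenLocus
open TopologicalSpace

section

variable {X : Scheme.{u}} {L : X.Modules}

/-- a morphism `O ⟶ L` vanishes as soon as its global section does -/
lemma eq_zero_of_sec_top_eq_zero (s : Coh.structureModule X ⟶ L) (h : sec s ⊤ = 0) : s = 0 := by
  apply Scheme.Modules.hom_ext
  intro W
  ext r
  have h1 := app_eq_smul_sec s W (ofO W r)
  rw [toO_ofO] at h1
  have h2 : sec s W = 0 := by
    have := sec_res s (le_top : W ≤ ⊤)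
    rw [h, map_zero] at this
    exact this.symm
  rw [h2, smul_zero] at h1
  exact h1

variable [IsIntegral X]

/-- restriction of functions to a nonempty open is injective -/
lemma fres_injective {W V : X.Opens} (h : W ≤ V) (hW : (W : Set X).Nonempty) :
    Function.Injective (fres h) := by
  haveI : Nonempty W := ⟨⟨hW.some, hW.some_mem⟩⟩
  exact map_injective_of_isIntegral X (homOfLE h)

lemma inter_nonempty {V W : X.Opens} (hV : (V : Set X).Nonempty) (hW : (W : Set X).Nonempty) :
    ((V ⊓ W : X.Opens) : Set X).Nonempty :=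
  nonempty_preirreducible_inter V.isOpen W.isOpen hV hW

end


/-- On an integral scheme with `Γ(X, O_X)` a field, a nonzero section of an invertible module which
also has a nonzero cosection is an isomorphism. -/
theorem isIso_of_section_cosection (X : Scheme.{u}) [IsIntegral X]
    (hfield : IsField (Γ(X, ⊤) : Type u)) (L : X.Modules) (hL : PicF.IsInvertible L)
    (s : Coh.structureModule X ⟶ L) (hs : s ≠ 0) (t : L ⟶ Coh.structureModule X) (ht : t ≠ 0) :
    IsIso s := by
  choose V hxV e he using fun x => exists_isBasisOn_of_isInvertible hL x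
  have hVne : ∀ x, ((V x : X.Opens) : Set X).Nonempty := fun x => ⟨x, hxV x⟩
  haveI : ∀ x, Nonempty (V x) := fun x => ⟨⟨x, hxV x⟩⟩
  choose g hg using fun x => (he x).exists_eq_smul (sec s (V x))
  let f : ∀ x, Γ(X, V x) := fun x => ofO (V x) ((t.app (V x)).hom (e x))
  let c : Γ(X, ⊤) := ofO ⊤ (sec (s ≫ t) ⊤)
  have key : ∀ x, fres (le_top : V x ≤ ⊤) c = g x * f x := by
    intro x
    have h1 : sec (s ≫ t) (V x) = (t.app (V x)).hom (sec s (V x)) := rfl
    rw [← hg x, Scheme.Modules.Hom.app_smul] at h1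
    have h2 := sec_res (s ≫ t) (le_top : V x ≤ ⊤)
    have h3 := ofO_res (le_top : V x ≤ ⊤) (sec (s ≫ t) ⊤)
    rw [h2, h1] at h3
    exact h3.symm
  -- `c ≠ 0`
  have hc : c ≠ 0 := by
    intro hc0
    obtain ⟨x₀⟩ := (inferInstance : Nonempty X)
    have h0 : g x₀ * f x₀ = 0 := by rw [← key x₀, hc0, map_zero]
    rcases mul_eq_zero.1 h0 with hg0 | hf0
    · -- then `s = 0`
      apply hs
      apply eq_zero_of_sec_top_eq_zero
      apply TopCat.Sheaf.eq_of_locally_eq' ⟨L.presheaf, L.isSheaf⟩ V ⊤
        (fun y => homOfLE le_top) (fun y _ => Opens.mem_iSup.mpr ⟨y, hxV y⟩)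
      intro y
      change mres L (le_top : V y ≤ ⊤) (sec s ⊤) = mres L (le_top : V y ≤ ⊤) 0
      rw [map_zero]
      have hsy : mres L (le_top : V y ≤ ⊤) (sec s ⊤) = sec s (V y) := sec_res s le_top
      rw [hsy, ← hg y]
      suffices g y = 0 by rw [this, zero_smul]
      -- compare on the overlap
      have hne := inter_nonempty (hVne y) (hVne x₀)
      apply fres_injective (inf_le_left : V y ⊓ V x₀ ≤ V y) hne
      rw [map_zero]
      apply ((he y).mono (inf_le_left : V y ⊓ V x₀ ≤ V y)).eq_of_smul_eq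
      rw [zero_smul, ← mres_smul, hg y]
      have e1 : mres L (inf_le_left : V y ⊓ V x₀ ≤ V y) (sec s (V y)) = sec s (V y ⊓ V x₀) :=
        sec_res s _
      have e2 : mres L (inf_le_right : V y ⊓ V x₀ ≤ V x₀) (sec s (V x₀)) = sec s (V y ⊓ V x₀) :=
        sec_res s _
      rw [e1, ← e2, ← hg x₀, hg0, zero_smul, map_zero]
    · -- then `t = 0`
      apply ht
      have hfy : ∀ y, f y = 0 := by
        intro y
        have hne := inter_nonempty (hVne y) (hVne x₀)
        apply fres_injective (inf_le_left : V y ⊓ V x₀ ≤ V y) hne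
        rw [map_zero]
        obtain ⟨u, -, hu⟩ := Groth.Agent.Lib.Helper20.InvUFD.exists_unit_smul (he y) (he x₀)
        have h1 := ofO_res (inf_le_left : V y ⊓ V x₀ ≤ V y) ((t.app (V y)).hom (e y))
        have h2 := app_res t (inf_le_left : V y ⊓ V x₀ ≤ V y) (e y)
        have h3 := app_res t (inf_le_right : V y ⊓ V x₀ ≤ V x₀) (e x₀)
        have h4 : (t.app (V x₀)).hom (e x₀) = 0 := by
          have : toO (V x₀) (f x₀) = (t.app (V x₀)).hom (e x₀) := rfl
          rw [← this, hf0]
          rfl
        change fres _ (ofO (V y) ((t.app (V y)).hom (e y))) = 0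
        rw [fres_apply, ← h1, h2]
        have h5 : (L.presheaf.map (homOfLE (inf_le_left : V y ⊓ V x₀ ≤ V y)).op).hom (e y) =
            u • mres L (inf_le_right : V y ⊓ V x₀ ≤ V x₀) (e x₀) := hu
        rw [h5, Scheme.Modules.Hom.app_smul, mres_apply, ← h3, h4, map_zero, smul_zero]
        rfl
      apply Scheme.Modules.hom_ext
      intro W
      ext m
      change (t.app W).hom m = 0
      apply TopCat.Sheaf.eq_of_locally_eq' ⟨(Coh.structureModule X).presheaf,
        (Coh.structureModule X).isSheaf⟩ (fun y => W ⊓ V y) W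
        (fun y => homOfLE inf_le_left) (fun y hy => Opens.mem_iSup.mpr ⟨y, ⟨hy, hxV y⟩⟩)
      intro y
      change ((Coh.structureModule X).presheaf.map (homOfLE (inf_le_left : W ⊓ V y ≤ W)).op).hom
        ((t.app W).hom m) = ((Coh.structureModule X).presheaf.map
          (homOfLE (inf_le_left : W ⊓ V y ≤ W)).op).hom 0
      rw [map_zero, app_res t (inf_le_left : W ⊓ V y ≤ W) m]
      obtain ⟨r, hr⟩ := ((he y).mono (inf_le_right : W ⊓ V y ≤ V y)).exists_eq_smul
        (mres L (inf_le_left : W ⊓ V y ≤ W) m)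
      have hm : (L.presheaf.map (homOfLE (inf_le_left : W ⊓ V y ≤ W)).op).hom m =
          r • mres L (inf_le_right : W ⊓ V y ≤ V y) (e y) := hr.symm
      rw [hm, Scheme.Modules.Hom.app_smul, mres_apply,
        ← app_res t (inf_le_right : W ⊓ V y ≤ V y) (e y)]
      have h4 : (t.app (V y)).hom (e y) = 0 := by
        have : toO (V y) (f y) = (t.app (V y)).hom (e y) := rfl
        rw [← this, hfy y]
        rfl
      rw [h4, map_zero, smul_zero]
  -- `c` is a unit
  have hcu : IsUnit c := by
    obtain ⟨d, hd⟩ := hfield.mul_inv_cancel hc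
    exact IsUnit.of_mul_eq_one _ hd
  have hgu : ∀ x, IsUnit (g x) := by
    intro x
    have h1 : IsUnit (g x * f x) := by
      rw [← key x]
      exact hcu.map _
    exact isUnit_of_mul_isUnit_left h1
  -- `s` is an isomorphism
  have hgen : ∀ x, V x ≤ CohB1.genLocus L s := by
    intro x
    rw [le_genLocus_iff_app]
    intro W hW
    rw [Groth.Agent.Lib.Helper11.GenLocus.isIso_iff_bijective]
    have hb := ((he x).smul_unit (g x) (hgu x)) W hW
    rw [hg x] at hb
    have hW' : mres L hW (sec s (V x)) = sec s W := sec_res s hW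
    rw [hW'] at hb
    have : (⇑(s.app W).hom : Γ(Coh.structureModule X, W) → Γ(L, W)) =
        fun r => (ofO W r) • sec s W := by
      funext r
      have := app_eq_smul_sec s W (ofO W r)
      rw [toO_ofO] at this
      exact this
    rw [this]
    exact hb
  have htop : (⊤ : X.Opens) ≤ CohB1.genLocus L s := fun y _ => hgen y (hxV y)
  rw [le_genLocus_iff_app] at htop
  haveI : IsIso s := by
    rw [Scheme.Modules.Hom.isIso_iff_isIso_app]
    intro W
    exact htop W le_top
  exact this

/-- On an integral scheme, a section of an invertible module vanishing on a nonempty open is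
zero. -/
theorem eq_zero_of_sec_eq_zero {X : Scheme.{u}} [IsIntegral X] {L : X.Modules}
    (hL : PicF.IsInvertible L) (s : Coh.structureModule X ⟶ L) {V₀ : X.Opens}
    (hV₀ : (V₀ : Set X).Nonempty) (h : sec s V₀ = 0) : s = 0 := by
  choose V hxV e he using fun x => exists_isBasisOn_of_isInvertible hL x
  apply eq_zero_of_sec_top_eq_zero
  apply TopCat.Sheaf.eq_of_locally_eq' ⟨L.presheaf, L.isSheaf⟩ V ⊤
    (fun y => homOfLE le_top) (fun y _ => Opens.mem_iSup.mpr ⟨y, hxV y⟩)
  intro y
  change mres L (le_top : V y ≤ ⊤) (sec s ⊤) = mres L (le_top : V y ≤ ⊤) 0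
  rw [map_zero]
  have hsy : mres L (le_top : V y ≤ ⊤) (sec s ⊤) = sec s (V y) := sec_res s le_top
  rw [hsy]
  obtain ⟨g, hg⟩ := (he y).exists_eq_smul (sec s (V y))
  rw [← hg]
  suffices g = 0 by rw [this, zero_smul]
  have hne := inter_nonempty (⟨y, hxV y⟩ : ((V y : X.Opens) : Set X).Nonempty) hV₀
  apply fres_injective (inf_le_left : V y ⊓ V₀ ≤ V y) hne
  rw [map_zero]
  apply ((he y).mono (inf_le_left : V y ⊓ V₀ ≤ V y)).eq_of_smul_eq
  rw [zero_smul, ← mres_smul, hg]
  have e1 : mres L (inf_le_left : V y ⊓ V₀ ≤ V y) (sec s (V y)) = sec s (V y ⊓ V₀) := sec_res s _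
  have e2 : mres L (inf_le_right : V y ⊓ V₀ ≤ V₀) (sec s V₀) = sec s (V y ⊓ V₀) := sec_res s _
  rw [e1, ← e2, h, map_zero]

/-- An endomorphism of the structure module whose global section is a unit is an isomorphism. -/
theorem isIso_of_isUnit_sec_top {X : Scheme.{u}} (ψ : Coh.structureModule X ⟶ Coh.structureModule X)
    (hc : IsUnit (ofO ⊤ (sec ψ ⊤))) : IsIso ψ := by
  rw [Scheme.Modules.Hom.isIso_iff_isIso_app]
  intro W
  rw [Groth.Agent.Lib.Helper11.GenLocus.isIso_iff_bijective]
  have hW : sec ψ W = toO W (fres (le_top : W ≤ ⊤) (ofO ⊤ (sec ψ ⊤))) := by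
    have h1 := sec_res ψ (le_top : W ≤ ⊤)
    have h2 := ofO_res (le_top : W ≤ ⊤) (sec ψ ⊤)
    rw [h1] at h2
    exact h2
  have : (⇑(ψ.app W).hom : Γ(Coh.structureModule X, W) → Γ(Coh.structureModule X, W)) =
      fun r => toO W (ofO W r * fres (le_top : W ≤ ⊤) (ofO ⊤ (sec ψ ⊤))) := by
    funext r
    have := app_eq_smul_sec ψ W (ofO W r)
    rw [toO_ofO, hW, toO_smul] at this
    exact this
  rw [this]
  have hu : IsUnit (fres (le_top : W ≤ ⊤) (ofO ⊤ (sec ψ ⊤))) := hc.map _
  obtain ⟨v, hv⟩ := hu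
  rw [← hv]
  exact (Units.mulRight v).bijective

end Groth.Agent.Lib.Helper20.SecCosec
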