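import Mathlib
import Groth.Agent.Lib.Helper20.SepPull

/-!
# Separating families and flat base change over an Artinian base (helper20)

* `eq_zero_of_flat_of_isArtinianRing`: over an Artinian ring `A`, a jointly injective family
  `ψ l : N → Nl l` stays jointly injective after tensoring with any flat module.
* `isSeparating_pullback_of_flat_of_artinian`: EGA IV 11.9 for a flat morphism to a locally
  Artinian scheme.
-/

set_option autoImplicit false

namespace Groth.Agent.Lib.Helper20.SchDenseFlat

open TensorProduct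

universe u v w

-- in an Artinian module, a family of submodules with zero intersection has a finite subfamily
-- with zero intersection
theorem exists_finset_iInf_eq_bot_of_isArtinian {A : Type*} [Ring A] {N : Type*} [AddCommGroup N]
    [Module A N] [IsArtinian A N] {Λ : Type*} (K : Λ → Submodule A N) (hK : ⨅ l, K l = ⊥) :
    ∃ s : Finset Λ, ⨅ l ∈ s, K l = ⊥ := by
  classical
  let S : Set (Submodule A N) := Set.range fun s : Finset Λ => ⨅ l ∈ s, K l
  have hS : S.Nonempty := ⟨_, ⟨∅, rfl⟩⟩
  obtain ⟨m, ⟨s₀, rfl⟩, hmin⟩ := WellFounded.has_min (wellFounded_lt (α := Submodule A N)) S hS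
  refine ⟨s₀, ?_⟩
  rw [eq_bot_iff, ← hK]
  refine le_iInf fun l' => ?_
  by_contra hnot
  have hlt : (⨅ l ∈ insert l' s₀, K l) < ⨅ l ∈ s₀, K l := by
    rw [Finset.iInf_insert]
    exact lt_of_le_of_ne inf_le_right (fun h => hnot (h ▸ inf_le_left))
  exact hmin _ ⟨insert l' s₀, rfl⟩ hlt

theorem eq_zero_of_flat_of_isArtinianRing {A : Type u} [CommRing A] [IsArtinianRing A]
    {B : Type v} [AddCommGroup B] [Module A B] [Module.Flat A B]
    {N : Type w} [AddCommGroup N] [Module A N]
    {Λ : Type*} {Nl : Λ → Type*} [∀ l, AddCommGroup (Nl l)] [∀ l, Module A (Nl l)]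
    (ψ : ∀ l, N →ₗ[A] Nl l) (hinj : ∀ n : N, (∀ l, ψ l n = 0) → n = 0) (x : B ⊗[A] N)
    (hx : ∀ l, (ψ l).lTensor B x = 0) : x = 0 := by
  classical
  obtain ⟨N₀, hfin, hs⟩ := TensorProduct.exists_finite_submodule_right_of_setFinite
    (M := B) ({x} : Set (B ⊗[A] N)) (Set.finite_singleton x)
  obtain ⟨x₀, rfl⟩ := hs (Set.mem_singleton x)
  -- kernels of the restricted maps
  let K : Λ → Submodule A N₀ := fun l => LinearMap.ker ((ψ l) ∘ₗ N₀.subtype)
  have hK : ⨅ l, K l = ⊥ := by
    rw [eq_bot_iff]
    intro n hn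
    rw [Submodule.mem_iInf] at hn
    rw [Submodule.mem_bot]
    apply Subtype.ext
    exact hinj n (fun l => hn l)
  obtain ⟨s, hs⟩ := exists_finset_iInf_eq_bot_of_isArtinian K hK
  let L : N₀ →ₗ[A] (∀ i : s, Nl i) := LinearMap.pi (fun i => (ψ i) ∘ₗ N₀.subtype)
  have hL : Function.Injective L := by
    rw [← LinearMap.ker_eq_bot, eq_bot_iff, ← hs]
    intro n hn
    rw [Submodule.mem_iInf]
    intro l
    rw [Submodule.mem_iInf]
    intro hl
    have := congrFun (LinearMap.mem_ker.mp hn) ⟨l, hl⟩
    exact this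
  have hLB : Function.Injective (L.lTensor B) :=
    Module.Flat.lTensor_preserves_injective_linearMap L hL
  have hcomp : ∀ (y : B ⊗[A] N₀) (i : s),
      (TensorProduct.piRight A A B (fun i : s => Nl i) (L.lTensor B y)) i =
        ((ψ i).lTensor B) (N₀.subtype.lTensor B y) := by
    intro y i
    induction y using TensorProduct.induction_on with
    | zero => simp only [map_zero, Pi.zero_apply]
    | tmul b n =>
      simp only [LinearMap.lTensor_tmul, TensorProduct.piRight_apply,
        TensorProduct.piRightHom_tmul]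
      rfl
    | add y₁ y₂ h₁ h₂ => simp only [map_add, Pi.add_apply, h₁, h₂]
  have hx₀ : x₀ = 0 := by
    apply hLB
    apply (TensorProduct.piRight A A B (fun i : s => Nl i)).injective
    funext i
    rw [hcomp x₀ i, hx i, map_zero, map_zero]
    rfl
  rw [hx₀, map_zero]

end Groth.Agent.Lib.Helper20.SchDenseFlat

namespace Groth.Agent.Lib.Helper20.SepChart

open AlgebraicGeometry CategoryTheory TensorProduct Opposite

open Groth.Agent.Lib.Helper11.PullbackChart Groth.Agent.Lib.Helper11 Groth.Agent.Lib.Helper49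
  Groth.Agent.Lib.Helper16.FlatPull Groth.Agent.Lib.Helper20.SchDenseFlat

universe u

variable {X' X : Scheme.{u}} (g : X' ⟶ X) {U : X.Opens} (hU : IsAffineOpen U) {W : X'.Opens}
  (hW : IsAffineOpen W) (hWU : W ≤ g ⁻¹ᵁ U) {F : X.Modules} [F.IsQuasicoherent]
  {ι : Type u} {G : ι → X.Modules} [∀ i, (G i).IsQuasicoherent] (u : ∀ i, F ⟶ G i)

omit [∀ i, (G i).IsQuasicoherent] in
include hW in
theorem extendScalars_sep_of_flat_artinian [Flat g] [IsArtinianRing Γ(X, U)]
    (h : IsSeparating u)
    (x : ((ModuleCat.extendScalars (g.appLE U W hWU).hom).obj ((ΓU hU).obj F)))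
    (hx : ∀ i,
      ((ModuleCat.extendScalars (g.appLE U W hWU).hom).map ((ΓU hU).map (u i))).hom x = 0) :
    x = 0 := by
  have hflat : (g.appLE U W hWU).hom.Flat :=
    HasRingHomProperty.appLE @Flat g inferInstance ⟨U, hU⟩ ⟨W, hW⟩ hWU
  algebraize [(g.appLE U W hWU).hom]
  have hJ := jointInj_of_isSeparating hU u h
  have hinj : ∀ n : (ΓU hU).obj F, (∀ i, ((ΓU hU).map (u i)).hom n = 0) → n = 0 := by
    intro n hn
    obtain ⟨m, hm⟩ := hJ 1 n (fun l => ⟨0, by rw [pow_zero, one_smul]; exact hn l⟩)
    rwa [one_pow, one_smul] at hm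
  have key : extEquiv (g.appLE U W hWU).hom ((ΓU hU).obj F) x = 0 := by
    refine eq_zero_of_flat_of_isArtinianRing (A := Γ(X, U)) (B := Γ(X', W))
      (N := (ΓU hU).obj F) (fun i => ((ΓU hU).map (u i)).hom) hinj _ (fun i => ?_)
    have := lTensor_extEquiv (g.appLE U W hWU).hom ((ΓU hU).map (u i)) x
    rw [hx i, map_zero] at this
    exact this
  exact (extEquiv (g.appLE U W hWU).hom ((ΓU hU).obj F)).injective (key.trans (map_zero _).symm)

/-- **EGA IV 11.9 (case `Z_λ = X`)**: over a locally Artinian scheme, a separating family of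
homomorphisms of quasi-coherent modules stays separating after any flat base change. -/
theorem isSeparating_pullback_of_flat_of_artinian [Flat g] [IsLocallyArtinian X]
    (h : IsSeparating u) :
    IsSeparating (fun i => (Scheme.Modules.pullback g).map (u i)) := by
  refine isSeparating_of_basis _ _ (isBasis_affine_charts g) ?_
  rintro W ⟨hW, U, hU, hWU⟩ t ht
  haveI : IsArtinianRing Γ(X, U) := IsLocallyArtinian.isArtinianRing_presheaf_obj ⟨U, hU⟩
  exact eq_zero_of_chart g hU hW hWU u
    (fun x hx => extendScalars_sep_of_flat_artinian g hU hW hWU u h x hx) t ht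

end Groth.Agent.Lib.Helper20.SepChart
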