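import Groth.Agent.Lib.Helper16.FlatPull.Chart
import Groth.Agent.Lib.Helper45.LocalizingOn
import Groth.Agent.Lib.Helper20.SchDomCore

/-!
# Separating families of homomorphisms of quasi-coherent modules on affine charts (helper20)

* `IsSeparating v`: a family `v i : M ⟶ N i` of `𝒪`-module maps such that a section of `M` over an
  open killed by every `v i` is zero (EGA IV 11.9.1, case `Z_λ = X`).
* `isSeparating_of_basis`: it suffices to test on a basis of opens.
* `sectionsArrowIso`: on affine charts `W ≤ g⁻¹U`, `Γ(W, g^*u)` is (as an arrow of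
  `Γ(X', W)`-modules) `Γ(X', W) ⊗ Γ(U, u)`, with left component independent of `u`.
* `eq_zero_of_chart`: local criterion for `g^*u_i` to be separating over `W`.
* `jointInj_of_isSeparating`: the sections over an affine open of a separating family of
  quasi-coherent modules satisfy `JointInj`.
-/

set_option autoImplicit false
universe u

open AlgebraicGeometry CategoryTheory TensorProduct Opposite

namespace Groth.Agent.Lib.Helper20.SepChart

open Groth.Agent.Lib.Helper11.PullbackChart Groth.Agent.Lib.Helper11 Groth.Agent.Lib.Helper49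
  Groth.Agent.Lib.Helper16.FlatPull Groth.Agent.Lib.Helper20.SchDenseFlat

section Separating

variable {Y : Scheme.{u}} {M : Y.Modules} {ι : Type*} {N : ι → Y.Modules} (v : ∀ i, M ⟶ N i)

/-- a separating family of homomorphisms -/
def IsSeparating : Prop :=
  ∀ (V : Y.Opens) (t : Γ(M, V)), (∀ i, (v i).app V t = 0) → t = 0

theorem app_map_apply {M' N' : Y.Modules} (w : M' ⟶ N') {V₁ V₂ : Y.Opens} (i : V₁ ⟶ V₂)
    (t : Γ(M', V₂)) :
    w.app V₁ (M'.presheaf.map i.op t) = N'.presheaf.map i.op (w.app V₂ t) := by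
  have hnat := w.mapPresheaf.naturality i.op
  have h2 := ConcreteCategory.congr_hom hnat t
  rw [ConcreteCategory.comp_apply, ConcreteCategory.comp_apply, Scheme.Modules.mapPresheaf_app,
    Scheme.Modules.mapPresheaf_app] at h2
  exact h2

/-- a family is separating as soon as it is so on a basis -/
theorem isSeparating_of_basis (B : Set Y.Opens) (hB : TopologicalSpace.Opens.IsBasis B)
    (h : ∀ W ∈ B, ∀ t : Γ(M, W), (∀ i, (v i).app W t = 0) → t = 0) : IsSeparating v := by
  intro V t ht
  have hcov := TopologicalSpace.Opens.isBasis_iff_cover.mp hB V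
  obtain ⟨Us, hUs, hV⟩ := hcov
  refine TopCat.Sheaf.eq_of_locally_eq' ⟨_, M.isSheaf⟩ (fun W : Us => (W : Y.Opens)) V
    (fun W => homOfLE (by rw [hV]; exact le_sSup W.2)) (by rw [hV, sSup_eq_iSup']) t 0
    (fun W => ?_)
  rw [map_zero]
  refine h W.1 (hUs W.2) _ (fun i => ?_)
  rw [app_map_apply, ht i, map_zero]

end Separating

section Chart

variable {X' X : Scheme.{u}} (g : X' ⟶ X) {U : X.Opens} (hU : IsAffineOpen U) {W : X'.Opens}
  (hW : IsAffineOpen W) (hWU : W ≤ g ⁻¹ᵁ U) {F G : X.Modules} [F.IsQuasicoherent]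
  [G.IsQuasicoherent] (u : F ⟶ G)

/-- On affine charts, sections of `g^* u` over `W` are `Γ(X', W) ⊗ Γ(U, u)`, as arrows. -/
noncomputable def sectionsArrowIso :
    Arrow.mk ((ΓU hW).map ((Scheme.Modules.pullback g).map u)) ≅
      Arrow.mk ((ModuleCat.extendScalars (g.appLE U W hWU).hom).map ((ΓU hU).map u)) :=
  arrowIsoOfNatIso (Functor.isoWhiskerRight
    (Scheme.Modules.restrictFunctorIsoPullback hW.fromSpec)
    (moduleSpecΓFunctor (R := Γ(X', W)))) ((Scheme.Modules.pullback g).map u) ≪≫
  (moduleSpecΓFunctor (R := Γ(X', W))).mapArrow.mapIso (chartArrowIso g hU hW hWU u) ≪≫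
  (arrowIsoOfNatIso tilde.toTildeΓNatIso
    ((ModuleCat.extendScalars (g.appLE U W hWU).hom).map ((ΓU hU).map u))).symm

theorem sectionsArrowIso_left :
    (sectionsArrowIso g hU hW hWU u).hom.left = (sectionsArrowIso g hU hW hWU (𝟙 F)).hom.left :=
  rfl

theorem sectionsArrowIso_w (t₁ : (ΓU hW).obj ((Scheme.Modules.pullback g).obj F)) :
    ((ModuleCat.extendScalars (g.appLE U W hWU).hom).map ((ΓU hU).map u)).hom
        ((sectionsArrowIso g hU hW hWU (𝟙 F)).hom.left.hom t₁) =
      (sectionsArrowIso g hU hW hWU u).hom.right.hom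
        (((ΓU hW).map ((Scheme.Modules.pullback g).map u)).hom t₁) := by
  have hw := Arrow.w (sectionsArrowIso g hU hW hWU u).hom
  rw [← sectionsArrowIso_left g hU hW hWU u]
  exact congrArg (fun k => k.hom t₁) hw

omit [F.IsQuasicoherent] [G.IsQuasicoherent] in
theorem ΓU_map_eq_zero_iff (t₁ : (ΓU hU).obj F) :
    ((ΓU hU).map u).hom t₁ = 0 ↔ u.app U (sectionsFromSpecTopEquiv hU F t₁) = 0 := by
  have hnat := sectionsFromSpecTopEquiv_naturality hU u t₁
  constructor
  · intro h0
    rw [← hnat]
    have : ((Scheme.Modules.restrictFunctor hU.fromSpec).map u).app ⊤ t₁ = 0 := h0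
    rw [this, map_zero]
  · intro h0
    have h3 : sectionsFromSpecTopEquiv hU G
        (((Scheme.Modules.restrictFunctor hU.fromSpec).map u).app ⊤ t₁) =
        sectionsFromSpecTopEquiv hU G 0 := by
      rw [map_zero]; exact hnat.trans h0
    exact (sectionsFromSpecTopEquiv hU G).injective h3

end Chart

section Local

variable {X' X : Scheme.{u}} (g : X' ⟶ X) {U : X.Opens} (hU : IsAffineOpen U) {W : X'.Opens}
  (hW : IsAffineOpen W) (hWU : W ≤ g ⁻¹ᵁ U) {F : X.Modules} [F.IsQuasicoherent]
  {ι : Type*} {G : ι → X.Modules} [∀ i, (G i).IsQuasicoherent] (u : ∀ i, F ⟶ G i)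

include hW in
/-- **Local criterion** on affine charts for the pulled back family to be separating. -/
theorem eq_zero_of_chart
    (H : ∀ x : ((ModuleCat.extendScalars (g.appLE U W hWU).hom).obj ((ΓU hU).obj F)),
      (∀ i, ((ModuleCat.extendScalars (g.appLE U W hWU).hom).map ((ΓU hU).map (u i))).hom x = 0) →
        x = 0)
    (t : Γ((Scheme.Modules.pullback g).obj F, W))
    (ht : ∀ i, ((Scheme.Modules.pullback g).map (u i)).app W t = 0) : t = 0 := by
  obtain ⟨t₁, rfl⟩ := (sectionsFromSpecTopEquiv hW _).surjective t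
  have h1 : ∀ i, ((ΓU hW).map ((Scheme.Modules.pullback g).map (u i))).hom t₁ = 0 :=
    fun i => (ΓU_map_eq_zero_iff hW _ t₁).mpr (ht i)
  have h2 : (sectionsArrowIso g hU hW hWU (𝟙 F)).hom.left.hom t₁ = 0 := by
    refine H _ (fun i => ?_)
    rw [sectionsArrowIso_w g hU hW hWU (u i) t₁, h1 i, map_zero]
  have hinj : Function.Injective (sectionsArrowIso g hU hW hWU (𝟙 F)).hom.left.hom :=
    (ConcreteCategory.bijective_of_isIso (sectionsArrowIso g hU hW hWU (𝟙 F)).hom.left).1
  have h3 : t₁ = 0 := (injective_iff_map_eq_zero _).mp hinj _ h2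
  rw [h3, map_zero]

end Local

end Groth.Agent.Lib.Helper20.SepChart
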