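import Mathlib
import Groth.Agent.Lib.Helper20.SepField
import Groth.Agent.Lib.Helper20.SepPull

/-!
# Separating families over a field: base change to an arbitrary scheme (helper20)

`isSeparating_pullback_fst_field`: EGA IV 11.9 over a field (case `Z_λ = X`).
-/

set_option autoImplicit false
universe u
open CategoryTheory CategoryTheory.Limits AlgebraicGeometry TopologicalSpace TensorProduct

namespace Groth.Agent.Lib.Helper20.SepChart

open Groth.Agent.Lib.Helper11.PullbackChart Groth.Agent.Lib.Helper11 Groth.Agent.Lib.Helper49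
  Groth.Agent.Lib.Helper16.FlatPull Groth.Agent.Lib.Helper20.SchDenseFlat
  Groth.Agent.Lib.Helper20.SepField

theorem local_claim_field_sep {k : Type u} [Field k] {X S' : Scheme.{u}}
    (p : X ⟶ Spec (CommRingCat.of k)) (q : S' ⟶ Spec (CommRingCat.of k))
    {F : X.Modules} [F.IsQuasicoherent] {ι : Type u} {G : ι → X.Modules}
    [∀ i, (G i).IsQuasicoherent] (u : ∀ i, F ⟶ G i) (h : IsSeparating u)
    (U' : X.Opens) (hU' : IsAffineOpen U') (T : S'.Opens) (hT : IsAffineOpen T)
    (O : (pullback p q).Opens) (hOdef : O = pullback.fst p q ⁻¹ᵁ U' ⊓ pullback.snd p q ⁻¹ᵁ T)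
    (r : Γ(pullback p q, O))
    (t : Γ((Scheme.Modules.pullback (pullback.fst p q)).obj F, (pullback p q).basicOpen r))
    (ht : ∀ i, ((Scheme.Modules.pullback (pullback.fst p q)).map (u i)).app
      ((pullback p q).basicOpen r) t = 0) : t = 0 := by
  have H : IsPullback (pullback.fst p q) (pullback.snd p q) p q := IsPullback.of_hasPullback p q
  let W₀ : (Spec (CommRingCat.of k)).Opens := ⊤
  have hW₀ : IsAffineOpen W₀ := isAffineOpen_top _
  have eT : T ≤ q ⁻¹ᵁ W₀ := fun _ _ => trivial
  have eU : U' ≤ p ⁻¹ᵁ W₀ := fun _ _ => trivial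
  have e1 : O ≤ pullback.fst p q ⁻¹ᵁ U' := hOdef ▸ inf_le_left
  have e2 : O ≤ pullback.snd p q ⁻¹ᵁ T := hOdef ▸ inf_le_right
  have hiso := isIso_pushoutSection_of_isAffineOpen H eT eU hOdef hW₀ hT hU'
  have hpush := (isIso_pushoutSection_iff H eT eU hOdef).mp hiso
  have hO : IsAffineOpen O := by
    have : IsAffine (Scheme.Opens.toScheme W₀) := hW₀
    have : IsAffine (Scheme.Opens.toScheme T) := hT
    have : IsAffine (Scheme.Opens.toScheme U') := hU'
    exact .of_isIso (Scheme.Hom.isPullback_resLE H eT eU hOdef).isoPullback.hom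
  have hK : IsField Γ(Spec (CommRingCat.of k), W₀) :=
    MulEquiv.isField (Field.toIsField k)
      (Scheme.ΓSpecIso (CommRingCat.of k)).commRingCatIsoToRingEquiv.toMulEquiv
  have hW' : IsAffineOpen ((pullback p q).basicOpen r) := hO.basicOpen r
  have hW'O : (pullback p q).basicOpen r ≤ O := (pullback p q).basicOpen_le r
  have e : (pullback p q).basicOpen r ≤ pullback.fst p q ⁻¹ᵁ U' := hW'O.trans e1
  have hloc : IsLocalization.Away r Γ(pullback p q, (pullback p q).basicOpen r) :=
    hO.isLocalization_basicOpen r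
  refine eq_zero_of_chart (pullback.fst p q) hU' hW' e u (fun x hx => ?_) t ht
  algebraize [(p.appLE W₀ U' eU).hom, (q.appLE W₀ T eT).hom, ((pullback.fst p q).appLE U' O e1).hom,
    ((pullback.snd p q).appLE T O e2).hom,
    (((pullback.fst p q).appLE U' O e1).hom.comp (p.appLE W₀ U' eU).hom),
    ((pullback.fst p q).appLE U' ((pullback p q).basicOpen r) e).hom]
  have t1 : IsScalarTower Γ(Spec (CommRingCat.of k), W₀) Γ(X, U') Γ(pullback p q, O) :=
    .of_algebraMap_eq' rfl
  have t2 : IsScalarTower Γ(Spec (CommRingCat.of k), W₀) Γ(S', T) Γ(pullback p q, O) :=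
    .of_algebraMap_eq' congr($(hpush.w).hom)
  have hP : Algebra.IsPushout Γ(Spec (CommRingCat.of k), W₀) Γ(X, U') Γ(S', T)
      Γ(pullback p q, O) :=
    CommRingCat.isPushout_iff_isPushout.mp hpush
  have t3 : IsScalarTower Γ(X, U') Γ(pullback p q, O)
      Γ(pullback p q, (pullback p q).basicOpen r) := by
    refine .of_algebraMap_eq' ?_
    change ((pullback.fst p q).appLE U' ((pullback p q).basicOpen r) e).hom =
      (((pullback p q).presheaf.map (homOfLE hW'O).op).hom).comp
        ((pullback.fst p q).appLE U' O e1).hom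
    rw [← CommRingCat.hom_comp, Scheme.Hom.appLE_map]
  have hJ := jointInj_of_isSeparating hU' u h
  have key : extEquiv ((pullback.fst p q).appLE U' ((pullback p q).basicOpen r) e).hom
      ((ΓU hU').obj F) x = 0 := by
    refine eq_zero_of_isPushout_field_away_module (K := Γ(Spec (CommRingCat.of k), W₀))
      (A := Γ(X, U')) (B₀ := Γ(S', T)) (P := Γ(pullback p q, O)) hK r
      Γ(pullback p q, (pullback p q).basicOpen r) (M := (ΓU hU').obj F)
      (fun i => ((ΓU hU').map (u i)).hom) hJ _ (fun i => ?_)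
    have := lTensor_extEquiv ((pullback.fst p q).appLE U' ((pullback p q).basicOpen r) e).hom
      ((ΓU hU').map (u i)) x
    rw [hx i, map_zero] at this
    exact this
  exact (extEquiv ((pullback.fst p q).appLE U' ((pullback p q).basicOpen r) e).hom
    ((ΓU hU').obj F)).injective (key.trans (map_zero _).symm)

/-- **EGA IV 11.9 over a field (case `Z_λ = X`)**: a separating family of homomorphisms of
quasi-coherent modules on a `k`-scheme `X` stays separating on `X ×_k S'` for any `k`-scheme
`S'`. -/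
theorem isSeparating_pullback_fst_field {k : Type u} [Field k] {X S' : Scheme.{u}}
    (p : X ⟶ Spec (CommRingCat.of k)) (q : S' ⟶ Spec (CommRingCat.of k))
    {F : X.Modules} [F.IsQuasicoherent] {ι : Type u} {G : ι → X.Modules}
    [∀ i, (G i).IsQuasicoherent] (u : ∀ i, F ⟶ G i) (h : IsSeparating u) :
    IsSeparating (fun i => (Scheme.Modules.pullback (pullback.fst p q)).map (u i)) := by
  let B : Set (pullback p q).Opens := {W | ∃ (U' : X.Opens) (T : S'.Opens) (_ : IsAffineOpen U')
    (_ : IsAffineOpen T) (r : Γ(pullback p q, pullback.fst p q ⁻¹ᵁ U' ⊓ pullback.snd p q ⁻¹ᵁ T)),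
    W = (pullback p q).basicOpen r}
  have hB : Opens.IsBasis B := by
    rw [Opens.isBasis_iff_nbhd]
    intro V x hx
    obtain ⟨U', hU', hxU', -⟩ := exists_isAffineOpen_mem_and_subset
      (x := (pullback.fst p q) x) (U := ⊤) trivial
    obtain ⟨T, hT, hxT, -⟩ := exists_isAffineOpen_mem_and_subset
      (x := (pullback.snd p q) x) (U := ⊤) trivial
    have H : IsPullback (pullback.fst p q) (pullback.snd p q) p q := IsPullback.of_hasPullback p q
    let W₀ : (Spec (CommRingCat.of k)).Opens := ⊤
    have hW₀ : IsAffineOpen W₀ := isAffineOpen_top _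
    have eT : T ≤ q ⁻¹ᵁ W₀ := fun _ _ => trivial
    have eU : U' ≤ p ⁻¹ᵁ W₀ := fun _ _ => trivial
    have hO : IsAffineOpen (pullback.fst p q ⁻¹ᵁ U' ⊓ pullback.snd p q ⁻¹ᵁ T) := by
      have : IsAffine (Scheme.Opens.toScheme W₀) := hW₀
      have : IsAffine (Scheme.Opens.toScheme T) := hT
      have : IsAffine (Scheme.Opens.toScheme U') := hU'
      exact .of_isIso (Scheme.Hom.isPullback_resLE H eT eU rfl).isoPullback.hom
    obtain ⟨r, hrV, hxr⟩ := hO.exists_basicOpen_le ⟨x, hx⟩ ⟨hxU', hxT⟩
    exact ⟨_, ⟨U', T, hU', hT, r, rfl⟩, hxr, hrV⟩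
  refine isSeparating_of_basis _ B hB ?_
  rintro W ⟨U', T, hU', hT, r, rfl⟩ t ht
  exact local_claim_field_sep p q u h U' hU' T hT _ rfl r t ht

end Groth.Agent.Lib.Helper20.SepChart
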