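import Groth.Agent.S9070

/-!
# Bridging for the "upstairs" variants of the comparison lemmas for ringed sites (helper20)

* `map_injective_of_isIso_unit`: a left adjoint is injective on `Hom(S, X)` if the unit at `X` is iso.
* `pullFreeOnIso`: `f^* (j_{V'!} O) ≅ j_{uV'!} O`.
* `subsingleton_ext_of_pull`: if `F' → Rf_* f^* F'` is an isomorphism then
  `Ext^k(f^*S, f^*F') = 0` implies `Ext^k(S, F') = 0`.
-/

set_option autoImplicit false
universe u
open CategoryTheory CategoryTheory.Limits Opposite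
attribute [local instance] HasDerivedCategory.standard
open SiteCmp

namespace Groth.Agent.Lib.Helper20.SiteUp

open DerivedCategory Abelian
open Groth.Agent.Lib.Helper30.ModSiteFree

lemma map_injective_of_isIso_unit {𝒜 ℬ : Type*} [Category 𝒜] [Category ℬ] {F : 𝒜 ⥤ ℬ}
    {G : ℬ ⥤ 𝒜} (adj : F ⊣ G) (S X : 𝒜) [IsIso (adj.unit.app X)] :
    Function.Injective (fun φ : S ⟶ X => F.map φ) := by
  intro φ₁ φ₂ h
  have h' : G.map (F.map φ₁) = G.map (F.map φ₂) := congrArg (fun k => G.map k) h
  have n1 : φ₁ ≫ adj.unit.app X = adj.unit.app S ≫ G.map (F.map φ₁) := adj.unit.naturality φ₁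
  have n2 : φ₂ ≫ adj.unit.app X = adj.unit.app S ≫ G.map (F.map φ₂) := adj.unit.naturality φ₂
  rw [← cancel_mono (adj.unit.app X), n1, n2, h']

variable {C : Type u} [SmallCategory C] {J : GrothendieckTopology C}
  {O_C : Sheaf J CommRingCat.{u}}
  {D : Type u} [SmallCategory D] {K : GrothendieckTopology D} {O_D : Sheaf K CommRingCat.{u}}

/-- `f^*(freeOn V')` corepresents sections over `u V'` -/
noncomputable def pullFreeOnCorep (f : ModSite.RMor O_C O_D) (V' : D) :
    (secFunctor O_C (f.fn.obj V')).CorepresentableBy (f.pull.obj (ModSite.freeOn O_D V')) where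
  homEquiv {G} := (f.adj.homEquiv _ G).trans (freeOnHomEquiv O_D V' (f.push.obj G))
  homEquiv_comp {G G'} g h := by
    simp only [Equiv.trans_apply]
    rw [Adjunction.homEquiv_naturality_right]
    exact freeOnHomEquiv_comp O_D V' _ (f.push.map g)

/-- `f^* (j_{V'!} O_D) ≅ j_{uV'!} O_C` -/
noncomputable def pullFreeOnIso (f : ModSite.RMor O_C O_D) (V' : D) :
    f.pull.obj (ModSite.freeOn O_D V') ≅ ModSite.freeOn O_C (f.fn.obj V') :=
  (pullFreeOnCorep f V').uniqueUpToIso (freeOnCorepresentableBy O_C (f.fn.obj V'))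


section

variable (f : ModSite.RMor O_C O_D) [PreservesFiniteLimits f.pull] [SiteCmp.HasRpushD f]
    (adj : SiteCmp.pullD f ⊣ SiteCmp.RpushD f)

include adj in
lemma isIso_unit_shift (X : DerivedCategory (ModSite.Mod O_D)) (hX : IsIso (adj.unit.app X))
    (k : ℤ) : IsIso (adj.unit.app (X⟦k⟧)) := by
  letI : (SiteCmp.RpushD f).CommShift ℤ := adj.rightAdjointCommShift ℤ
  haveI : adj.CommShift ℤ := adj.commShift_of_leftAdjoint ℤ
  have h' : adj.unit.app (X⟦k⟧) = (adj.unit.app X)⟦k⟧' ≫
      ((SiteCmp.pullD f ⋙ SiteCmp.RpushD f).commShiftIso k).inv.app X :=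
    (Adjunction.unit_app_shift_commShiftIso_inv_app adj ℤ k X).symm
  rw [h']
  infer_instance

include adj in
/-- if `F' → Rf_* f^* F'` is an isomorphism then `Ext^k(S, F') → Ext^k(f^*S, f^*F')` is injective -/
lemma mapExactFunctor_pull_injective [HasExt.{u} (ModSite.Mod O_D)] [HasExt.{u} (ModSite.Mod O_C)]
    (S F' : ModSite.Mod O_D) (h3 : IsIso (adj.unit.app (SiteCmp.inD O_D F'))) (k : ℕ) :
    Function.Injective (fun e : Ext.{u} S F' k => e.mapExactFunctor f.pull) := by
  intro e₁ e₂ h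
  have h1 : (e₁.mapExactFunctor f.pull).hom = (e₂.mapExactFunctor f.pull).hom := congrArg _ h
  rw [Abelian.Ext.mapExactFunctor_hom, Abelian.Ext.mapExactFunctor_hom] at h1
  have h2 : e₁.hom.map f.pull.mapDerivedCategory = e₂.hom.map f.pull.mapDerivedCategory := by
    rw [← cancel_epi ((f.pull.mapDerivedCategorySingleFunctor 0).inv.app S),
      ← cancel_mono (((f.pull.mapDerivedCategorySingleFunctor 0).hom.app F')⟦(k : ℤ)⟧')]
    simpa using h1
  have h3' : f.pull.mapDerivedCategory.map e₁.hom = f.pull.mapDerivedCategory.map e₂.hom := by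
    have := h2
    simp only [ShiftedHom.map] at this
    exact (cancel_mono _).mp this
  haveI := isIso_unit_shift f adj _ h3 (k : ℤ)
  have h4 : e₁.hom = e₂.hom :=
    map_injective_of_isIso_unit adj ((DerivedCategory.singleFunctor _ 0).obj S)
      (((DerivedCategory.singleFunctor _ 0).obj F')⟦(k : ℤ)⟧) h3'
  exact Ext.ext h4

include adj in
lemma subsingleton_ext_of_pull [HasExt.{u} (ModSite.Mod O_D)] [HasExt.{u} (ModSite.Mod O_C)]
    (S F' : ModSite.Mod O_D) (h3 : IsIso (adj.unit.app (SiteCmp.inD O_D F'))) (k : ℕ)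
    (h : Subsingleton (Ext.{u} (f.pull.obj S) (f.pull.obj F') k)) :
    Subsingleton (Ext.{u} S F' k) :=
  (mapExactFunctor_pull_injective f adj S F' h3 k).subsingleton

end

end Groth.Agent.Lib.Helper20.SiteUp
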