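import Groth.Agent.S9070

/-!
# Variants of helper74's S9064 / S9070 with the vanishing hypothesis in `Ext(freeOn, -)` form
(helper20; the proofs are helper74's, with `subsingleton_ext_freeOn` factored out).
-/

set_option autoImplicit false
universe u
open CategoryTheory CategoryTheory.Limits Opposite
attribute [local instance] HasDerivedCategory.standard
open SiteCmp ModSite

namespace Groth.Agent.Lib.Helper20.SiteUp

open DerivedCategory DerivedCategory.TStructure
open Groth.Agent.Lib.Helper74.ModTrunc Groth.Agent.Lib.Helper83.TruncTower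
open Groth.Agent.S9070.Aux

theorem rlim_eventually_constant_ext
    {C : Type u} [SmallCategory C] {J : GrothendieckTopology C} (O : Sheaf J CommRingCat.{u})
    [HasExt.{u} (ModSite.Mod O)]
    (A : ObjectProperty (ModSite.Mod O)) [WSerre.IsWeakSerre A] (B : Set C)
    (hB : ∀ U : C, ∃ (ι : Type u) (Y : ι → C) (g : ∀ i, Y i ⟶ U), Sieve.ofArrows Y g ∈ J U ∧ ∀ i, Y i ∈ B)
    (hA : ∀ V ∈ B, ∃ d : ℕ, ∀ T ∈ J V, ∃ (ι : Type u) (Y : ι → C) (g : ∀ i, Y i ⟶ V),
      (∀ i, T.arrows (g i)) ∧ Sieve.ofArrows Y g ∈ J V ∧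
      ∀ (i : ι) (F : ModSite.Mod O), A F → ∀ k : ℕ, d < k →
        Subsingleton (Abelian.Ext.{u} (ModSite.freeOn O (Y i)) F k))
    (K : ℕ → DerivedCategory (ModSite.Mod O)) (t : ∀ n, K (n + 1) ⟶ K n) [HasProduct K]
    (hK : ∀ n, WSerre.cohInPlus A (K n))
    (hconst : ∀ j : ℤ, ∃ n₀ : ℕ, ∀ n, n₀ ≤ n →
      IsIso ((DerivedCategory.homologyFunctor (ModSite.Mod O) j).map (t n)))
    (L : DerivedCategory (ModSite.Mod O)) (a : ∀ n, L ⟶ K n) (hL : CohCx.IsRlimVia K t L a) (j : ℤ) :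
    ∃ n₀ : ℕ, ∀ n, n₀ ≤ n → IsIso ((DerivedCategory.homologyFunctor (ModSite.Mod O) j).map (a n)) := by
  classical
  choose n0 hn0 using hconst
  refine ⟨n0 j, fun n hn => ?_⟩
  have hK' : ∀ n, WSerre.cohIn A (K n) ∧ ∃ c : ℤ, (K n).IsGE c := fun n => ⟨(hK n).1, (hK n).2⟩
  refine Groth.Agent.Lib.Helper74.ModTrunc.isIso_homology_of_local B hB K t L a hL j n
    (fun n' hn' => hn0 j n' (le_trans hn hn')) ?_
  intro V hV
  obtain ⟨d, hd⟩ := hA V hV
  let N : ℕ := (Finset.Icc (j - 2 - (d : ℤ)) (j + 1)).sup n0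
  have hN : ∀ n, N ≤ n → ∀ q : ℤ, j - 2 - (d : ℤ) ≤ q → q ≤ j + 1 →
      IsIso ((DerivedCategory.homologyFunctor (ModSite.Mod O) q).map (t n)) := by
    intro n hn q h1 h2
    exact hn0 q n (le_trans (Finset.le_sup (f := n0) (Finset.mem_Icc.2 ⟨h1, h2⟩)) hn)
  refine ⟨N, fun T hT => ?_⟩
  obtain ⟨ι, Y, g, hgT, hcov, hvan⟩ := hd T hT
  refine ⟨ι, Y, g, hgT, hcov, fun i n' hn' => ?_⟩
  have hS : ∀ F : ModSite.Mod O, A F → ∀ k : ℕ, d < k →
      Subsingleton (Abelian.Ext.{u} (ModSite.freeOn O (Y i)) F k) := fun F hF k hk =>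
    hvan i F hF k hk
  constructor
  · intro y hy
    exact Groth.Agent.Lib.Helper74.ModTrunc.Dev.tower_inj (ModSite.freeOn O (Y i)) A d hS K t hK'
      L a hL j N hN n' hn' y hy
  · intro z
    exact Groth.Agent.Lib.Helper74.ModTrunc.Dev.tower_surj (ModSite.freeOn O (Y i)) A d hS K t hK'
      L a hL j N (fun n hn q h1 h2 => hN n hn q (by omega) h2) n' hn' z


variable {C : Type u} [SmallCategory C] {J : GrothendieckTopology C}
  {O_C : Sheaf J CommRingCat.{u}}
  {D : Type u} [SmallCategory D] {K : GrothendieckTopology D} {O_D : Sheaf K CommRingCat.{u}}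

section

variable (f : ModSite.RMor O_C O_D) [PreservesFiniteLimits f.pull] [SiteCmp.HasRpushD f]
    [HasExt.{u} (ModSite.Mod O_D)]
    (adj : SiteCmp.pullD f ⊣ SiteCmp.RpushD f)
    (A : ObjectProperty (ModSite.Mod O_C)) [WSerre.IsWeakSerre A]
    (A' : ObjectProperty (ModSite.Mod O_D)) [WSerre.IsWeakSerre A']
    (h2a : ∀ F' : ModSite.Mod O_D, A' F' → A (f.pull.obj F'))
    (h2b : ∀ F' G' : ModSite.Mod O_D, A' F' → A' G' →
      Function.Bijective (fun φ : F' ⟶ G' => f.pull.map φ))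
    (h2c : ∀ F : ModSite.Mod O_C, A F → ∃ F' : ModSite.Mod O_D, A' F' ∧ Nonempty (f.pull.obj F' ≅ F))
    (h3 : ∀ F' : ModSite.Mod O_D, A' F' → IsIso (adj.unit.app (SiteCmp.inD O_D F')))
    (B : Set C) (B' : Set D)
    (hB : ∀ U : C, ∃ (ι : Type u) (Y : ι → C) (g : ∀ i, Y i ⟶ U), Sieve.ofArrows Y g ∈ J U ∧ ∀ i, Y i ∈ B)
    (hA : ∀ V ∈ B, ∃ d : ℕ, ∀ T ∈ J V, ∃ (ι : Type u) (Y : ι → C) (g : ∀ i, Y i ⟶ V),
      (∀ i, T.arrows (g i)) ∧ Sieve.ofArrows Y g ∈ J V ∧
      ∀ (i : ι) (F : ModSite.Mod O_C), A F → ∀ k : ℕ, d < k → Subsingleton (ModSite.HU O_C F k (Y i)))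
    (hB' : ∀ U : D, ∃ (ι : Type u) (Y : ι → D) (g : ∀ i, Y i ⟶ U), Sieve.ofArrows Y g ∈ K U ∧ ∀ i, Y i ∈ B')
    (hA' : ∀ V ∈ B', ∃ d : ℕ, ∀ T ∈ K V, ∃ (ι : Type u) (Y : ι → D) (g : ∀ i, Y i ⟶ V),
      (∀ i, T.arrows (g i)) ∧ Sieve.ofArrows Y g ∈ K V ∧
      ∀ (i : ι) (F : ModSite.Mod O_D), A' F → ∀ k : ℕ, d < k →
        Subsingleton (Abelian.Ext.{u} (ModSite.freeOn O_D (Y i)) F k))

lemma isIso_homology_pullD_iff {Y Y' : DerivedCategory (ModSite.Mod O_D)} (φ : Y ⟶ Y') (j : ℤ) :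
    IsIso ((homologyFunctor (ModSite.Mod O_C) j).map ((SiteCmp.pullD f).map φ)) ↔
      IsIso (f.pull.map ((homologyFunctor (ModSite.Mod O_D) j).map φ)) :=
  NatIso.isIso_map_iff (Groth.Agent.Lib.Helper6.ExactDC.homologyIso f.pull j) φ

include h2a h2b h2c h3 hB hA hB' hA' in
theorem part2 (X : DerivedCategory (ModSite.Mod O_C)) (hX : WSerre.cohIn A X) :
    WSerre.cohIn A' ((SiteCmp.RpushD f).obj X) ∧ IsIso (adj.counit.app X) := by
  letI : (SiteCmp.RpushD f).CommShift ℤ := adj.rightAdjointCommShift ℤ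
  haveI : adj.CommShift ℤ := adj.commShift_of_leftAdjoint ℤ
  haveI : (SiteCmp.RpushD f).IsTriangulated := adj.isTriangulated_rightAdjoint
  have h69 := Groth.Agent.S9069.result f adj A A' h2a h2b h2c h3
  haveI : HasProduct (CohCx.truncTower X) := hasProduct_nat O_C _
  haveI : HasProduct (fun n => (SiteCmp.RpushD f).obj (CohCx.truncTower X n)) :=
    hasProduct_nat O_D _
  haveI : PreservesLimit (Discrete.functor (CohCx.truncTower X)) (SiteCmp.RpushD f) := by
    have := adj.rightAdjoint_preservesLimits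
    infer_instance
  have hXlim : CohCx.IsRlimVia (CohCx.truncTower X) (CohCx.truncTowerMap X) X
      (CohCx.toTruncTower X) := by
    apply isRlimVia_truncTower_modSite X B hB
    intro V hV m
    obtain ⟨d, hd⟩ := hA V hV
    refine ⟨(max ((d : ℤ) - m) (-m)).toNat, by omega, ?_⟩
    intro T hT
    obtain ⟨ι, Y, g, hgT, hcov, hvan⟩ := hd T hT
    refine ⟨ι, Y, g, hgT, hcov, fun i n hn k hk => ?_⟩
    exact hvan i _ (hX (m - k)) k (by omega)
  have hRlim := RlimFunctor.isRlimVia_map (SiteCmp.RpushD f) (CohCx.truncTower X)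
    (CohCx.truncTowerMap X) X (CohCx.toTruncTower X) hXlim
  have hXn : ∀ n, WSerre.cohInPlus A (CohCx.truncTower X n) := cohInPlus_truncTower A X hX
  have hRXn : ∀ n, WSerre.cohInPlus A' ((SiteCmp.RpushD f).obj (CohCx.truncTower X n)) :=
    fun n => (h69.2 _ (hXn n)).1
  have hεn : ∀ n, IsIso (adj.counit.app (CohCx.truncTower X n)) := fun n => (h69.2 _ (hXn n)).2
  have hconst : ∀ j : ℤ, ∃ n₀ : ℕ, ∀ n, n₀ ≤ n →
      IsIso ((homologyFunctor (ModSite.Mod O_D) j).map
        ((SiteCmp.RpushD f).map (CohCx.truncTowerMap X n))) := by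
    intro j
    refine ⟨(-j).toNat, fun n hn => ?_⟩
    have hj : -(n : ℤ) ≤ j := by omega
    have i1 := isIso_homology_truncTowerMap X n j hj
    have nat : (SiteCmp.pullD f).map ((SiteCmp.RpushD f).map (CohCx.truncTowerMap X n)) ≫
        adj.counit.app (CohCx.truncTower X n) =
        adj.counit.app (CohCx.truncTower X (n + 1)) ≫ CohCx.truncTowerMap X n :=
      adj.counit.naturality (CohCx.truncTowerMap X n)
    have := hεn n
    have := hεn (n + 1)
    have i2 : IsIso ((homologyFunctor (ModSite.Mod O_C) j).map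
        ((SiteCmp.pullD f).map ((SiteCmp.RpushD f).map (CohCx.truncTowerMap X n)))) := by
      have e := congrArg (fun φ => (homologyFunctor (ModSite.Mod O_C) j).map φ) nat
      simp only [Functor.map_comp] at e
      have e' : (homologyFunctor (ModSite.Mod O_C) j).map
          ((SiteCmp.pullD f).map ((SiteCmp.RpushD f).map (CohCx.truncTowerMap X n))) =
          ((homologyFunctor (ModSite.Mod O_C) j).map (adj.counit.app (CohCx.truncTower X (n + 1))) ≫
            (homologyFunctor (ModSite.Mod O_C) j).map (CohCx.truncTowerMap X n)) ≫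
          inv ((homologyFunctor (ModSite.Mod O_C) j).map (adj.counit.app (CohCx.truncTower X n))) := by
        rw [← e, Category.assoc, IsIso.hom_inv_id, Category.comp_id]
      rw [e']
      infer_instance
    exact isIso_of_isIso_map f.pull A' h2b ((hRXn (n + 1)).1 j) ((hRXn n).1 j) _
      ((isIso_homology_pullD_iff f _ j).1 i2)
  have h64 : ∀ j : ℤ, ∃ n₀ : ℕ, ∀ n, n₀ ≤ n →
      IsIso ((homologyFunctor (ModSite.Mod O_D) j).map
        ((SiteCmp.RpushD f).map (CohCx.toTruncTower X n))) := fun j =>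
    rlim_eventually_constant_ext O_D A' B' hB' hA'
      (fun n => (SiteCmp.RpushD f).obj (CohCx.truncTower X n))
      (fun n => (SiteCmp.RpushD f).map (CohCx.truncTowerMap X n)) hRXn hconst
      ((SiteCmp.RpushD f).obj X) (fun n => (SiteCmp.RpushD f).map (CohCx.toTruncTower X n)) hRlim j
  constructor
  · intro j
    obtain ⟨n₀, hn₀⟩ := h64 j
    have := hn₀ n₀ le_rfl
    exact A'.prop_of_iso (asIso ((homologyFunctor (ModSite.Mod O_D) j).map
      ((SiteCmp.RpushD f).map (CohCx.toTruncTower X n₀)))).symm ((hRXn n₀).1 j)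
  · rw [DerivedCategory.isIso_iff]
    intro j
    obtain ⟨n₀, hn₀⟩ := h64 j
    obtain ⟨n, hn1, hn2⟩ : ∃ n : ℕ, n₀ ≤ n ∧ -(n : ℤ) ≤ j :=
      ⟨max n₀ (-j).toNat, le_max_left _ _, by
        have := le_max_right n₀ (-j).toNat
        omega⟩
    have a1 := hn₀ n hn1
    have a2 : IsIso ((homologyFunctor (ModSite.Mod O_C) j).map
        ((SiteCmp.pullD f).map ((SiteCmp.RpushD f).map (CohCx.toTruncTower X n)))) :=
      (isIso_homology_pullD_iff f _ j).2 inferInstance
    have a3 : IsIso ((homologyFunctor (ModSite.Mod O_C) j).map (CohCx.toTruncTower X n)) :=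
      isIso_homology_toTruncTower X n j hn2
    have := hεn n
    have nat : (SiteCmp.pullD f).map ((SiteCmp.RpushD f).map (CohCx.toTruncTower X n)) ≫
        adj.counit.app (CohCx.truncTower X n) =
        adj.counit.app X ≫ CohCx.toTruncTower X n :=
      adj.counit.naturality (CohCx.toTruncTower X n)
    have e := congrArg (fun φ => (homologyFunctor (ModSite.Mod O_C) j).map φ) nat
    simp only [Functor.map_comp] at e
    have e' : (homologyFunctor (ModSite.Mod O_C) j).map (adj.counit.app X) =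
        ((homologyFunctor (ModSite.Mod O_C) j).map
          ((SiteCmp.pullD f).map ((SiteCmp.RpushD f).map (CohCx.toTruncTower X n))) ≫
          (homologyFunctor (ModSite.Mod O_C) j).map (adj.counit.app (CohCx.truncTower X n))) ≫
        inv ((homologyFunctor (ModSite.Mod O_C) j).map (CohCx.toTruncTower X n)) := by
      rw [e, Category.assoc, IsIso.hom_inv_id, Category.comp_id]
    rw [e']
    infer_instance

include h2a h2b h2c h3 hB hA hB' hA' in
theorem part1 (Y : DerivedCategory (ModSite.Mod O_D)) (hY : WSerre.cohIn A' Y) :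
    WSerre.cohIn A ((SiteCmp.pullD f).obj Y) ∧ IsIso (adj.unit.app Y) := by
  have hFY : WSerre.cohIn A ((SiteCmp.pullD f).obj Y) := fun i =>
    A.prop_of_iso ((Groth.Agent.Lib.Helper6.ExactDC.homologyIso f.pull i).app Y).symm
      (h2a _ (hY i))
  obtain ⟨hRFY, hε⟩ := part2 f adj A A' h2a h2b h2c h3 B B' hB hA hB' hA' _ hFY
  refine ⟨hFY, ?_⟩
  have tri : (SiteCmp.pullD f).map (adj.unit.app Y) ≫ adj.counit.app ((SiteCmp.pullD f).obj Y) =
      𝟙 _ := adj.left_triangle_components Y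
  have hFη : IsIso ((SiteCmp.pullD f).map (adj.unit.app Y)) := by
    have e : (SiteCmp.pullD f).map (adj.unit.app Y) =
        inv (adj.counit.app ((SiteCmp.pullD f).obj Y)) := by
      rw [← cancel_mono (adj.counit.app ((SiteCmp.pullD f).obj Y)), tri, IsIso.inv_hom_id]
    rw [e]
    infer_instance
  rw [DerivedCategory.isIso_iff]
  intro j
  exact isIso_of_isIso_map f.pull A' h2b (hY j) (hRFY j) _
    ((isIso_homology_pullD_iff f _ j).1 inferInstance)

end


end Groth.Agent.Lib.Helper20.SiteUp
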