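import Groth.Agent.Lib.Helper20.TFun
import Groth.Agent.Lib.Helper12.FlatCxRank2

/-!
# Finiteness of `T_n(M)` for finitely generated `M`

For a complex `P` of flat modules over a Noetherian ring, bounded below and with `T_n(A)` finitely
generated for all `n`, the modules `T_n(M) = H_n(P ⊗ M)` are finitely generated for all finitely
generated `M`.
-/

set_option autoImplicit false
universe u

namespace Groth.Agent.Lib.Helper20

open CategoryTheory CategoryTheory.Limits MonoidalCategory TensorProduct
  Groth.Agent.Lib.Helper12.FlatCx

section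

variable {A : Type u} [CommRing A] {ι : Type} {c : ComplexShape ι}
variable (P : HomologicalComplex (ModuleCat.{u} A) c)

theorem isZero_T_of_isZero' {q : ι} (hq : IsZero (P.X q)) (M : ModuleCat.{u} A) :
    IsZero ((CohIII.TFun P q).obj M) := by
  have h1 : IsZero ((CohIII.tensorObj P M).X q) := (tensorRight M).map_isZero hq
  exact ShortComplex.isZero_homology_of_isZero_X₂ _ h1

/-- `T_n(A^r)` is finite if `T_n(A)` is. -/
theorem finite_T_free (n : ι) (hfg : Module.Finite A (CohIII.T P n (ModuleCat.of A A))) (r : ℕ) :
    Module.Finite A ((CohIII.TFun P n).obj (ModuleCat.of A (Fin r → A))) := by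
  classical
  let F : ModuleCat.{u} A := ModuleCat.of A (Fin r → A)
  let pr : ∀ i : Fin r, F ⟶ ModuleCat.of A A := fun i => ModuleCat.ofHom (LinearMap.proj i)
  let inc : ∀ i : Fin r, ModuleCat.of A A ⟶ F := fun i => ModuleCat.ofHom (LinearMap.single A (fun _ : Fin r => A) i)
  have hsum : ∑ i, pr i ≫ inc i = 𝟙 F := by
    apply ModuleCat.hom_ext
    apply LinearMap.ext
    intro x
    rw [ModuleCat.hom_sum]
    simp only [ModuleCat.hom_comp, ModuleCat.hom_id, LinearMap.sum_apply, LinearMap.comp_apply,
      LinearMap.id_apply]
    show ∑ i, (LinearMap.single A (fun _ : Fin r => A) i) (x i) = x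
    simp only [LinearMap.coe_single]
    exact Finset.univ_sum_single x
  let T := CohIII.TFun P n
  let Ψ : (Fin r → T.obj (ModuleCat.of A A)) →ₗ[A] T.obj F :=
    ∑ i, (T.map (inc i)).hom.comp (LinearMap.proj i)
  have hΨ : Function.Surjective Ψ := by
    intro x
    refine ⟨fun i => (T.map (pr i)).hom x, ?_⟩
    have h1 : T.map (𝟙 F) = ∑ i, T.map (pr i) ≫ T.map (inc i) := by
      rw [← hsum, Functor.map_sum]
      simp only [Functor.map_comp]
    have h3 : Ψ (fun i => (T.map (pr i)).hom x) =
        (∑ i, T.map (pr i) ≫ T.map (inc i)).hom x := by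
      simp only [Ψ, LinearMap.sum_apply, LinearMap.comp_apply, LinearMap.coe_proj, Function.eval,
        ModuleCat.hom_sum, ModuleCat.hom_comp]
    rw [h3, ← h1, T.map_id]
    rfl
  have : Module.Finite A (T.obj (ModuleCat.of A A)) := hfg
  exact Module.Finite.of_surjective Ψ hΨ

end

section

variable {A : Type u} [CommRing A] [IsNoetherianRing A]
variable (P : ChainComplex (ModuleCat.{u} A) ℤ)

/-- **Finiteness of `T_n(M)`**. -/
theorem finite_T (hP : ∀ i, Module.Flat A (P.X i)) (i₀ : ℤ) (hb : ∀ i < i₀, IsZero (P.X i))
    (hfg : ∀ n : ℤ, Module.Finite A (CohIII.T P n (ModuleCat.of A A))) :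
    ∀ (n : ℤ) (M : ModuleCat.{u} A), Module.Finite A M →
      Module.Finite A ((CohIII.TFun P n).obj M) := by
  have key : ∀ k : ℕ, ∀ n : ℤ, n ≤ i₀ - 1 + k → ∀ M : ModuleCat.{u} A, Module.Finite A M →
      Module.Finite A ((CohIII.TFun P n).obj M) := by
    intro k
    induction k with
    | zero =>
      intro n hn M _
      have hz := isZero_T_of_isZero' P (hb n (by simp at hn; omega)) M
      have : Subsingleton ((CohIII.TFun P n).obj M) := ModuleCat.subsingleton_of_isZero hz
      infer_instance
    | succ k ih =>
      intro n hn M hM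
      -- a presentation of `M`
      obtain ⟨r, π, hπ⟩ := Module.Finite.exists_fin' A M
      let F : ModuleCat.{u} A := ModuleCat.of A (Fin r → A)
      let K : ModuleCat.{u} A := ModuleCat.of A (LinearMap.ker π)
      let S : ShortComplex (ModuleCat.{u} A) :=
        ShortComplex.mk (X₁ := K) (X₂ := F) (X₃ := M) (ModuleCat.ofHom (LinearMap.ker π).subtype)
          (ModuleCat.ofHom π) (by
            ext x
            exact x.2)
      have hS : S.ShortExact := by
        apply ModuleCat.shortComplex_shortExact
        · intro y
          constructor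
          · intro hy
            exact ⟨⟨y, hy⟩, rfl⟩
          · rintro ⟨x, rfl⟩
            exact x.2
        · exact Subtype.val_injective
        · exact hπ
      have hSE := tensorSC_shortExact P hP S hS
      have hrel : (ComplexShape.down ℤ).Rel n (n - 1) := by
        show n - 1 + 1 = n
        ring
      have hex := hSE.homology_exact₃ n (n - 1) hrel
      have hfe : Function.Exact
          (HomologicalComplex.homologyMap (tensorSC P S).g n).hom (hSE.δ n (n - 1) hrel).hom :=
        (ShortComplex.ShortExact.moduleCat_exact_iff_function_exact _).mp hex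
      have hK : Module.Finite A K := by
        show Module.Finite A (LinearMap.ker π)
        infer_instance
      have h1 : Module.Finite A ((CohIII.TFun P n).obj F) := finite_T_free P n (hfg n) r
      have h2 : Module.Finite A ((CohIII.TFun P (n - 1)).obj K) :=
        ih (n - 1) (by push_cast at hn; omega) K hK
      have hn1 : IsNoetherian A ((CohIII.TFun P n).obj F) := isNoetherian_of_isNoetherianRing_of_finite A _
      have hn2 : IsNoetherian A ((CohIII.TFun P (n - 1)).obj K) :=
        isNoetherian_of_isNoetherianRing_of_finite A _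
      have hn1' : IsNoetherian A ((tensorSC P S).X₂.homology n) := hn1
      have hn2' : IsNoetherian A ((tensorSC P S).X₁.homology (n - 1)) := hn2
      have hn3 : IsNoetherian A ((tensorSC P S).X₃.homology n) :=
        isNoetherian_of_range_eq_ker
          (HomologicalComplex.homologyMap (tensorSC P S).g n).hom (hSE.δ n (n - 1) hrel).hom
          (LinearMap.exact_iff.mp hfe).symm
      have hn4 : IsNoetherian A ((CohIII.TFun P n).obj M) := hn3
      infer_instance
  intro n M hM
  by_cases hn : n < i₀
  · exact key 0 n (by simp; omega) M hM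
  · exact key (n - (i₀ - 1)).toNat n (by
      have : ((n - (i₀ - 1)).toNat : ℤ) = n - (i₀ - 1) := Int.toNat_of_nonneg (by omega)
      omega) M hM

end

end Groth.Agent.Lib.Helper20
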