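import Groth.Agent.Lib.Helper20.BcCompare

/-!
# Flat base change for `Tor` of single modules

`A → A'` flat; `E = ModuleCat.extendScalars`, `R = ModuleCat.restrictScalars`.
* `E` preserves projective objects and homology; a projective resolution of `Q` maps to a
  projective resolution of `E Q`.
* `torBcRestrictIso`: `R (Tor^{A'}_n(P', E Q)) ≅ Tor^A_n(P', Q)` for an `A'`-module `P'`.
-/

set_option autoImplicit false
universe u

namespace Groth.Agent.Lib.Helper20.TorBc

open CategoryTheory CategoryTheory.Limits MonoidalCategory TensorProduct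
  Groth.Agent.Lib.Helper12.FlatCx Groth.Agent.Lib.Helper20

variable {A A' : Type u} [CommRing A] [CommRing A'] [Algebra A A']

/-- extension of scalars -/
noncomputable abbrev E : ModuleCat.{u} A ⥤ ModuleCat.{u} A' :=
  ModuleCat.extendScalars (algebraMap A A')

/-- restriction of scalars -/
noncomputable abbrev R : ModuleCat.{u} A' ⥤ ModuleCat.{u} A :=
  ModuleCat.restrictScalars (algebraMap A A')

instance : (E (A := A) (A' := A')).PreservesProjectiveObjects :=
  Functor.preservesProjectiveObjects_of_adjunction_of_preservesEpimorphisms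
    (ModuleCat.extendRestrictScalarsAdj (algebraMap A A'))

instance [Module.Flat A A'] : PreservesFiniteLimits (E (A := A) (A' := A')) :=
  ModuleCat.preservesFiniteLimits_extendScalars_of_flat
    ((RingHom.flat_algebraMap_iff).mpr inferInstance)

instance [Module.Flat A A'] : (E (A := A) (A' := A')).PreservesHomology := inferInstance

variable (P' : Type u) [AddCommGroup P'] [Module A' P'] [Module A P'] [IsScalarTower A A' P']

/-- `P' ⊗_{A'} (A' ⊗_A M) ≃ P' ⊗_A M`, `A'`-linear version -/
noncomputable def cmpX' (M : ModuleCat.{u} A) :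
    ((ModuleCat.of A' P') ⊗ (E (A' := A')).obj M : ModuleCat.{u} A') ≃ₗ[A'] P' ⊗[A] M :=
  (TensorProduct.congr (LinearEquiv.refl A' P') (extendScalarsObjEquiv (S := A') M)).trans
      (TensorProduct.AlgebraTensorModule.cancelBaseChange A A' A' P' M)

lemma cmpX'_naturality {M N : ModuleCat.{u} A} (g : M ⟶ N)
    (y : ((ModuleCat.of A' P') ⊗ (E (A' := A')).obj M : ModuleCat.{u} A')) :
    cmpX' P' N (((ModuleCat.of A' P') ◁ (E (A' := A')).map g).hom y) =
      (g.hom.lTensor P') (cmpX' P' M y) := by
  induction y using TensorProduct.induction_on with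
  | zero => simp
  | add y z hy hz => rw [map_add, map_add, map_add, map_add, hy, hz]
  | tmul p y =>
    change TensorProduct.AlgebraTensorModule.cancelBaseChange A A' A' P' N
        (p ⊗ₜ[A'] (extendScalarsObjEquiv (S := A') N (((E (A' := A')).map g).hom y))) =
      (g.hom.lTensor P') (TensorProduct.AlgebraTensorModule.cancelBaseChange A A' A' P' M
        (p ⊗ₜ[A'] (extendScalarsObjEquiv (S := A') M y)))
    rw [extendScalarsObjEquiv_map]
    generalize extendScalarsObjEquiv (S := A') M y = z
    induction z using TensorProduct.induction_on with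
    | zero => simp
    | tmul a m => rfl
    | add z w hz hw =>
      rw [map_add, TensorProduct.tmul_add, TensorProduct.tmul_add, map_add, map_add, map_add, hz, hw]

/-- `P' ⊗_{A'} (A' ⊗_A M) ≃ P' ⊗_A M` -/
noncomputable def cmpX (M : ModuleCat.{u} A) :
    (R (A := A)).obj ((ModuleCat.of A' P') ⊗ (E (A' := A')).obj M) ≃ₗ[A]
      ((ModuleCat.of A P') ⊗ M : ModuleCat.{u} A) :=
  restrictEquiv (A := A) (B := A') (E := (ModuleCat.of A' P') ⊗ (E (A' := A')).obj M)
    (N := P' ⊗[A] M) (cmpX' P' M)

lemma cmpX_naturality {M N : ModuleCat.{u} A} (g : M ⟶ N)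
    (x : (R (A := A)).obj ((ModuleCat.of A' P') ⊗ (E (A' := A')).obj M)) :
    cmpX P' N (((R (A := A)).map ((ModuleCat.of A' P') ◁ (E (A' := A')).map g)).hom x) =
      ((ModuleCat.of A P') ◁ g).hom (cmpX P' M x) :=
  cmpX'_naturality P' g x


section cx

variable {ι : Type} {c : ComplexShape ι} (K : HomologicalComplex (ModuleCat.{u} A) c)

/-- `R (P' ⊗_{A'} E K) ≅ P' ⊗_A K` for a complex `K`. -/
noncomputable def cxIso :
    ((R (A := A) (A' := A')).mapHomologicalComplex c).obj
      ((((tensoringLeft (ModuleCat.{u} A')).obj (ModuleCat.of A' P')).mapHomologicalComplex c).obj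
        (((E (A := A) (A' := A')).mapHomologicalComplex c).obj K)) ≅
    (((tensoringLeft (ModuleCat.{u} A)).obj (ModuleCat.of A P')).mapHomologicalComplex c).obj K :=
  HomologicalComplex.Hom.isoOfComponents (fun i => (cmpX P' (K.X i)).toModuleIso)
    (by
      intro i j _
      apply ModuleCat.hom_ext
      apply LinearMap.ext
      intro x
      exact (cmpX_naturality P' (K.d i j) x).symm)

end cx

/-- **Flat base change for Tor**: `R (Tor^{A'}_n(P', E Q)) ≅ Tor^A_n(P', Q)`. -/
noncomputable def torBcRestrictIso [Module.Flat A A'] (Q₀ : ModuleCat.{u} A) (n : ℕ) :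
    (R (A := A) (A' := A')).obj
      (((Tor (ModuleCat.{u} A') n).obj (ModuleCat.of A' P')).obj ((E (A' := A')).obj Q₀)) ≅
    ((Tor (ModuleCat.{u} A) n).obj (ModuleCat.of A P')).obj Q₀ :=
  let F := projectiveResolution Q₀
  let F' := (E (A := A) (A' := A')).mapProjectiveResolution F
  let K' := (((tensoringLeft (ModuleCat.{u} A')).obj (ModuleCat.of A' P')).mapHomologicalComplex
    (ComplexShape.down ℕ)).obj F'.complex
  let e₁ := (R (A := A) (A' := A')).mapIso
      (F'.isoLeftDerivedObj ((tensoringLeft (ModuleCat.{u} A')).obj (ModuleCat.of A' P')) n)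
  let e₂ := (K'.sc n).mapHomologyIso (R (A := A) (A' := A'))
  let e₃ := (HomologicalComplex.homologyFunctor _ _ n).mapIso (cxIso P' F.complex)
  let e₄ := F.isoLeftDerivedObj ((tensoringLeft (ModuleCat.{u} A)).obj (ModuleCat.of A P')) n
  e₁ ≪≫ e₂.symm ≪≫ e₃ ≪≫ e₄.symm

section cx2

variable (X : ModuleCat.{u} A) {ι : Type} {c : ComplexShape ι}
  (K : HomologicalComplex (ModuleCat.{u} A) c)

/-- `E X ⊗_{A'} E K ≅ E (X ⊗_A K)` for a complex `K`. -/
noncomputable def cxIsoE :
    ((((tensoringLeft (ModuleCat.{u} A')).obj ((E (A' := A')).obj X)).mapHomologicalComplex c).obj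
        (((E (A := A) (A' := A')).mapHomologicalComplex c).obj K)) ≅
    ((E (A := A) (A' := A')).mapHomologicalComplex c).obj
      ((((tensoringLeft (ModuleCat.{u} A)).obj X).mapHomologicalComplex c).obj K) :=
  HomologicalComplex.Hom.isoOfComponents
    (fun i => Functor.Monoidal.μIso (E (A := A) (A' := A')) X (K.X i))
    (by
      intro i j _
      exact (Functor.LaxMonoidal.μ_natural_right (E (A := A) (A' := A')) X (K.d i j)).symm)

end cx2

/-- **Flat base change for Tor**, second form: `Tor^{A'}_n(E P, E Q) ≅ E (Tor^A_n(P, Q))`. -/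
noncomputable def torBcIso [Module.Flat A A'] (X Q₀ : ModuleCat.{u} A) (n : ℕ) :
    ((Tor (ModuleCat.{u} A') n).obj ((E (A' := A')).obj X)).obj ((E (A' := A')).obj Q₀) ≅
    (E (A' := A')).obj (((Tor (ModuleCat.{u} A) n).obj X).obj Q₀) :=
  let F := projectiveResolution Q₀
  let F' := (E (A := A) (A' := A')).mapProjectiveResolution F
  let K := (((tensoringLeft (ModuleCat.{u} A)).obj X).mapHomologicalComplex
    (ComplexShape.down ℕ)).obj F.complex
  let e₁ := F'.isoLeftDerivedObj ((tensoringLeft (ModuleCat.{u} A')).obj ((E (A' := A')).obj X)) n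
  let e₂ := (HomologicalComplex.homologyFunctor _ _ n).mapIso (cxIsoE (A' := A') X F.complex)
  let e₃ := (K.sc n).mapHomologyIso (E (A := A) (A' := A'))
  let e₄ := (E (A := A) (A' := A')).mapIso
    (F.isoLeftDerivedObj ((tensoringLeft (ModuleCat.{u} A)).obj X) n)
  e₁ ≪≫ e₂ ≪≫ e₃ ≪≫ e₄.symm

end Groth.Agent.Lib.Helper20.TorBc
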