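import Groth.Agent.Lib.Helper20.TorBc
import Groth.Agent.S3535
set_option autoImplicit false
universe u

/-!
# Base change for `Tor` under Tor-independence (no flatness)
-/

namespace Groth.Agent.Lib.Helper20.TorBc

open CategoryTheory CategoryTheory.Limits MonoidalCategory TensorProduct
  Groth.Agent.Lib.Helper12.FlatCx Groth.Agent.Lib.Helper20

variable {A A' : Type u} [CommRing A] [CommRing A'] [Algebra A A']

section indep

variable {X : ModuleCat.{u} A} (F : ProjectiveResolution X)

lemma isZero_of_isZero_R (N : ModuleCat.{u} A') (h : IsZero ((R (A := A) (A' := A')).obj N)) :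
    IsZero N := by
  have : Subsingleton ((R (A := A) (A' := A')).obj N) := ModuleCat.subsingleton_of_isZero h
  have : Subsingleton N := this
  exact ModuleCat.isZero_of_subsingleton N

/-- exactness of `E F•` in positive degrees from Tor-vanishing -/
lemma exactAt_succ_E
    (h : ∀ n : ℕ, IsZero (((Tor (ModuleCat.{u} A) (n + 1)).obj X).obj (ModuleCat.of A A'))) (n : ℕ) :
    (((E (A := A) (A' := A')).mapHomologicalComplex _).obj F.complex).ExactAt (n + 1) := by
  rw [HomologicalComplex.exactAt_iff_isZero_homology]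
  apply isZero_of_isZero_R (A := A)
  obtain ⟨e⟩ := Groth.Agent.S3535.result A X (ModuleCat.of A A') F (n + 1)
  exact IsZero.of_iso (h n) (homologyBcRestrictIso (B := A') F.complex (n + 1) ≪≫ e.symm)


/-- `E F• → E X` is a quasi-isomorphism under Tor-independence. -/
lemma quasiIso_map_π
    (h : ∀ n : ℕ, IsZero (((Tor (ModuleCat.{u} A) (n + 1)).obj X).obj (ModuleCat.of A A'))) :
    QuasiIso (((E (A := A) (A' := A')).mapHomologicalComplex _).map F.π) := by
  refine ⟨fun n => ?_⟩
  cases n with
  | zero =>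
    rw [ChainComplex.quasiIsoAt₀_iff, ShortComplex.quasiIso_iff_of_zeros']
    · rw [ShortComplex.exact_and_epi_g_iff_g_is_cokernel]
      exact ⟨CokernelCofork.mapIsColimit _ (F.isColimitCokernelCofork) (E (A := A) (A' := A'))⟩
    · change (E (A := A) (A' := A')).map (F.complex.d 0 0) = 0
      rw [F.complex.shape 0 0 (by simp), Functor.map_zero]
    · change (E (A := A) (A' := A')).map (((ChainComplex.single₀ _).obj X).d 1 0) = 0
      rw [HomologicalComplex.single_obj_d, Functor.map_zero]
    · change (E (A := A) (A' := A')).map (((ChainComplex.single₀ _).obj X).d 0 0) = 0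
      rw [HomologicalComplex.single_obj_d, Functor.map_zero]
  | succ n =>
    rw [quasiIsoAt_iff_exactAt']
    · exact exactAt_succ_E F h n
    · rw [HomologicalComplex.exactAt_iff]
      apply ShortComplex.exact_of_isZero_X₂
      exact Functor.map_isZero (E (A := A) (A' := A')) (HomologicalComplex.isZero_single_obj_X (ComplexShape.down ℕ) 0 X (n + 1) (by simp))


/-- the projective resolution `E F•` of `E X` under Tor-independence -/
noncomputable def resE
    (h : ∀ n : ℕ, IsZero (((Tor (ModuleCat.{u} A) (n + 1)).obj X).obj (ModuleCat.of A A'))) :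
    ProjectiveResolution ((E (A := A) (A' := A')).obj X) where
  complex := ((E (A := A) (A' := A')).mapHomologicalComplex _).obj F.complex
  projective n := Functor.PreservesProjectiveObjects.projective_obj
    (F := E (A := A) (A' := A')) (F.projective n)
  π := ((E (A := A) (A' := A')).mapHomologicalComplex _).map F.π ≫
    (HomologicalComplex.singleMapHomologicalComplex _ _ _).hom.app _
  quasiIso := by
    have := quasiIso_map_π F h
    infer_instance

end indep

section right

variable (Q' : Type u) [AddCommGroup Q'] [Module A' Q'] [Module A Q'] [IsScalarTower A A' Q']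

/-- `(A' ⊗_A M) ⊗_{A'} Q' ≃ Q' ⊗_A M`, `A'`-linear -/
noncomputable def cmpXr' (M : ModuleCat.{u} A) :
    ((E (A' := A')).obj M ⊗ (ModuleCat.of A' Q') : ModuleCat.{u} A') ≃ₗ[A'] Q' ⊗[A] M :=
  (TensorProduct.comm A' ((E (A' := A')).obj M) Q').trans (cmpX' Q' M)

lemma cmpXr'_naturality {M N : ModuleCat.{u} A} (g : M ⟶ N)
    (y : ((E (A' := A')).obj M ⊗ (ModuleCat.of A' Q') : ModuleCat.{u} A')) :
    cmpXr' Q' N (((E (A' := A')).map g ▷ (ModuleCat.of A' Q')).hom y) =
      (g.hom.lTensor Q') (cmpXr' Q' M y) := by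
  induction y using TensorProduct.induction_on with
  | zero => simp
  | add y z hy hz => rw [map_add, map_add, map_add, map_add, hy, hz]
  | tmul e q => exact cmpX'_naturality Q' g (q ⊗ₜ e)

/-- `R ((A' ⊗_A M) ⊗_{A'} Q') ≃ M ⊗_A Q'` -/
noncomputable def cmpXr (M : ModuleCat.{u} A) :
    (R (A := A)).obj ((E (A' := A')).obj M ⊗ (ModuleCat.of A' Q')) ≃ₗ[A]
      (M ⊗ (ModuleCat.of A Q') : ModuleCat.{u} A) :=
  (restrictEquiv (A := A) (B := A') (E := (E (A' := A')).obj M ⊗ (ModuleCat.of A' Q'))
    (N := Q' ⊗[A] M) (cmpXr' Q' M)).trans (TensorProduct.comm A Q' M)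

lemma cmpXr_naturality {M N : ModuleCat.{u} A} (g : M ⟶ N)
    (x : (R (A := A)).obj ((E (A' := A')).obj M ⊗ (ModuleCat.of A' Q'))) :
    cmpXr Q' N (((R (A := A)).map ((E (A' := A')).map g ▷ (ModuleCat.of A' Q'))).hom x) =
      (g ▷ (ModuleCat.of A Q')).hom (cmpXr Q' M x) := by
  change TensorProduct.comm A Q' N (cmpXr' Q' N (((E (A' := A')).map g ▷ (ModuleCat.of A' Q')).hom
    (show ((E (A' := A')).obj M ⊗ (ModuleCat.of A' Q') : ModuleCat.{u} A') from x))) =
    (g ▷ (ModuleCat.of A Q')).hom (TensorProduct.comm A Q' M (cmpXr' Q' M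
      (show ((E (A' := A')).obj M ⊗ (ModuleCat.of A' Q') : ModuleCat.{u} A') from x)))
  rw [cmpXr'_naturality]
  generalize cmpXr' Q' M
      (show ((E (A' := A')).obj M ⊗ (ModuleCat.of A' Q') : ModuleCat.{u} A') from x) = z
  induction z using TensorProduct.induction_on with
  | zero => simp
  | tmul q m => rfl
  | add z w hz hw => rw [map_add, map_add, map_add, map_add, hz, hw]

variable {ι : Type} {c : ComplexShape ι} (K : HomologicalComplex (ModuleCat.{u} A) c)

/-- `R (E K ⊗_{A'} Q') ≅ K ⊗_A Q'` for a complex `K`. -/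
noncomputable def cxIsoRight :
    ((R (A := A) (A' := A')).mapHomologicalComplex c).obj
      (((tensorRight (ModuleCat.of A' Q')).mapHomologicalComplex c).obj
        (((E (A := A) (A' := A')).mapHomologicalComplex c).obj K)) ≅
    ((tensorRight (ModuleCat.of A Q')).mapHomologicalComplex c).obj K :=
  HomologicalComplex.Hom.isoOfComponents (fun i => (cmpXr Q' (K.X i)).toModuleIso)
    (by
      intro i j _
      apply ModuleCat.hom_ext
      apply LinearMap.ext
      intro x
      exact (cmpXr_naturality Q' (K.d i j) x).symm)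


/-- **Base change for Tor under Tor-independence**:
`R (Tor^{A'}_n(E X, Q')) ≅ Tor^A_n(X, Q')` when `Tor^A_q(X, A') = 0` for `q ≥ 1`. -/
theorem nonempty_torIndepIso (X : ModuleCat.{u} A)
    (h : ∀ n : ℕ, IsZero (((Tor (ModuleCat.{u} A) (n + 1)).obj X).obj (ModuleCat.of A A')))
    (n : ℕ) :
    Nonempty ((R (A := A) (A' := A')).obj
        (((Tor (ModuleCat.{u} A') n).obj ((E (A' := A')).obj X)).obj (ModuleCat.of A' Q')) ≅
      ((Tor (ModuleCat.{u} A) n).obj X).obj (ModuleCat.of A Q')) := by
  let F := projectiveResolution X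
  let F' := resE (A' := A') F h
  obtain ⟨e₁⟩ := Groth.Agent.S3535.result A' ((E (A' := A')).obj X) (ModuleCat.of A' Q') F' n
  obtain ⟨e₄⟩ := Groth.Agent.S3535.result A X (ModuleCat.of A Q') F n
  let K' := ((tensorRight (ModuleCat.of A' Q')).mapHomologicalComplex
    (ComplexShape.down ℕ)).obj F'.complex
  let e₂ := (K'.sc n).mapHomologyIso (R (A := A) (A' := A'))
  let e₃ := (HomologicalComplex.homologyFunctor _ _ n).mapIso (cxIsoRight (A' := A') Q' F.complex)
  exact ⟨(R (A := A) (A' := A')).mapIso e₁ ≪≫ e₂.symm ≪≫ e₃ ≪≫ e₄.symm⟩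

end right

end Groth.Agent.Lib.Helper20.TorBc
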