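import Groth.Agent.S9080
import Groth.Agent.S9069
import Groth.Agent.Lib.Helper20.LocalVanish

/-!
# The derived unit `F' ⟶ Rf_* f^* F'` at a module, from local vanishing (helper20)
-/

set_option autoImplicit false
universe u
open CategoryTheory CategoryTheory.Limits Opposite
attribute [local instance] HasDerivedCategory.standard
open SiteCmp

namespace Groth.Agent.Lib.Helper20.UnitInD

open DerivedCategory Abelian
open Groth.Agent.Lib.Helper30.ModSiteFree

variable {C : Type u} [SmallCategory C] {J : GrothendieckTopology C}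
  {O_C : Sheaf J CommRingCat.{u}}
  {D : Type u} [SmallCategory D] {K : GrothendieckTopology D} {O_D : Sheaf K CommRingCat.{u}}
  (f : ModSite.RMor O_C O_D) [PreservesFiniteLimits f.pull] [SiteCmp.HasRpushD f]
  (adj : SiteCmp.pullD f ⊣ SiteCmp.RpushD f)

omit [PreservesFiniteLimits f.pull] in
/-- `Rf_*` is left t-exact -/
lemma isGE_RpushD (Z : DerivedCategory (ModSite.Mod O_C)) (n : ℤ) (hZ : Z.IsGE n) :
    ((SiteCmp.RpushD f).obj Z).IsGE n := by
  haveI : IsGrothendieckAbelian.{u} (ModSite.Mod O_C) :=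
    Groth.Agent.S0484.result J (ModSite.ringSh O_C)
  have hA : Groth.Agent.Lib.Helper32.KInjDerived.HasKInjRes (ModSite.Mod O_C) := by
    intro M
    obtain ⟨I, g, hI, hg, -, -⟩ := Groth.Agent.Lib.Helper32.KInjRes.exists_kInjective_resolution M
    exact ⟨I, g, hI, hg⟩
  exact Groth.Agent.Lib.Helper32.WayOut.isGE_rightDerived hA f.push _
      ((SiteCmp.pushKh f).totalRightDerivedUnit DerivedCategory.Qh
        (HomotopyCategory.quasiIso (ModSite.Mod O_C) (ComplexShape.up ℤ))) Z n hZ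

/-- `f^*(F'[0]) ≅ (f^*F')[0]` -/
noncomputable def pullDInD (F' : ModSite.Mod O_D) :
    (SiteCmp.pullD f).obj (SiteCmp.inD O_D F') ≅ SiteCmp.inD O_C (f.pull.obj F') :=
  (f.pull.mapDerivedCategorySingleFunctor 0).app F'

include adj in
/-- vanishing of maps `freeOn V [0] ⟶ (Rf_* f^* F'[0])[k]` from vanishing of `Ext^k` upstairs -/
lemma hom_freeOn_RpushD_eq_zero [HasExt.{u} (ModSite.Mod O_C)] (F' : ModSite.Mod O_D) (V : D) (k : ℕ)
    (hv : Subsingleton (Ext.{u} (ModSite.freeOn O_C (f.fn.obj V)) (f.pull.obj F') k))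
    (y : SiteCmp.inD O_D (ModSite.freeOn O_D V) ⟶
      ((SiteCmp.RpushD f).obj ((SiteCmp.pullD f).obj (SiteCmp.inD O_D F')))⟦(k : ℤ)⟧) : y = 0 := by
  letI : (SiteCmp.RpushD f).CommShift ℤ := adj.rightAdjointCommShift ℤ
  haveI : (SiteCmp.RpushD f).Additive := adj.right_adjoint_additive
  let X := (SiteCmp.pullD f).obj (SiteCmp.inD O_D F')
  let c := ((SiteCmp.RpushD f).commShiftIso (k : ℤ)).app X
  -- c : RpushD (X⟦k⟧) ≅ (RpushD X)⟦k⟧
  let y' : SiteCmp.inD O_D (ModSite.freeOn O_D V) ⟶ (SiteCmp.RpushD f).obj (X⟦(k : ℤ)⟧) :=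
    y ≫ c.inv
  let z := (adj.homEquiv _ _).symm y'
  have hsub : Subsingleton ((SiteCmp.pullD f).obj (SiteCmp.inD O_D (ModSite.freeOn O_D V)) ⟶
      X⟦(k : ℤ)⟧) := by
    let a : SiteCmp.inD O_C (ModSite.freeOn O_C (f.fn.obj V)) ≅
        (SiteCmp.pullD f).obj (SiteCmp.inD O_D (ModSite.freeOn O_D V)) :=
      (DerivedCategory.singleFunctor _ 0).mapIso
        (Groth.Agent.Lib.Helper20.SiteUp.pullFreeOnIso f V).symm ≪≫
        (pullDInD f (ModSite.freeOn O_D V)).symm
    let b : X⟦(k : ℤ)⟧ ≅ (SiteCmp.inD O_C (f.pull.obj F'))⟦(k : ℤ)⟧ :=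
      (shiftFunctor _ (k : ℤ)).mapIso (pullDInD f F')
    have h1 : Subsingleton (SiteCmp.inD O_C (ModSite.freeOn O_C (f.fn.obj V)) ⟶
        (SiteCmp.inD O_C (f.pull.obj F'))⟦(k : ℤ)⟧) :=
      (Ext.homEquiv (X := ModSite.freeOn O_C (f.fn.obj V)) (Y := f.pull.obj F')
        (n := k)).symm.injective.subsingleton
    refine ⟨fun p q => ?_⟩
    have h2 : a.hom ≫ p ≫ b.hom = a.hom ≫ q ≫ b.hom := Subsingleton.elim _ _
    exact (cancel_epi a.hom).1 ((cancel_mono b.hom).1 (by simpa using h2))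
  have hz : z = 0 := Subsingleton.elim _ _
  have hy' : y' = 0 := by
    have : y' = adj.homEquiv _ _ z := ((adj.homEquiv _ _).apply_symm_apply y').symm
    rw [this, hz, Adjunction.homEquiv_unit, Functor.map_zero, comp_zero]
  have : y = y' ≫ c.hom := by simp [y']
  rw [this, hy', zero_comp]


section General

variable {𝒜 ℬ : Type*} [Category 𝒜] [Category ℬ] {L : 𝒜 ⥤ ℬ} {R : ℬ ⥤ 𝒜} (adj' : L ⊣ R)

lemma map_eq_homEquiv_symm (N X : 𝒜) (φ : N ⟶ X) :
    L.map φ = (adj'.homEquiv N (L.obj X)).symm (φ ≫ adj'.unit.app X) := by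
  apply (adj'.homEquiv N (L.obj X)).injective
  rw [Equiv.apply_symm_apply, Adjunction.homEquiv_unit]
  exact (adj'.unit.naturality φ).symm

lemma bijective_map_of_isIso_unit (N X : 𝒜) [IsIso (adj'.unit.app X)] :
    Function.Bijective (fun φ : N ⟶ X => L.map φ) := by
  have h1 : (fun φ : N ⟶ X => L.map φ) =
      (adj'.homEquiv N (L.obj X)).symm ∘ (fun φ : N ⟶ X => φ ≫ adj'.unit.app X) := by
    funext φ
    exact map_eq_homEquiv_symm adj' N X φ
  rw [h1]
  refine (Equiv.bijective _).comp ?_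
  exact ⟨fun a b hab => (cancel_mono (adj'.unit.app X)).1 hab,
    fun c => ⟨c ≫ inv (adj'.unit.app X), by simp⟩⟩

lemma bijective_comp_unit_of_bijective_map (N X : 𝒜)
    (hb : Function.Bijective (fun φ : N ⟶ X => L.map φ)) :
    Function.Bijective (fun φ : N ⟶ X => φ ≫ adj'.unit.app X) := by
  have h1 : (fun φ : N ⟶ X => φ ≫ adj'.unit.app X) =
      (adj'.homEquiv N (L.obj X)) ∘ (fun φ : N ⟶ X => L.map φ) := by
    funext φ
    simp only [Function.comp_apply]
    rw [map_eq_homEquiv_symm adj' N X φ, Equiv.apply_symm_apply]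
  rw [h1]
  exact (Equiv.bijective _).comp hb

end General

omit [SiteCmp.HasRpushD f] in
/-- `f^*` is bijective on `Hom_D(N[0], F'[0])` when the module-level unit at `F'` is invertible -/
lemma bijective_pullD_map_single (N F' : ModSite.Mod O_D) [IsIso (f.adj.unit.app F')] :
    Function.Bijective (fun φ : SiteCmp.inD O_D N ⟶ SiteCmp.inD O_D F' =>
      (SiteCmp.pullD f).map φ) := by
  have hnat : ∀ x : N ⟶ F', (SiteCmp.pullD f).map ((DerivedCategory.singleFunctor _ 0).map x) =
      (pullDInD f N).hom ≫ (DerivedCategory.singleFunctor _ 0).map (f.pull.map x) ≫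
        (pullDInD f F').inv := by
    intro x
    have := (f.pull.mapDerivedCategorySingleFunctor 0).hom.naturality x
    rw [← Category.assoc, Iso.eq_comp_inv]
    exact this
  have hpull := bijective_map_of_isIso_unit f.adj N F'
  constructor
  · intro φ₁ φ₂ h12
    obtain ⟨x₁, rfl⟩ := (DerivedCategory.singleFunctor (ModSite.Mod O_D) 0).map_surjective φ₁
    obtain ⟨x₂, rfl⟩ := (DerivedCategory.singleFunctor (ModSite.Mod O_D) 0).map_surjective φ₂
    simp only [hnat] at h12
    have h3 : (DerivedCategory.singleFunctor (ModSite.Mod O_C) 0).map (f.pull.map x₁) =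
        (DerivedCategory.singleFunctor (ModSite.Mod O_C) 0).map (f.pull.map x₂) := by
      have h4 := (cancel_epi _).1 h12
      exact (cancel_mono _).1 h4
    have h5 : f.pull.map x₁ = f.pull.map x₂ :=
      (DerivedCategory.singleFunctor (ModSite.Mod O_C) 0).map_injective h3
    rw [hpull.1 h5]
  · intro ψ
    obtain ⟨x', hx'⟩ := (DerivedCategory.singleFunctor (ModSite.Mod O_C) 0).map_surjective
      ((pullDInD f N).inv ≫ ψ ≫ (pullDInD f F').hom)
    obtain ⟨x, rfl⟩ := hpull.2 x'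
    refine ⟨(DerivedCategory.singleFunctor _ 0).map x, ?_⟩
    show (SiteCmp.pullD f).map ((DerivedCategory.singleFunctor _ 0).map x) = ψ
    rw [hnat, hx']
    simp

include adj in
/-- **The derived unit at a module is invertible** as soon as the module-level unit is and the
higher `Ext`s out of `freeOn (uV)` into `f^*F'` vanish for `V` in a covering class `B'`. -/
theorem isIso_unit_inD [HasExt.{u} (ModSite.Mod O_C)] (F' : ModSite.Mod O_D)
    [IsIso (f.adj.unit.app F')] (B' : Set D)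
    (hB' : ∀ U : D, ∃ (ι : Type u) (Y : ι → D) (g : ∀ i, Y i ⟶ U),
      Sieve.ofArrows Y g ∈ K U ∧ ∀ i, Y i ∈ B')
    (hv : ∀ V ∈ B', ∀ k : ℕ, 0 < k →
      Subsingleton (Ext.{u} (ModSite.freeOn O_C (f.fn.obj V)) (f.pull.obj F') k)) :
    IsIso (adj.unit.app (SiteCmp.inD O_D F')) := by
  let Y := SiteCmp.inD O_D F'
  let W := (SiteCmp.RpushD f).obj ((SiteCmp.pullD f).obj Y)
  have hGE : W.IsGE 0 := by
    apply isGE_RpushD f _ 0
    exact DerivedCategory.TStructure.t.isGE_of_iso (pullDInD f F').symm 0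
  have hLE : W.IsLE 0 := by
    rw [DerivedCategory.isLE_iff]
    intro i hi
    obtain ⟨k, rfl⟩ := Int.eq_ofNat_of_zero_le hi.le
    have hk : 0 < k := by exact_mod_cast hi
    exact Groth.Agent.Lib.Helper20.LocalVanish.isZero_homology_of_local B' hB' W k
      (fun V hV y => hom_freeOn_RpushD_eq_zero f adj F' V k (hv V hV k hk) y)
  obtain ⟨M, ⟨e⟩⟩ := DerivedCategory.exists_iso_singleFunctor_obj_of_isGE_of_isLE W 0
  let g : F' ⟶ M := (DerivedCategory.singleFunctor _ 0).preimage (adj.unit.app Y ≫ e.hom)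
  have hg : (DerivedCategory.singleFunctor _ 0).map g = adj.unit.app Y ≫ e.hom :=
    Functor.map_preimage _ _
  suffices IsIso g by
    have h1 : IsIso (adj.unit.app Y ≫ e.hom) := by rw [← hg]; infer_instance
    exact IsIso.of_isIso_comp_right (adj.unit.app Y) e.hom
  rw [isIso_iff_yoneda_map_bijective]
  intro N
  have hβ : Function.Bijective (fun φ : SiteCmp.inD O_D N ⟶ Y => φ ≫ adj.unit.app Y) :=
    bijective_comp_unit_of_bijective_map adj _ _ (bijective_pullD_map_single f N F')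
  constructor
  · intro x₁ x₂ h12
    have h3 : (DerivedCategory.singleFunctor _ 0).map x₁ ≫ adj.unit.app Y =
        (DerivedCategory.singleFunctor _ 0).map x₂ ≫ adj.unit.app Y := by
      rw [← cancel_mono e.hom, Category.assoc, Category.assoc, ← hg, ← Functor.map_comp,
        ← Functor.map_comp]
      exact congrArg _ h12
    exact (DerivedCategory.singleFunctor (ModSite.Mod O_D) 0).map_injective (hβ.1 h3)
  · intro m
    obtain ⟨φ, hφ⟩ := hβ.2 ((DerivedCategory.singleFunctor _ 0).map m ≫ e.inv)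
    obtain ⟨x, rfl⟩ := (DerivedCategory.singleFunctor (ModSite.Mod O_D) 0).map_surjective φ
    refine ⟨x, ?_⟩
    apply (DerivedCategory.singleFunctor (ModSite.Mod O_D) 0).map_injective
    rw [Functor.map_comp, hg, ← Category.assoc]
    simp only at hφ
    rw [hφ, Category.assoc, Iso.inv_hom_id, Category.comp_id]

end Groth.Agent.Lib.Helper20.UnitInD
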