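import Mathlib.AlgebraicGeometry.ValuativeCriterion
import Mathlib.AlgebraicGeometry.Stalk
import Mathlib.AlgebraicGeometry.FunctionField
import Mathlib.RingTheory.Valuation.LocalSubring

/-!
# Valuative-criterion helpers for integral schemes
-/

set_option autoImplicit false
universe u

open CategoryTheory CategoryTheory.Limits AlgebraicGeometry IsLocalRing

namespace Groth.Agent.Lib.Helper20.ValCrit

lemma isDominant_SpecMap_of_injective {A B : CommRingCat.{u}} (φ : A ⟶ B)
    (h : Function.Injective φ.hom) : IsDominant (Spec.map φ) := by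
  constructor
  show DenseRange (PrimeSpectrum.comap φ.hom)
  rw [PrimeSpectrum.denseRange_comap_iff_ker_le_nilRadical,
    (RingHom.injective_iff_ker_eq_bot _).mp h]
  exact bot_le

/-- two morphisms from the spectrum of a domain to a separated scheme that agree at the generic
point (after an injective ring map) are equal -/
lemma ext_of_injective {A B : CommRingCat.{u}} [IsDomain A] (φ : A ⟶ B)
    (h : Function.Injective φ.hom) {Z : Scheme.{u}} [Z.IsSeparated] (l₁ l₂ : Spec A ⟶ Z)
    (hl : Spec.map φ ≫ l₁ = Spec.map φ ≫ l₂) : l₁ = l₂ := by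
  have := isDominant_SpecMap_of_injective φ h
  exact ext_of_isDominant_of_isSeparated (terminal.from Z) (terminal.hom_ext _ _) (Spec.map φ) hl

/-- The core of the valuative criterion on an integral scheme: if `f : X ⟶ Y` is universally
closed and `Spec R ⟶ Y` extends `Spec K(X) ⟶ X ⟶ Y` for a valuation subring `R` of `K(X)`, then
`R` dominates the local ring of some point of `X`. -/
lemma exists_dominated_point {X Y : Scheme.{u}} [IsIntegral X] (f : X ⟶ Y) [UniversallyClosed f]
    (R : ValuationSubring X.functionField) (i₂ : Spec (CommRingCat.of R) ⟶ Y)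
    (hsq : X.fromSpecStalk (genericPoint X) ≫ f =
      Spec.map (CommRingCat.ofHom (algebraMap R X.functionField)) ≫ i₂) :
    ∃ x : X, (∀ a : X.presheaf.stalk x, algebraMap (X.presheaf.stalk x) X.functionField a ∈ R) ∧
      ∀ a ∈ IsLocalRing.maximalIdeal (X.presheaf.stalk x),
        R.valuation (algebraMap (X.presheaf.stalk x) X.functionField a) < 1 := by
  let i₁ : Spec (CommRingCat.of X.functionField) ⟶ X := X.fromSpecStalk (genericPoint X)
  have hsq' : CommSq i₁ (Spec.map (CommRingCat.ofHom (algebraMap R X.functionField))) f i₂ := ⟨hsq⟩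
  let S : ValuativeCommSq f :=
    { R := R, K := X.functionField, i₁ := i₁, i₂ := i₂, commSq := hsq' }
  have hex : ValuativeCriterion.Existence f := by
    have : UniversallyClosed f := inferInstance
    rw [UniversallyClosed.eq_valuativeCriterion] at this
    exact this.1
  obtain ⟨⟨l⟩⟩ := hex S
  let lm : Spec (CommRingCat.of R) ⟶ X := l.l
  have hl1 : Spec.map (CommRingCat.ofHom (algebraMap R X.functionField)) ≫ lm = i₁ := l.fac_left
  let x : X := lm.base (closedPoint R)
  let σ : X.presheaf.stalk x ⟶ CommRingCat.of R := Scheme.stalkClosedPointTo lm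
  have hσloc : IsLocalHom σ.hom := Scheme.isLocalHom_stalkClosedPointTo lm
  have hξx : genericPoint X ⤳ x := (genericPoint_spec X).specializes trivial
  have key : σ ≫ CommRingCat.ofHom (algebraMap R X.functionField) =
      X.presheaf.stalkSpecializes hξx := by
    apply Spec.map_injective
    have : Mono (X.fromSpecStalk x) := inferInstance
    rw [← cancel_mono (X.fromSpecStalk x)]
    rw [Spec.map_comp, Category.assoc, Scheme.Spec_stalkClosedPointTo_fromSpecStalk, hl1,
      Scheme.SpecMap_stalkSpecializes_fromSpecStalk]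
  have halg : ∀ a : X.presheaf.stalk x,
      algebraMap (X.presheaf.stalk x) X.functionField a = ((σ.hom a : R) : X.functionField) := by
    intro a
    have := congrArg (fun g => g.hom a) key
    exact this.symm
  refine ⟨x, fun a => ?_, fun a ha => ?_⟩
  · rw [halg]
    exact (σ.hom a).2
  · rw [halg]
    rw [← ValuationSubring.valuation_lt_one_iff]
    rw [IsLocalRing.mem_maximalIdeal] at ha ⊢
    intro hu
    exact ha (hσloc.map_nonunit a hu)

/-- Two points of an integral separated scheme whose local rings have the same image `R` (a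
valuation subring) in the function field coincide. More generally: if `R` dominates both. -/
lemma eq_of_dominates {X : Scheme.{u}} [IsIntegral X] [X.IsSeparated]
    (R : ValuationSubring X.functionField) (x₁ x₂ : X)
    (h₁ : ∀ a : X.presheaf.stalk x₁, algebraMap (X.presheaf.stalk x₁) X.functionField a ∈ R)
    (h₁' : ∀ a : X.presheaf.stalk x₁, ¬ IsUnit a →
      R.valuation (algebraMap (X.presheaf.stalk x₁) X.functionField a) < 1)
    (h₂ : ∀ a : X.presheaf.stalk x₂, algebraMap (X.presheaf.stalk x₂) X.functionField a ∈ R)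
    (h₂' : ∀ a : X.presheaf.stalk x₂, ¬ IsUnit a →
      R.valuation (algebraMap (X.presheaf.stalk x₂) X.functionField a) < 1) : x₁ = x₂ := by
  have hξ₁ : genericPoint X ⤳ x₁ := (genericPoint_spec X).specializes trivial
  have hξ₂ : genericPoint X ⤳ x₂ := (genericPoint_spec X).specializes trivial
  let ρ₁ : X.presheaf.stalk x₁ ⟶ CommRingCat.of R :=
    CommRingCat.ofHom ((X.presheaf.stalkSpecializes hξ₁).hom.codRestrict R.toSubring h₁)
  let ρ₂ : X.presheaf.stalk x₂ ⟶ CommRingCat.of R :=
    CommRingCat.ofHom ((X.presheaf.stalkSpecializes hξ₂).hom.codRestrict R.toSubring h₂)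
  have hloc₁ : IsLocalHom ρ₁.hom := by
    constructor
    intro a ha
    by_contra hnu
    have h1 := h₁' a hnu
    have h2 : R.valuation ((ρ₁.hom a : R) : X.functionField) = 1 :=
      (R.valuation_eq_one_iff _).mp ha
    have h3 : ((ρ₁.hom a : R) : X.functionField) =
        algebraMap (X.presheaf.stalk x₁) X.functionField a := rfl
    rw [h3] at h2
    rw [h2] at h1
    exact lt_irrefl _ h1
  have hloc₂ : IsLocalHom ρ₂.hom := by
    constructor
    intro a ha
    by_contra hnu
    have h1 := h₂' a hnu
    have h2 : R.valuation ((ρ₂.hom a : R) : X.functionField) = 1 :=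
      (R.valuation_eq_one_iff _).mp ha
    have h3 : ((ρ₂.hom a : R) : X.functionField) =
        algebraMap (X.presheaf.stalk x₂) X.functionField a := rfl
    rw [h3] at h2
    rw [h2] at h1
    exact lt_irrefl _ h1
  let inc : CommRingCat.of R ⟶ X.functionField := CommRingCat.ofHom R.subtype
  have hinc : Function.Injective inc.hom := Subtype.val_injective
  have e1 : ρ₁ ≫ inc = X.presheaf.stalkSpecializes hξ₁ := by
    ext a; rfl
  have e2 : ρ₂ ≫ inc = X.presheaf.stalkSpecializes hξ₂ := by
    ext a; rfl
  have hl : Spec.map ρ₁ ≫ X.fromSpecStalk x₁ = Spec.map ρ₂ ≫ X.fromSpecStalk x₂ := by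
    apply ext_of_injective inc hinc
    rw [← Spec.map_comp_assoc, ← Spec.map_comp_assoc, e1, e2,
      Scheme.SpecMap_stalkSpecializes_fromSpecStalk,
      Scheme.SpecMap_stalkSpecializes_fromSpecStalk]
  have c1 : (Spec.map ρ₁ ≫ X.fromSpecStalk x₁).base (closedPoint R) = x₁ := by
    rw [Scheme.Hom.comp_apply, Spec_closedPoint (f := ρ₁), Scheme.fromSpecStalk_closedPoint]
  have c2 : (Spec.map ρ₂ ≫ X.fromSpecStalk x₂).base (closedPoint R) = x₂ := by
    rw [Scheme.Hom.comp_apply, Spec_closedPoint (f := ρ₂), Scheme.fromSpecStalk_closedPoint]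
  rw [← c1, ← c2, hl]

end Groth.Agent.Lib.Helper20.ValCrit
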