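/-
Helper20 library: Veronese subrings of ℕ-graded rings.

Setting (as in rows S4396, S4411, S4412): `𝒜` an ℕ-grading of `A`, `ℬ` an ℕ-grading of `B`, `d > 0`,
`φ : B →ₐ[R] A` injective with `φ (ℬ n) = 𝒜 (n * d)`.

Main results:
* `finiteType_of_linear_retraction` : if `R₀ → B → A`, `A` of finite type over `R₀`, finite over `B`, and
  `B` is a `B`-linear retract of `A`, then `B` is of finite type over `R₀`.
* `veroneseRetraction` : the `R`-linear retraction `A → B`, with `veroneseRetraction_map`, `veroneseRetraction_mul`.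
* `veronese_finiteType` : `A` of finite type over `𝒜 0` implies `B` of finite type over `ℬ 0`.
* `veronese_zeroRingEquiv` : `ℬ 0 ≃+* 𝒜 0`.
-/
import Mathlib.RingTheory.GradedAlgebra.Basic
import Mathlib.RingTheory.GradedAlgebra.FiniteType
import Mathlib.RingTheory.Adjoin.Tower
import Mathlib.RingTheory.FiniteType
import Mathlib.RingTheory.IntegralClosure.IsIntegralClosure.Basic
import Mathlib.LinearAlgebra.DFinsupp
import Mathlib.Data.DFinsupp.Module

set_option autoImplicit false
set_option linter.style.haveILetI false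
universe u

namespace Groth.Agent.Lib.Helper20

theorem finiteType_of_linear_retraction (R₀ B A : Type*) [CommRing R₀] [CommRing B] [CommRing A]
    [Algebra R₀ B] [Algebra B A] [Algebra R₀ A] [IsScalarTower R₀ B A]
    [Algebra.FiniteType R₀ A] [Module.Finite B A] (π : A →ₗ[B] B) (hπ : Function.Surjective π) :
    Algebra.FiniteType R₀ B := by
  obtain ⟨B₀, hB₀, hfin⟩ := exists_subalgebra_of_fg (A := R₀) (B := B) (C := A)
    Algebra.FiniteType.out Module.Finite.fg_top
  have : Module.Finite B₀ A := ⟨hfin⟩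
  have : Module.Finite B₀ B := Module.Finite.of_surjective (π.restrictScalars B₀) hπ
  have : Algebra.FiniteType R₀ B₀ := (Subalgebra.fg_iff_finiteType B₀).mp hB₀
  exact Algebra.FiniteType.trans (S := B₀) inferInstance inferInstance

section Veronese

variable {R A B : Type u} [CommRing R] [CommRing A] [Algebra R A] (𝒜 : ℕ → Submodule R A)
  [GradedAlgebra 𝒜] [CommRing B] [Algebra R B] (ℬ : ℕ → Submodule R B) [GradedAlgebra ℬ]
  (d : ℕ) (φ : B →ₐ[R] A)

open DirectSum

/-- projection of `A` onto the sum of the components of degree divisible by `d`. -/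
noncomputable def veroneseProj : A →ₗ[R] A :=
  (DirectSum.coeLinearMap 𝒜) ∘ₗ (DFinsupp.filterLinearMap R (fun i => 𝒜 i) (fun i => d ∣ i)) ∘ₗ
    (DirectSum.decomposeLinearEquiv 𝒜).toLinearMap

theorem veroneseProj_of_mem {i : ℕ} {a : A} (ha : a ∈ 𝒜 i) :
    veroneseProj 𝒜 d a = if d ∣ i then a else 0 := by
  classical
  unfold veroneseProj
  simp only [LinearMap.comp_apply, LinearEquiv.coe_coe, DirectSum.decomposeLinearEquiv_apply]
  rw [DirectSum.decompose_of_mem 𝒜 ha]
  rw [DFinsupp.filterLinearMap_apply]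
  split_ifs with h
  · have : DFinsupp.filter (fun i => d ∣ i) ((DirectSum.of (fun i => ↥(𝒜 i)) i) ⟨a, ha⟩) =
        (DirectSum.of (fun i => ↥(𝒜 i)) i) ⟨a, ha⟩ :=
      DFinsupp.filter_single_pos (p := fun i => d ∣ i) i _ h
    rw [this]
    exact DirectSum.coeLinearMap_of 𝒜 i ⟨a, ha⟩
  · have : DFinsupp.filter (fun i => d ∣ i) ((DirectSum.of (fun i => ↥(𝒜 i)) i) ⟨a, ha⟩) = 0 :=
      DFinsupp.filter_single_neg (p := fun i => d ∣ i) i _ h
    rw [this]
    simp

variable {𝒜 ℬ d φ}

omit [GradedAlgebra 𝒜] [GradedAlgebra ℬ] in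
theorem veronese_map_mem (hdeg : ∀ n : ℕ, Submodule.map φ.toLinearMap (ℬ n) = 𝒜 (n * d))
    {n : ℕ} {b : B} (hb : b ∈ ℬ n) : φ b ∈ 𝒜 (n * d) := by
  rw [← hdeg n]
  exact Submodule.mem_map_of_mem hb

omit [GradedAlgebra 𝒜] [GradedAlgebra ℬ] in
theorem veronese_exists_of_mem (hdeg : ∀ n : ℕ, Submodule.map φ.toLinearMap (ℬ n) = 𝒜 (n * d))
    {n : ℕ} {a : A} (ha : a ∈ 𝒜 (n * d)) : ∃ b ∈ ℬ n, φ b = a := by
  rw [← hdeg n] at ha
  obtain ⟨b, hb, rfl⟩ := ha
  exact ⟨b, hb, rfl⟩

omit [GradedAlgebra ℬ] in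
theorem veroneseProj_mem_range (hdeg : ∀ n : ℕ, Submodule.map φ.toLinearMap (ℬ n) = 𝒜 (n * d))
    (a : A) : veroneseProj 𝒜 d a ∈ LinearMap.range φ.toLinearMap := by
  induction a using DirectSum.Decomposition.inductionOn 𝒜 with
  | zero => simp
  | @homogeneous i m =>
    rw [veroneseProj_of_mem 𝒜 d m.2]
    split_ifs with h
    · obtain ⟨k, rfl⟩ := h
      obtain ⟨b, -, hb⟩ := veronese_exists_of_mem (ℬ := ℬ) hdeg (n := k) (a := (m : A))
        (by rw [mul_comm]; exact m.2)
      exact ⟨b, hb⟩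
    · exact zero_mem _
  | add m m' h h' => rw [map_add]; exact add_mem h h'

theorem veroneseProj_map (hdeg : ∀ n : ℕ, Submodule.map φ.toLinearMap (ℬ n) = 𝒜 (n * d)) (b : B) :
    veroneseProj 𝒜 d (φ b) = φ b := by
  induction b using DirectSum.Decomposition.inductionOn ℬ with
  | zero => simp
  | @homogeneous i m =>
    rw [veroneseProj_of_mem 𝒜 d (veronese_map_mem hdeg m.2), if_pos (Dvd.intro_left i rfl)]
  | add m m' h h' => rw [map_add, map_add, h, h']

theorem veroneseProj_mul (hdeg : ∀ n : ℕ, Submodule.map φ.toLinearMap (ℬ n) = 𝒜 (n * d)) (b : B)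
    (a : A) : veroneseProj 𝒜 d (φ b * a) = φ b * veroneseProj 𝒜 d a := by
  induction b using DirectSum.Decomposition.inductionOn ℬ with
  | zero => simp
  | @homogeneous i m =>
    induction a using DirectSum.Decomposition.inductionOn 𝒜 with
    | zero => simp
    | @homogeneous j m' =>
      have h1 : φ (m : B) * (m' : A) ∈ 𝒜 (i * d + j) :=
        SetLike.mul_mem_graded (veronese_map_mem hdeg m.2) m'.2
      rw [veroneseProj_of_mem 𝒜 d h1, veroneseProj_of_mem 𝒜 d m'.2]
      have : d ∣ i * d + j ↔ d ∣ j := (Nat.dvd_add_right (Dvd.intro_left i rfl))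
      simp only [this]
      split_ifs <;> simp
    | add a a' h h' => rw [mul_add, map_add, map_add, h, h', mul_add]
  | add m m' h h' => rw [map_add, add_mul, map_add, h, h', add_mul]

/-- The `R`-linear retraction `A → B` of `φ`. -/
noncomputable def veroneseRetraction (hφ : Function.Injective φ)
    (hdeg : ∀ n : ℕ, Submodule.map φ.toLinearMap (ℬ n) = 𝒜 (n * d)) : A →ₗ[R] B :=
  (LinearEquiv.ofInjective φ.toLinearMap hφ).symm.toLinearMap ∘ₗ
    (veroneseProj 𝒜 d).codRestrict (LinearMap.range φ.toLinearMap) (veroneseProj_mem_range hdeg)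

omit [GradedAlgebra ℬ] in
theorem map_veroneseRetraction (hφ : Function.Injective φ)
    (hdeg : ∀ n : ℕ, Submodule.map φ.toLinearMap (ℬ n) = 𝒜 (n * d)) (a : A) :
    φ (veroneseRetraction hφ hdeg a) = veroneseProj 𝒜 d a := by
  unfold veroneseRetraction
  simp only [LinearMap.comp_apply, LinearEquiv.coe_coe]
  have := (LinearEquiv.ofInjective φ.toLinearMap hφ).apply_symm_apply
    ((veroneseProj 𝒜 d).codRestrict (LinearMap.range φ.toLinearMap) (veroneseProj_mem_range hdeg) a)
  exact congrArg Subtype.val this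

theorem veroneseRetraction_map (hφ : Function.Injective φ)
    (hdeg : ∀ n : ℕ, Submodule.map φ.toLinearMap (ℬ n) = 𝒜 (n * d)) (b : B) :
    veroneseRetraction hφ hdeg (φ b) = b := by
  apply hφ
  rw [map_veroneseRetraction, veroneseProj_map hdeg]

theorem veroneseRetraction_mul (hφ : Function.Injective φ)
    (hdeg : ∀ n : ℕ, Submodule.map φ.toLinearMap (ℬ n) = 𝒜 (n * d)) (b : B) (a : A) :
    veroneseRetraction hφ hdeg (φ b * a) = b * veroneseRetraction hφ hdeg a := by
  apply hφ
  rw [map_veroneseRetraction, map_mul φ, map_veroneseRetraction, veroneseProj_mul hdeg]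

end Veronese

section FiniteType

variable {R A B : Type u} [CommRing R] [CommRing A] [Algebra R A] {𝒜 : ℕ → Submodule R A}
  [GradedAlgebra 𝒜] [CommRing B] [Algebra R B] {ℬ : ℕ → Submodule R B} [GradedAlgebra ℬ]
  {d : ℕ} {φ : B →ₐ[R] A}

omit [GradedAlgebra ℬ] in
/-- every element of `A` is integral over `B` (via `φ`). -/
theorem veronese_isIntegral (hd : 0 < d)
    (hdeg : ∀ n : ℕ, Submodule.map φ.toLinearMap (ℬ n) = 𝒜 (n * d)) (a : A) :
    φ.toRingHom.IsIntegralElem a := by
  classical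
  induction a using DirectSum.Decomposition.inductionOn 𝒜 with
  | zero => exact φ.toRingHom.isIntegralElem_zero
  | @homogeneous i m =>
    letI := φ.toRingHom.toAlgebra
    change IsIntegral B (m : A)
    refine IsIntegral.of_pow hd ?_
    have h1 : (m : A) ^ d ∈ 𝒜 (i * d) := by
      have := SetLike.pow_mem_graded d m.2
      rwa [smul_eq_mul, mul_comm] at this
    obtain ⟨b, -, hb⟩ := veronese_exists_of_mem (ℬ := ℬ) hdeg h1
    rw [← hb]
    exact isIntegral_algebraMap (R := B) (A := A) (x := b)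
  | add m m' h h' => exact RingHom.IsIntegralElem.add _ h h'

theorem veronese_finiteType [Algebra.FiniteType (𝒜 0) A] (hd : 0 < d) (hφ : Function.Injective φ)
    (hdeg : ∀ n : ℕ, Submodule.map φ.toLinearMap (ℬ n) = 𝒜 (n * d)) :
    Algebra.FiniteType (ℬ 0) B := by
  classical
  letI algBA : Algebra B A := φ.toRingHom.toAlgebra
  letI algB0A : Algebra (ℬ 0) A := ((algebraMap B A).comp (algebraMap (ℬ 0) B)).toAlgebra
  haveI : IsScalarTower (ℬ 0) B A := IsScalarTower.of_algebraMap_eq (fun _ => rfl)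
  -- (a) `A` is of finite type over `ℬ 0`
  haveI hA : Algebra.FiniteType (ℬ 0) A := by
    obtain ⟨s, hs⟩ := (Algebra.FiniteType.out : (⊤ : Subalgebra (𝒜 0) A).FG)
    refine ⟨⟨s, ?_⟩⟩
    rw [eq_top_iff]
    intro x _
    have hx : x ∈ Algebra.adjoin (𝒜 0) (s : Set A) := by rw [hs]; trivial
    clear ‹x ∈ (⊤ : Subalgebra (ℬ 0) A)›
    induction hx using Algebra.adjoin_induction with
    | mem x hx => exact Algebra.subset_adjoin hx
    | algebraMap r =>
      obtain ⟨b, hb, hbr⟩ := veronese_exists_of_mem (ℬ := ℬ) (n := 0) hdeg (a := (r : A))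
        (by rw [zero_mul]; exact r.2)
      have : algebraMap (𝒜 0) A r = algebraMap (ℬ 0) A ⟨b, hb⟩ := hbr.symm
      rw [this]
      exact Subalgebra.algebraMap_mem _ _
    | add x y _ _ hx hy => exact add_mem hx hy
    | mul x y _ _ hx hy => exact mul_mem hx hy
  -- (b) `A` is finite over `B`
  haveI : Algebra.FiniteType B A := Algebra.FiniteType.of_restrictScalars_finiteType (ℬ 0) B A
  haveI : Algebra.IsIntegral B A := ⟨fun a => veronese_isIntegral hd hdeg a⟩
  haveI : Module.Finite B A := Algebra.IsIntegral.finite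
  -- (c) retraction
  let π : A →ₗ[B] B :=
    { toFun := veroneseRetraction hφ hdeg
      map_add' := (veroneseRetraction hφ hdeg).map_add
      map_smul' := fun b a => by
        simp only [RingHom.id_apply, smul_eq_mul]
        rw [Algebra.smul_def]
        exact veroneseRetraction_mul hφ hdeg b a }
  have hπ : Function.Surjective π := fun b => ⟨φ b, veroneseRetraction_map hφ hdeg b⟩
  exact finiteType_of_linear_retraction (ℬ 0) B A π hπ

/-- `φ` induces a bijective ring homomorphism `ℬ 0 → 𝒜 0`. -/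
noncomputable def veroneseZeroRingEquiv (hφ : Function.Injective φ)
    (hdeg : ∀ n : ℕ, Submodule.map φ.toLinearMap (ℬ n) = 𝒜 (n * d)) : (ℬ 0) ≃+* (𝒜 0) :=
  RingEquiv.ofBijective
    ({ toFun := fun b => ⟨φ b, by
          have := veronese_map_mem hdeg b.2
          rwa [zero_mul] at this⟩
       map_one' := Subtype.ext (map_one φ)
       map_mul' := fun x y => Subtype.ext (map_mul φ (x : B) (y : B))
       map_zero' := Subtype.ext (map_zero φ)
       map_add' := fun x y => Subtype.ext (map_add φ (x : B) (y : B)) } : (ℬ 0) →+* (𝒜 0))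
    ⟨fun x y h => Subtype.ext (hφ (congrArg Subtype.val h)), fun a => by
      obtain ⟨b, hb, hba⟩ := veronese_exists_of_mem (ℬ := ℬ) (n := 0) hdeg (a := (a : A))
        (by rw [zero_mul]; exact a.2)
      exact ⟨⟨b, hb⟩, Subtype.ext hba⟩⟩

end FiniteType

end Groth.Agent.Lib.Helper20
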